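import Cfsg.Agent.Lib.J3Glue.Cert

/-!
The closing certificate: deductions.
-/

set_option autoImplicit false
set_option maxRecDepth 100000
set_option maxHeartbeats 4000000

namespace Cfsg.Agent.J3Glue.CertData

/-- Node definitions. -/
def d4 : List NDef := [⟨2,772,0⟩,⟨2,98,1⟩,⟨2,2,2⟩,⟨1,481,3⟩,⟨1,384,4⟩,⟨1,384,5⟩,⟨0,2,5⟩,⟨2,117,4⟩,⟨2,98,8⟩,⟨2,2,8⟩,⟨2,495,4⟩,⟨2,98,11⟩,
⟨2,485,4⟩,⟨2,98,13⟩,⟨2,486,4⟩,⟨2,98,15⟩,⟨2,2,11⟩,⟨2,2,13⟩,⟨2,2,15⟩,⟨2,266,10⟩,⟨1,644,11⟩,⟨1,384,21⟩,⟨1,384,22⟩,⟨1,745,23⟩,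
⟨0,271,23⟩,⟨2,130,14⟩,⟨2,2,26⟩,⟨2,131,18⟩,⟨2,2,28⟩,⟨2,47,11⟩,⟨1,673,10⟩,⟨1,384,31⟩,⟨1,384,32⟩,⟨2,72,11⟩,⟨2,98,34⟩,⟨2,2,35⟩,
⟨1,705,18⟩,⟨1,384,37⟩,⟨1,384,38⟩,⟨1,834,11⟩,⟨1,384,40⟩,⟨1,437,31⟩,⟨1,609,19⟩,⟨1,384,43⟩,⟨1,384,44⟩,⟨2,207,11⟩,⟨2,258,11⟩,⟨2,98,47⟩,
⟨2,99,17⟩,⟨2,115,12⟩,⟨2,276,11⟩,⟨2,275,30⟩,⟨2,162,16⟩,⟨2,296,11⟩,⟨2,98,54⟩,⟨2,179,19⟩,⟨1,641,26⟩,⟨1,384,57⟩,⟨1,384,58⟩,⟨2,18,51⟩,
⟨1,422,15⟩,⟨2,537,11⟩,⟨2,98,62⟩,⟨2,2,63⟩,⟨2,548,11⟩,⟨2,98,65⟩,⟨2,2,66⟩,⟨2,544,11⟩,⟨2,98,68⟩,⟨2,2,69⟩,⟨2,404,11⟩,⟨2,98,71⟩,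
⟨2,2,72⟩,⟨2,400,11⟩,⟨2,98,74⟩,⟨2,2,75⟩,⟨2,421,11⟩,⟨2,98,77⟩,⟨2,2,78⟩,⟨2,433,11⟩,⟨2,98,80⟩,⟨2,2,81⟩,⟨2,469,11⟩,⟨2,98,83⟩,
⟨2,2,84⟩,⟨2,470,11⟩,⟨2,98,86⟩,⟨2,450,11⟩,⟨2,98,88⟩,⟨2,2,88⟩,⟨2,462,11⟩,⟨2,98,91⟩,⟨2,2,92⟩,⟨2,354,91⟩,⟨2,475,11⟩,⟨2,98,95⟩,
⟨2,2,96⟩,⟨2,615,11⟩,⟨2,98,98⟩,⟨2,2,99⟩,⟨2,611,11⟩,⟨2,98,101⟩,⟨2,2,102⟩,⟨2,577,11⟩,⟨2,98,104⟩,⟨2,2,104⟩,⟨2,582,11⟩,⟨2,602,11⟩,
⟨2,98,108⟩,⟨2,2,109⟩,⟨2,607,11⟩,⟨2,258,108⟩,⟨2,150,16⟩,⟨2,2,113⟩,⟨2,641,11⟩,⟨2,98,115⟩,⟨2,2,116⟩,⟨2,652,11⟩,⟨2,98,118⟩,⟨2,2,119⟩,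
⟨1,756,59⟩,⟨2,182,14⟩,⟨2,2,122⟩,⟨2,88,31⟩,⟨2,2,124⟩,⟨2,733,11⟩,⟨2,98,126⟩,⟨2,694,11⟩,⟨2,98,128⟩,⟨2,674,11⟩,⟨1,753,118⟩,⟨1,384,131⟩,
⟨1,384,132⟩,⟨2,348,53⟩,⟨2,2,134⟩,⟨2,757,11⟩,⟨2,98,136⟩,⟨2,2,137⟩,⟨2,194,101⟩,⟨2,2,139⟩,⟨2,751,11⟩,⟨2,98,141⟩,⟨2,2,142⟩,⟨2,747,11⟩,
⟨2,98,144⟩,⟨2,2,145⟩,⟨2,742,11⟩,⟨2,290,68⟩,⟨2,258,141⟩,⟨2,2,149⟩,⟨2,354,144⟩,⟨2,2,151⟩,⟨1,499,115⟩,⟨1,384,153⟩,⟨1,384,154⟩,⟨1,1087,59⟩,
⟨1,384,156⟩,⟨2,1357,11⟩,⟨2,98,158⟩,⟨2,2,159⟩,⟨2,3,141⟩,⟨2,1438,11⟩,⟨2,98,162⟩,⟨2,259,88⟩,⟨2,1200,11⟩,⟨2,1173,11⟩,⟨2,98,166⟩,⟨2,1155,11⟩,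
⟨2,98,168⟩,⟨2,1164,11⟩,⟨2,98,170⟩,⟨2,1160,11⟩,⟨2,1158,11⟩,⟨2,98,173⟩,⟨2,354,168⟩,⟨2,2,172⟩,⟨2,1224,11⟩,⟨2,98,177⟩,⟨2,2,178⟩,⟨2,1221,11⟩,
⟨1,600,126⟩,⟨1,384,181⟩,⟨1,384,182⟩,⟨2,332,14⟩,⟨2,1306,11⟩,⟨2,218,28⟩,⟨2,1260,11⟩,⟨2,98,187⟩,⟨2,1256,11⟩,⟨2,354,106⟩,⟨2,1313,11⟩,⟨2,146,147⟩,
⟨2,355,98⟩,⟨2,162,136⟩,⟨2,1513,11⟩,⟨2,98,195⟩,⟨2,1441,11⟩,⟨2,98,197⟩,⟨2,1447,11⟩,⟨2,98,199⟩,⟨2,1458,11⟩,⟨2,1468,11⟩,⟨2,151,12⟩,⟨2,1483,11⟩,
⟨2,1070,10⟩,⟨2,234,90⟩,⟨2,2,206⟩,⟨2,1779,11⟩,⟨2,98,208⟩,⟨2,250,56⟩,⟨2,1621,11⟩,⟨2,98,211⟩,⟨2,371,71⟩,⟨2,1611,11⟩,⟨2,98,214⟩,⟨2,2,214⟩,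
⟨2,147,68⟩,⟨1,666,40⟩,⟨1,384,218⟩,⟨1,384,219⟩,⟨2,135,18⟩,⟨2,1697,11⟩,⟨2,1727,11⟩,⟨2,1895,11⟩,⟨2,98,224⟩,⟨1,759,15⟩,⟨1,384,226⟩,⟨2,348,19⟩,
⟨1,556,155⟩,⟨1,384,229⟩,⟨1,725,25⟩,⟨2,130,98⟩,⟨2,275,68⟩,⟨2,275,65⟩,⟨2,121,162⟩,⟨2,78,14⟩,⟨2,2,236⟩,⟨1,460,27⟩,⟨1,384,238⟩,⟨2,359,30⟩,
⟨1,669,71⟩,⟨1,384,241⟩,⟨1,384,242⟩,⟨1,735,20⟩,⟨1,384,244⟩,⟨1,384,245⟩,⟨1,572,238⟩,⟨1,384,247⟩,⟨2,216,34⟩,⟨1,679,246⟩,⟨1,384,250⟩,⟨1,636,82⟩,
⟨0,329,82⟩,⟨1,638,82⟩,⟨1,386,15⟩,⟨1,384,255⟩,⟨1,430,28⟩,⟨1,384,257⟩,⟨2,1747,26⟩,⟨1,581,81⟩,⟨1,384,260⟩,⟨1,384,261⟩,⟨2,799,13⟩,⟨2,2,263⟩,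
⟨1,481,264⟩,⟨1,531,17⟩,⟨1,384,266⟩,⟨1,384,267⟩,⟨2,772,13⟩,⟨2,98,269⟩,⟨2,405,26⟩,⟨2,776,13⟩,⟨2,258,263⟩,⟨1,544,183⟩,⟨1,384,274⟩,⟨1,737,228⟩,
⟨1,384,276⟩,⟨1,384,277⟩,⟨2,2,269⟩,⟨2,258,269⟩,⟨2,2,280⟩,⟨2,355,63⟩,⟨2,2,282⟩,⟨2,1472,8⟩,⟨1,1506,13⟩,⟨1,384,285⟩,⟨2,392,25⟩,⟨2,541,26⟩,
⟨2,834,13⟩,⟨2,98,289⟩,⟨2,258,289⟩,⟨2,840,13⟩,⟨2,862,13⟩,⟨2,1909,10⟩,⟨2,1544,76⟩,⟨2,258,293⟩,⟨2,1806,26⟩,⟨1,731,254⟩,⟨1,683,25⟩,⟨1,697,25⟩,
⟨2,896,13⟩,⟨2,98,301⟩,⟨2,917,13⟩,⟨2,98,303⟩,⟨2,365,288⟩,⟨2,375,175⟩,⟨2,2,306⟩,⟨2,1405,20⟩,⟨2,258,302⟩,⟨2,926,13⟩,⟨2,98,310⟩,⟨1,746,13⟩,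
⟨1,1309,28⟩,⟨1,450,254⟩,⟨2,354,295⟩,⟨1,451,13⟩,⟨2,780,19⟩,⟨2,1024,13⟩,⟨2,98,318⟩,⟨2,1045,13⟩,⟨2,1046,13⟩,⟨2,99,73⟩,⟨2,2,73⟩,⟨1,268,3⟩,
⟨1,270,3⟩,⟨2,274,14⟩,⟨2,1088,13⟩,⟨2,1109,13⟩,⟨2,1090,13⟩,⟨2,1096,13⟩,⟨2,228,73⟩,⟨1,652,49⟩,⟨1,560,49⟩,⟨1,562,49⟩,⟨1,733,16⟩,⟨1,1494,158⟩,
⟨2,1657,25⟩,⟨1,742,16⟩,⟨2,194,337⟩,⟨2,381,339⟩,⟨1,763,324⟩,⟨1,745,324⟩]

/-- Deductions. -/
def c4_0 : List Step := [
⟨386,0,33,0,true,[],[.edge 0 false]⟩,
⟨0,1,33,0,true,[],[.edge 342 true]⟩,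
⟨66,0,33,0,true,[],[.base 386,.edge 342 false]⟩,
⟨452,0,33,0,true,[],[.base 387,.edge 342 false]⟩,
⟨64,0,33,0,true,[],[.base 66,.edge 344 false]⟩,
⟨718,0,33,0,true,[],[.base 83,.edge 344 false]⟩,
⟨424,0,33,0,true,[],[.base 452,.edge 345 false]⟩,
⟨384,0,33,0,true,[],[.base 64,.edge 346 false]⟩,
⟨704,0,33,0,true,[],[.base 64,.edge 346 false]⟩,
⟨704,0,33,0,true,[],[.base 719,.edge 347 false]⟩,
⟨112,1,33,0,false,[],[.edge 351 true,.edge 350 false]⟩,
⟨584,0,33,0,true,[],[.base 719,.edge 347 false]⟩,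
⟨8,0,33,0,true,[],[.base 424,.edge 348 false]⟩,
⟨448,0,33,0,true,[],[.base 384,.edge 349 false]⟩,
⟨96,1,30,0,false,[],[.eqn 352 true]⟩,
⟨610,0,33,0,true,[],[.base 584,.edge 353 false]⟩,
⟨66,0,33,0,true,[],[.base 585,.edge 353 false]⟩,
⟨272,1,33,0,false,[],[.edge 358 true,.edge 344 false]⟩,
⟨10,0,33,0,true,[],[.base 24,.edge 354 false]⟩,
⟨32,0,33,0,true,[],[.base 448,.edge 355 false]⟩,
⟨416,0,33,0,true,[],[.base 448,.edge 355 false]⟩,
⟨618,0,33,0,true,[],[.base 610,.edge 357 false]⟩,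
⟨256,1,30,0,false,[],[.eqn 359 true]⟩,
⟨426,0,33,0,true,[],[.base 10,.edge 360 false]⟩,
⟨0,0,33,0,true,[],[.base 416,.edge 362 false]⟩,
⟨586,0,33,0,true,[],[.base 618,.edge 363 false]⟩,
⟨394,0,33,0,true,[],[.base 426,.edge 365 false]⟩,
⟨74,0,33,0,true,[],[.base 586,.edge 367 false]⟩,
⟨458,0,33,0,true,[],[.base 394,.edge 368 false]⟩,
⟨42,0,33,0,true,[],[.base 458,.edge 370 false]⟩,
⟨4,1,33,0,true,[],[.edge 1 false]⟩,
⟨2,1,33,0,true,[],[.eqn 356 true,.edge 372 false]⟩,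
⟨8,1,33,0,true,[],[.eqn 364 true,.edge 373 false]⟩,
⟨2,2,33,0,true,[],[.edge 2 false]⟩,
⟨0,3,33,0,true,[],[.edge 375 true]⟩,
⟨480,3,32,0,true,[],[.edge 3 false]⟩,
⟨0,4,31,0,true,[],[.edge 377 false]⟩,
⟨384,4,32,0,true,[],[.edge 4 false]⟩,
⟨384,5,32,0,true,[],[.edge 5 false]⟩,
⟨0,6,31,0,true,[],[.edge 380 false]⟩,
⟨2,5,31,0,true,[],[.edge 6 false]⟩,
⟨0,7,32,0,true,[],[.edge 382 false]⟩,
⟨0,0,29,17,true,[.code,.edge 342 false,.code,.edge 372 false,.code,.edge 375 false,.code,.edge 377 false,.code,.edge 379 false,.code,.edge 380 false,.code,.edge 381 false,.code,.edge 382 false,.code],[.code]⟩,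
⟨384,7,31,0,true,[],[.edge 384 false]⟩,
⟨0,0,32,0,true,[],[.edge 385 false]⟩,
⟨2,0,32,0,true,[],[.base 0,.edge 386 false]⟩,
⟨386,0,32,0,true,[],[.base 2,.edge 387 false]⟩,
⟨0,0,1,1,true,[.code],[.code,.edge 387 false,.code]⟩,
⟨0,0,31,0,true,[],[.edge 389 false]⟩,
⟨386,7,32,0,true,[],[.edge 390 false]⟩,
⟨2,0,31,0,true,[],[.base 0,.edge 390 false]⟩,
⟨384,0,31,0,true,[],[.base 0,.edge 390 false]⟩,
⟨512,0,31,0,true,[],[.base 0,.edge 390 false]⟩,
⟨386,0,31,0,true,[],[.base 2,.edge 392 false]⟩,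
⟨514,0,31,0,true,[],[.base 2,.edge 392 false]⟩,
⟨480,0,31,0,true,[],[.base 512,.edge 394 false]⟩,
⟨482,0,31,0,true,[],[.base 514,.edge 396 false]⟩,
⟨544,0,31,0,true,[],[.base 480,.edge 397 false]⟩,
⟨546,0,31,0,true,[],[.base 482,.edge 398 false]⟩,
⟨0,0,4,1,true,[.edge 366 false],[.code,.edge 361 false]⟩,
⟨0,1,32,0,true,[],[.edge 401 false]⟩,
⟨0,1,31,0,true,[],[.edge 402 false]⟩,
⟨0,0,14,3,true,[.code,.edge 371 false,.code],[.code,.edge 360 false,.code]⟩,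
⟨76,1,33,0,true,[],[.edge 404 false]⟩,
⟨0,0,15,2,true,[.code,.edge 386 false],[.code,.edge 366 false,.code,.edge 402 false,.edge 402 false,.code]⟩,
⟨448,7,33,0,true,[],[.edge 406 false]⟩,
⟨32,1,33,0,true,[],[.edge 407 true]⟩,
⟨0,1,1,3,true,[.code,.edge 403 false,.code],[.code]⟩,
⟨2,1,31,0,true,[],[.edge 409 false]⟩,
⟨2,1,32,0,true,[],[.edge 410 false]⟩,
⟨0,1,4,2,false,[.edge 343 false,.edge 388 false],[.code,.edge 408 false]⟩,
⟨32,7,30,0,false,[],[.eqn 412 true]⟩,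
⟨64,7,30,0,false,[],[.eqn 413 false,.eqn 413 false]⟩,
⟨0,1,5,2,true,[.edge 343 false,.edge 395 false],[.code]⟩,
⟨418,7,33,0,true,[],[.edge 415 false]⟩,
⟨64,1,33,0,true,[],[.edge 416 true]⟩,
⟨0,1,12,3,true,[.code,.edge 405 false,.edge 403 false],[.code]⟩,
⟨12,1,33,0,true,[],[.edge 418 false]⟩,
⟨0,1,15,4,true,[.code,.edge 402 false,.edge 417 false,.code],[.code,.edge 343 false,.code,.edge 388 false]⟩,
⟨386,7,31,0,true,[],[.edge 420 false]⟩,
⟨384,7,32,0,true,[],[.edge 421 false]⟩,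
⟨2,1,3,4,true,[.edge 411 false,.code,.edge 373 false,.code],[.edge 373 false]⟩,
⟨0,2,31,0,true,[],[.edge 423 false]⟩,
⟨0,2,32,0,true,[],[.edge 424 false]⟩,
⟨2,1,4,2,true,[.edge 373 false,.edge 425 false],[.code]⟩,
⟨64,2,33,0,true,[],[.edge 426 false]⟩,
⟨34,1,33,0,true,[],[.edge 427 true]⟩,
⟨40,1,33,0,true,[],[.eqn 356 true,.edge 428 false]⟩,
⟨2,1,5,2,true,[.edge 373 false,.edge 424 false],[.code]⟩,
⟨32,2,33,0,true,[],[.edge 430 false]⟩,
⟨66,1,33,0,true,[],[.edge 431 true]⟩,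
⟨2,1,14,3,true,[.code,.edge 429 false,.code],[.code,.edge 374 false,.code]⟩,
⟨44,2,33,0,true,[],[.edge 433 false]⟩,
⟨10,2,33,0,true,[],[.edge 434 true]⟩,
⟨6,1,14,3,false,[.code,.edge 408 false,.code],[.code,.edge 419 false,.code,.edge 408 false]⟩,
⟨926,7,30,0,false,[],[.eqn 436 true]⟩,
⟨894,7,30,0,false,[],[.eqn 413 false,.eqn 437 false]⟩,
⟨1333,7,30,0,false,[],[.eqn 437 false,.eqn 413 false]⟩,
⟨1269,7,30,0,false,[],[.eqn 437 false,.eqn 437 false]⟩,
⟨1301,7,30,0,false,[],[.eqn 438 false,.eqn 437 false]⟩]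

/-- Deductions. -/
def c4_1 : List Step := [
⟨82,7,30,0,false,[],[.eqn 439 false,.eqn 437 false]⟩,
⟨18,7,30,0,false,[],[.eqn 440 false,.eqn 437 false]⟩,
⟨1721,7,30,0,false,[],[.eqn 441 false,.eqn 413 false]⟩,
⟨940,7,30,0,false,[],[.eqn 442 false,.eqn 437 false]⟩,
⟨908,7,30,0,false,[],[.eqn 443 false,.eqn 437 false]⟩,
⟨1659,7,30,0,false,[],[.eqn 444 false,.eqn 437 false]⟩,
⟨1303,7,30,0,false,[],[.eqn 445 false,.eqn 413 false]⟩,
⟨1271,7,30,0,false,[],[.eqn 446 false,.eqn 437 false]⟩,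
⟨546,7,32,0,true,[],[.eqn 448 true,.edge 383 false]⟩,
⟨482,7,32,0,true,[],[.eqn 414 true,.edge 450 false]⟩,
⟨514,7,32,0,true,[],[.eqn 414 true,.edge 451 false]⟩,
⟨2,7,32,0,true,[],[.eqn 447 true,.edge 451 false]⟩,
⟨512,7,32,0,true,[],[.eqn 437 true,.edge 452 false]⟩,
⟨544,7,32,0,true,[],[.eqn 448 true,.edge 453 false]⟩,
⟨480,7,32,0,true,[],[.eqn 414 true,.edge 455 false]⟩,
⟨34,1,17,4,true,[.code,.edge 429 false,.edge 425 false,.code],[.code,.edge 428 false,.edge 425 false,.code,.edge 425 false,.code]⟩,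
⟨42,2,33,0,true,[],[.edge 457 false]⟩,
⟨66,1,21,6,true,[.code,.edge 374 false,.code,.edge 425 false,.code,.edge 424 false],[.edge 432 false,.code,.edge 458 false,.code]⟩,
⟨70,2,33,0,true,[],[.edge 459 false]⟩,
⟨0,2,1,3,true,[.code,.edge 424 false,.code],[.code]⟩,
⟨2,2,31,0,true,[],[.edge 461 false]⟩,
⟨2,2,32,0,true,[],[.edge 462 false]⟩,
⟨0,3,4,4,false,[.edge 376 false,.edge 463 false,.edge 375 false,.code],[]⟩,
⟨320,3,30,0,false,[],[.eqn 464 true]⟩,
⟨224,3,30,0,false,[],[.eqn 465 false,.eqn 465 false]⟩,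
⟨482,3,1,1,true,[.code],[.code,.edge 377 false,.code]⟩,
⟨482,3,31,0,true,[],[.edge 467 false]⟩,
⟨2,4,32,0,true,[],[.edge 468 false]⟩,
⟨386,4,1,1,true,[.code],[.code,.edge 379 false,.code]⟩,
⟨386,4,31,0,true,[],[.edge 470 false]⟩,
⟨387,4,0,2,true,[.edge 471 false,.edge 382 false],[]⟩,
⟨0,7,31,0,true,[],[.edge 472 false]⟩,
⟨386,4,32,0,true,[],[.edge 473 false]⟩,
⟨546,7,31,0,true,[],[.eqn 448 true,.edge 473 false]⟩,
⟨482,7,31,0,true,[],[.eqn 414 true,.edge 475 false]⟩,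
⟨514,7,31,0,true,[],[.eqn 414 true,.edge 476 false]⟩,
⟨2,7,31,0,true,[],[.eqn 447 true,.edge 476 false]⟩,
⟨512,7,31,0,true,[],[.eqn 437 true,.edge 477 false]⟩,
⟨544,7,31,0,true,[],[.eqn 448 true,.edge 478 false]⟩,
⟨544,7,31,0,true,[],[.eqn 414 true,.edge 479 false]⟩,
⟨1561,4,32,0,false,[],[.edge 481 false,.edge 480 false]⟩,
⟨480,7,31,0,true,[],[.eqn 414 true,.edge 480 false]⟩,
⟨64,4,30,0,false,[],[.eqn 482 true]⟩,
⟨32,4,30,0,false,[],[.eqn 484 false,.eqn 484 false]⟩,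
⟨390,4,1,1,false,[.code],[.code,.edge 474 false,.code,.edge 453 false]⟩,
⟨0,5,30,0,false,[],[.eqn 486 true]⟩,
⟨384,4,31,0,true,[],[.eqn 487 true,.edge 382 false]⟩,
⟨384,7,25,11,false,[.edge 422 false,.edge 391 false,.code,.edge 369 false,.code,.edge 403 false,.edge 343 false,.code,.edge 395 false,.code,.edge 421 false],[]⟩,
⟨924,7,30,0,false,[],[.eqn 489 true]⟩,
⟨2,4,33,0,true,[],[.edge 7 false]⟩,
⟨0,8,33,0,true,[],[.edge 491 true]⟩,
⟨66,4,33,0,true,[],[.eqn 485 true,.edge 491 false]⟩,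
⟨34,4,33,0,true,[],[.eqn 485 true,.edge 493 false]⟩,
⟨4,8,33,0,true,[],[.edge 8 false]⟩,
⟨386,4,29,5,true,[.code,.edge 491 false,.code,.edge 495 false,.code],[.code,.edge 474 false,.code,.edge 391 false,.code,.edge 388 false,.code,.edge 385 false,.code,.edge 395 false,.code,.edge 478 false,.code]⟩,
⟨2,9,33,0,true,[],[.edge 496 false]⟩,
⟨0,4,33,0,true,[],[.edge 497 true]⟩,
⟨2,8,33,0,true,[],[.edge 9 false]⟩,
⟨0,10,33,0,true,[],[.edge 499 true]⟩,
⟨402,4,29,5,true,[.code,.edge 491 false,.code,.edge 499 false,.code],[.code,.edge 474 false,.code,.edge 422 false,.code,.edge 383 false,.eqn 487 false,.code,.edge 488 false,.code,.edge 385 false,.code,.edge 393 false,.code]⟩,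
⟨2,10,33,0,true,[],[.edge 501 false]⟩,
⟨32,7,33,0,true,[],[.edge 502 true]⟩,
⟨64,7,33,0,true,[],[.eqn 414 true,.edge 503 false]⟩,
⟨622,7,33,0,true,[],[.eqn 449 true,.edge 503 false]⟩,
⟨614,7,33,0,true,[],[.eqn 440 true,.edge 503 false]⟩,
⟨0,7,33,0,true,[],[.eqn 414 true,.edge 504 false]⟩,
⟨740,7,33,0,true,[],[.eqn 449 true,.edge 504 false]⟩,
⟨590,7,33,0,true,[],[.eqn 414 true,.edge 505 false]⟩,
⟨582,7,33,0,true,[],[.eqn 414 true,.edge 506 false]⟩,
⟨2,7,33,0,true,[],[.eqn 449 true,.edge 509 false]⟩,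
⟨403,4,27,4,true,[.code,.edge 474 false,.code,.edge 504 false],[.code,.edge 474 false,.edge 503 false]⟩,
⟨2,10,31,0,true,[],[.edge 512 false]⟩,
⟨2,10,32,0,true,[],[.edge 513 false]⟩,
⟨403,4,28,8,true,[.code,.edge 474 false,.edge 507 false,.code,.edge 513 false,.code,.edge 513 false,.code],[.code]⟩,
⟨66,10,33,0,true,[],[.edge 515 false]⟩,
⟨386,4,33,0,true,[],[.edge 516 true]⟩,
⟨418,4,33,0,true,[],[.eqn 485 true,.edge 517 false]⟩,
⟨450,4,33,0,true,[],[.eqn 485 true,.edge 518 false]⟩,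
⟨403,4,29,3,false,[.code,.edge 498 false,.code],[.code,.edge 474 false,.code,.edge 422 false,.code,.edge 453 false,.eqn 487 false,.code,.edge 488 false,.code,.edge 385 false,.code,.edge 395 false,.code,.edge 503 false,.code,.edge 500 false]⟩,
⟨0,9,30,0,false,[],[.eqn 520 false]⟩,
⟨0,8,33,0,true,[],[.eqn 521 true,.edge 497 false]⟩,
⟨97,4,33,0,false,[],[.edge 522 true,.edge 492 false]⟩,
⟨18,4,30,0,false,[],[.eqn 523 true]⟩,
⟨50,4,30,0,false,[],[.eqn 485 false,.eqn 524 false]⟩,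
⟨2,4,31,0,true,[],[.eqn 524 true,.edge 378 false]⟩,
⟨0,4,32,0,true,[],[.eqn 524 true,.edge 469 false]⟩,
⟨408,4,16,6,true,[.code,.edge 519 false,.code,.edge 514 false,.edge 514 false,.code],[.code,.edge 474 false,.code,.edge 383 false,.eqn 487 false]⟩,
⟨34,10,33,0,true,[],[.edge 528 false]⟩,
⟨384,4,33,0,true,[],[.edge 529 true]⟩,
⟨776,4,29,1,false,[.code],[.code,.edge 474 false,.code,.edge 422 false,.code,.edge 452 false,.eqn 487 false,.code,.edge 488 false,.code,.edge 385 false,.code,.edge 397 false,.code,.edge 508 false,.code,.edge 500 false,.code,.edge 492 false]⟩,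
⟨876,4,30,0,false,[],[.eqn 531 true]⟩,
⟨894,4,30,0,false,[],[.eqn 524 false,.eqn 532 false]⟩,
⟨480,4,31,0,true,[],[.eqn 533 true,.edge 378 false]⟩,
⟨482,4,31,0,true,[],[.eqn 533 true,.edge 526 false]⟩,
⟨480,4,32,0,true,[],[.eqn 533 true,.edge 527 false]⟩,
⟨482,4,32,0,true,[],[.eqn 533 true,.edge 469 false]⟩,
⟨492,4,33,0,true,[],[.eqn 533 true,.edge 498 false,.eqn 521 false]⟩,
⟨488,4,33,0,true,[],[.eqn 533 true,.edge 491 false]⟩,
⟨590,4,33,0,true,[],[.eqn 533 true,.edge 494 false]⟩,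
⟨676,4,33,0,true,[],[.eqn 533 true,.edge 493 false]⟩]

/-- Deductions. -/
def c4_2 : List Step := [
⟨394,4,33,0,true,[],[.eqn 532 true,.edge 530 false]⟩,
⟨544,4,31,0,true,[],[.eqn 485 true,.edge 534 false]⟩,
⟨546,4,31,0,true,[],[.eqn 485 true,.edge 535 false]⟩,
⟨544,4,32,0,true,[],[.eqn 485 true,.edge 536 false]⟩,
⟨426,4,33,0,true,[],[.eqn 485 true,.edge 542 false]⟩,
⟨384,4,33,0,true,[],[.eqn 532 true,.edge 542 false]⟩,
⟨216,10,33,0,false,[],[.edge 547 true,.edge 530 false]⟩,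
⟨512,4,31,0,true,[],[.eqn 485 true,.edge 543 false]⟩,
⟨514,4,31,0,true,[],[.eqn 525 true,.edge 543 false]⟩,
⟨512,4,32,0,true,[],[.eqn 485 true,.edge 545 false]⟩,
⟨514,4,32,0,true,[],[.eqn 525 true,.edge 545 false]⟩,
⟨422,4,33,0,true,[],[.eqn 532 true,.edge 546 false]⟩,
⟨102,10,30,0,false,[],[.eqn 548 true]⟩,
⟨6,10,33,0,true,[],[.eqn 554 true,.edge 500 false]⟩,
⟨778,4,14,3,true,[.code,.edge 553 false,.code],[.code,.edge 530 false,.code]⟩,
⟨14,10,33,0,true,[],[.edge 556 false]⟩,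
⟨40,10,33,0,true,[],[.edge 557 true]⟩,
⟨778,4,24,4,false,[.code,.edge 379 false,.eqn 487 false,.edge 474 false,.code],[.edge 542 false,.edge 514 false,.code,.edge 514 false,.code,.edge 502 false]⟩,
⟨23,7,30,0,false,[],[.eqn 559 true]⟩,
⟨42,7,33,0,true,[],[.eqn 560 true,.edge 503 false]⟩,
⟨588,7,33,0,true,[],[.eqn 560 true,.edge 510 false]⟩,
⟨736,7,33,0,true,[],[.eqn 560 true,.edge 508 false]⟩,
⟨10,7,33,0,true,[],[.eqn 449 true,.edge 562 false]⟩,
⟨482,7,33,0,true,[],[.eqn 440 true,.edge 563 false]⟩,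
⟨494,4,33,0,true,[],[.edge 10 false]⟩,
⟨0,11,33,0,true,[],[.edge 566 true]⟩,
⟨558,4,33,0,true,[],[.eqn 485 true,.edge 566 false]⟩,
⟨490,4,33,0,true,[],[.eqn 524 true,.edge 566 false]⟩,
⟨526,4,33,0,true,[],[.eqn 485 true,.edge 568 false]⟩,
⟨554,4,33,0,true,[],[.eqn 524 true,.edge 568 false]⟩,
⟨640,4,33,0,true,[],[.eqn 533 true,.edge 568 false]⟩,
⟨648,4,33,0,true,[],[.eqn 533 true,.edge 571 false]⟩,
⟨576,4,33,0,true,[],[.eqn 485 true,.edge 572 false]⟩,
⟨584,4,33,0,true,[],[.eqn 485 true,.edge 573 false]⟩,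
⟨4,11,33,0,true,[],[.edge 11 false]⟩,
⟨0,12,33,0,true,[],[.edge 576 true]⟩,
⟨782,4,29,5,true,[.code,.edge 566 false,.code,.edge 576 false,.code],[.code,.edge 474 false,.code,.edge 451 false,.eqn 487 false,.code,.edge 552 false,.code,.edge 468 false,.code,.edge 471 false,.eqn 487 false,.code,.edge 550 false,.code]⟩,
⟨2,12,33,0,true,[],[.edge 578 false]⟩,
⟨718,3,33,0,true,[],[.edge 579 true]⟩,
⟨398,3,33,0,true,[],[.eqn 466 true,.edge 580 false]⟩,
⟨484,4,33,0,true,[],[.edge 12 false]⟩,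
⟨0,13,33,0,true,[],[.edge 582 true]⟩,
⟨548,4,33,0,true,[],[.eqn 485 true,.edge 582 false]⟩,
⟨480,4,33,0,true,[],[.eqn 524 true,.edge 582 false]⟩,
⟨12,4,33,0,true,[],[.eqn 533 true,.edge 582 false]⟩,
⟨650,4,33,0,true,[],[.eqn 533 true,.edge 584 false]⟩,
⟨76,4,33,0,true,[],[.eqn 485 true,.edge 586 false]⟩,
⟨586,4,33,0,true,[],[.eqn 485 true,.edge 587 false]⟩,
⟨678,4,33,0,true,[],[.eqn 533 true,.edge 588 false]⟩,
⟨4,13,33,0,true,[],[.edge 13 false]⟩,
⟨786,4,29,5,true,[.code,.edge 582 false,.code,.edge 591 false,.code],[.code,.edge 474 false,.code,.edge 450 false,.eqn 487 false,.code,.edge 469 false,.code,.edge 468 false,.code,.edge 471 false,.eqn 487 false,.code,.edge 543 false,.code]⟩,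
⟨2,14,33,0,true,[],[.edge 592 false]⟩,
⟨646,3,33,0,true,[],[.edge 593 true]⟩,
⟨454,3,33,0,true,[],[.eqn 466 true,.edge 594 false]⟩,
⟨550,3,33,0,true,[],[.eqn 466 true,.edge 595 false]⟩,
⟨486,4,33,0,true,[],[.edge 14 false]⟩,
⟨550,4,33,0,true,[],[.eqn 485 true,.edge 597 false]⟩,
⟨482,4,33,0,true,[],[.eqn 524 true,.edge 597 false]⟩,
⟨8,4,33,0,true,[],[.eqn 533 true,.edge 597 false]⟩,
⟨546,4,33,0,true,[],[.eqn 524 true,.edge 598 false]⟩,
⟨644,4,33,0,true,[],[.eqn 533 true,.edge 598 false]⟩,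
⟨10,4,33,0,true,[],[.eqn 533 true,.edge 599 false]⟩,
⟨72,4,33,0,true,[],[.eqn 485 true,.edge 600 false]⟩,
⟨652,4,33,0,true,[],[.eqn 533 true,.edge 601 false]⟩,
⟨74,4,33,0,true,[],[.eqn 485 true,.edge 603 false]⟩,
⟨686,4,33,0,true,[],[.eqn 533 true,.edge 604 false]⟩,
⟨588,4,33,0,true,[],[.eqn 485 true,.edge 605 false]⟩,
⟨672,4,33,0,true,[],[.eqn 533 true,.edge 606 false]⟩,
⟨4,15,33,0,true,[],[.edge 15 false]⟩,
⟨788,4,29,5,true,[.code,.edge 597 false,.code,.edge 610 false,.code],[.code,.edge 474 false,.code,.edge 454 false,.eqn 487 false,.code,.edge 527 false,.code,.edge 468 false,.code,.edge 471 false,.eqn 487 false,.code,.edge 535 false,.code]⟩,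
⟨2,16,33,0,true,[],[.edge 611 false]⟩,
⟨516,3,33,0,true,[],[.edge 612 true]⟩,
⟨420,3,33,0,true,[],[.eqn 466 true,.edge 613 false]⟩,
⟨740,3,33,0,true,[],[.eqn 466 true,.edge 614 false]⟩,
⟨2,11,33,0,true,[],[.edge 16 false]⟩,
⟨0,17,33,0,true,[],[.edge 616 true]⟩,
⟨798,4,29,5,true,[.code,.edge 566 false,.code,.edge 616 false,.code],[.code,.edge 474 false,.code,.edge 456 false,.eqn 487 false,.code,.edge 536 false,.code,.edge 468 false,.code,.edge 471 false,.eqn 487 false,.code,.edge 543 false,.code]⟩,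
⟨2,17,33,0,true,[],[.edge 618 false]⟩,
⟨714,3,33,0,true,[],[.edge 619 true]⟩,
⟨394,3,33,0,true,[],[.eqn 466 true,.edge 620 false]⟩,
⟨864,4,0,1,true,[.edge 534 false],[.edge 536 false]⟩,
⟨480,3,31,0,true,[],[.edge 622 false]⟩,
⟨482,3,32,0,true,[],[.edge 623 false]⟩,
⟨864,4,4,1,true,[.edge 585 false],[.code,.edge 574 false]⟩,
⟨0,13,32,0,true,[],[.edge 625 false]⟩,
⟨0,11,31,0,true,[],[.edge 626 false]⟩,
⟨864,4,5,1,true,[.edge 585 false],[.code,.edge 609 false]⟩,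
⟨0,13,31,0,true,[],[.edge 628 false]⟩,
⟨0,15,32,0,true,[],[.edge 629 false]⟩,
⟨864,4,13,2,true,[.code,.edge 569 false],[.code,.edge 608 false]⟩,
⟨0,11,32,0,true,[],[.edge 631 false]⟩,
⟨0,15,31,0,true,[],[.edge 632 false]⟩,
⟨864,4,14,3,true,[.code,.edge 589 false,.code],[.code,.edge 569 false,.code]⟩,
⟨76,13,33,0,true,[],[.edge 634 false]⟩,
⟨10,11,33,0,true,[],[.edge 635 true]⟩,
⟨864,4,15,2,true,[.code,.edge 536 false],[.code,.edge 585 false,.code,.edge 626 false,.edge 632 false,.code]⟩,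
⟨580,3,33,0,true,[],[.edge 637 false]⟩,
⟨32,15,33,0,true,[],[.edge 638 true]⟩,
⟨484,3,33,0,true,[],[.eqn 466 true,.edge 638 false]⟩,
⟨864,4,16,6,true,[.code,.edge 590 false,.code,.edge 626 false,.edge 632 false,.code],[.code,.edge 536 false,.code,.edge 624 false]⟩]

/-- Deductions. -/
def c4_3 : List Step := [
⟨64,15,33,0,true,[],[.edge 641 false]⟩,
⟨588,3,33,0,true,[],[.edge 642 true]⟩,
⟨492,3,33,0,true,[],[.eqn 466 true,.edge 643 false]⟩,
⟨684,3,33,0,true,[],[.eqn 466 true,.edge 644 false]⟩,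
⟨864,4,17,4,true,[.code,.edge 569 false,.edge 632 false,.code],[.code,.edge 585 false,.edge 626 false,.code,.edge 632 false,.code]⟩,
⟨10,15,33,0,true,[],[.edge 646 false]⟩,
⟨76,15,33,0,true,[],[.edge 647 true]⟩,
⟨864,4,25,6,true,[.edge 536 false,.edge 624 false,.code,.edge 644 false,.code,.edge 633 false],[.edge 536 false,.code,.edge 624 false,.code]⟩,
⟨64,11,33,0,true,[],[.edge 649 false]⟩,
⟨682,3,33,0,true,[],[.edge 650 true]⟩,
⟨586,3,33,0,true,[],[.eqn 466 true,.edge 651 false]⟩,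
⟨490,3,33,0,true,[],[.eqn 466 true,.edge 652 false]⟩,
⟨865,4,3,2,true,[.edge 536 false,.code],[.edge 585 false,.edge 626 false,.code]⟩,
⟨494,3,33,0,true,[],[.edge 654 false]⟩,
⟨32,11,33,0,true,[],[.edge 655 true]⟩,
⟨686,3,33,0,true,[],[.eqn 466 true,.edge 655 false]⟩,
⟨865,4,27,5,true,[.code,.edge 536 false,.code,.edge 655 false,.edge 627 false],[.code,.edge 536 false]⟩,
⟨32,13,33,0,true,[],[.edge 658 false]⟩,
⟨680,3,33,0,true,[],[.edge 659 true]⟩,
⟨584,3,33,0,true,[],[.eqn 466 true,.edge 660 false]⟩,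
⟨488,3,33,0,true,[],[.eqn 466 true,.edge 661 false]⟩,
⟨868,4,7,2,true,[.code,.edge 539 false],[.code,.edge 541 false]⟩,
⟨0,8,31,0,true,[],[.edge 663 false]⟩,
⟨0,8,32,0,true,[],[.edge 664 false]⟩,
⟨868,4,14,3,true,[.code,.edge 575 false,.code],[.code,.edge 539 false,.code]⟩,
⟨76,11,33,0,true,[],[.edge 666 false]⟩,
⟨868,4,16,6,true,[.code,.edge 541 false,.code,.edge 665 false,.edge 665 false,.code],[.code,.edge 537 false,.code,.edge 624 false]⟩,
⟨64,8,33,0,true,[],[.edge 668 false]⟩,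
⟨576,3,33,0,true,[],[.edge 669 true]⟩,
⟨480,3,33,0,true,[],[.eqn 466 true,.edge 670 false]⟩,
⟨868,4,21,6,true,[.code,.edge 575 false,.code,.edge 632 false,.code,.edge 633 false],[.edge 599 false,.code,.edge 647 false,.code]⟩,
⟨70,11,33,0,true,[],[.edge 672 false]⟩,
⟨868,4,25,3,true,[.edge 537 false,.edge 624 false,.code],[.edge 537 false,.code,.edge 624 false,.code,.edge 645 false,.edge 630 false,.code]⟩,
⟨486,3,33,0,true,[],[.edge 674 false]⟩,
⟨64,13,33,0,true,[],[.edge 675 true]⟩,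
⟨678,3,33,0,true,[],[.eqn 466 true,.edge 675 false]⟩,
⟨582,3,33,0,true,[],[.eqn 466 true,.edge 677 false]⟩,
⟨872,4,14,3,true,[.code,.edge 540 false,.code],[.code,.edge 582 false,.code]⟩,
⟨76,8,33,0,true,[],[.edge 679 false]⟩,
⟨10,13,33,0,true,[],[.edge 680 true]⟩,
⟨872,4,21,6,true,[.code,.edge 540 false,.code,.edge 665 false,.code,.edge 664 false],[.edge 566 false,.code,.edge 636 false,.code]⟩,
⟨70,8,33,0,true,[],[.edge 682 false]⟩,
⟨70,13,33,0,true,[],[.edge 683 true]⟩,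
⟨876,4,3,2,true,[.edge 536 false,.code],[.edge 538 false,.edge 665 false,.code]⟩,
⟨482,3,33,0,true,[],[.edge 685 false]⟩,
⟨674,3,33,0,true,[],[.eqn 466 true,.edge 686 false]⟩,
⟨578,3,33,0,true,[],[.eqn 466 true,.edge 687 false]⟩,
⟨2,13,33,0,true,[],[.edge 17 false]⟩,
⟨1156,4,29,5,true,[.code,.edge 590 false,.code,.edge 689 false,.code],[.code,.edge 474 false,.code,.edge 451 false,.eqn 487 false,.code,.edge 551 false,.code,.edge 468 false,.code,.edge 471 false,.eqn 487 false,.code,.edge 550 false,.code]⟩,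
⟨2,18,33,0,true,[],[.edge 690 false]⟩,
⟨648,3,33,0,true,[],[.edge 691 true]⟩,
⟨456,3,33,0,true,[],[.eqn 466 true,.edge 692 false]⟩,
⟨2,15,33,0,true,[],[.edge 18 false]⟩,
⟨0,19,33,0,true,[],[.edge 694 true]⟩,
⟨1170,4,29,5,true,[.code,.edge 607 false,.code,.edge 694 false,.code],[.code,.edge 474 false,.code,.edge 450 false,.eqn 487 false,.code,.edge 469 false,.code,.edge 468 false,.code,.edge 471 false,.eqn 487 false,.code,.edge 543 false,.code]⟩,
⟨2,19,33,0,true,[],[.edge 696 false]⟩,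
⟨524,3,33,0,true,[],[.edge 697 true]⟩,
⟨428,3,33,0,true,[],[.eqn 466 true,.edge 698 false]⟩,
⟨0,7,14,3,true,[.code,.edge 561 false,.code],[.code,.edge 564 false,.code]⟩,
⟨78,10,33,0,true,[],[.edge 700 false]⟩,
⟨8,10,33,0,true,[],[.edge 701 true]⟩,
⟨10,10,33,0,true,[],[.edge 19 false]⟩,
⟨384,7,29,5,true,[.code,.edge 511 false,.code,.edge 703 false,.code],[.code,.edge 422 false,.code,.edge 383 false,.eqn 487 false,.code,.edge 469 false,.code,.edge 468 false,.code,.edge 471 false,.eqn 487 false,.code,.edge 526 false,.code]⟩,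
⟨2,20,33,0,true,[],[.edge 704 false]⟩,
⟨4,3,33,0,true,[],[.edge 705 true]⟩,
⟨40,3,33,0,true,[],[.eqn 466 true,.edge 706 false]⟩,
⟨78,3,33,0,true,[],[.eqn 466 true,.edge 707 false]⟩,
⟨2,3,12,2,true,[.code,.edge 708 false],[.code,.edge 707 false]⟩,
⟨2,20,31,0,true,[],[.edge 709 false]⟩,
⟨2,20,32,0,true,[],[.edge 710 false]⟩,
⟨384,3,7,2,true,[.code,.edge 621 false],[.code,.edge 595 false]⟩,
⟨2,17,31,0,true,[],[.edge 712 false]⟩,
⟨2,14,32,0,true,[],[.edge 713 false]⟩,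
⟨384,3,13,2,true,[.code,.edge 621 false],[.code,.edge 699 false]⟩,
⟨2,17,32,0,true,[],[.edge 715 false]⟩,
⟨2,19,31,0,true,[],[.edge 716 false]⟩,
⟨388,3,7,2,true,[.code,.edge 581 false],[.code,.edge 693 false]⟩,
⟨2,12,31,0,true,[],[.edge 718 false]⟩,
⟨2,18,32,0,true,[],[.edge 719 false]⟩,
⟨388,3,13,2,true,[.code,.edge 581 false],[.code,.edge 614 false]⟩,
⟨2,12,32,0,true,[],[.edge 721 false]⟩,
⟨2,16,31,0,true,[],[.edge 722 false]⟩,
⟨392,3,12,2,true,[.code,.edge 693 false],[.code,.edge 614 false]⟩,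
⟨2,18,31,0,true,[],[.edge 724 false]⟩,
⟨2,16,32,0,true,[],[.edge 725 false]⟩,
⟨396,3,12,2,true,[.code,.edge 595 false],[.code,.edge 699 false]⟩,
⟨2,14,31,0,true,[],[.edge 727 false]⟩,
⟨2,19,32,0,true,[],[.edge 728 false]⟩,
⟨480,3,14,3,true,[.code,.edge 652 false,.code],[.code,.edge 653 false,.code]⟩,
⟨44,11,33,0,true,[],[.edge 730 false]⟩,
⟨74,11,33,0,true,[],[.edge 731 true]⟩,
⟨482,3,14,3,true,[.code,.edge 661 false,.code],[.code,.edge 662 false,.code]⟩,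
⟨12,13,33,0,true,[],[.edge 733 false]⟩,
⟨42,13,33,0,true,[],[.edge 734 true]⟩,
⟨484,3,17,4,true,[.code,.edge 655 false,.edge 632 false,.code],[.code,.edge 640 false,.edge 630 false,.code,.edge 626 false,.code]⟩,
⟨42,15,33,0,true,[],[.edge 736 false]⟩,
⟨484,3,21,6,true,[.code,.edge 688 false,.code,.edge 665 false,.code,.edge 664 false],[.edge 640 false,.code,.edge 737 false,.code]⟩,
⟨6,8,33,0,true,[],[.edge 738 false]⟩,
⟨6,11,33,0,true,[],[.edge 739 true]⟩,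
⟨486,3,17,4,true,[.code,.edge 644 false,.edge 630 false,.code],[.code,.edge 675 false,.edge 626 false,.code,.edge 632 false,.code]⟩]

/-- Deductions. -/
def c4_4 : List Step := [
⟨74,13,33,0,true,[],[.edge 741 false]⟩,
⟨44,15,33,0,true,[],[.edge 742 true]⟩,
⟨488,3,21,6,true,[.code,.edge 638 false,.code,.edge 630 false,.code,.edge 629 false],[.edge 662 false,.code,.edge 735 false,.code]⟩,
⟨6,15,33,0,true,[],[.edge 744 false]⟩,
⟨490,3,14,3,true,[.code,.edge 678 false,.code],[.code,.edge 671 false,.code]⟩,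
⟨44,13,33,0,true,[],[.edge 746 false]⟩,
⟨490,3,21,6,true,[.code,.edge 678 false,.code,.edge 626 false,.code,.edge 627 false],[.edge 653 false,.code,.edge 732 false,.code]⟩,
⟨38,13,33,0,true,[],[.edge 748 false]⟩,
⟨38,11,33,0,true,[],[.edge 749 true]⟩,
⟨876,3,29,3,true,[.code,.edge 581 false,.code],[.code,.edge 377 false,.code,.edge 474 false,.code,.edge 454 false,.eqn 487 false,.code,.edge 488 false,.code,.edge 483 false,.code,.edge 543 false,.code,.edge 620 false,.code]⟩,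
⟨6,12,33,0,true,[],[.edge 751 false]⟩,
⟨0,8,1,3,true,[.code,.edge 664 false,.code],[.code]⟩,
⟨2,8,31,0,true,[],[.edge 753 false]⟩,
⟨2,8,32,0,true,[],[.edge 754 false]⟩,
⟨2,8,3,4,true,[.edge 755 false,.code,.edge 499 false,.code],[.edge 499 false]⟩,
⟨0,10,31,0,true,[],[.edge 756 false]⟩,
⟨0,10,32,0,true,[],[.edge 757 false]⟩,
⟨2,8,4,2,true,[.edge 499 false,.edge 758 false],[.code]⟩,
⟨64,10,33,0,true,[],[.edge 759 false]⟩,
⟨34,8,33,0,true,[],[.edge 760 true]⟩,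
⟨2,8,5,2,true,[.edge 499 false,.edge 757 false],[.code]⟩,
⟨32,10,33,0,true,[],[.edge 762 false]⟩,
⟨66,8,33,0,true,[],[.edge 763 true]⟩,
⟨2,8,25,3,true,[.edge 755 false,.edge 755 false,.code],[.edge 755 false,.code,.edge 755 false,.code,.edge 495 false,.eqn 521 false,.edge 755 false,.code]⟩,
⟨40,8,33,0,true,[],[.edge 765 false]⟩,
⟨3,8,21,6,true,[.code,.edge 766 false,.code,.edge 755 false,.code,.edge 754 false],[.edge 499 false,.code,.edge 703 false,.code]⟩,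
⟨46,8,33,0,true,[],[.edge 767 false]⟩,
⟨14,8,14,3,true,[.code,.edge 768 false,.code],[.code,.edge 495 false,.eqn 521 false,.code]⟩,
⟨74,20,33,0,true,[],[.edge 769 false]⟩,
⟨14,8,33,0,true,[],[.edge 770 true]⟩,
⟨15,8,3,4,true,[.edge 755 false,.code,.edge 771 false,.code],[.edge 771 false]⟩,
⟨0,20,31,0,true,[],[.edge 772 false]⟩,
⟨0,20,32,0,true,[],[.edge 773 false]⟩,
⟨15,8,5,2,true,[.edge 771 false,.edge 773 false],[.code]⟩,
⟨12,20,33,0,true,[],[.edge 775 false]⟩,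
⟨72,8,33,0,true,[],[.edge 776 true]⟩,
⟨15,8,12,1,true,[.code],[.code,.edge 768 false,.edge 774 false]⟩,
⟨68,8,33,0,true,[],[.edge 778 false]⟩,
⟨15,8,25,6,true,[.edge 755 false,.edge 755 false,.code,.edge 768 false,.code,.edge 773 false],[.edge 755 false,.code,.edge 755 false,.code]⟩,
⟨44,20,33,0,true,[],[.edge 780 false]⟩,
⟨8,8,33,0,true,[],[.edge 781 true]⟩,
⟨24,8,17,4,true,[.code,.edge 499 false,.edge 758 false,.code],[.code,.edge 782 false,.edge 774 false,.code,.edge 774 false,.code]⟩,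
⟨74,10,33,0,true,[],[.edge 783 false]⟩,
⟨34,8,21,6,true,[.code,.edge 777 false,.code,.edge 774 false,.code,.edge 773 false],[.edge 761 false,.code,.edge 784 false,.code]⟩,
⟨76,20,33,0,true,[],[.edge 785 false]⟩,
⟨42,20,33,0,true,[],[.edge 786 true]⟩,
⟨0,11,1,3,true,[.code,.edge 627 false,.code],[.code]⟩,
⟨2,13,31,0,true,[],[.edge 788 false]⟩,
⟨2,11,32,0,true,[],[.edge 789 false]⟩,
⟨2,11,1,1,true,[.code],[.code,.edge 632 false,.code]⟩,
⟨2,11,31,0,true,[],[.edge 791 false]⟩,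
⟨2,15,32,0,true,[],[.edge 792 false]⟩,
⟨2,11,3,4,true,[.edge 790 false,.code,.edge 591 false,.code],[.edge 616 false]⟩,
⟨0,14,31,0,true,[],[.edge 794 false]⟩,
⟨0,17,32,0,true,[],[.edge 795 false]⟩,
⟨2,11,4,2,true,[.edge 616 false,.edge 796 false],[.code]⟩,
⟨64,14,33,0,true,[],[.edge 797 false]⟩,
⟨34,11,33,0,true,[],[.edge 798 true]⟩,
⟨2,11,27,5,true,[.code,.edge 790 false,.code,.edge 591 false,.edge 795 false],[.code,.edge 790 false]⟩,
⟨32,17,33,0,true,[],[.edge 800 false]⟩,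
⟨78,13,33,0,true,[],[.edge 801 true]⟩,
⟨3,11,0,1,true,[.edge 792 false],[.edge 790 false]⟩,
⟨2,15,31,0,true,[],[.edge 803 false]⟩,
⟨2,13,32,0,true,[],[.edge 804 false]⟩,
⟨3,11,24,6,true,[.code,.edge 790 false,.edge 805 false,.code,.edge 694 false,.code],[.edge 616 false,.edge 796 false,.code]⟩,
⟨0,19,31,0,true,[],[.edge 806 false]⟩,
⟨0,14,32,0,true,[],[.edge 807 false]⟩,
⟨3,11,28,2,true,[.code,.edge 790 false],[.code,.edge 616 false,.code,.edge 796 false,.code,.edge 808 false,.code]⟩,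
⟨40,13,33,0,true,[],[.edge 809 false]⟩,
⟨64,19,33,0,true,[],[.edge 810 true]⟩,
⟨4,11,3,4,true,[.edge 790 false,.code,.edge 689 false,.code],[.edge 576 false]⟩,
⟨0,18,31,0,true,[],[.edge 812 false]⟩,
⟨0,12,32,0,true,[],[.edge 813 false]⟩,
⟨4,11,4,2,true,[.edge 576 false,.edge 814 false],[.code]⟩,
⟨64,18,33,0,true,[],[.edge 815 false]⟩,
⟨40,11,33,0,true,[],[.edge 816 true]⟩,
⟨4,11,12,1,true,[.code],[.code,.edge 799 false,.edge 808 false]⟩,
⟨66,11,33,0,true,[],[.edge 818 false]⟩,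
⟨32,19,33,0,true,[],[.edge 819 true]⟩,
⟨4,11,24,6,true,[.code,.edge 790 false,.edge 805 false,.code,.edge 610 false,.code],[.edge 576 false,.edge 814 false,.code]⟩,
⟨0,16,31,0,true,[],[.edge 821 false]⟩,
⟨0,18,32,0,true,[],[.edge 822 false]⟩,
⟨4,11,27,5,true,[.code,.edge 790 false,.code,.edge 689 false,.edge 813 false],[.code,.edge 790 false]⟩,
⟨32,12,33,0,true,[],[.edge 824 false]⟩,
⟨66,13,33,0,true,[],[.edge 825 true]⟩,
⟨4,11,28,2,true,[.code,.edge 790 false],[.code,.edge 576 false,.code,.edge 814 false,.code,.edge 823 false,.code]⟩,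
⟨34,13,33,0,true,[],[.edge 827 false]⟩,
⟨8,11,7,2,true,[.code,.edge 616 false],[.code,.edge 819 false]⟩,
⟨0,17,31,0,true,[],[.edge 829 false]⟩,
⟨0,19,32,0,true,[],[.edge 830 false]⟩,
⟨8,11,16,6,true,[.code,.edge 819 false,.code,.edge 831 false,.edge 796 false,.code],[.code,.edge 790 false,.code,.edge 805 false]⟩,
⟨32,14,33,0,true,[],[.edge 832 false]⟩,
⟨66,15,33,0,true,[],[.edge 833 true]⟩,
⟨18,11,12,1,true,[.code],[.code,.edge 817 false,.edge 823 false]⟩,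
⟨78,11,33,0,true,[],[.edge 835 false]⟩,
⟨20,11,5,1,true,[.edge 576 false],[.code,.edge 836 false]⟩,
⟨0,12,31,0,true,[],[.edge 837 false]⟩,
⟨0,16,32,0,true,[],[.edge 838 false]⟩,
⟨20,11,25,3,true,[.edge 790 false,.edge 805 false,.code],[.edge 790 false,.code,.edge 805 false,.code,.edge 694 false,.edge 831 false,.code]⟩,
⟨34,15,33,0,true,[],[.edge 840 false]⟩]

/-- Deductions. -/
def c4_5 : List Step := [
⟨30,11,16,6,true,[.code,.edge 836 false,.code,.edge 839 false,.edge 814 false,.code],[.code,.edge 790 false,.code,.edge 805 false]⟩,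
⟨32,18,33,0,true,[],[.edge 842 false]⟩,
⟨78,15,33,0,true,[],[.edge 843 true]⟩,
⟨40,11,17,4,true,[.code,.edge 799 false,.edge 808 false,.code],[.code,.edge 817 false,.edge 823 false,.code,.edge 839 false,.code]⟩,
⟨42,19,33,0,true,[],[.edge 845 false]⟩,
⟨76,12,33,0,true,[],[.edge 846 true]⟩,
⟨40,11,24,4,true,[.code,.edge 790 false,.edge 805 false,.code],[.edge 817 false,.edge 823 false,.code,.edge 839 false,.code]⟩,
⟨40,15,33,0,true,[],[.edge 848 false]⟩,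
⟨64,12,33,0,true,[],[.edge 849 true]⟩,
⟨0,12,12,3,true,[.code,.edge 847 false,.edge 807 false],[.code]⟩,
⟨76,14,33,0,true,[],[.edge 851 false]⟩,
⟨42,12,33,0,true,[],[.edge 852 true]⟩,
⟨12,12,16,6,true,[.code,.edge 847 false,.code,.edge 831 false,.edge 796 false,.code],[.code,.edge 814 false,.code,.edge 823 false]⟩,
⟨42,14,33,0,true,[],[.edge 854 false]⟩,
⟨76,16,33,0,true,[],[.edge 855 true]⟩,
⟨514,11,32,0,true,[],[.edge 20 false]⟩,
⟨0,21,31,0,true,[],[.edge 857 false]⟩,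
⟨384,21,32,0,true,[],[.edge 21 false]⟩,
⟨0,22,31,0,true,[],[.edge 859 false]⟩,
⟨384,22,32,0,true,[],[.edge 22 false]⟩,
⟨0,23,31,0,true,[],[.edge 861 false]⟩,
⟨96,7,29,14,false,[.code,.edge 565 false,.code,.edge 500 false,.code,.edge 739 false,.code,.edge 857 false,.code,.edge 859 false,.code,.edge 861 false,.code,.edge 862 false],[.code,.edge 383 false,.eqn 487 false,.code,.edge 545 false,.code]⟩,
⟨0,22,30,0,false,[],[.eqn 863 false]⟩,
⟨480,3,31,0,true,[],[.eqn 864 true,.edge 860 false]⟩,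
⟨842,21,32,0,false,[],[.edge 865 false,.edge 623 false]⟩,
⟨544,3,32,0,true,[],[.eqn 864 true,.edge 861 false]⟩,
⟨512,3,32,0,true,[],[.eqn 466 true,.edge 867 false]⟩,
⟨0,21,30,0,false,[],[.eqn 866 false]⟩,
⟨546,3,31,0,true,[],[.eqn 869 true,.edge 858 false]⟩,
⟨514,3,31,0,true,[],[.eqn 466 true,.edge 870 false]⟩,
⟨384,3,32,0,true,[],[.eqn 466 true,.edge 868 false]⟩,
⟨386,3,31,0,true,[],[.eqn 466 true,.edge 871 false]⟩,
⟨546,23,32,0,true,[],[.edge 23 false]⟩,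
⟨0,24,31,0,true,[],[.edge 874 false]⟩,
⟨2,23,31,0,true,[],[.edge 24 false]⟩,
⟨0,25,32,0,true,[],[.edge 876 false]⟩,
⟨523,10,29,17,true,[.code,.edge 558 false,.code,.edge 555 false,.code,.edge 492 false,.code,.edge 545 false,.code,.edge 868 false,.code,.edge 874 false,.code,.edge 875 false,.code,.edge 876 false,.code],[.code]⟩,
⟨384,25,31,0,true,[],[.edge 878 false]⟩,
⟨512,10,32,0,true,[],[.edge 879 false]⟩,
⟨544,10,32,0,true,[],[.eqn 554 true,.edge 880 false]⟩,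
⟨526,10,1,1,true,[.code],[.code,.edge 880 false,.code]⟩,
⟨514,10,31,0,true,[],[.edge 882 false]⟩,
⟨386,25,32,0,true,[],[.edge 883 false]⟩,
⟨546,10,31,0,true,[],[.eqn 554 true,.edge 883 false]⟩,
⟨512,11,1,1,false,[.code],[.code,.edge 857 false,.eqn 869 false,.code,.edge 867 false]⟩,
⟨0,23,30,0,false,[],[.eqn 886 true]⟩,
⟨512,11,31,0,true,[],[.eqn 887 true,.edge 862 false,.eqn 864 false]⟩,
⟨514,11,31,0,true,[],[.eqn 887 true,.edge 876 false]⟩,
⟨546,11,32,0,true,[],[.eqn 887 true,.edge 874 false]⟩,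
⟨514,11,0,1,true,[.edge 889 false],[.edge 857 false,.eqn 869 false]⟩,
⟨0,25,31,0,true,[],[.edge 891 false]⟩,
⟨546,3,32,0,true,[],[.edge 892 false]⟩,
⟨514,3,32,0,true,[],[.eqn 466 true,.edge 893 false]⟩,
⟨386,3,32,0,true,[],[.eqn 466 true,.edge 894 false]⟩,
⟨514,11,1,3,true,[.code,.edge 889 false,.code],[.code]⟩,
⟨2,25,31,0,true,[],[.edge 896 false]⟩,
⟨512,11,32,0,true,[],[.edge 897 false]⟩,
⟨68,14,33,0,true,[],[.edge 25 false]⟩,
⟨2,26,33,0,true,[],[.edge 26 false]⟩,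
⟨0,27,33,0,true,[],[.edge 900 true]⟩,
⟨517,11,29,7,true,[.code,.edge 799 false,.code,.edge 899 false,.code,.edge 900 false,.code],[.code,.edge 857 false,.eqn 869 false,.code,.edge 895 false,.code,.edge 884 false,.code,.edge 883 false,.code,.edge 897 false,.code]⟩,
⟨480,27,32,0,true,[],[.edge 902 false]⟩,
⟨482,11,31,0,true,[],[.edge 903 false]⟩,
⟨518,11,0,1,true,[.edge 888 false],[.edge 898 false]⟩,
⟨544,3,31,0,true,[],[.edge 905 false]⟩,
⟨2,25,32,0,true,[],[.edge 906 false]⟩,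
⟨512,3,31,0,true,[],[.eqn 466 true,.edge 906 false]⟩,
⟨384,3,31,0,true,[],[.eqn 466 true,.edge 908 false]⟩,
⟨518,11,16,1,true,[.code],[.code,.edge 898 false,.code,.edge 907 false,.edge 596 false,.code,.edge 728 false,.edge 717 false,.code]⟩,
⟨714,11,33,0,true,[],[.edge 910 false]⟩,
⟨519,11,7,1,true,[.code],[.code,.edge 911 false,.edge 716 false]⟩,
⟨524,11,33,0,true,[],[.edge 912 false]⟩,
⟨34,19,33,0,true,[],[.edge 913 true]⟩,
⟨519,11,13,3,true,[.code,.edge 913 false,.edge 729 false],[.code]⟩,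
⟨34,14,33,0,true,[],[.edge 915 false]⟩,
⟨646,11,33,0,true,[],[.edge 916 true]⟩,
⟨68,18,33,0,true,[],[.edge 27 false]⟩,
⟨2,28,33,0,true,[],[.edge 28 false]⟩,
⟨0,29,33,0,true,[],[.edge 919 true]⟩,
⟨521,11,29,7,true,[.code,.edge 817 false,.code,.edge 918 false,.code,.edge 919 false,.code],[.code,.edge 857 false,.eqn 869 false,.code,.edge 894 false,.code,.edge 884 false,.code,.edge 883 false,.code,.edge 897 false,.code]⟩,
⟨480,29,32,0,true,[],[.edge 921 false]⟩,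
⟨386,11,31,0,true,[],[.edge 922 false]⟩,
⟨524,11,3,2,true,[.edge 898 false,.code],[.edge 913 false,.edge 729 false,.code]⟩,
⟨36,25,33,0,true,[],[.edge 924 false]⟩,
⟨66,14,33,0,true,[],[.edge 925 true]⟩,
⟨524,11,15,2,true,[.code,.edge 898 false],[.code,.edge 913 false,.code,.edge 729 false,.edge 714 false,.code]⟩,
⟨72,25,33,0,true,[],[.edge 927 false]⟩,
⟨66,17,33,0,true,[],[.edge 928 true]⟩,
⟨526,11,3,5,true,[.edge 857 false,.eqn 869 false,.code,.edge 615 false,.code,.edge 723 false],[]⟩,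
⟨66,12,33,0,true,[],[.edge 930 false]⟩,
⟨526,11,33,0,true,[],[.edge 931 true]⟩,
⟨526,11,4,2,true,[.edge 932 false,.edge 722 false],[.code]⟩,
⟨66,16,33,0,true,[],[.edge 933 false]⟩,
⟨644,11,33,0,true,[],[.edge 934 true]⟩,
⟨526,11,5,2,true,[.edge 932 false,.edge 719 false],[.code]⟩,
⟨66,18,33,0,true,[],[.edge 936 false]⟩,
⟨712,11,33,0,true,[],[.edge 937 true]⟩,
⟨526,11,24,4,true,[.code,.edge 857 false,.eqn 869 false,.edge 893 false,.code],[.edge 932 false,.edge 722 false,.code,.edge 726 false,.code]⟩,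
⟨10,25,33,0,true,[],[.edge 939 false]⟩,
⟨46,11,33,0,true,[],[.edge 29 false]⟩]

/-- Deductions. -/
def c4_6 : List Step := [
⟨0,30,33,0,true,[],[.edge 941 true]⟩,
⟨480,10,32,0,true,[],[.edge 30 false]⟩,
⟨0,31,31,0,true,[],[.edge 943 false]⟩,
⟨386,10,32,0,true,[],[.eqn 554 true,.edge 943 false]⟩,
⟨384,31,32,0,true,[],[.edge 31 false]⟩,
⟨0,32,31,0,true,[],[.edge 946 false]⟩,
⟨384,32,32,0,true,[],[.edge 32 false]⟩,
⟨0,33,31,0,true,[],[.edge 948 false]⟩,
⟨529,11,29,14,false,[.code,.edge 656 false,.code,.edge 671 false,.code,.edge 764 false,.code,.edge 943 false,.code,.edge 946 false,.code,.edge 948 false,.code,.edge 949 false],[.code,.edge 898 false,.code,.edge 884 false,.code]⟩,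
⟨0,32,30,0,false,[],[.eqn 950 false]⟩,
⟨512,10,31,0,true,[],[.eqn 951 true,.edge 947 false]⟩,
⟨546,10,32,0,true,[],[.eqn 951 true,.edge 948 false]⟩,
⟨544,10,31,0,true,[],[.eqn 554 true,.edge 952 false]⟩,
⟨514,10,32,0,true,[],[.eqn 554 true,.edge 953 false]⟩,
⟨536,11,25,3,true,[.edge 857 false,.eqn 869 false,.edge 893 false,.code],[.edge 857 false,.eqn 869 false,.code,.edge 893 false,.code,.edge 940 false,.edge 720 false,.code]⟩,
⟨44,25,33,0,true,[],[.edge 956 false]⟩,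
⟨34,12,33,0,true,[],[.edge 957 true]⟩,
⟨542,11,29,3,true,[.code,.edge 941 false,.code],[.code,.edge 857 false,.eqn 869 false,.code,.edge 624 false,.code,.edge 893 false,.code,.edge 892 false,.code,.edge 468 false,.code,.edge 471 false,.eqn 487 false,.code,.edge 602 false,.code]⟩,
⟨2,30,33,0,true,[],[.edge 959 false]⟩,
⟨8,15,33,0,true,[],[.edge 960 true]⟩,
⟨544,11,1,1,true,[.code],[.code,.edge 890 false,.code]⟩,
⟨544,11,31,0,true,[],[.edge 962 false]⟩,
⟨552,11,29,19,false,[.code,.edge 667 false,.code,.edge 499 false,.code,.edge 702 false,.code,.edge 880 false,.code,.edge 907 false,.code,.edge 377 false,.code,.edge 378 false,.code,.edge 870 false,.code,.edge 963 false,.code],[]⟩,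
⟨0,24,30,0,false,[],[.eqn 964 false]⟩,
⟨72,11,33,0,true,[],[.edge 33 false]⟩,
⟨4,34,33,0,true,[],[.edge 34 false]⟩,
⟨2,35,33,0,true,[],[.edge 35 false]⟩,
⟨553,11,29,7,true,[.code,.edge 966 false,.code,.edge 967 false,.code,.edge 968 false,.code],[.code,.edge 890 false,.eqn 965 false,.code,.edge 857 false,.eqn 869 false,.code,.edge 624 false,.code,.edge 623 false,.code,.edge 906 false,.code]⟩,
⟨480,36,32,0,true,[],[.edge 969 false]⟩,
⟨386,25,31,0,true,[],[.edge 970 false]⟩,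
⟨512,18,32,0,true,[],[.edge 36 false]⟩,
⟨0,37,31,0,true,[],[.edge 972 false]⟩,
⟨384,37,32,0,true,[],[.edge 37 false]⟩,
⟨0,38,31,0,true,[],[.edge 974 false]⟩,
⟨384,38,32,0,true,[],[.edge 38 false]⟩,
⟨0,39,31,0,true,[],[.edge 976 false]⟩,
⟨563,11,29,14,false,[.code,.edge 650 false,.code,.edge 657 false,.code,.edge 817 false,.code,.edge 972 false,.code,.edge 974 false,.code,.edge 976 false,.code,.edge 977 false],[.code,.edge 890 false,.eqn 965 false,.code,.edge 632 false,.code]⟩,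
⟨0,38,30,0,false,[],[.eqn 978 false]⟩,
⟨2,15,31,0,true,[],[.eqn 979 true,.edge 975 false]⟩,
⟨1549,37,32,0,false,[],[.edge 980 false,.edge 804 false]⟩,
⟨546,15,32,0,true,[],[.eqn 979 true,.edge 976 false]⟩,
⟨0,37,30,0,false,[],[.eqn 981 false]⟩,
⟨512,13,31,0,true,[],[.eqn 983 true,.edge 973 false]⟩,
⟨578,11,1,3,true,[.code,.edge 904 false,.code],[.code]⟩,
⟨482,27,31,0,true,[],[.edge 985 false]⟩,
⟨480,11,32,0,true,[],[.edge 986 false]⟩,
⟨386,11,32,0,true,[],[.edge 39 false]⟩,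
⟨0,40,31,0,true,[],[.edge 988 false]⟩,
⟨384,40,32,0,true,[],[.edge 40 false]⟩,
⟨0,41,31,0,true,[],[.edge 990 false]⟩,
⟨598,11,29,15,true,[.code,.edge 673 false,.code,.edge 834 false,.code,.edge 916 false,.code,.edge 890 false,.eqn 965 false,.code,.edge 988 false,.code,.edge 990 false,.code,.edge 991 false,.code],[.code,.edge 987 false,.code]⟩,
⟨2,40,31,0,true,[],[.edge 992 false]⟩,
⟨0,27,32,0,true,[],[.edge 993 false]⟩,
⟨386,31,32,0,true,[],[.edge 41 false]⟩,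
⟨0,42,31,0,true,[],[.edge 995 false]⟩,
⟨605,11,29,15,true,[.code,.edge 732 false,.code,.edge 799 false,.code,.edge 926 false,.code,.edge 884 false,.code,.edge 945 false,.code,.edge 995 false,.code,.edge 996 false,.code],[.code,.edge 987 false,.code]⟩,
⟨2,31,31,0,true,[],[.edge 997 false]⟩,
⟨546,27,32,0,true,[],[.edge 998 false]⟩,
⟨544,19,32,0,true,[],[.edge 42 false]⟩,
⟨0,43,31,0,true,[],[.edge 1000 false]⟩,
⟨384,43,32,0,true,[],[.edge 43 false]⟩,
⟨0,44,31,0,true,[],[.edge 1002 false]⟩,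
⟨384,44,32,0,true,[],[.edge 44 false]⟩,
⟨0,45,31,0,true,[],[.edge 1004 false]⟩,
⟨611,11,29,14,false,[.code,.edge 656 false,.code,.edge 653 false,.code,.edge 819 false,.code,.edge 1000 false,.code,.edge 1002 false,.code,.edge 1004 false,.code,.edge 1005 false],[.code,.edge 890 false,.eqn 965 false,.code,.edge 790 false,.code]⟩,
⟨0,44,30,0,false,[],[.eqn 1006 false]⟩,
⟨0,13,31,0,true,[],[.eqn 1007 true,.edge 1003 false]⟩,
⟨1585,43,32,0,false,[],[.edge 1008 false,.edge 629 false]⟩,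
⟨514,13,32,0,true,[],[.eqn 1007 true,.edge 1004 false]⟩,
⟨0,43,30,0,false,[],[.eqn 1009 false]⟩,
⟨544,15,31,0,true,[],[.eqn 1011 true,.edge 1001 false]⟩,
⟨36,11,33,0,true,[],[.edge 45 false]⟩,
⟨8,11,33,0,true,[],[.edge 46 false]⟩,
⟨4,47,33,0,true,[],[.edge 47 false]⟩,
⟨645,11,29,5,true,[.code,.edge 1014 false,.code,.edge 1015 false,.code],[.code,.edge 857 false,.eqn 869 false,.code,.edge 377 false,.code,.edge 379 false,.eqn 487 false,.code,.edge 471 false,.eqn 487 false,.code,.edge 526 false,.code,.edge 906 false,.code]⟩,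
⟨2,48,33,0,true,[],[.edge 1016 false]⟩,
⟨4,17,33,0,true,[],[.edge 48 false]⟩,
⟨649,11,29,5,true,[.code,.edge 616 false,.code,.edge 1018 false,.code],[.code,.edge 857 false,.eqn 869 false,.code,.edge 895 false,.code,.edge 884 false,.code,.edge 883 false,.code,.edge 897 false,.code,.edge 904 false,.code]⟩,
⟨2,49,33,0,true,[],[.edge 1019 false]⟩,
⟨64,27,33,0,true,[],[.edge 1020 true]⟩,
⟨4,12,33,0,true,[],[.edge 49 false]⟩,
⟨654,11,29,5,true,[.code,.edge 576 false,.code,.edge 1022 false,.code],[.code,.edge 857 false,.eqn 869 false,.code,.edge 894 false,.code,.edge 884 false,.code,.edge 883 false,.code,.edge 897 false,.code,.edge 923 false,.code]⟩,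
⟨2,50,33,0,true,[],[.edge 1023 false]⟩,
⟨64,29,33,0,true,[],[.edge 1024 true]⟩,
⟨14,11,33,0,true,[],[.edge 50 false]⟩,
⟨661,11,29,3,false,[.code,.edge 1014 false,.code],[.code,.edge 857 false,.eqn 869 false,.code,.edge 624 false,.code,.edge 893 false,.code,.edge 892 false,.code,.edge 468 false,.code,.edge 471 false,.eqn 487 false,.code,.edge 570 false,.code,.edge 1014 false]⟩,
⟨2,47,30,0,false,[],[.eqn 1027 true]⟩,
⟨6,47,33,0,true,[],[.eqn 1028 true,.edge 1015 false]⟩,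
⟨671,11,29,5,true,[.code,.edge 636 false,.code,.edge 826 false,.code],[.code,.edge 857 false,.eqn 869 false,.code,.edge 868 false,.eqn 887 false,.code,.edge 988 false,.code,.edge 989 false,.code,.edge 889 false,.code,.edge 971 false,.code]⟩,
⟨40,12,33,0,true,[],[.edge 1030 false]⟩,
⟨8,30,33,0,true,[],[.edge 51 false]⟩,
⟨0,52,33,0,true,[],[.edge 1032 true]⟩,
⟨679,11,29,5,true,[.code,.edge 941 false,.code,.edge 1032 false,.code],[.code,.edge 987 false,.code,.edge 999 false,.code,.edge 946 false,.eqn 951 false,.code,.edge 952 false,.code,.edge 944 false,.code,.edge 954 false,.code]⟩,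
⟨2,52,33,0,true,[],[.edge 1034 false]⟩,
⟨36,16,33,0,true,[],[.edge 52 false]⟩,
⟨709,11,29,5,true,[.code,.edge 836 false,.code,.edge 1036 false,.code],[.code,.edge 857 false,.eqn 869 false,.code,.edge 894 false,.code,.edge 884 false,.code,.edge 883 false,.code,.edge 897 false,.code,.edge 923 false,.code]⟩,
⟨2,53,33,0,true,[],[.edge 1037 false]⟩,
⟨32,29,33,0,true,[],[.edge 1038 true]⟩,
⟨68,11,33,0,true,[],[.edge 53 false]⟩,
⟨4,54,33,0,true,[],[.edge 54 false]⟩]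

/-- Deductions. -/
def c4_7 : List Step := [
⟨713,11,29,5,true,[.code,.edge 1040 false,.code,.edge 1041 false,.code],[.code,.edge 857 false,.eqn 869 false,.code,.edge 377 false,.code,.edge 379 false,.eqn 487 false,.code,.edge 471 false,.eqn 487 false,.code,.edge 526 false,.code,.edge 906 false,.code]⟩,
⟨2,55,33,0,true,[],[.edge 1042 false]⟩,
⟨682,25,33,0,true,[],[.edge 1043 true]⟩,
⟨36,19,33,0,true,[],[.edge 55 false]⟩,
⟨718,11,29,5,true,[.code,.edge 819 false,.code,.edge 1045 false,.code],[.code,.edge 857 false,.eqn 869 false,.code,.edge 895 false,.code,.edge 884 false,.code,.edge 883 false,.code,.edge 897 false,.code,.edge 904 false,.code]⟩,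
⟨2,56,33,0,true,[],[.edge 1046 false]⟩,
⟨32,27,33,0,true,[],[.edge 1047 true]⟩,
⟨724,11,29,5,true,[.code,.edge 673 false,.code,.edge 844 false,.code],[.code,.edge 857 false,.eqn 869 false,.code,.edge 868 false,.eqn 887 false,.code,.edge 988 false,.code,.edge 989 false,.code,.edge 889 false,.code,.edge 971 false,.code]⟩,
⟨46,18,33,0,true,[],[.edge 1049 false]⟩,
⟨516,36,33,0,true,[],[.edge 1050 true]⟩,
⟨734,11,29,5,true,[.code,.edge 819 false,.code,.edge 914 false,.code],[.code,.edge 857 false,.eqn 869 false,.code,.edge 872 false,.eqn 887 false,.code,.edge 987 false,.code,.edge 986 false,.code,.edge 889 false,.code,.edge 879 false,.code]⟩,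
⟨514,11,33,0,true,[],[.edge 1052 false]⟩,
⟨512,26,32,0,true,[],[.edge 56 false]⟩,
⟨0,57,31,0,true,[],[.edge 1054 false]⟩,
⟨384,57,32,0,true,[],[.edge 57 false]⟩,
⟨0,58,31,0,true,[],[.edge 1056 false]⟩,
⟨384,58,32,0,true,[],[.edge 58 false]⟩,
⟨0,59,31,0,true,[],[.edge 1058 false]⟩,
⟨735,11,29,14,false,[.code,.edge 732 false,.code,.edge 799 false,.code,.edge 899 false,.code,.edge 1054 false,.code,.edge 1056 false,.code,.edge 1058 false,.code,.edge 1059 false],[.code,.edge 857 false,.eqn 869 false,.code,.edge 872 false,.eqn 887 false,.code]⟩,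
⟨0,58,30,0,false,[],[.eqn 1060 false]⟩,
⟨514,11,31,0,true,[],[.eqn 1061 true,.edge 1057 false]⟩,
⟨390,57,32,0,false,[],[.edge 1062 false,.edge 889 false]⟩,
⟨482,11,32,0,true,[],[.eqn 1061 true,.edge 1058 false]⟩,
⟨0,57,30,0,false,[],[.eqn 1063 false]⟩,
⟨386,25,31,0,true,[],[.eqn 1065 true,.edge 1055 false]⟩,
⟨1431,26,32,0,false,[],[.edge 1066 false,.edge 971 false]⟩,
⟨0,36,30,0,false,[],[.eqn 1067 true]⟩,
⟨422,26,33,0,true,[],[.eqn 1068 true,.edge 1051 false]⟩,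
⟨2,51,33,0,true,[],[.edge 59 false]⟩,
⟨741,11,29,5,true,[.code,.edge 1026 false,.code,.edge 1070 false,.code],[.code,.edge 890 false,.eqn 965 false,.code,.edge 857 false,.eqn 869 false,.code,.edge 624 false,.code,.edge 623 false,.code,.edge 906 false,.code,.edge 971 false,.eqn 1068 false,.code]⟩,
⟨2,60,33,0,true,[],[.edge 1071 false]⟩,
⟨548,26,33,0,true,[],[.edge 1072 true]⟩,
⟨768,11,1,1,true,[.code],[.code,.edge 988 false,.code]⟩,
⟨384,11,31,0,true,[],[.edge 1074 false]⟩,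
⟨2,40,32,0,true,[],[.edge 1075 false]⟩,
⟨769,11,0,2,true,[.edge 1075 false,.edge 993 false],[]⟩,
⟨0,27,31,0,true,[],[.edge 1077 false]⟩,
⟨384,11,32,0,true,[],[.edge 1078 false]⟩,
⟨770,11,0,1,true,[.edge 923 false],[.edge 988 false]⟩,
⟨480,29,31,0,true,[],[.edge 1080 false]⟩,
⟨0,40,32,0,true,[],[.edge 1081 false]⟩,
⟨770,11,1,3,false,[.code,.edge 923 false,.code],[.code,.edge 1079 false]⟩,
⟨0,29,30,0,false,[],[.eqn 1083 false]⟩,
⟨2,27,31,0,true,[],[.eqn 1084 true,.edge 1081 false]⟩,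
⟨2,27,32,0,true,[],[.eqn 1084 true,.edge 922 false]⟩,
⟨682,27,33,0,true,[],[.eqn 1084 true,.edge 920 false]⟩,
⟨492,27,33,0,true,[],[.eqn 1084 true,.edge 1039 false]⟩,
⟨582,27,33,0,true,[],[.eqn 1084 true,.edge 1025 false]⟩,
⟨774,11,27,4,true,[.code,.edge 1079 false,.code,.edge 901 false],[.code,.edge 1079 false,.edge 1021 false]⟩,
⟨2,26,31,0,true,[],[.edge 1090 false]⟩,
⟨2,49,32,0,true,[],[.edge 1091 false]⟩,
⟨775,11,3,5,true,[.edge 1079 false,.code,.edge 901 false,.code,.edge 1091 false],[]⟩,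
⟨66,49,33,0,true,[],[.edge 1093 false]⟩,
⟨390,11,33,0,true,[],[.edge 1094 true]⟩,
⟨775,11,4,2,true,[.edge 1095 false,.edge 1092 false],[.code]⟩,
⟨66,26,33,0,true,[],[.edge 1096 false]⟩,
⟨426,11,33,0,true,[],[.edge 1097 true]⟩,
⟨775,11,15,4,true,[.code,.edge 1079 false,.edge 1048 false,.code],[.code,.edge 1095 false,.code,.edge 1092 false]⟩,
⟨2,56,31,0,true,[],[.edge 1099 false]⟩,
⟨2,26,32,0,true,[],[.edge 1100 false]⟩,
⟨784,11,12,1,true,[.code],[.code,.edge 1098 false,.edge 1101 false]⟩,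
⟨460,11,33,0,true,[],[.edge 1102 false]⟩,
⟨790,11,5,1,true,[.edge 1095 false],[.code,.edge 1103 false]⟩,
⟨2,49,31,0,true,[],[.edge 1104 false]⟩,
⟨2,56,32,0,true,[],[.edge 1105 false]⟩,
⟨796,11,16,6,true,[.code,.edge 1103 false,.code,.edge 1106 false,.edge 1092 false,.code],[.code,.edge 1079 false,.code,.edge 994 false]⟩,
⟨34,26,33,0,true,[],[.edge 1107 false]⟩,
⟨46,40,33,0,true,[],[.edge 1108 true]⟩,
⟨806,11,16,6,true,[.code,.edge 1098 false,.code,.edge 1101 false,.edge 1106 false,.code],[.code,.edge 1079 false,.code,.edge 994 false]⟩,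
⟨34,49,33,0,true,[],[.edge 1110 false]⟩,
⟨384,15,32,0,true,[],[.edge 60 false]⟩,
⟨0,61,31,0,true,[],[.edge 1112 false]⟩,
⟨826,11,29,9,true,[.code,.edge 913 false,.code,.edge 820 false,.code,.edge 673 false,.code,.edge 1112 false,.code],[.code,.edge 1079 false,.code,.edge 903 false,.code,.edge 988 false,.code,.edge 989 false,.code]⟩,
⟨384,61,32,0,true,[],[.edge 1114 false]⟩,
⟨480,11,31,0,true,[],[.edge 1115 false]⟩,
⟨520,11,33,0,true,[],[.edge 61 false]⟩,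
⟨0,62,33,0,true,[],[.edge 1117 true]⟩,
⟨4,62,33,0,true,[],[.edge 62 false]⟩,
⟨2,63,33,0,true,[],[.edge 63 false]⟩,
⟨827,11,29,7,true,[.code,.edge 1117 false,.code,.edge 1119 false,.code,.edge 1120 false,.code],[.code,.edge 1079 false,.code,.edge 903 false,.code,.edge 1079 false,.code,.edge 1078 false,.code,.edge 1116 false,.code]⟩,
⟨480,64,32,0,true,[],[.edge 1121 false]⟩,
⟨2,61,31,0,true,[],[.edge 1122 false]⟩,
⟨548,11,33,0,true,[],[.edge 64 false]⟩,
⟨4,65,33,0,true,[],[.edge 65 false]⟩,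
⟨2,66,33,0,true,[],[.edge 66 false]⟩,
⟨832,11,29,7,true,[.code,.edge 1124 false,.code,.edge 1125 false,.code,.edge 1126 false,.code],[.code,.edge 1079 false,.code,.edge 903 false,.code,.edge 632 false,.code,.edge 633 false,.code,.edge 1116 false,.code]⟩,
⟨480,67,32,0,true,[],[.edge 1127 false]⟩,
⟨480,61,31,0,true,[],[.edge 1128 false]⟩,
⟨544,11,33,0,true,[],[.edge 67 false]⟩,
⟨0,68,33,0,true,[],[.edge 1130 true]⟩,
⟨4,68,33,0,true,[],[.edge 68 false]⟩,
⟨2,69,33,0,true,[],[.edge 69 false]⟩,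
⟨833,11,29,7,true,[.code,.edge 1130 false,.code,.edge 1132 false,.code,.edge 1133 false,.code],[.code,.edge 1079 false,.code,.edge 903 false,.code,.edge 790 false,.code,.edge 789 false,.code,.edge 1116 false,.code]⟩,
⟨480,70,32,0,true,[],[.edge 1134 false]⟩,
⟨482,61,31,0,true,[],[.edge 1135 false]⟩,
⟨864,11,0,1,true,[.edge 1116 false],[.edge 987 false]⟩,
⟨384,61,31,0,true,[],[.edge 1137 false]⟩,
⟨482,27,32,0,true,[],[.edge 1138 false]⟩,
⟨864,11,1,3,false,[.code,.edge 1116 false,.code],[.code,.edge 1064 false]⟩,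
⟨0,61,30,0,false,[],[.eqn 1140 false]⟩]

/-- Deductions. -/
def c4_8 : List Step := [
⟨514,59,31,0,true,[],[.eqn 1141 true,.edge 1113 false]⟩,
⟨512,59,31,0,true,[],[.eqn 1141 true,.edge 1123 false]⟩,
⟨2,59,31,0,true,[],[.eqn 1141 true,.edge 1138 false]⟩,
⟨480,59,31,0,true,[],[.eqn 1141 true,.edge 1129 false]⟩,
⟨482,59,31,0,true,[],[.eqn 1141 true,.edge 1136 false]⟩,
⟨2,59,32,0,true,[],[.eqn 1141 true,.edge 1115 false]⟩,
⟨866,11,0,1,true,[.edge 904 false],[.edge 1064 false]⟩,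
⟨480,27,31,0,true,[],[.edge 1148 false]⟩,
⟨0,59,32,0,true,[],[.edge 1149 false]⟩,
⟨868,11,25,5,true,[.edge 1064 false,.edge 1150 false,.code,.edge 1089 false,.code],[.edge 1064 false,.code,.edge 1150 false,.code,.edge 1088 false]⟩,
⟨2,50,31,0,true,[],[.edge 1151 false]⟩,
⟨2,53,32,0,true,[],[.edge 1152 false]⟩,
⟨388,11,33,0,true,[],[.edge 70 false]⟩,
⟨0,71,33,0,true,[],[.edge 1154 true]⟩,
⟨4,71,33,0,true,[],[.edge 71 false]⟩,
⟨0,72,33,0,true,[],[.edge 1156 true]⟩,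
⟨2,72,33,0,true,[],[.edge 72 false]⟩,
⟨880,11,29,7,true,[.code,.edge 1154 false,.code,.edge 1156 false,.code,.edge 1158 false,.code],[.code,.edge 987 false,.code,.edge 1086 false,.code,.edge 898 false,.code,.edge 897 false,.code,.edge 1075 false,.code]⟩,
⟨480,73,32,0,true,[],[.edge 1159 false]⟩,
⟨512,40,31,0,true,[],[.edge 1160 false]⟩,
⟨384,11,33,0,true,[],[.edge 73 false]⟩,
⟨4,74,33,0,true,[],[.edge 74 false]⟩,
⟨2,75,33,0,true,[],[.edge 75 false]⟩,
⟨0,76,33,0,true,[],[.edge 1164 true]⟩,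
⟨881,11,29,7,true,[.code,.edge 1162 false,.code,.edge 1163 false,.code,.edge 1164 false,.code],[.code,.edge 987 false,.code,.edge 1086 false,.code,.edge 857 false,.eqn 869 false,.code,.edge 870 false,.code,.edge 1075 false,.code]⟩,
⟨480,76,32,0,true,[],[.edge 1166 false]⟩,
⟨514,40,31,0,true,[],[.edge 1167 false]⟩,
⟨420,11,33,0,true,[],[.edge 76 false]⟩,
⟨4,77,33,0,true,[],[.edge 77 false]⟩,
⟨2,78,33,0,true,[],[.edge 78 false]⟩,
⟨0,79,33,0,true,[],[.edge 1171 true]⟩,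
⟨914,11,29,7,true,[.code,.edge 1169 false,.code,.edge 1170 false,.code,.edge 1171 false,.code],[.code,.edge 890 false,.eqn 965 false,.code,.edge 857 false,.eqn 869 false,.code,.edge 894 false,.code,.edge 892 false,.code,.edge 909 false,.code]⟩,
⟨480,79,32,0,true,[],[.edge 1173 false]⟩,
⟨544,25,31,0,true,[],[.edge 1174 false]⟩,
⟨416,11,33,0,true,[],[.edge 79 false]⟩,
⟨4,80,33,0,true,[],[.edge 80 false]⟩,
⟨2,81,33,0,true,[],[.edge 81 false]⟩,
⟨0,82,33,0,true,[],[.edge 1178 true]⟩,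
⟨915,11,29,7,true,[.code,.edge 1176 false,.code,.edge 1177 false,.code,.edge 1178 false,.code],[.code,.edge 890 false,.eqn 965 false,.code,.edge 857 false,.eqn 869 false,.code,.edge 868 false,.eqn 887 false,.code,.edge 888 false,.code,.edge 909 false,.code]⟩,
⟨480,82,32,0,true,[],[.edge 1180 false]⟩,
⟨546,25,31,0,true,[],[.edge 1181 false]⟩,
⟨452,11,33,0,true,[],[.edge 82 false]⟩,
⟨0,83,33,0,true,[],[.edge 1183 true]⟩,
⟨4,83,33,0,true,[],[.edge 83 false]⟩,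
⟨2,84,33,0,true,[],[.edge 84 false]⟩,
⟨930,11,29,7,true,[.code,.edge 1183 false,.code,.edge 1185 false,.code,.edge 1186 false,.code],[.code,.edge 857 false,.eqn 869 false,.code,.edge 868 false,.eqn 887 false,.code,.edge 890 false,.eqn 965 false,.code,.edge 963 false,.eqn 965 false,.code,.edge 889 false,.code]⟩,
⟨480,85,32,0,true,[],[.edge 1187 false]⟩,
⟨512,25,31,0,true,[],[.edge 1188 false]⟩,
⟨932,11,4,2,true,[.edge 1053 false,.edge 943 false],[.code]⟩,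
⟨74,31,33,0,true,[],[.edge 1190 false]⟩,
⟨642,11,33,0,true,[],[.edge 1191 true]⟩,
⟨454,11,33,0,true,[],[.edge 85 false]⟩,
⟨4,86,33,0,true,[],[.edge 86 false]⟩,
⟨932,11,29,5,true,[.code,.edge 1193 false,.code,.edge 1194 false,.code],[.code,.edge 857 false,.eqn 869 false,.code,.edge 377 false,.code,.edge 545 false,.code,.edge 468 false,.code,.edge 535 false,.code,.edge 870 false,.code]⟩,
⟨2,87,33,0,true,[],[.edge 1195 false]⟩,
⟨580,11,33,0,true,[],[.edge 1196 true]⟩,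
⟨450,11,33,0,true,[],[.edge 87 false]⟩,
⟨4,88,33,0,true,[],[.edge 88 false]⟩,
⟨942,11,21,8,true,[.code,.edge 935 false,.code,.edge 726 false,.code,.edge 725 false,.edge 1036 false,.code],[.edge 1117 false,.code]⟩,
⟨10,53,33,0,true,[],[.edge 1200 false]⟩,
⟨10,62,33,0,true,[],[.edge 1201 true]⟩,
⟨946,11,14,3,true,[.code,.edge 1192 false,.code],[.code,.edge 932 false,.code]⟩,
⟨42,31,33,0,true,[],[.edge 1203 false]⟩,
⟨72,12,33,0,true,[],[.edge 1204 true]⟩,
⟨948,11,14,1,true,[.code],[.code,.edge 1117 false,.code,.edge 1202 false,.code]⟩,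
⟨648,11,33,0,true,[],[.edge 1206 false]⟩,
⟨42,53,33,0,true,[],[.edge 1207 true]⟩,
⟨2,88,33,0,true,[],[.edge 89 false]⟩,
⟨949,11,29,5,true,[.code,.edge 1198 false,.code,.edge 1209 false,.code],[.code,.edge 857 false,.eqn 869 false,.code,.edge 624 false,.code,.edge 894 false,.code,.edge 892 false,.code,.edge 468 false,.code,.edge 535 false,.code]⟩,
⟨2,90,33,0,true,[],[.edge 1210 false]⟩,
⟨712,3,33,0,true,[],[.edge 1211 true]⟩,
⟨392,3,33,0,true,[],[.eqn 466 true,.edge 1212 false]⟩,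
⟨616,3,33,0,true,[],[.eqn 466 true,.edge 1213 false]⟩,
⟨462,11,33,0,true,[],[.edge 90 false]⟩,
⟨4,91,33,0,true,[],[.edge 91 false]⟩,
⟨2,92,33,0,true,[],[.edge 92 false]⟩,
⟨0,93,33,0,true,[],[.edge 1217 true]⟩,
⟨956,11,29,7,true,[.code,.edge 1215 false,.code,.edge 1216 false,.code,.edge 1217 false,.code],[.code,.edge 898 false,.code,.edge 884 false,.code,.edge 945 false,.code,.edge 944 false,.code,.edge 954 false,.code]⟩,
⟨480,93,32,0,true,[],[.edge 1219 false]⟩,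
⟨546,31,31,0,true,[],[.edge 1220 false]⟩,
⟨14,91,33,0,true,[],[.edge 93 false]⟩,
⟨458,11,33,0,true,[],[.edge 94 false]⟩,
⟨4,95,33,0,true,[],[.edge 95 false]⟩,
⟨2,96,33,0,true,[],[.edge 96 false]⟩,
⟨959,11,29,7,true,[.code,.edge 1223 false,.code,.edge 1224 false,.code,.edge 1225 false,.code],[.code,.edge 857 false,.eqn 869 false,.code,.edge 872 false,.eqn 887 false,.code,.edge 790 false,.code,.edge 789 false,.code,.edge 889 false,.code]⟩,
⟨480,97,32,0,true,[],[.edge 1226 false]⟩,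
⟨514,25,31,0,true,[],[.edge 1227 false]⟩,
⟨614,11,33,0,true,[],[.edge 97 false]⟩,
⟨4,98,33,0,true,[],[.edge 98 false]⟩,
⟨2,99,33,0,true,[],[.edge 99 false]⟩,
⟨966,11,29,7,true,[.code,.edge 1229 false,.code,.edge 1230 false,.code,.edge 1231 false,.code],[.code,.edge 987 false,.code,.edge 1086 false,.code,.edge 790 false,.code,.edge 789 false,.code,.edge 1075 false,.code]⟩,
⟨480,100,32,0,true,[],[.edge 1232 false]⟩,
⟨546,40,31,0,true,[],[.edge 1233 false]⟩,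
⟨610,11,33,0,true,[],[.edge 100 false]⟩,
⟨4,101,33,0,true,[],[.edge 101 false]⟩,
⟨0,102,33,0,true,[],[.edge 1236 true]⟩,
⟨2,102,33,0,true,[],[.edge 102 false]⟩,
⟨0,103,33,0,true,[],[.edge 1238 true]⟩,
⟨967,11,29,7,true,[.code,.edge 1235 false,.code,.edge 1236 false,.code,.edge 1238 false,.code],[.code,.edge 987 false,.code,.edge 1086 false,.code,.edge 632 false,.code,.edge 633 false,.code,.edge 1075 false,.code]⟩,
⟨480,103,32,0,true,[],[.edge 1240 false]⟩]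

/-- Deductions. -/
def c4_9 : List Step := [
⟨544,40,31,0,true,[],[.edge 1241 false]⟩,
⟨974,11,25,5,true,[.edge 1064 false,.edge 1150 false,.code,.edge 1088 false,.code],[.edge 1064 false,.code,.edge 1150 false,.code,.edge 1087 false]⟩,
⟨2,53,31,0,true,[],[.edge 1243 false]⟩,
⟨2,28,32,0,true,[],[.edge 1244 false]⟩,
⟨978,11,16,1,true,[.code],[.code,.edge 1064 false,.code,.edge 1150 false,.edge 1089 false,.code,.edge 1152 false,.edge 1244 false,.code]⟩,
⟨584,11,33,0,true,[],[.edge 1246 false]⟩,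
⟨34,28,33,0,true,[],[.edge 1247 true]⟩,
⟨979,11,7,1,true,[.code],[.code,.edge 1247 false,.edge 1245 false]⟩,
⟨686,11,33,0,true,[],[.edge 1249 false]⟩,
⟨979,11,13,3,true,[.code,.edge 1250 false,.edge 1153 false],[.code]⟩,
⟨34,50,33,0,true,[],[.edge 1251 false]⟩,
⟨484,11,33,0,true,[],[.edge 1252 true]⟩,
⟨984,11,3,2,true,[.edge 1064 false,.code],[.edge 1250 false,.edge 1153 false,.code]⟩,
⟨10,59,33,0,true,[],[.edge 1254 false]⟩,
⟨984,11,24,6,true,[.code,.edge 1064 false,.edge 1150 false,.code,.edge 1087 false,.code],[.edge 1250 false,.edge 1153 false,.code]⟩,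
⟨2,28,31,0,true,[],[.edge 1256 false]⟩,
⟨2,50,32,0,true,[],[.edge 1257 false]⟩,
⟨984,11,27,5,true,[.code,.edge 1064 false,.code,.edge 1255 false,.edge 1152 false],[.code,.edge 1064 false]⟩,
⟨66,53,33,0,true,[],[.edge 1259 false]⟩,
⟨576,11,33,0,true,[],[.edge 103 false]⟩,
⟨4,104,33,0,true,[],[.edge 104 false]⟩,
⟨0,105,33,0,true,[],[.edge 1262 true]⟩,
⟨995,11,29,5,true,[.code,.edge 1261 false,.code,.edge 1262 false,.code],[.code,.edge 857 false,.eqn 869 false,.code,.edge 624 false,.code,.edge 895 false,.code,.edge 892 false,.code,.edge 468 false,.code,.edge 543 false,.code]⟩,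
⟨2,105,33,0,true,[],[.edge 1264 false]⟩,
⟨716,3,33,0,true,[],[.edge 1265 true]⟩,
⟨396,3,33,0,true,[],[.eqn 466 true,.edge 1266 false]⟩,
⟨620,3,33,0,true,[],[.eqn 466 true,.edge 1267 false]⟩,
⟨996,11,14,3,true,[.code,.edge 1117 false,.code],[.code,.edge 938 false,.code]⟩,
⟨76,62,33,0,true,[],[.edge 1269 false]⟩,
⟨72,18,33,0,true,[],[.edge 1270 true]⟩,
⟨2,104,33,0,true,[],[.edge 105 false]⟩,
⟨1011,11,29,5,true,[.code,.edge 1261 false,.code,.edge 1272 false,.code],[.code,.edge 857 false,.eqn 869 false,.code,.edge 377 false,.code,.edge 536 false,.code,.edge 468 false,.code,.edge 535 false,.code,.edge 909 false,.code]⟩,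
⟨2,106,33,0,true,[],[.edge 1273 false]⟩,
⟨582,11,33,0,true,[],[.edge 106 false]⟩,
⟨1012,11,29,3,true,[.code,.edge 1275 false,.code],[.code,.edge 857 false,.eqn 869 false,.code,.edge 872 false,.eqn 887 false,.code,.edge 890 false,.eqn 965 false,.code,.edge 963 false,.eqn 965 false,.code,.edge 889 false,.code,.edge 1182 false,.code,.edge 1179 false,.code]⟩,
⟨4,107,33,0,true,[],[.edge 1276 false]⟩,
⟨586,11,33,0,true,[],[.edge 107 false]⟩,
⟨4,108,33,0,true,[],[.edge 108 false]⟩,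
⟨2,109,33,0,true,[],[.edge 109 false]⟩,
⟨1021,11,29,7,true,[.code,.edge 1278 false,.code,.edge 1279 false,.code,.edge 1280 false,.code],[.code,.edge 898 false,.code,.edge 884 false,.code,.edge 943 false,.code,.edge 944 false,.code,.edge 952 false,.code]⟩,
⟨480,110,32,0,true,[],[.edge 1281 false]⟩,
⟨512,31,31,0,true,[],[.edge 1282 false]⟩,
⟨590,11,33,0,true,[],[.edge 110 false]⟩,
⟨8,108,33,0,true,[],[.edge 111 false]⟩,
⟨1023,11,29,5,true,[.code,.edge 1278 false,.code,.edge 1285 false,.code],[.code,.edge 857 false,.eqn 869 false,.code,.edge 868 false,.eqn 887 false,.code,.edge 790 false,.code,.edge 789 false,.code,.edge 889 false,.code,.edge 1182 false,.code]⟩,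
⟨2,112,33,0,true,[],[.edge 1286 false]⟩,
⟨552,82,33,0,true,[],[.edge 1287 true]⟩,
⟨70,16,33,0,true,[],[.edge 112 false]⟩,
⟨0,113,33,0,true,[],[.edge 1289 true]⟩,
⟨2,113,33,0,true,[],[.edge 113 false]⟩,
⟨1026,11,29,7,true,[.code,.edge 935 false,.code,.edge 1289 false,.code,.edge 1291 false,.code],[.code,.edge 890 false,.eqn 965 false,.code,.edge 987 false,.code,.edge 1086 false,.code,.edge 923 false,.eqn 1084 false,.code,.edge 1149 false,.code]⟩,
⟨480,114,32,0,true,[],[.edge 1292 false]⟩,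
⟨544,59,31,0,true,[],[.edge 1293 false]⟩,
⟨640,11,33,0,true,[],[.edge 114 false]⟩,
⟨4,115,33,0,true,[],[.edge 115 false]⟩,
⟨2,116,33,0,true,[],[.edge 116 false]⟩,
⟨1027,11,29,7,true,[.code,.edge 1295 false,.code,.edge 1296 false,.code,.edge 1297 false,.code],[.code,.edge 890 false,.eqn 965 false,.code,.edge 987 false,.code,.edge 994 false,.code,.edge 993 false,.code,.edge 1149 false,.code]⟩,
⟨480,117,32,0,true,[],[.edge 1298 false]⟩,
⟨546,59,31,0,true,[],[.edge 1299 false]⟩,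
⟨652,11,33,0,true,[],[.edge 117 false]⟩,
⟨4,118,33,0,true,[],[.edge 118 false]⟩,
⟨2,119,33,0,true,[],[.edge 119 false]⟩,
⟨1032,11,29,7,true,[.code,.edge 1301 false,.code,.edge 1302 false,.code,.edge 1303 false,.code],[.code,.edge 890 false,.eqn 965 false,.code,.edge 632 false,.code,.edge 1112 false,.eqn 1141 false,.code,.edge 1142 false,.code,.edge 804 false,.code]⟩,
⟨480,120,32,0,true,[],[.edge 1304 false]⟩,
⟨384,13,31,0,true,[],[.edge 1305 false]⟩,
⟨546,59,32,0,true,[],[.edge 120 false]⟩,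
⟨0,121,31,0,true,[],[.edge 1307 false]⟩,
⟨38,14,33,0,true,[],[.edge 121 false]⟩,
⟨0,122,33,0,true,[],[.edge 1309 true]⟩,
⟨2,122,33,0,true,[],[.edge 122 false]⟩,
⟨1044,11,29,7,true,[.code,.edge 917 false,.code,.edge 1309 false,.code,.edge 1311 false,.code],[.code,.edge 890 false,.eqn 965 false,.code,.edge 1079 false,.code,.edge 903 false,.code,.edge 904 false,.code,.edge 1085 false,.code]⟩,
⟨480,123,32,0,true,[],[.edge 1312 false]⟩,
⟨72,31,33,0,true,[],[.edge 123 false]⟩,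
⟨2,124,33,0,true,[],[.edge 124 false]⟩,
⟨1045,11,29,7,true,[.code,.edge 1192 false,.code,.edge 1314 false,.code,.edge 1315 false,.code],[.code,.edge 890 false,.eqn 965 false,.code,.edge 1079 false,.code,.edge 1139 false,.eqn 1141 false,.code,.edge 1144 false,.code,.edge 1085 false,.code]⟩,
⟨480,125,32,0,true,[],[.edge 1316 false]⟩,
⟨384,40,31,0,true,[],[.edge 1317 false]⟩,
⟨716,11,33,0,true,[],[.edge 125 false]⟩,
⟨4,126,33,0,true,[],[.edge 126 false]⟩,
⟨1067,11,29,7,true,[.code,.edge 938 false,.code,.edge 816 false,.code,.edge 750 false,.code],[.code,.edge 987 false,.code,.edge 1086 false,.code,.edge 1064 false,.code,.edge 1059 false,.eqn 1061 false,.code,.edge 1075 false,.code]⟩,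
⟨384,13,32,0,true,[],[.edge 1321 false]⟩,
⟨482,40,31,0,true,[],[.edge 1322 false]⟩,
⟨1092,11,3,4,true,[.edge 890 false,.eqn 965 false,.code,.edge 1130 false,.code],[.edge 1235 false]⟩,
⟨0,68,31,0,true,[],[.edge 1324 false]⟩,
⟨0,101,32,0,true,[],[.edge 1325 false]⟩,
⟨1092,11,4,2,true,[.edge 1235 false,.edge 1326 false],[.code]⟩,
⟨64,68,33,0,true,[],[.edge 1327 false]⟩,
⟨738,11,33,0,true,[],[.edge 1328 true]⟩,
⟨1092,11,27,5,true,[.code,.edge 890 false,.eqn 965 false,.code,.edge 1130 false,.edge 1325 false],[.code,.edge 890 false,.eqn 965 false]⟩,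
⟨32,101,33,0,true,[],[.edge 1330 false]⟩,
⟨736,11,33,0,true,[],[.edge 1331 true]⟩,
⟨678,11,33,0,true,[],[.edge 127 false]⟩,
⟨4,128,33,0,true,[],[.edge 128 false]⟩,
⟨674,11,33,0,true,[],[.edge 129 false]⟩,
⟨0,130,33,0,true,[],[.edge 1335 true]⟩,
⟨544,118,32,0,true,[],[.edge 130 false]⟩,
⟨0,131,31,0,true,[],[.edge 1337 false]⟩,
⟨384,131,32,0,true,[],[.edge 131 false]⟩,
⟨0,132,31,0,true,[],[.edge 1339 false]⟩,
⟨384,132,32,0,true,[],[.edge 132 false]⟩]

/-- Deductions. -/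
def c4_10 : List Step := [
⟨0,133,31,0,true,[],[.edge 1341 false]⟩,
⟨1102,11,29,14,false,[.code,.edge 1250 false,.code,.edge 1208 false,.code,.edge 1301 false,.code,.edge 1337 false,.code,.edge 1339 false,.code,.edge 1341 false,.code,.edge 1342 false],[.code,.edge 890 false,.eqn 965 false,.code,.edge 1064 false,.code]⟩,
⟨0,132,30,0,false,[],[.eqn 1343 false]⟩,
⟨2,59,31,0,true,[],[.eqn 1344 true,.edge 1340 false]⟩,
⟨828,131,32,0,false,[],[.edge 1345 false,.edge 1144 false]⟩,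
⟨386,59,32,0,true,[],[.eqn 1344 true,.edge 1341 false]⟩,
⟨0,131,30,0,false,[],[.eqn 1346 false]⟩,
⟨544,27,31,0,true,[],[.eqn 1348 true,.edge 1338 false]⟩,
⟨44,53,33,0,true,[],[.edge 133 false]⟩,
⟨2,134,33,0,true,[],[.edge 134 false]⟩,
⟨1118,11,29,7,true,[.code,.edge 1250 false,.code,.edge 1350 false,.code,.edge 1351 false,.code],[.code,.edge 890 false,.eqn 965 false,.code,.edge 987 false,.code,.edge 999 false,.code,.edge 998 false,.code,.edge 1149 false,.code]⟩,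
⟨480,135,32,0,true,[],[.edge 1352 false]⟩,
⟨384,59,31,0,true,[],[.edge 1353 false]⟩,
⟨1120,11,21,8,true,[.code,.edge 911 false,.code,.edge 716 false,.code,.edge 717 false,.edge 1018 false,.code],[.edge 1295 false,.code]⟩,
⟨10,49,33,0,true,[],[.edge 1355 false]⟩,
⟨10,115,33,0,true,[],[.edge 1356 true]⟩,
⟨740,11,33,0,true,[],[.edge 135 false]⟩,
⟨4,136,33,0,true,[],[.edge 136 false]⟩,
⟨2,137,33,0,true,[],[.edge 137 false]⟩,
⟨1122,11,29,7,true,[.code,.edge 1358 false,.code,.edge 1359 false,.code,.edge 1360 false,.code],[.code,.edge 857 false,.eqn 869 false,.code,.edge 872 false,.eqn 887 false,.code,.edge 988 false,.code,.edge 989 false,.code,.edge 889 false,.code]⟩,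
⟨480,138,32,0,true,[],[.edge 1361 false]⟩,
⟨482,25,31,0,true,[],[.edge 1362 false]⟩,
⟨40,101,33,0,true,[],[.edge 138 false]⟩,
⟨2,139,33,0,true,[],[.edge 139 false]⟩,
⟨1123,11,29,7,true,[.code,.edge 1332 false,.code,.edge 1364 false,.code,.edge 1365 false,.code],[.code,.edge 857 false,.eqn 869 false,.code,.edge 872 false,.eqn 887 false,.code,.edge 1079 false,.code,.edge 1078 false,.code,.edge 889 false,.code]⟩,
⟨480,140,32,0,true,[],[.edge 1366 false]⟩,
⟨480,25,31,0,true,[],[.edge 1367 false]⟩,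
⟨1124,11,14,5,false,[.code,.edge 938 false,.code,.edge 1050 false,.eqn 1068 false,.code],[.code,.edge 1207 false]⟩,
⟨0,53,30,0,false,[],[.eqn 1369 true]⟩,
⟨386,26,31,0,true,[],[.eqn 1370 true,.edge 1244 false]⟩,
⟨386,26,32,0,true,[],[.eqn 1370 true,.edge 1153 false]⟩,
⟨390,26,33,0,true,[],[.eqn 1370 true,.edge 1201 false]⟩,
⟨428,26,33,0,true,[],[.eqn 1370 true,.edge 1208 false]⟩,
⟨426,26,33,0,true,[],[.eqn 1370 true,.edge 1350 false]⟩,
⟨456,26,33,0,true,[],[.eqn 1370 true,.edge 1260 false]⟩,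
⟨1130,11,14,1,true,[.code],[.code,.edge 1295 false,.code,.edge 1357 false,.code]⟩,
⟨710,11,33,0,true,[],[.edge 1377 false]⟩,
⟨1132,11,4,1,true,[.edge 1301 false],[.code,.edge 1378 false]⟩,
⟨0,118,32,0,true,[],[.edge 1379 false]⟩,
⟨0,49,31,0,true,[],[.edge 1380 false]⟩,
⟨1132,11,14,3,true,[.code,.edge 1319 false,.code],[.code,.edge 917 false,.code]⟩,
⟨76,126,33,0,true,[],[.edge 1382 false]⟩,
⟨40,14,33,0,true,[],[.edge 1383 true]⟩,
⟨750,11,33,0,true,[],[.edge 140 false]⟩,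
⟨4,141,33,0,true,[],[.edge 141 false]⟩,
⟨2,142,33,0,true,[],[.edge 142 false]⟩,
⟨1134,11,29,7,true,[.code,.edge 1385 false,.code,.edge 1386 false,.code,.edge 1387 false,.code],[.code,.edge 857 false,.eqn 869 false,.code,.edge 377 false,.code,.edge 552 false,.code,.edge 468 false,.code,.edge 534 false,.code]⟩,
⟨480,143,32,0,true,[],[.edge 1388 false]⟩,
⟨0,3,31,0,true,[],[.edge 1389 false]⟩,
⟨746,11,33,0,true,[],[.edge 143 false]⟩,
⟨4,144,33,0,true,[],[.edge 144 false]⟩,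
⟨2,145,33,0,true,[],[.edge 145 false]⟩,
⟨1135,11,29,7,true,[.code,.edge 1391 false,.code,.edge 1392 false,.code,.edge 1393 false,.code],[.code,.edge 857 false,.eqn 869 false,.code,.edge 377 false,.code,.edge 551 false,.code,.edge 468 false,.code,.edge 535 false,.code]⟩,
⟨480,146,32,0,true,[],[.edge 1394 false]⟩,
⟨2,3,31,0,true,[],[.edge 1395 false]⟩,
⟨742,11,33,0,true,[],[.edge 146 false]⟩,
⟨78,68,33,0,true,[],[.edge 147 false]⟩,
⟨1141,11,29,5,true,[.code,.edge 1329 false,.code,.edge 1398 false,.code],[.code,.edge 857 false,.eqn 869 false,.code,.edge 868 false,.eqn 887 false,.code,.edge 987 false,.code,.edge 986 false,.code,.edge 889 false,.code,.edge 1363 false,.code]⟩,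
⟨2,148,33,0,true,[],[.edge 1399 false]⟩,
⟨8,141,33,0,true,[],[.edge 148 false]⟩,
⟨2,149,33,0,true,[],[.edge 149 false]⟩,
⟨1148,11,29,7,true,[.code,.edge 1385 false,.code,.edge 1401 false,.code,.edge 1402 false,.code],[.code,.edge 898 false,.code,.edge 884 false,.code,.edge 514 false,.code,.edge 513 false,.code,.edge 952 false,.code]⟩,
⟨480,150,32,0,true,[],[.edge 1403 false]⟩,
⟨482,31,31,0,true,[],[.edge 1404 false]⟩,
⟨14,144,33,0,true,[],[.edge 150 false]⟩,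
⟨2,151,33,0,true,[],[.edge 151 false]⟩,
⟨1149,11,29,7,true,[.code,.edge 1391 false,.code,.edge 1406 false,.code,.edge 1407 false,.code],[.code,.edge 898 false,.code,.edge 884 false,.code,.edge 758 false,.code,.edge 757 false,.code,.edge 952 false,.code]⟩,
⟨480,152,32,0,true,[],[.edge 1408 false]⟩,
⟨480,31,31,0,true,[],[.edge 1409 false]⟩,
⟨1152,11,5,1,true,[.edge 1176 false],[.code,.edge 1162 false]⟩,
⟨0,80,31,0,true,[],[.edge 1411 false]⟩,
⟨0,74,32,0,true,[],[.edge 1412 false]⟩,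
⟨1152,11,14,3,true,[.code,.edge 1223 false,.code],[.code,.edge 1098 false,.code]⟩,
⟨76,95,33,0,true,[],[.edge 1414 false]⟩,
⟨72,26,33,0,true,[],[.edge 1415 true]⟩,
⟨482,115,32,0,true,[],[.edge 152 false]⟩,
⟨0,153,31,0,true,[],[.edge 1417 false]⟩,
⟨384,153,32,0,true,[],[.edge 153 false]⟩,
⟨0,154,31,0,true,[],[.edge 1419 false]⟩,
⟨384,154,32,0,true,[],[.edge 154 false]⟩,
⟨0,155,31,0,true,[],[.edge 1421 false]⟩,
⟨1152,11,29,14,false,[.code,.edge 1250 false,.eqn 1370 false,.code,.edge 1374 false,.code,.edge 1295 false,.code,.edge 1417 false,.code,.edge 1419 false,.code,.edge 1421 false,.code,.edge 1422 false],[.code,.edge 1079 false,.code,.edge 999 false,.code]⟩,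
⟨0,154,30,0,false,[],[.eqn 1423 false]⟩,
⟨0,31,31,0,true,[],[.eqn 1424 true,.edge 1420 false]⟩,
⟨849,153,32,0,false,[],[.edge 1425 false,.edge 944 false]⟩,
⟨482,31,32,0,true,[],[.eqn 1424 true,.edge 1421 false]⟩,
⟨0,153,30,0,false,[],[.eqn 1426 false]⟩,
⟨544,10,31,0,true,[],[.eqn 1428 true,.edge 1418 false]⟩,
⟨1759,115,32,0,false,[],[.edge 1429 false,.edge 954 false]⟩,
⟨0,115,30,0,false,[],[.eqn 1430 false]⟩,
⟨482,59,32,0,true,[],[.edge 155 false]⟩,
⟨0,156,31,0,true,[],[.edge 1432 false]⟩,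
⟨384,156,32,0,true,[],[.edge 156 false]⟩,
⟨0,157,31,0,true,[],[.edge 1434 false]⟩,
⟨1154,11,29,15,true,[.code,.edge 1250 false,.eqn 1370 false,.code,.edge 1069 false,.code,.edge 843 false,.code,.edge 1112 false,.eqn 1141 false,.code,.edge 1432 false,.code,.edge 1434 false,.code,.edge 1435 false,.code],[.code,.edge 988 false,.code]⟩,
⟨2,156,31,0,true,[],[.edge 1436 false]⟩,
⟨544,40,32,0,true,[],[.edge 1437 false]⟩,
⟨1156,11,12,2,true,[.code,.edge 1154 false],[.code,.edge 1215 false]⟩,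
⟨0,71,31,0,true,[],[.edge 1439 false]⟩,
⟨0,91,32,0,true,[],[.edge 1440 false]⟩]

/-- Deductions. -/
def c4_11 : List Step := [
⟨1156,11,14,3,true,[.code,.edge 1215 false,.code],[.code,.edge 1169 false,.code]⟩,
⟨76,91,33,0,true,[],[.edge 1442 false]⟩,
⟨1163,11,29,3,true,[.code,.edge 1335 false,.code],[.code,.edge 1079 false,.code,.edge 1139 false,.eqn 1141 false,.code,.edge 1347 false,.code,.edge 1342 false,.eqn 1344 false,.code,.edge 1059 false,.eqn 1061 false,.code,.edge 888 false,.code,.edge 1212 false,.code]⟩,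
⟨8,130,33,0,true,[],[.edge 1444 false]⟩,
⟨12,90,33,0,true,[],[.edge 1445 true]⟩,
⟨684,11,33,0,true,[],[.edge 157 false]⟩,
⟨4,158,33,0,true,[],[.edge 158 false]⟩,
⟨2,159,33,0,true,[],[.edge 159 false]⟩,
⟨1178,11,29,7,true,[.code,.edge 1447 false,.code,.edge 1448 false,.code,.edge 1449 false,.code],[.code,.edge 1079 false,.code,.edge 903 false,.code,.edge 898 false,.code,.edge 897 false,.code,.edge 1116 false,.eqn 1141 false,.code]⟩,
⟨480,160,32,0,true,[],[.edge 1450 false]⟩,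
⟨386,59,31,0,true,[],[.edge 1451 false]⟩,
⟨1186,11,14,3,true,[.code,.edge 1154 false,.code],[.code,.edge 1198 false,.code]⟩,
⟨76,71,33,0,true,[],[.edge 1453 false]⟩,
⟨10,88,33,0,true,[],[.edge 1454 true]⟩,
⟨1190,11,14,3,true,[.code,.edge 1162 false,.code],[.code,.edge 1103 false,.code]⟩,
⟨76,74,33,0,true,[],[.edge 1456 false]⟩,
⟨72,56,33,0,true,[],[.edge 1457 true]⟩,
⟨2,141,33,0,true,[],[.edge 160 false]⟩,
⟨1200,11,29,5,true,[.code,.edge 1385 false,.code,.edge 1459 false,.code],[.code,.edge 1079 false,.code,.edge 1139 false,.eqn 1141 false,.code,.edge 1432 false,.code,.edge 1433 false,.code,.edge 1059 false,.eqn 1061 false,.code,.edge 792 false,.code]⟩,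
⟨2,161,33,0,true,[],[.edge 1460 false]⟩,
⟨1216,11,3,2,true,[.edge 1079 false,.code],[.edge 1162 false,.edge 1413 false,.code]⟩,
⟨6,27,33,0,true,[],[.edge 1462 false]⟩,
⟨1216,11,27,5,true,[.code,.edge 1079 false,.code,.edge 1463 false,.edge 1412 false],[.code,.edge 1079 false]⟩,
⟨32,74,33,0,true,[],[.edge 1464 false]⟩,
⟨76,27,33,0,true,[],[.edge 1465 true]⟩,
⟨708,11,33,0,true,[],[.edge 161 false]⟩,
⟨4,162,33,0,true,[],[.edge 162 false]⟩,
⟨1248,11,13,2,true,[.code,.edge 1278 false],[.code,.edge 1447 false]⟩,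
⟨0,108,32,0,true,[],[.edge 1469 false]⟩,
⟨0,158,31,0,true,[],[.edge 1470 false]⟩,
⟨1258,11,3,2,true,[.edge 987 false,.code],[.edge 1278 false,.edge 1470 false,.code]⟩,
⟨674,27,33,0,true,[],[.edge 1472 false]⟩,
⟨1258,11,14,3,true,[.code,.edge 1333 false,.code],[.code,.edge 1261 false,.code]⟩,
⟨76,128,33,0,true,[],[.edge 1474 false]⟩,
⟨10,104,33,0,true,[],[.edge 1475 true]⟩,
⟨1258,11,27,5,true,[.code,.edge 987 false,.code,.edge 1473 false,.edge 1471 false],[.code,.edge 987 false]⟩,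
⟨32,108,33,0,true,[],[.edge 1477 false]⟩,
⟨578,27,33,0,true,[],[.edge 1478 true]⟩,
⟨8,88,33,0,true,[],[.edge 163 false]⟩,
⟨1259,11,29,5,true,[.code,.edge 1198 false,.code,.edge 1480 false,.code],[.code,.edge 987 false,.code,.edge 999 false,.code,.edge 1427 false,.code,.edge 1422 false,.eqn 1424 false,.code,.edge 944 false,.code,.edge 883 false,.code]⟩,
⟨2,164,33,0,true,[],[.edge 1481 false]⟩,
⟨1260,11,14,3,true,[.code,.edge 1447 false,.code],[.code,.edge 1275 false,.code]⟩,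
⟨76,158,33,0,true,[],[.edge 1483 false]⟩,
⟨10,107,33,0,true,[],[.edge 1484 true]⟩,
⟨448,11,33,0,true,[],[.edge 164 false]⟩,
⟨1280,11,5,2,true,[.edge 1295 false,.eqn 1431 false,.edge 998 false],[.code]⟩,
⟨612,27,33,0,true,[],[.edge 1487 false]⟩,
⟨512,11,33,0,true,[],[.edge 1488 true]⟩,
⟨1282,11,12,2,true,[.code,.edge 1117 false],[.code,.edge 1467 false]⟩,
⟨0,62,31,0,true,[],[.edge 1490 false]⟩,
⟨0,162,32,0,true,[],[.edge 1491 false]⟩,
⟨1282,11,14,3,true,[.code,.edge 1467 false,.code],[.code,.edge 1192 false,.code]⟩,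
⟨76,162,33,0,true,[],[.edge 1493 false]⟩,
⟨64,31,33,0,true,[],[.edge 1494 true]⟩,
⟨1282,11,21,6,true,[.code,.edge 1467 false,.code,.edge 1492 false,.code,.edge 1491 false],[.edge 1207 false,.eqn 1370 false,.code,.edge 1069 false,.code]⟩,
⟨70,162,33,0,true,[],[.edge 1496 false]⟩,
⟨36,18,33,0,true,[],[.edge 1497 true]⟩,
⟨430,11,33,0,true,[],[.edge 165 false]⟩,
⟨4,166,33,0,true,[],[.edge 166 false]⟩,
⟨1282,11,29,5,true,[.code,.edge 1499 false,.code,.edge 1500 false,.code],[.code,.edge 857 false,.eqn 869 false,.code,.edge 868 false,.eqn 887 false,.code,.edge 890 false,.eqn 965 false,.code,.edge 963 false,.eqn 965 false,.code,.edge 889 false,.code,.edge 1189 false,.code]⟩,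
⟨2,167,33,0,true,[],[.edge 1501 false]⟩,
⟨64,85,33,0,true,[],[.edge 1502 true]⟩,
⟨424,11,33,0,true,[],[.edge 167 false]⟩,
⟨4,168,33,0,true,[],[.edge 168 false]⟩,
⟨428,11,33,0,true,[],[.edge 169 false]⟩,
⟨4,170,33,0,true,[],[.edge 170 false]⟩,
⟨1288,11,29,5,true,[.code,.edge 1506 false,.code,.edge 1507 false,.code],[.code,.edge 857 false,.eqn 869 false,.code,.edge 377 false,.code,.edge 545 false,.code,.edge 468 false,.code,.edge 535 false,.code,.edge 870 false,.code]⟩,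
⟨2,171,33,0,true,[],[.edge 1508 false]⟩,
⟨494,11,33,0,true,[],[.edge 1509 true]⟩,
⟨418,11,33,0,true,[],[.edge 171 false]⟩,
⟨0,172,33,0,true,[],[.edge 1511 true]⟩,
⟨422,11,33,0,true,[],[.edge 172 false]⟩,
⟨4,173,33,0,true,[],[.edge 173 false]⟩,
⟨1300,11,29,5,true,[.code,.edge 1513 false,.code,.edge 1514 false,.code],[.code,.edge 857 false,.eqn 869 false,.code,.edge 872 false,.eqn 887 false,.code,.edge 790 false,.code,.edge 789 false,.code,.edge 889 false,.code,.edge 1228 false,.code]⟩,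
⟨2,174,33,0,true,[],[.edge 1515 false]⟩,
⟨64,97,33,0,true,[],[.edge 1516 true]⟩,
⟨14,168,33,0,true,[],[.edge 174 false]⟩,
⟨2,172,33,0,true,[],[.edge 175 false]⟩,
⟨0,176,33,0,true,[],[.edge 1519 true]⟩,
⟨1305,11,29,5,true,[.code,.edge 1511 false,.code,.edge 1519 false,.code],[.code,.edge 857 false,.eqn 869 false,.code,.edge 624 false,.code,.edge 894 false,.code,.edge 892 false,.code,.edge 468 false,.code,.edge 535 false,.code]⟩,
⟨2,176,33,0,true,[],[.edge 1521 false]⟩,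
⟨644,3,33,0,true,[],[.edge 1522 true]⟩,
⟨452,3,33,0,true,[],[.eqn 466 true,.edge 1523 false]⟩,
⟨548,3,33,0,true,[],[.eqn 466 true,.edge 1524 false]⟩,
⟨1316,11,12,2,true,[.code,.edge 1124 false],[.code,.edge 1385 false]⟩,
⟨0,65,31,0,true,[],[.edge 1526 false]⟩,
⟨0,141,32,0,true,[],[.edge 1527 false]⟩,
⟨1318,11,4,1,true,[.edge 1229 false],[.code,.edge 1391 false]⟩,
⟨0,98,32,0,true,[],[.edge 1529 false]⟩,
⟨386,11,33,0,true,[],[.edge 176 false]⟩,
⟨0,177,33,0,true,[],[.edge 1531 true]⟩,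
⟨4,177,33,0,true,[],[.edge 177 false]⟩,
⟨2,178,33,0,true,[],[.edge 178 false]⟩,
⟨0,179,33,0,true,[],[.edge 1534 true]⟩,
⟨1321,11,29,7,true,[.code,.edge 1531 false,.code,.edge 1533 false,.code,.edge 1534 false,.code],[.code,.edge 890 false,.eqn 965 false,.code,.edge 1064 false,.code,.edge 1432 false,.code,.edge 1433 false,.code,.edge 1144 false,.code]⟩,
⟨480,179,32,0,true,[],[.edge 1536 false]⟩,
⟨514,27,31,0,true,[],[.edge 1537 false]⟩,
⟨398,11,33,0,true,[],[.edge 179 false]⟩,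
⟨1346,11,14,3,true,[.code,.edge 1253 false,.code],[.code,.edge 1335 false,.code]⟩,
⟨14,50,33,0,true,[],[.edge 1540 false]⟩]

/-- Deductions. -/
def c4_12 : List Step := [
⟨10,130,33,0,true,[],[.edge 1541 true]⟩,
⟨1348,11,12,2,true,[.code,.edge 1197 false],[.code,.edge 1510 false]⟩,
⟨2,87,31,0,true,[],[.edge 1543 false]⟩,
⟨2,171,32,0,true,[],[.edge 1544 false]⟩,
⟨482,126,32,0,true,[],[.edge 180 false]⟩,
⟨0,181,31,0,true,[],[.edge 1546 false]⟩,
⟨384,181,32,0,true,[],[.edge 181 false]⟩,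
⟨0,182,31,0,true,[],[.edge 1548 false]⟩,
⟨384,182,32,0,true,[],[.edge 182 false]⟩,
⟨0,183,31,0,true,[],[.edge 1550 false]⟩,
⟨1358,11,29,14,false,[.code,.edge 935 false,.code,.edge 856 false,.code,.edge 1384 false,.code,.edge 1546 false,.code,.edge 1548 false,.code,.edge 1550 false,.code,.edge 1551 false],[.code,.edge 1064 false,.code,.edge 1347 false,.code]⟩,
⟨0,182,30,0,false,[],[.eqn 1552 false]⟩,
⟨2,133,31,0,true,[],[.eqn 1553 true,.edge 1549 false]⟩,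
⟨512,133,32,0,true,[],[.eqn 1553 true,.edge 1550 false]⟩,
⟨44,14,33,0,true,[],[.edge 183 false]⟩,
⟨1364,11,29,5,true,[.code,.edge 917 false,.code,.edge 1556 false,.code],[.code,.edge 1064 false,.code,.edge 1432 false,.code,.edge 1434 false,.code,.edge 1435 false,.code,.edge 1437 false,.code,.edge 1161 false,.code]⟩,
⟨2,184,33,0,true,[],[.edge 1557 false]⟩,
⟨650,11,33,0,true,[],[.edge 184 false]⟩,
⟨1378,11,14,3,true,[.code,.edge 1124 false,.code],[.code,.edge 1329 false,.code]⟩,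
⟨76,65,33,0,true,[],[.edge 1560 false]⟩,
⟨74,68,33,0,true,[],[.edge 1561 true]⟩,
⟨1380,11,3,2,true,[.edge 890 false,.eqn 965 false,.code],[.edge 1385 false,.edge 1528 false,.code]⟩,
⟨620,11,33,0,true,[],[.edge 1563 false]⟩,
⟨1380,11,15,4,true,[.code,.edge 890 false,.eqn 965 false,.edge 1397 false,.code],[.code,.edge 1385 false,.code,.edge 1528 false]⟩,
⟨0,147,31,0,true,[],[.edge 1565 false]⟩,
⟨0,65,32,0,true,[],[.edge 1566 false]⟩,
⟨1380,11,27,5,true,[.code,.edge 890 false,.eqn 965 false,.code,.edge 1564 false,.edge 1527 false],[.code,.edge 890 false,.eqn 965 false]⟩,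
⟨32,141,33,0,true,[],[.edge 1568 false]⟩,
⟨554,11,33,0,true,[],[.edge 1569 true]⟩,
⟨42,28,33,0,true,[],[.edge 185 false]⟩,
⟨0,186,33,0,true,[],[.edge 1571 true]⟩,
⟨1381,11,29,5,true,[.code,.edge 1247 false,.code,.edge 1571 false,.code],[.code,.edge 890 false,.eqn 965 false,.code,.edge 1064 false,.code,.edge 1347 false,.code,.edge 1342 false,.eqn 1344 false,.code,.edge 1144 false,.code,.edge 1349 false,.code]⟩,
⟨2,186,33,0,true,[],[.edge 1573 false]⟩,
⟨64,118,33,0,true,[],[.edge 1574 true]⟩,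
⟨1382,11,4,1,true,[.edge 1397 false],[.code,.edge 1570 false]⟩,
⟨0,147,32,0,true,[],[.edge 1576 false]⟩,
⟨0,141,31,0,true,[],[.edge 1577 false]⟩,
⟨588,11,33,0,true,[],[.edge 186 false]⟩,
⟨4,187,33,0,true,[],[.edge 187 false]⟩,
⟨1384,11,29,5,true,[.code,.edge 1579 false,.code,.edge 1580 false,.code],[.code,.edge 890 false,.eqn 965 false,.code,.edge 857 false,.eqn 869 false,.code,.edge 895 false,.code,.edge 892 false,.code,.edge 908 false,.code,.edge 1228 false,.code]⟩,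
⟨2,188,33,0,true,[],[.edge 1581 false]⟩,
⟨578,11,33,0,true,[],[.edge 188 false]⟩,
⟨1390,11,3,4,true,[.edge 890 false,.eqn 965 false,.code,.edge 1229 false,.code],[.edge 1358 false]⟩,
⟨0,98,31,0,true,[],[.edge 1584 false]⟩,
⟨0,136,32,0,true,[],[.edge 1585 false]⟩,
⟨1390,11,4,2,true,[.edge 1358 false,.edge 1586 false],[.code]⟩,
⟨64,98,33,0,true,[],[.edge 1587 false]⟩,
⟨552,11,33,0,true,[],[.edge 1588 true]⟩,
⟨1390,11,7,3,true,[.code,.edge 1385 false,.edge 1578 false],[.code]⟩,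
⟨64,147,33,0,true,[],[.edge 1590 false]⟩,
⟨616,11,33,0,true,[],[.edge 1591 true]⟩,
⟨1390,11,27,5,true,[.code,.edge 890 false,.eqn 965 false,.code,.edge 1229 false,.edge 1585 false],[.code,.edge 890 false,.eqn 965 false]⟩,
⟨32,136,33,0,true,[],[.edge 1593 false]⟩,
⟨556,11,33,0,true,[],[.edge 1594 true]⟩,
⟨1392,11,13,2,true,[.code,.edge 1391 false],[.code,.edge 1595 false]⟩,
⟨0,144,32,0,true,[],[.edge 1596 false]⟩,
⟨0,136,31,0,true,[],[.edge 1597 false]⟩,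
⟨14,106,33,0,true,[],[.edge 189 false]⟩,
⟨0,190,33,0,true,[],[.edge 1599 true]⟩,
⟨1395,11,29,7,true,[.code,.edge 1261 false,.code,.edge 1272 false,.code,.edge 1599 false,.code],[.code,.edge 890 false,.eqn 965 false,.code,.edge 988 false,.code,.edge 1438 false,.code,.edge 1437 false,.code,.edge 993 false,.code]⟩,
⟨480,190,32,0,true,[],[.edge 1601 false]⟩,
⟨512,27,31,0,true,[],[.edge 1602 false]⟩,
⟨1396,11,7,3,true,[.code,.edge 1358 false,.edge 1598 false],[.code]⟩,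
⟨64,144,33,0,true,[],[.edge 1604 false]⟩,
⟨622,11,33,0,true,[],[.edge 1605 true]⟩,
⟨1402,11,17,4,true,[.code,.edge 1332 false,.edge 1326 false,.code],[.code,.edge 1391 false,.edge 1597 false,.code,.edge 1586 false,.code]⟩,
⟨10,68,33,0,true,[],[.edge 1607 false]⟩,
⟨1404,11,14,3,true,[.code,.edge 1595 false,.code],[.code,.edge 1397 false,.code]⟩,
⟨12,136,33,0,true,[],[.edge 1609 false]⟩,
⟨10,147,33,0,true,[],[.edge 1610 true]⟩,
⟨608,11,33,0,true,[],[.edge 190 false]⟩,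
⟨1412,11,14,3,true,[.code,.edge 932 false,.code],[.code,.edge 1467 false,.code]⟩,
⟨46,12,33,0,true,[],[.edge 1613 false]⟩,
⟨10,162,33,0,true,[],[.edge 1614 true]⟩,
⟨1412,11,27,4,true,[.code,.edge 857 false,.eqn 869 false,.code,.edge 1214 false],[.code,.edge 857 false,.eqn 869 false,.edge 1525 false]⟩,
⟨2,90,31,0,true,[],[.edge 1616 false]⟩,
⟨2,176,32,0,true,[],[.edge 1617 false]⟩,
⟨1413,11,3,5,true,[.edge 857 false,.eqn 869 false,.code,.edge 1214 false,.code,.edge 1617 false],[]⟩,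
⟨66,176,33,0,true,[],[.edge 1619 false]⟩,
⟨718,11,33,0,true,[],[.edge 1620 true]⟩,
⟨1413,11,4,2,true,[.edge 1621 false,.edge 1618 false],[.code]⟩,
⟨66,90,33,0,true,[],[.edge 1622 false]⟩,
⟨516,11,33,0,true,[],[.edge 1623 true]⟩,
⟨1413,11,5,1,true,[.edge 1621 false],[.code,.edge 1207 false,.eqn 1370 false]⟩,
⟨2,176,31,0,true,[],[.edge 1625 false]⟩,
⟨384,26,32,0,true,[],[.edge 1626 false]⟩,
⟨1413,11,17,6,true,[.code,.edge 1467 false,.edge 1492 false,.code,.edge 1202 false,.eqn 1370 false,.code],[.code,.edge 1621 false,.edge 1618 false,.code]⟩,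
⟨384,26,31,0,true,[],[.edge 1628 false]⟩,
⟨2,90,32,0,true,[],[.edge 1629 false]⟩,
⟨1413,11,24,4,true,[.code,.edge 857 false,.eqn 869 false,.edge 893 false,.code],[.edge 1621 false,.edge 1618 false,.code,.edge 1630 false,.code]⟩,
⟨64,25,33,0,true,[],[.edge 1631 false]⟩,
⟨68,147,33,0,true,[],[.edge 191 false]⟩,
⟨1413,11,29,5,true,[.code,.edge 1592 false,.code,.edge 1633 false,.code],[.code,.edge 857 false,.eqn 869 false,.code,.edge 377 false,.code,.edge 552 false,.code,.edge 468 false,.code,.edge 534 false,.code,.edge 1390 false,.code]⟩,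
⟨2,192,33,0,true,[],[.edge 1634 false]⟩,
⟨1414,11,7,2,true,[.code,.edge 1319 false],[.code,.edge 1559 false]⟩,
⟨0,126,31,0,true,[],[.edge 1636 false]⟩,
⟨0,185,32,0,true,[],[.edge 1637 false]⟩,
⟨1414,11,14,3,true,[.code,.edge 1489 false,.code],[.code,.edge 1319 false,.code]⟩,
⟨546,27,33,0,true,[],[.edge 1639 false]⟩,
⟨14,98,33,0,true,[],[.edge 192 false]⟩]

/-- Deductions. -/
def c4_13 : List Step := [
⟨1414,11,29,5,true,[.code,.edge 1229 false,.code,.edge 1641 false,.code],[.code,.edge 898 false,.code,.edge 884 false,.code,.edge 758 false,.code,.edge 757 false,.code,.edge 952 false,.code,.edge 1410 false,.code]⟩,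
⟨2,193,33,0,true,[],[.edge 1642 false]⟩,
⟨1422,11,21,6,true,[.code,.edge 1053 false,.code,.edge 943 false,.code,.edge 944 false],[.edge 1467 false,.code,.edge 1615 false,.code]⟩,
⟨492,10,33,0,true,[],[.edge 1644 false]⟩,
⟨36,12,33,0,true,[],[.edge 1645 true]⟩,
⟨1426,11,21,6,true,[.code,.edge 1624 false,.code,.edge 1630 false,.code,.edge 1629 false],[.edge 938 false,.code,.edge 1271 false,.code]⟩,
⟨36,90,33,0,true,[],[.edge 1647 false]⟩,
⟨70,62,33,0,true,[],[.edge 1648 true]⟩,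
⟨1444,11,3,2,true,[.edge 1064 false,.code],[.edge 1510 false,.edge 1545 false,.code]⟩,
⟨38,59,33,0,true,[],[.edge 1650 false]⟩,
⟨1444,11,14,3,true,[.code,.edge 1284 false,.code],[.code,.edge 1253 false,.code]⟩,
⟨76,111,33,0,true,[],[.edge 1652 false]⟩,
⟨40,50,33,0,true,[],[.edge 1653 true]⟩,
⟨1444,11,27,5,true,[.code,.edge 1064 false,.code,.edge 1651 false,.edge 1544 false],[.code,.edge 1064 false]⟩,
⟨34,171,33,0,true,[],[.edge 1655 false]⟩,
⟨12,59,33,0,true,[],[.edge 1656 true]⟩,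
⟨36,136,33,0,true,[],[.edge 193 false]⟩,
⟨546,11,33,0,true,[],[.edge 194 false]⟩,
⟨4,195,33,0,true,[],[.edge 195 false]⟩,
⟨0,196,33,0,true,[],[.edge 1660 true]⟩,
⟨1451,11,29,5,true,[.code,.edge 1659 false,.code,.edge 1660 false,.code],[.code,.edge 987 false,.code,.edge 1086 false,.code,.edge 632 false,.code,.edge 633 false,.code,.edge 1075 false,.code,.edge 1242 false,.code]⟩,
⟨2,196,33,0,true,[],[.edge 1662 false]⟩,
⟨64,103,33,0,true,[],[.edge 1663 true]⟩,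
⟨1452,11,12,2,true,[.code,.edge 1333 false],[.code,.edge 1579 false]⟩,
⟨0,128,31,0,true,[],[.edge 1665 false]⟩,
⟨1454,11,12,2,true,[.code,.edge 1335 false],[.code,.edge 1583 false]⟩,
⟨0,130,31,0,true,[],[.edge 1667 false]⟩,
⟨0,189,32,0,true,[],[.edge 1668 false]⟩,
⟨1454,11,21,6,true,[.code,.edge 1583 false,.code,.edge 1669 false,.code,.edge 1668 false],[.edge 1253 false,.code,.edge 1654 false,.code]⟩,
⟨70,189,33,0,true,[],[.edge 1670 false]⟩,
⟨70,111,33,0,true,[],[.edge 1671 true]⟩,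
⟨1472,11,3,2,true,[.edge 898 false,.code],[.edge 1489 false,.edge 999 false,.code]⟩,
⟨40,25,33,0,true,[],[.edge 1673 false]⟩,
⟨1472,11,27,5,true,[.code,.edge 898 false,.code,.edge 1674 false,.edge 998 false],[.code,.edge 898 false]⟩,
⟨744,27,33,0,true,[],[.edge 1675 false]⟩,
⟨480,11,33,0,true,[],[.edge 196 false]⟩,
⟨0,197,33,0,true,[],[.edge 1677 true]⟩,
⟨4,197,33,0,true,[],[.edge 197 false]⟩,
⟨1475,11,29,5,true,[.code,.edge 1677 false,.code,.edge 1679 false,.code],[.code,.edge 857 false,.eqn 869 false,.code,.edge 624 false,.code,.edge 895 false,.code,.edge 892 false,.code,.edge 468 false,.code,.edge 543 false,.code]⟩,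
⟨2,198,33,0,true,[],[.edge 1680 false]⟩,
⟨650,3,33,0,true,[],[.edge 1681 true]⟩,
⟨458,3,33,0,true,[],[.eqn 466 true,.edge 1682 false]⟩,
⟨554,3,33,0,true,[],[.eqn 466 true,.edge 1683 false]⟩,
⟨1478,11,14,3,true,[.code,.edge 1295 false,.eqn 1431 false,.code],[.code,.edge 913 false,.code]⟩,
⟨4,31,33,0,true,[],[.edge 1685 false]⟩,
⟨40,19,33,0,true,[],[.edge 1686 true]⟩,
⟨486,11,33,0,true,[],[.edge 198 false]⟩,
⟨4,199,33,0,true,[],[.edge 199 false]⟩,
⟨1478,11,29,5,true,[.code,.edge 1688 false,.code,.edge 1689 false,.code],[.code,.edge 898 false,.code,.edge 884 false,.code,.edge 943 false,.code,.edge 944 false,.code,.edge 952 false,.code,.edge 1283 false,.code]⟩,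
⟨2,200,33,0,true,[],[.edge 1690 false]⟩,
⟨64,110,33,0,true,[],[.edge 1691 true]⟩,
⟨1484,11,21,6,true,[.code,.edge 1301 false,.code,.edge 1380 false,.code,.edge 1381 false],[.edge 913 false,.code,.edge 1687 false,.code]⟩,
⟨70,118,33,0,true,[],[.edge 1693 false]⟩,
⟨488,11,33,0,true,[],[.edge 200 false]⟩,
⟨492,11,33,0,true,[],[.edge 201 false]⟩,
⟨1504,11,4,1,true,[.edge 1130 false],[.code,.edge 1612 false]⟩,
⟨0,68,32,0,true,[],[.edge 1697 false]⟩,
⟨0,191,31,0,true,[],[.edge 1698 false]⟩,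
⟨1506,11,7,2,false,[.code,.edge 1659 false],[.code,.edge 1329 false,.edge 1698 false]⟩,
⟨0,195,30,0,false,[],[.eqn 1700 false]⟩,
⟨1506,11,13,2,true,[.code,.edge 1659 false,.eqn 1701 false],[.code,.edge 1235 false]⟩,
⟨0,191,32,0,true,[],[.edge 1702 false]⟩,
⟨0,101,31,0,true,[],[.edge 1703 false]⟩,
⟨70,12,33,0,true,[],[.edge 202 false]⟩,
⟨1506,11,29,5,true,[.code,.edge 932 false,.code,.edge 1705 false,.code],[.code,.edge 890 false,.eqn 965 false,.code,.edge 987 false,.code,.edge 1086 false,.code,.edge 923 false,.eqn 1084 false,.code,.edge 1149 false,.code,.edge 1294 false,.code]⟩,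
⟨2,203,33,0,true,[],[.edge 1706 false]⟩,
⟨64,114,33,0,true,[],[.edge 1707 true]⟩,
⟨1512,11,17,4,true,[.code,.edge 1589 false,.edge 1530 false,.code],[.code,.edge 1659 false,.eqn 1701 false,.edge 1703 false,.code,.edge 1326 false,.code]⟩,
⟨74,144,33,0,true,[],[.edge 1709 false]⟩,
⟨44,68,33,0,true,[],[.edge 1710 true]⟩,
⟨1514,11,17,4,true,[.code,.edge 1130 false,.edge 1698 false,.code],[.code,.edge 1570 false,.edge 1528 false,.code,.edge 1567 false,.code]⟩,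
⟨10,191,33,0,true,[],[.edge 1712 false]⟩,
⟨522,11,33,0,true,[],[.edge 203 false]⟩,
⟨584,10,33,0,true,[],[.edge 204 false]⟩,
⟨1529,11,29,5,true,[.code,.edge 1053 false,.code,.edge 1715 false,.code],[.code,.edge 890 false,.eqn 965 false,.code,.edge 1079 false,.code,.edge 1139 false,.eqn 1141 false,.code,.edge 1144 false,.code,.edge 1085 false,.code,.edge 1318 false,.code]⟩,
⟨2,205,33,0,true,[],[.edge 1716 false]⟩,
⟨74,90,33,0,true,[],[.edge 205 false]⟩,
⟨2,206,33,0,true,[],[.edge 206 false]⟩,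
⟨0,207,33,0,true,[],[.edge 1719 true]⟩,
⟨1534,11,29,7,true,[.code,.edge 1624 false,.code,.edge 1718 false,.code,.edge 1719 false,.code],[.code,.edge 890 false,.eqn 965 false,.code,.edge 790 false,.code,.edge 1322 false,.code,.edge 1323 false,.code,.edge 629 false,.code]⟩,
⟨480,207,32,0,true,[],[.edge 1721 false]⟩,
⟨384,15,31,0,true,[],[.edge 1722 false]⟩,
⟨1536,11,3,4,true,[.edge 1079 false,.code,.edge 1466 false,.code],[.edge 1486 false]⟩,
⟨0,74,31,0,true,[],[.edge 1724 false]⟩,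
⟨0,165,32,0,true,[],[.edge 1725 false]⟩,
⟨1536,11,5,1,true,[.edge 1486 false],[.code,.edge 1176 false]⟩,
⟨0,165,31,0,true,[],[.edge 1727 false]⟩,
⟨0,80,32,0,true,[],[.edge 1728 false]⟩,
⟨1536,11,7,2,true,[.code,.edge 1223 false],[.code,.edge 1513 false]⟩,
⟨0,95,31,0,true,[],[.edge 1730 false]⟩,
⟨0,173,32,0,true,[],[.edge 1731 false]⟩,
⟨1536,11,24,4,true,[.code,.edge 1079 false,.edge 994 false,.code],[.edge 1486 false,.edge 1726 false,.code,.edge 1413 false,.code]⟩,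
⟨34,40,33,0,true,[],[.edge 1733 false]⟩,
⟨1536,11,29,5,true,[.code,.edge 1247 false,.code,.edge 1571 false,.code],[.code,.edge 1079 false,.code,.edge 999 false,.code,.edge 1427 false,.code,.edge 1422 false,.eqn 1424 false,.code,.edge 944 false,.code,.edge 954 false,.code]⟩,
⟨4,186,33,0,true,[],[.edge 1735 false]⟩,
⟨1538,11,5,1,true,[.edge 1215 false],[.code,.edge 1504 false]⟩,
⟨0,91,31,0,true,[],[.edge 1737 false]⟩,
⟨0,168,32,0,true,[],[.edge 1738 false]⟩,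
⟨1538,11,7,2,true,[.code,.edge 1183 false],[.code,.edge 1499 false]⟩,
⟨0,83,31,0,true,[],[.edge 1740 false]⟩]

/-- Deductions. -/
def c4_14 : List Step := [
⟨0,166,32,0,true,[],[.edge 1741 false]⟩,
⟨1538,11,12,2,true,[.code,.edge 1169 false],[.code,.edge 1539 false]⟩,
⟨0,77,31,0,true,[],[.edge 1743 false]⟩,
⟨0,180,32,0,true,[],[.edge 1744 false]⟩,
⟨1538,11,29,3,true,[.code,.edge 1247 false,.code],[.code,.edge 988 false,.code,.edge 1438 false,.code,.edge 1434 false,.code,.edge 1435 false,.code,.edge 1433 false,.code,.edge 1142 false,.code,.edge 849 false,.code]⟩,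
⟨32,28,33,0,true,[],[.edge 1746 false]⟩,
⟨78,12,33,0,true,[],[.edge 1747 true]⟩,
⟨1540,11,7,2,true,[.code,.edge 1198 false],[.code,.edge 1511 false]⟩,
⟨0,88,31,0,true,[],[.edge 1749 false]⟩,
⟨0,172,32,0,true,[],[.edge 1750 false]⟩,
⟨1540,11,12,2,true,[.code,.edge 1504 false],[.code,.edge 1154 false]⟩,
⟨0,168,31,0,true,[],[.edge 1752 false]⟩,
⟨0,71,32,0,true,[],[.edge 1753 false]⟩,
⟨1540,11,13,2,true,[.code,.edge 1198 false],[.code,.edge 1531 false]⟩,
⟨0,88,32,0,true,[],[.edge 1755 false]⟩,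
⟨1542,11,25,3,true,[.edge 1079 false,.edge 994 false,.code],[.edge 1079 false,.code,.edge 994 false,.code,.edge 1734 false,.edge 1729 false,.code]⟩,
⟨66,40,33,0,true,[],[.edge 1757 false]⟩,
⟨1544,11,12,2,true,[.code,.edge 1511 false],[.code,.edge 1531 false]⟩,
⟨0,172,31,0,true,[],[.edge 1759 false]⟩,
⟨0,177,32,0,true,[],[.edge 1760 false]⟩,
⟨1546,11,14,3,true,[.code,.edge 1095 false,.code],[.code,.edge 1486 false,.code]⟩,
⟨46,49,33,0,true,[],[.edge 1762 false]⟩,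
⟨1549,11,29,5,true,[.code,.edge 1278 false,.code,.edge 1285 false,.code],[.code,.edge 1079 false,.code,.edge 903 false,.code,.edge 898 false,.code,.edge 897 false,.code,.edge 1116 false,.eqn 1141 false,.code,.edge 1452 false,.code]⟩,
⟨8,112,33,0,true,[],[.edge 1764 false]⟩,
⟨64,160,33,0,true,[],[.edge 1765 true]⟩,
⟨1550,11,15,2,true,[.code,.edge 988 false],[.code,.edge 1198 false,.code,.edge 1756 false,.edge 1761 false,.code]⟩,
⟨12,40,33,0,true,[],[.edge 1767 false]⟩,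
⟨32,172,33,0,true,[],[.edge 1768 true]⟩,
⟨1550,11,24,4,true,[.code,.edge 988 false,.edge 1082 false,.eqn 1084 false,.code],[.edge 1198 false,.edge 1756 false,.code,.edge 1761 false,.code]⟩,
⟨40,27,33,0,true,[],[.edge 1770 false]⟩,
⟨64,172,33,0,true,[],[.edge 1771 true]⟩,
⟨1554,11,15,2,true,[.code,.edge 988 false],[.code,.edge 1215 false,.code,.edge 1441 false,.edge 1754 false,.code]⟩,
⟨10,40,33,0,true,[],[.edge 1773 false]⟩,
⟨1554,11,24,4,true,[.code,.edge 988 false,.edge 1082 false,.eqn 1084 false,.code],[.edge 1215 false,.edge 1441 false,.code,.edge 1754 false,.code]⟩,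
⟨36,27,33,0,true,[],[.edge 1775 false]⟩,
⟨1556,11,25,3,true,[.edge 988 false,.edge 1082 false,.eqn 1084 false,.code],[.edge 988 false,.code,.edge 1082 false,.eqn 1084 false,.code,.edge 1776 false,.edge 1739 false,.code]⟩,
⟨72,27,33,0,true,[],[.edge 1777 false]⟩,
⟨64,91,33,0,true,[],[.edge 1778 true]⟩,
⟨1560,11,25,3,true,[.edge 988 false,.edge 1082 false,.eqn 1084 false,.code],[.edge 988 false,.code,.edge 1082 false,.eqn 1084 false,.code,.edge 1771 false,.edge 1751 false,.code]⟩,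
⟨78,27,33,0,true,[],[.edge 1780 false]⟩,
⟨1564,11,29,3,true,[.code,.edge 1583 false,.code],[.code,.edge 1079 false,.code,.edge 1139 false,.eqn 1141 false,.code,.edge 1347 false,.code,.edge 1342 false,.eqn 1344 false,.code,.edge 1059 false,.eqn 1061 false,.code,.edge 888 false,.code,.edge 1523 false,.code]⟩,
⟨8,189,33,0,true,[],[.edge 1782 false]⟩,
⟨12,176,33,0,true,[],[.edge 1783 true]⟩,
⟨1570,11,3,2,true,[.edge 988 false,.code],[.edge 1499 false,.edge 1742 false,.code]⟩,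
⟨42,40,33,0,true,[],[.edge 1785 false]⟩,
⟨1574,11,3,2,true,[.edge 1079 false,.code],[.edge 1513 false,.edge 1732 false,.code]⟩,
⟨44,27,33,0,true,[],[.edge 1787 false]⟩,
⟨1574,11,27,5,true,[.code,.edge 1079 false,.code,.edge 1788 false,.edge 1731 false],[.code,.edge 1079 false]⟩,
⟨32,173,33,0,true,[],[.edge 1789 false]⟩,
⟨10,27,33,0,true,[],[.edge 1790 true]⟩,
⟨654,11,33,0,true,[],[.edge 207 false]⟩,
⟨4,208,33,0,true,[],[.edge 208 false]⟩,
⟨1591,11,29,5,true,[.code,.edge 1792 false,.code,.edge 1793 false,.code],[.code,.edge 1079 false,.code,.edge 903 false,.code,.edge 1079 false,.code,.edge 1078 false,.code,.edge 1116 false,.eqn 1141 false,.code,.edge 1143 false,.code]⟩,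
⟨2,209,33,0,true,[],[.edge 1794 false]⟩,
⟨1602,11,3,2,true,[.edge 988 false,.code],[.edge 1539 false,.edge 1745 false,.code]⟩,
⟨0,40,33,0,true,[],[.edge 1796 false]⟩,
⟨1638,11,12,2,true,[.code,.edge 1261 false],[.code,.edge 1677 false]⟩,
⟨0,104,31,0,true,[],[.edge 1798 false]⟩,
⟨1638,11,13,2,true,[.code,.edge 1447 false],[.code,.edge 1688 false]⟩,
⟨0,158,32,0,true,[],[.edge 1800 false]⟩,
⟨1638,11,14,3,true,[.code,.edge 1677 false,.code],[.code,.edge 1447 false,.code]⟩,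
⟨76,197,33,0,true,[],[.edge 1802 false]⟩,
⟨10,158,33,0,true,[],[.edge 1803 true]⟩,
⟨1642,11,12,2,true,[.code,.edge 1278 false],[.code,.edge 1688 false]⟩,
⟨0,108,31,0,true,[],[.edge 1805 false]⟩,
⟨0,199,32,0,true,[],[.edge 1806 false]⟩,
⟨1644,11,3,2,true,[.edge 987 false,.code],[.edge 1447 false,.edge 1801 false,.code]⟩,
⟨482,27,33,0,true,[],[.edge 1808 false]⟩,
⟨32,199,33,0,true,[],[.edge 1809 true]⟩,
⟨1644,11,12,2,true,[.code,.edge 1275 false],[.code,.edge 1696 false]⟩,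
⟨0,107,31,0,true,[],[.edge 1811 false]⟩,
⟨0,202,32,0,true,[],[.edge 1812 false]⟩,
⟨1644,11,21,6,true,[.code,.edge 1696 false,.code,.edge 1813 false,.code,.edge 1812 false],[.edge 1447 false,.code,.edge 1804 false,.code]⟩,
⟨70,202,33,0,true,[],[.edge 1814 false]⟩,
⟨70,197,33,0,true,[],[.edge 1815 true]⟩,
⟨1644,11,24,4,true,[.code,.edge 987 false,.edge 1139 false,.eqn 1141 false,.code],[.edge 1447 false,.edge 1801 false,.code,.edge 1807 false,.code]⟩,
⟨66,59,33,0,true,[],[.edge 1817 false]⟩,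
⟨1646,11,12,2,true,[.code,.edge 1284 false],[.code,.edge 1695 false]⟩,
⟨0,111,31,0,true,[],[.edge 1819 false]⟩,
⟨0,201,32,0,true,[],[.edge 1820 false]⟩,
⟨1646,11,21,6,true,[.code,.edge 1695 false,.code,.edge 1821 false,.code,.edge 1820 false],[.edge 1335 false,.code,.edge 1542 false,.code]⟩,
⟨70,201,33,0,true,[],[.edge 1822 false]⟩,
⟨4,50,33,0,true,[],[.edge 1823 true]⟩,
⟨1648,11,29,5,true,[.code,.edge 1504 false,.code,.edge 1518 false,.code],[.code,.edge 987 false,.code,.edge 1086 false,.code,.edge 898 false,.code,.edge 897 false,.code,.edge 1075 false,.code,.edge 1161 false,.code]⟩,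
⟨4,175,33,0,true,[],[.edge 1825 false]⟩,
⟨32,73,33,0,true,[],[.edge 1826 true]⟩,
⟨1670,11,21,6,true,[.code,.edge 1130 false,.code,.edge 1698 false,.code,.edge 1699 false],[.edge 1397 false,.code,.edge 1611 false,.code]⟩,
⟨70,68,33,0,true,[],[.edge 1828 false]⟩,
⟨1678,11,29,5,true,[.code,.edge 1198 false,.code,.edge 1199 false,.code],[.code,.edge 890 false,.eqn 965 false,.code,.edge 1064 false,.code,.edge 1432 false,.code,.edge 1433 false,.code,.edge 1144 false,.code,.edge 1538 false,.code]⟩,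
⟨8,89,33,0,true,[],[.edge 1830 false]⟩,
⟨74,56,33,0,true,[],[.edge 209 false]⟩,
⟨1688,11,29,5,true,[.code,.edge 1103 false,.code,.edge 1832 false,.code],[.code,.edge 890 false,.eqn 965 false,.code,.edge 1079 false,.code,.edge 999 false,.code,.edge 998 false,.code,.edge 1085 false,.code,.edge 1168 false,.code]⟩,
⟨2,210,33,0,true,[],[.edge 1833 false]⟩,
⟨1696,11,12,2,true,[.code,.edge 1301 false],[.code,.edge 1714 false]⟩,
⟨0,118,31,0,true,[],[.edge 1835 false]⟩,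
⟨0,204,32,0,true,[],[.edge 1836 false]⟩,
⟨1696,11,14,3,true,[.code,.edge 1714 false,.code],[.code,.edge 911 false,.code]⟩,
⟨76,204,33,0,true,[],[.edge 1838 false]⟩,
⟨40,17,33,0,true,[],[.edge 1839 true]⟩,
⟨1696,11,25,5,true,[.edge 898 false,.edge 907 false,.code,.edge 1268 false,.code],[.edge 898 false,.code,.edge 907 false,.code,.edge 1684 false]⟩]

/-- Deductions. -/
def c4_15 : List Step := [
⟨2,105,31,0,true,[],[.edge 1841 false]⟩,
⟨2,198,32,0,true,[],[.edge 1842 false]⟩,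
⟨1698,11,7,2,true,[.code,.edge 1467 false],[.code,.edge 1792 false]⟩,
⟨0,162,31,0,true,[],[.edge 1844 false]⟩,
⟨0,208,32,0,true,[],[.edge 1845 false]⟩,
⟨1698,11,16,6,true,[.code,.edge 1792 false,.code,.edge 1846 false,.edge 1492 false,.code],[.code,.edge 857 false,.eqn 869 false,.code,.edge 893 false]⟩,
⟨64,62,33,0,true,[],[.edge 1847 false]⟩,
⟨38,25,33,0,true,[],[.edge 1848 true]⟩,
⟨392,11,33,0,true,[],[.edge 210 false]⟩,
⟨4,211,33,0,true,[],[.edge 211 false]⟩,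
⟨1698,11,29,5,true,[.code,.edge 1850 false,.code,.edge 1851 false,.code],[.code,.edge 857 false,.eqn 869 false,.code,.edge 868 false,.eqn 887 false,.code,.edge 890 false,.eqn 965 false,.code,.edge 963 false,.eqn 965 false,.code,.edge 889 false,.code,.edge 1189 false,.code]⟩,
⟨2,212,33,0,true,[],[.edge 1852 false]⟩,
⟨32,85,33,0,true,[],[.edge 1853 true]⟩,
⟨1702,11,4,1,true,[.edge 1378 false],[.code,.edge 1714 false]⟩,
⟨0,49,32,0,true,[],[.edge 1855 false]⟩,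
⟨0,204,31,0,true,[],[.edge 1856 false]⟩,
⟨1702,11,24,6,false,[.code,.edge 898 false,.edge 907 false,.code,.edge 1684 false,.code],[.edge 1378 false,.edge 1856 false,.code,.edge 1837 false]⟩,
⟨0,198,30,0,false,[],[.eqn 1858 false]⟩,
⟨0,118,32,0,true,[],[.eqn 1859 true,.edge 1843 false]⟩,
⟨201,105,31,0,false,[],[.edge 1860 false,.edge 1380 false]⟩,
⟨64,118,33,0,true,[],[.eqn 1859 true,.edge 1681 false]⟩,
⟨1306,3,33,0,false,[],[.edge 1862 true,.edge 1575 false]⟩,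
⟨0,105,30,0,false,[],[.eqn 1861 false]⟩,
⟨2,49,33,0,true,[],[.eqn 1864 true,.edge 1263 false]⟩,
⟨287,104,33,0,false,[],[.edge 1865 true,.edge 1020 false]⟩,
⟨0,186,30,0,false,[],[.eqn 1863 true]⟩,
⟨644,3,33,0,true,[],[.eqn 1867 true,.edge 1572 false]⟩,
⟨170,28,33,0,false,[],[.edge 1868 true,.edge 1523 false]⟩,
⟨652,3,33,0,true,[],[.eqn 1867 true,.edge 1736 false]⟩,
⟨460,3,33,0,true,[],[.eqn 466 true,.edge 1870 false]⟩,
⟨0,104,30,0,false,[],[.eqn 1866 false]⟩,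
⟨2,27,31,0,true,[],[.eqn 1872 true,.edge 1799 false]⟩,
⟨173,197,32,0,false,[],[.edge 1873 false,.edge 1085 false]⟩,
⟨78,27,33,0,true,[],[.eqn 1872 true,.edge 1476 false]⟩,
⟨77,128,33,0,false,[],[.edge 1875 true,.edge 1781 false]⟩,
⟨0,176,30,0,false,[],[.eqn 1869 true]⟩,
⟨0,28,31,0,true,[],[.eqn 1877 true,.edge 1626 false]⟩,
⟨0,28,32,0,true,[],[.eqn 1877 true,.edge 1618 false]⟩,
⟨34,28,33,0,true,[],[.eqn 1877 true,.edge 1520 false]⟩,
⟨19,172,33,0,false,[],[.edge 1880 true,.edge 1248 false]⟩,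
⟨46,28,33,0,true,[],[.eqn 1877 true,.edge 1784 false]⟩,
⟨556,3,33,0,true,[],[.eqn 466 true,.edge 1871 false]⟩,
⟨0,197,30,0,false,[],[.eqn 1874 false]⟩,
⟨42,40,33,0,true,[],[.eqn 1884 true,.edge 1678 false]⟩,
⟨1441,11,33,0,false,[],[.edge 1885 true,.edge 1786 false]⟩,
⟨46,40,33,0,true,[],[.eqn 1884 true,.edge 1679 false,.eqn 1859 false]⟩,
⟨84,118,33,0,false,[],[.edge 1887 true,.edge 1109 false]⟩,
⟨0,40,33,0,true,[],[.eqn 1884 true,.edge 1816 false]⟩,
⟨247,202,33,0,false,[],[.edge 1889 true,.edge 1797 false]⟩,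
⟨10,40,33,0,true,[],[.eqn 1884 true,.edge 1803 false]⟩,
⟨283,158,33,0,false,[],[.edge 1891 true,.edge 1774 false]⟩,
⟨0,128,30,0,false,[],[.eqn 1876 false]⟩,
⟨0,88,31,0,true,[],[.eqn 1893 true,.edge 1666 false]⟩,
⟨106,187,32,0,false,[],[.edge 1894 false,.edge 1750 false]⟩,
⟨8,88,33,0,true,[],[.eqn 1893 true,.edge 1334 false]⟩,
⟨97,129,33,0,false,[],[.edge 1896 true,.edge 1480 false]⟩,
⟨0,172,30,0,false,[],[.eqn 1881 false]⟩,
⟨480,11,31,0,true,[],[.eqn 1898 true,.edge 1760 false]⟩,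
⟨86,177,32,0,false,[],[.edge 1899 false,.edge 1116 false]⟩,
⟨480,11,32,0,true,[],[.eqn 1898 true,.edge 1751 false]⟩,
⟨315,88,31,0,false,[],[.edge 1901 false,.edge 987 false]⟩,
⟨582,11,33,0,true,[],[.eqn 1898 true,.edge 1512 false]⟩,
⟨419,11,33,0,false,[],[.edge 1903 true,.edge 1275 false]⟩,
⟨682,11,33,0,true,[],[.eqn 1898 true,.edge 1769 false]⟩,
⟨492,11,33,0,true,[],[.eqn 1898 true,.edge 1772 false]⟩,
⟨194,27,33,0,false,[],[.edge 1906 true,.edge 1696 false]⟩,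
⟨0,83,30,0,false,[],[.eqn 1886 true]⟩,
⟨480,11,31,0,true,[],[.eqn 1908 true,.edge 1741 false]⟩,
⟨49,166,32,0,false,[],[.edge 1909 false,.edge 1116 false]⟩,
⟨672,11,33,0,true,[],[.eqn 1908 true,.edge 1184 false]⟩,
⟨676,11,33,0,true,[],[.eqn 1908 true,.edge 1185 false]⟩,
⟨0,118,30,0,false,[],[.eqn 1888 false]⟩,
⟨0,26,31,0,true,[],[.eqn 1913 true,.edge 1836 false]⟩,
⟨0,26,32,0,true,[],[.eqn 1913 true,.edge 1380 false]⟩,
⟨480,26,32,0,true,[],[.eqn 1913 true,.edge 1337 false,.eqn 1348 false]⟩,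
⟨44,26,33,0,true,[],[.eqn 1913 true,.edge 1694 false]⟩,
⟨0,202,30,0,false,[],[.eqn 1890 false]⟩,
⟨0,168,30,0,false,[],[.eqn 1892 true]⟩,
⟨0,158,31,0,true,[],[.eqn 1919 true,.edge 1753 false]⟩,
⟨45,71,32,0,false,[],[.edge 1920 false,.edge 1471 false]⟩,
⟨0,158,32,0,true,[],[.eqn 1919 true,.edge 1739 false]⟩,
⟨167,91,31,0,false,[],[.edge 1922 false,.edge 1801 false]⟩,
⟨68,158,33,0,true,[],[.eqn 1919 true,.edge 1505 false]⟩,
⟨78,158,33,0,true,[],[.eqn 1919 true,.edge 1518 false]⟩,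
⟨106,187,30,0,false,[],[.eqn 1895 false,.eqn 1898 false]⟩,
⟨0,187,30,0,false,[],[.eqn 1926 false]⟩,
⟨578,11,33,0,true,[],[.eqn 1927 true,.edge 1580 false]⟩,
⟨1,188,33,0,false,[],[.edge 1928 true,.edge 1583 false]⟩,
⟨0,164,30,0,false,[],[.eqn 1897 true]⟩,
⟨8,129,33,0,true,[],[.eqn 1930 true,.edge 1482 false]⟩,
⟨86,177,30,0,false,[],[.eqn 1900 false,.eqn 1141 false]⟩,
⟨0,177,30,0,false,[],[.eqn 1932 false]⟩,
⟨68,59,33,0,true,[],[.eqn 1933 true,.edge 1532 false]⟩,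
⟨64,59,33,0,true,[],[.eqn 1933 true,.edge 1533 false]⟩,
⟨0,88,30,0,false,[],[.eqn 1902 false]⟩,
⟨582,27,33,0,true,[],[.eqn 1936 true,.edge 1209 false]⟩,
⟨97,90,33,0,false,[],[.edge 1937 true,.edge 1089 false]⟩,
⟨576,27,33,0,true,[],[.eqn 1936 true,.edge 1199 false]⟩,
⟨588,27,33,0,true,[],[.eqn 1936 true,.edge 1480 false,.eqn 1930 false]⟩,
⟨578,27,33,0,true,[],[.eqn 1936 true,.edge 1455 false]⟩]

/-- Deductions. -/
def c4_16 : List Step := [
⟨93,71,33,0,false,[],[.edge 1941 true,.edge 1479 false]⟩,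
⟨0,107,30,0,false,[],[.eqn 1904 true]⟩,
⟨422,11,33,0,true,[],[.eqn 1943 true,.edge 1277 false]⟩,
⟨279,81,33,0,false,[],[.edge 1944 true,.edge 1513 false]⟩,
⟨424,11,33,0,true,[],[.eqn 1943 true,.edge 1485 false]⟩,
⟨93,158,33,0,false,[],[.edge 1946 true,.edge 1504 false]⟩,
⟨194,27,30,0,false,[],[.eqn 1907 false,.eqn 1918 false]⟩,
⟨0,77,30,0,false,[],[.eqn 1948 true]⟩,
⟨76,27,33,0,true,[],[.eqn 1949 true,.edge 1170 false]⟩,
⟨97,78,33,0,false,[],[.edge 1950 true,.edge 1466 false]⟩,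
⟨49,166,30,0,false,[],[.eqn 1910 false,.eqn 1141 false]⟩,
⟨0,166,30,0,false,[],[.eqn 1952 false]⟩,
⟨0,59,33,0,true,[],[.eqn 1953 true,.edge 1500 false]⟩,
⟨0,108,30,0,false,[],[.eqn 1921 true]⟩,
⟨0,199,30,0,false,[],[.eqn 1923 true]⟩,
⟨40,91,33,0,true,[],[.eqn 1956 true,.edge 1689 false]⟩,
⟨74,91,33,0,true,[],[.eqn 1956 true,.edge 1810 false]⟩,
⟨0,189,30,0,false,[],[.eqn 1929 true]⟩,
⟨0,188,32,0,true,[],[.eqn 1959 true,.edge 1669 false]⟩,
⟨0,90,30,0,false,[],[.eqn 1938 false]⟩,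
⟨0,50,31,0,true,[],[.eqn 1961 true,.edge 1617 false,.eqn 1877 false]⟩,
⟨0,50,32,0,true,[],[.eqn 1961 true,.edge 1630 false]⟩,
⟨14,50,33,0,true,[],[.eqn 1961 true,.edge 1446 false]⟩,
⟨372,130,33,0,false,[],[.edge 1964 true,.edge 1541 false]⟩,
⟨44,50,33,0,true,[],[.eqn 1961 true,.edge 1648 false]⟩,
⟨72,50,33,0,true,[],[.eqn 1961 true,.edge 1718 false]⟩,
⟨93,71,30,0,false,[],[.eqn 1942 false,.eqn 1955 false]⟩,
⟨365,71,30,0,false,[],[.eqn 1968 true]⟩,
⟨12,71,33,0,true,[],[.eqn 1969 true,.edge 1155 false]⟩,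
⟨0,173,30,0,false,[],[.eqn 1945 true]⟩,
⟨2,81,33,0,true,[],[.eqn 1971 true,.edge 1514 false]⟩,
⟨272,174,33,0,false,[],[.edge 1972 true,.edge 1178 false]⟩,
⟨93,158,30,0,false,[],[.eqn 1947 false,.eqn 1919 false]⟩,
⟨380,158,30,0,false,[],[.eqn 1974 true]⟩,
⟨0,78,30,0,false,[],[.eqn 1951 false]⟩,
⟨2,130,30,0,false,[],[.eqn 1965 true]⟩,
⟨2,130,33,0,true,[],[.eqn 1977 true,.edge 1336 false]⟩,
⟨0,174,30,0,false,[],[.eqn 1973 false]⟩,
⟨14,71,33,0,true,[],[.edge 212 false]⟩,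
⟨0,213,33,0,true,[],[.edge 1980 true]⟩,
⟨1707,11,29,5,true,[.code,.edge 1154 false,.code,.edge 1980 false,.code],[.code,.edge 898 false,.code,.edge 884 false,.code,.edge 945 false,.code,.edge 944 false,.code,.edge 954 false,.code,.edge 1221 false,.code]⟩,
⟨2,213,33,0,true,[],[.edge 1982 false]⟩,
⟨32,93,33,0,true,[],[.edge 1983 true]⟩,
⟨1708,11,16,6,true,[.code,.edge 1301 false,.eqn 1913 false,.code,.edge 1915 false,.edge 1856 false,.code],[.code,.edge 898 false,.code,.edge 907 false]⟩,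
⟨64,204,33,0,true,[],[.edge 1985 false]⟩,
⟨742,3,33,0,true,[],[.edge 1986 true]⟩,
⟨518,3,33,0,true,[],[.eqn 466 true,.edge 1987 false]⟩,
⟨1710,11,12,2,true,[.code,.edge 1792 false],[.code,.edge 1117 false]⟩,
⟨0,208,31,0,true,[],[.edge 1989 false]⟩,
⟨0,62,32,0,true,[],[.edge 1990 false]⟩,
⟨394,11,33,0,true,[],[.edge 213 false]⟩,
⟨4,214,33,0,true,[],[.edge 214 false]⟩,
⟨0,215,33,0,true,[],[.edge 1993 true]⟩,
⟨1711,11,29,5,true,[.code,.edge 1992 false,.code,.edge 1993 false,.code],[.code,.edge 857 false,.eqn 869 false,.code,.edge 377 false,.code,.edge 545 false,.code,.edge 468 false,.code,.edge 535 false,.code,.edge 870 false,.code]⟩,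
⟨2,215,33,0,true,[],[.edge 1995 false]⟩,
⟨680,11,33,0,true,[],[.edge 1996 true]⟩,
⟨1720,11,15,2,true,[.code,.edge 857 false,.eqn 869 false],[.code,.edge 1467 false,.code,.edge 1492 false,.edge 1991 false,.code]⟩,
⟨738,3,33,0,true,[],[.edge 1998 false]⟩,
⟨1720,11,24,4,true,[.code,.edge 857 false,.eqn 869 false,.edge 893 false,.code],[.edge 1467 false,.edge 1492 false,.code,.edge 1991 false,.code]⟩,
⟨74,25,33,0,true,[],[.edge 2000 false]⟩,
⟨1726,11,25,3,true,[.edge 857 false,.eqn 869 false,.edge 893 false,.code],[.edge 857 false,.eqn 869 false,.code,.edge 893 false,.code,.edge 2001 false,.edge 1846 false,.code]⟩,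
⟨12,25,33,0,true,[],[.edge 2002 false]⟩,
⟨2,214,33,0,true,[],[.edge 215 false]⟩,
⟨1727,11,29,5,true,[.code,.edge 1992 false,.code,.edge 2004 false,.code],[.code,.edge 857 false,.eqn 869 false,.code,.edge 624 false,.code,.edge 868 false,.eqn 887 false,.code,.edge 888 false,.code,.edge 468 false,.code,.edge 534 false,.code]⟩,
⟨2,216,33,0,true,[],[.edge 2005 false]⟩,
⟨14,3,33,0,true,[],[.edge 2006 true]⟩,
⟨1728,11,3,2,false,[.edge 987 false,.code],[.edge 1261 false,.eqn 1872 false,.edge 1086 false,.code,.edge 1850 false]⟩,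
⟨0,211,30,0,false,[],[.eqn 2008 true]⟩,
⟨672,27,33,0,true,[],[.eqn 2009 true,.edge 1851 false]⟩,
⟨1730,11,3,4,true,[.edge 1064 false,.code,.edge 1935 false,.code],[.edge 1284 false]⟩,
⟨0,178,31,0,true,[],[.edge 2011 false]⟩,
⟨0,111,32,0,true,[],[.edge 2012 false]⟩,
⟨1730,11,4,2,false,[.edge 1284 false,.edge 2013 false],[.code,.edge 1912 false]⟩,
⟨0,178,30,0,false,[],[.eqn 2014 false]⟩,
⟨0,84,31,0,true,[],[.eqn 2015 true,.edge 2012 false]⟩,
⟨1730,11,13,2,true,[.code,.edge 1197 false],[.code,.edge 1997 false]⟩,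
⟨2,87,32,0,true,[],[.edge 2017 false]⟩,
⟨2,215,31,0,true,[],[.edge 2018 false]⟩,
⟨1730,11,15,4,true,[.code,.edge 1064 false,.edge 1954 false,.code],[.code,.edge 1284 false,.code,.edge 2013 false,.eqn 2015 false]⟩,
⟨0,167,31,0,true,[],[.edge 2020 false]⟩,
⟨0,84,32,0,true,[],[.edge 2021 false]⟩,
⟨1730,11,17,4,true,[.code,.edge 1197 false,.edge 2018 false,.code],[.code,.edge 1284 false,.edge 2013 false,.eqn 2015 false,.code,.edge 2022 false,.code]⟩,
⟨8,215,33,0,true,[],[.edge 2023 false]⟩,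
⟨44,167,33,0,true,[],[.edge 2024 true]⟩,
⟨1730,11,24,6,false,[.code,.edge 1064 false,.edge 1150 false,.code,.edge 1939 false,.code],[.edge 1284 false,.edge 2013 false,.eqn 2015 false,.code,.edge 2022 false]⟩,
⟨0,167,30,0,false,[],[.eqn 2026 true]⟩,
⟨0,89,31,0,true,[],[.eqn 2027 true,.edge 2021 false]⟩,
⟨12,89,33,0,true,[],[.eqn 2027 true,.edge 2025 false]⟩,
⟨1732,11,12,2,false,[.code,.edge 1695 false],[.code,.edge 1912 false,.edge 2022 false,.eqn 2027 false]⟩,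
⟨0,201,30,0,false,[],[.eqn 2030 false]⟩,
⟨0,89,32,0,true,[],[.eqn 2031 true,.edge 1821 false]⟩,
⟨1732,11,14,3,true,[.code,.edge 1912 false,.code],[.code,.edge 1583 false,.eqn 1959 false,.code]⟩,
⟨76,84,33,0,true,[],[.edge 2033 false]⟩,
⟨10,188,33,0,true,[],[.edge 2034 true]⟩,
⟨1732,11,25,5,false,[.edge 1064 false,.edge 1150 false,.code,.edge 2010 false,.code],[.edge 1064 false,.code,.edge 1150 false,.code,.edge 1939 false,.edge 2032 false]⟩,
⟨0,212,30,0,false,[],[.eqn 2036 false]⟩,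
⟨78,111,33,0,true,[],[.eqn 2037 true,.edge 1853 false]⟩,
⟨1736,11,15,4,true,[.code,.edge 1064 false,.edge 1657 false,.code],[.code,.edge 1197 false,.code,.edge 2018 false]⟩,
⟨2,171,31,0,true,[],[.edge 2039 false]⟩,
⟨2,215,32,0,true,[],[.edge 2040 false]⟩]

/-- Deductions. -/
def c4_17 : List Step := [
⟨1736,11,17,4,true,[.code,.edge 1284 false,.edge 2013 false,.eqn 2015 false,.code],[.code,.edge 1197 false,.edge 2018 false,.code,.edge 2041 false,.code]⟩,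
⟨10,84,33,0,true,[],[.edge 2042 false]⟩,
⟨1742,11,24,6,true,[.code,.edge 1064 false,.edge 1150 false,.code,.edge 1940 false,.code],[.edge 1583 false,.eqn 1959 false,.edge 1960 false,.code]⟩,
⟨0,129,31,0,true,[],[.edge 2044 false]⟩,
⟨0,130,32,0,true,[],[.edge 2045 false]⟩,
⟨1742,11,28,2,true,[.code,.edge 1064 false],[.code,.edge 1583 false,.eqn 1959 false,.code,.edge 1960 false,.code,.edge 2046 false,.code]⟩,
⟨6,59,33,0,true,[],[.edge 2047 false]⟩,
⟨64,129,33,0,true,[],[.edge 2048 true]⟩,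
⟨1752,11,12,1,true,[.code],[.code,.edge 1335 false,.edge 2046 false]⟩,
⟨482,11,33,0,true,[],[.edge 2050 false]⟩,
⟨68,68,33,0,true,[],[.edge 216 false]⟩,
⟨0,217,33,0,true,[],[.edge 2052 true]⟩,
⟨1756,11,29,5,true,[.code,.edge 1329 false,.code,.edge 2052 false,.code],[.code,.edge 987 false,.code,.edge 1086 false,.code,.edge 632 false,.code,.edge 633 false,.code,.edge 1075 false,.code,.edge 1242 false,.code]⟩,
⟨2,217,33,0,true,[],[.edge 2054 false]⟩,
⟨32,103,33,0,true,[],[.edge 2055 true]⟩,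
⟨1757,11,29,5,true,[.code,.edge 1391 false,.code,.edge 1392 false,.code],[.code,.edge 987 false,.code,.edge 1086 false,.code,.edge 790 false,.code,.edge 789 false,.code,.edge 1075 false,.code,.edge 1234 false,.code]⟩,
⟨8,145,33,0,true,[],[.edge 2057 false]⟩,
⟨32,100,33,0,true,[],[.edge 2058 true]⟩,
⟨1758,11,5,1,true,[.edge 1583 false,.eqn 1959 false],[.code,.edge 2051 false]⟩,
⟨0,188,31,0,true,[],[.edge 2060 false]⟩,
⟨0,129,32,0,true,[],[.edge 2061 false]⟩,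
⟨1760,11,14,3,true,[.code,.edge 911 false,.code],[.code,.edge 1559 false,.code]⟩,
⟨14,17,33,0,true,[],[.edge 2063 false]⟩,
⟨1762,11,29,3,true,[.code,.edge 1997 false,.code],[.code,.edge 857 false,.eqn 869 false,.code,.edge 624 false,.code,.edge 872 false,.eqn 887 false,.code,.edge 888 false,.code,.edge 468 false,.code,.edge 544 false,.code,.edge 2007 false,.code]⟩,
⟨6,215,33,0,true,[],[.edge 2065 false]⟩,
⟨6,216,33,0,true,[],[.edge 2066 true]⟩,
⟨1763,11,29,5,false,[.code,.edge 1911 false,.code,.edge 1103 false,.code],[.code,.edge 857 false,.eqn 869 false,.code,.edge 624 false,.code,.edge 895 false,.code,.edge 892 false,.code,.edge 468 false,.code,.edge 543 false,.code,.edge 1988 false]⟩,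
⟨0,204,30,0,false,[],[.eqn 2068 true]⟩,
⟨0,56,31,0,true,[],[.eqn 2069 true,.edge 1857 false]⟩,
⟨0,56,32,0,true,[],[.eqn 2069 true,.edge 1837 false,.eqn 1913 false]⟩,
⟨1766,11,25,6,true,[.edge 898 false,.edge 907 false,.code,.edge 1883 false,.code,.edge 998 false],[.edge 898 false,.code,.edge 907 false,.code]⟩,
⟨558,27,33,0,true,[],[.edge 2072 false]⟩,
⟨746,3,33,0,true,[],[.edge 2073 true]⟩,
⟨1770,11,3,2,true,[.edge 898 false,.code],[.edge 1559 false,.edge 1638 false,.code]⟩,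
⟨68,25,33,0,true,[],[.edge 2075 false]⟩,
⟨1770,11,27,5,true,[.code,.edge 898 false,.code,.edge 2076 false,.edge 1637 false],[.code,.edge 898 false]⟩,
⟨32,185,33,0,true,[],[.edge 2077 false]⟩,
⟨46,25,33,0,true,[],[.edge 2078 true]⟩,
⟨1784,11,29,5,true,[.code,.edge 1447 false,.code,.edge 1448 false,.code],[.code,.edge 857 false,.eqn 869 false,.code,.edge 868 false,.eqn 887 false,.code,.edge 790 false,.code,.edge 789 false,.code,.edge 889 false,.code,.edge 1182 false,.code]⟩,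
⟨4,159,33,0,true,[],[.edge 2080 false]⟩,
⟨622,82,33,0,true,[],[.edge 2081 true]⟩,
⟨512,40,32,0,true,[],[.edge 217 false]⟩,
⟨0,218,31,0,true,[],[.edge 2083 false]⟩,
⟨384,218,32,0,true,[],[.edge 218 false]⟩,
⟨0,219,31,0,true,[],[.edge 2085 false]⟩,
⟨384,219,32,0,true,[],[.edge 219 false]⟩,
⟨0,220,31,0,true,[],[.edge 2087 false]⟩,
⟨1790,11,29,14,false,[.code,.edge 1335 false,.code,.edge 1978 false,.code,.edge 1905 false,.code,.edge 2083 false,.code,.edge 2085 false,.code,.edge 2087 false,.code,.edge 2088 false],[.code,.edge 857 false,.eqn 869 false,.code,.edge 872 false,.eqn 887 false,.code]⟩,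
⟨0,219,30,0,false,[],[.eqn 2089 false]⟩,
⟨514,11,31,0,true,[],[.eqn 2090 true,.edge 2086 false]⟩,
⟨1553,218,32,0,false,[],[.edge 2091 false,.edge 889 false]⟩,
⟨544,11,32,0,true,[],[.eqn 2090 true,.edge 2087 false]⟩,
⟨0,218,30,0,false,[],[.eqn 2092 false]⟩,
⟨544,25,31,0,true,[],[.eqn 2094 true,.edge 2084 false]⟩,
⟨1143,40,32,0,false,[],[.edge 2095 false,.edge 1175 false]⟩,
⟨0,79,30,0,false,[],[.eqn 2096 true]⟩,
⟨66,40,33,0,true,[],[.eqn 2097 true,.edge 1172 false,.eqn 1976 false]⟩,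
⟨223,74,33,0,false,[],[.edge 2098 true,.edge 1758 false]⟩,
⟨0,165,30,0,false,[],[.eqn 2099 true]⟩,
⟨2,74,31,0,true,[],[.eqn 2100 true,.edge 1728 false]⟩,
⟨2,74,32,0,true,[],[.eqn 2100 true,.edge 1726 false]⟩,
⟨1792,11,0,1,true,[.edge 963 false,.eqn 965 false],[.edge 2093 false]⟩,
⟨546,11,31,0,true,[],[.edge 2103 false]⟩,
⟨0,220,32,0,true,[],[.edge 2104 false]⟩,
⟨1792,11,3,2,true,[.edge 2093 false,.code],[.edge 1612 false,.edge 1703 false,.code]⟩,
⟨12,220,33,0,true,[],[.edge 2106 false]⟩,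
⟨64,101,33,0,true,[],[.edge 2107 true]⟩,
⟨1792,11,27,5,true,[.code,.edge 2093 false,.code,.edge 2107 false,.edge 1704 false],[.code,.edge 2093 false]⟩,
⟨32,191,33,0,true,[],[.edge 2109 false]⟩,
⟨1794,11,1,3,false,[.code,.edge 2104 false,.code],[.code,.edge 2093 false]⟩,
⟨31,220,30,0,false,[],[.eqn 2111 true]⟩,
⟨2,220,31,0,true,[],[.eqn 2112 true,.edge 2088 false,.eqn 2090 false]⟩,
⟨2,220,32,0,true,[],[.eqn 2112 true,.edge 2105 false]⟩,
⟨1794,11,21,6,true,[.code,.edge 1385 false,.code,.edge 1528 false,.code,.edge 1527 false],[.edge 1606 false,.code,.edge 1710 false,.code]⟩,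
⟨70,141,33,0,true,[],[.edge 2115 false]⟩,
⟨38,68,33,0,true,[],[.edge 2116 true]⟩,
⟨70,18,33,0,true,[],[.edge 220 false]⟩,
⟨0,221,33,0,true,[],[.edge 2118 true]⟩,
⟨1794,11,29,5,true,[.code,.edge 938 false,.code,.edge 2118 false,.code],[.code,.edge 890 false,.eqn 965 false,.code,.edge 987 false,.code,.edge 1086 false,.code,.edge 923 false,.eqn 1084 false,.code,.edge 1149 false,.code,.edge 1294 false,.code]⟩,
⟨2,221,33,0,true,[],[.edge 2120 false]⟩,
⟨32,114,33,0,true,[],[.edge 2121 true]⟩,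
⟨704,11,33,0,true,[],[.edge 221 false]⟩,
⟨1796,11,29,7,false,[.code,.edge 1378 false,.code,.edge 1763 false,.eqn 2100 false,.code,.edge 1457 false,.code],[.code,.edge 890 false,.eqn 965 false,.code,.edge 632 false,.code,.edge 1112 false,.eqn 1141 false,.code,.edge 1142 false,.code,.edge 804 false,.code,.edge 1306 false]⟩,
⟨0,120,30,0,false,[],[.eqn 2124 true]⟩,
⟨514,56,32,0,true,[],[.eqn 2125 true,.edge 1305 false]⟩,
⟨1798,11,15,2,true,[.code,.edge 2093 false],[.code,.edge 1229 false,.code,.edge 1530 false,.edge 1597 false,.code]⟩,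
⟨44,220,33,0,true,[],[.edge 2127 false]⟩,
⟨706,11,33,0,true,[],[.edge 222 false]⟩,
⟨1828,11,14,3,true,[.code,.edge 1197 false,.code],[.code,.edge 2051 false,.code]⟩,
⟨78,87,33,0,true,[],[.edge 2130 false]⟩,
⟨42,129,33,0,true,[],[.edge 2131 true]⟩,
⟨1829,11,29,5,true,[.code,.edge 932 false,.code,.edge 847 false,.code],[.code,.edge 1064 false,.code,.edge 1347 false,.code,.edge 1555 false,.code,.edge 1551 false,.eqn 1553 false,.code,.edge 1554 false,.code,.edge 1547 false,.code]⟩,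
⟨46,19,33,0,true,[],[.edge 2133 false]⟩,
⟨518,11,33,0,true,[],[.edge 223 false]⟩,
⟨4,224,33,0,true,[],[.edge 224 false]⟩,
⟨1832,11,25,6,true,[.edge 1064 false,.edge 1150 false,.code,.edge 1940 false,.code,.edge 2045 false],[.edge 1064 false,.code,.edge 1150 false,.code]⟩,
⟨64,130,33,0,true,[],[.edge 2137 false]⟩,
⟨490,27,33,0,true,[],[.edge 2138 true]⟩,
⟨1838,11,21,6,true,[.code,.edge 1247 false,.code,.edge 1245 false,.eqn 1370 false,.code,.edge 1371 false],[.edge 2051 false,.code,.edge 2132 false,.code]⟩,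
⟨4,28,33,0,true,[],[.edge 2140 false]⟩]

/-- Deductions. -/
def c4_18 : List Step := [
⟨544,15,32,0,true,[],[.edge 225 false]⟩,
⟨0,226,31,0,true,[],[.edge 2142 false]⟩,
⟨384,226,32,0,true,[],[.edge 226 false]⟩,
⟨0,227,31,0,true,[],[.edge 2144 false]⟩,
⟨1839,11,29,15,true,[.code,.edge 1714 false,.eqn 2069 false,.code,.edge 1047 false,.code,.edge 1771 false,.eqn 1898 false,.code,.edge 632 false,.code,.edge 2142 false,.code,.edge 2144 false,.code,.edge 2145 false,.code],[.code,.edge 1064 false,.code]⟩,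
⟨2,226,31,0,true,[],[.edge 2146 false]⟩,
⟨514,59,32,0,true,[],[.edge 2147 false]⟩,
⟨44,19,33,0,true,[],[.edge 227 false]⟩,
⟨1848,11,29,5,true,[.code,.edge 913 false,.code,.edge 2149 false,.code],[.code,.edge 1064 false,.code,.edge 1432 false,.code,.edge 1434 false,.code,.edge 1435 false,.code,.edge 1437 false,.code,.edge 1161 false,.code]⟩,
⟨2,228,33,0,true,[],[.edge 2150 false]⟩,
⟨716,73,33,0,true,[],[.edge 2151 true]⟩,
⟨544,155,32,0,true,[],[.edge 228 false]⟩,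
⟨0,229,31,0,true,[],[.edge 2153 false]⟩,
⟨384,229,32,0,true,[],[.edge 229 false]⟩,
⟨0,230,31,0,true,[],[.edge 2155 false]⟩,
⟨1859,11,29,14,false,[.code,.edge 1677 false,.eqn 1884 false,.code,.edge 1109 false,.code,.edge 1917 false,.code,.edge 1427 false,.code,.edge 2153 false,.code,.edge 2155 false,.code,.edge 2156 false],[.code,.edge 890 false,.eqn 965 false,.code,.edge 1079 false,.code]⟩,
⟨0,229,30,0,false,[],[.eqn 2157 false]⟩,
⟨2,27,31,0,true,[],[.eqn 2158 true,.edge 2154 false]⟩,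
⟨636,155,32,0,false,[],[.edge 2159 false,.edge 1085 false]⟩,
⟨0,155,30,0,false,[],[.eqn 2160 false]⟩,
⟨546,40,31,0,true,[],[.eqn 2161 true,.edge 1422 false,.eqn 1424 false]⟩,
⟨1348,31,32,0,false,[],[.edge 2162 false,.edge 1234 false]⟩,
⟨0,100,30,0,false,[],[.eqn 2163 true]⟩,
⟨418,31,33,0,true,[],[.eqn 2164 true,.edge 2059 false]⟩,
⟨1870,11,29,3,false,[.code,.edge 2051 false,.code],[.code,.edge 890 false,.eqn 965 false,.code,.edge 857 false,.eqn 869 false,.code,.edge 872 false,.eqn 887 false,.code,.edge 888 false,.code,.edge 908 false,.code,.edge 1189 false,.code,.edge 1854 false,.eqn 2037 false,.code,.edge 1672 false,.eqn 1959 false]⟩,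
⟨0,188,30,0,false,[],[.eqn 2166 true]⟩,
⟨2,129,31,0,true,[],[.eqn 2167 true,.edge 2061 false]⟩,
⟨64,129,33,0,true,[],[.eqn 2167 true,.edge 1582 false]⟩,
⟨1707,97,33,0,false,[],[.edge 2169 true,.edge 2049 false]⟩,
⟨72,129,33,0,true,[],[.eqn 2167 true,.edge 2035 false]⟩,
⟨0,97,30,0,false,[],[.eqn 2170 false]⟩,
⟨386,59,32,0,true,[],[.eqn 2172 true,.edge 1227 false]⟩,
⟨1410,25,31,0,false,[],[.edge 2173 false,.edge 1347 false]⟩,
⟨490,59,33,0,true,[],[.eqn 2172 true,.edge 1517 false,.eqn 1979 false]⟩,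
⟨0,133,30,0,false,[],[.eqn 2174 true]⟩,
⟨512,25,31,0,true,[],[.eqn 2176 true,.edge 1554 false]⟩,
⟨1600,181,32,0,false,[],[.edge 2177 false,.edge 1189 false]⟩,
⟨544,25,32,0,true,[],[.eqn 2176 true,.edge 1555 false]⟩,
⟨0,181,30,0,false,[],[.eqn 2178 false]⟩,
⟨512,85,31,0,true,[],[.eqn 2180 true,.edge 1547 false]⟩,
⟨1881,11,29,5,true,[.code,.edge 1253 false,.code,.edge 1966 false,.code],[.code,.edge 890 false,.eqn 965 false,.code,.edge 987 false,.code,.edge 999 false,.code,.edge 998 false,.code,.edge 1149 false,.code,.edge 1354 false,.code]⟩,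
⟨72,62,33,0,true,[],[.edge 2182 false]⟩,
⟨514,25,32,0,true,[],[.edge 230 false]⟩,
⟨1888,11,5,1,true,[.edge 1489 false],[.code,.edge 2123 false]⟩,
⟨546,27,31,0,true,[],[.edge 2185 false]⟩,
⟨0,222,32,0,true,[],[.edge 2186 false]⟩,
⟨68,98,33,0,true,[],[.edge 231 false]⟩,
⟨1890,11,29,5,true,[.code,.edge 1589 false,.code,.edge 2188 false,.code],[.code,.edge 857 false,.eqn 869 false,.code,.edge 872 false,.eqn 887 false,.code,.edge 988 false,.code,.edge 989 false,.code,.edge 889 false,.code,.edge 1363 false,.code]⟩,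
⟨2,232,33,0,true,[],[.edge 2189 false]⟩,
⟨8,68,33,0,true,[],[.edge 232 false]⟩,
⟨1891,11,29,5,true,[.code,.edge 1130 false,.code,.edge 2191 false,.code],[.code,.edge 857 false,.eqn 869 false,.code,.edge 872 false,.eqn 887 false,.code,.edge 1079 false,.code,.edge 1078 false,.code,.edge 889 false,.code,.edge 1368 false,.code]⟩,
⟨2,233,33,0,true,[],[.edge 2192 false]⟩,
⟨1892,11,7,2,true,[.code,.edge 1053 false],[.code,.edge 2129 false]⟩,
⟨480,10,31,0,true,[],[.edge 2194 false]⟩,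
⟨0,223,32,0,true,[],[.edge 2195 false]⟩,
⟨386,10,31,0,true,[],[.eqn 554 true,.edge 2195 false]⟩,
⟨1894,11,3,4,true,[.edge 898 false,.code,.edge 2079 false,.code],[.edge 2135 false]⟩,
⟨0,185,31,0,true,[],[.edge 2198 false]⟩,
⟨0,224,32,0,true,[],[.edge 2199 false]⟩,
⟨1894,11,5,1,true,[.edge 2135 false],[.code,.edge 1319 false]⟩,
⟨0,224,31,0,true,[],[.edge 2201 false]⟩,
⟨0,126,32,0,true,[],[.edge 2202 false]⟩,
⟨1894,11,12,2,true,[.code,.edge 2123 false],[.code,.edge 1295 false,.eqn 1431 false]⟩,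
⟨0,222,31,0,true,[],[.edge 2204 false]⟩,
⟨2,31,32,0,true,[],[.edge 2205 false]⟩,
⟨1894,11,24,4,true,[.code,.edge 898 false,.edge 907 false,.code],[.edge 2135 false,.edge 2200 false,.code,.edge 1638 false,.code]⟩,
⟨608,3,33,0,true,[],[.edge 2207 false]⟩,
⟨704,3,33,0,true,[],[.eqn 466 true,.edge 2208 false]⟩,
⟨1894,11,25,6,true,[.edge 898 false,.edge 907 false,.code,.edge 2074 false,.code,.edge 2186 false],[.edge 898 false,.code,.edge 907 false,.code]⟩,
⟨64,222,33,0,true,[],[.edge 2210 false]⟩,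
⟨614,3,33,0,true,[],[.edge 2211 true]⟩,
⟨710,3,33,0,true,[],[.eqn 466 true,.edge 2212 false]⟩,
⟨1894,11,27,5,true,[.code,.edge 898 false,.code,.edge 2079 false,.edge 2199 false],[.code,.edge 898 false]⟩,
⟨32,224,33,0,true,[],[.edge 2214 false]⟩,
⟨8,25,33,0,true,[],[.edge 2215 true]⟩,
⟨1896,11,12,2,true,[.code,.edge 2129 false],[.code,.edge 1192 false]⟩,
⟨0,223,31,0,true,[],[.edge 2217 false]⟩,
⟨0,31,32,0,true,[],[.edge 2218 false]⟩,
⟨1896,11,29,5,true,[.code,.edge 1595 false,.code,.edge 1658 false,.code],[.code,.edge 857 false,.eqn 869 false,.code,.edge 377 false,.code,.edge 551 false,.code,.edge 468 false,.code,.edge 535 false,.code,.edge 1396 false,.code]⟩,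
⟨4,194,33,0,true,[],[.edge 2220 false]⟩,
⟨1897,11,29,5,true,[.code,.edge 1124 false,.code,.edge 1125 false,.code],[.code,.edge 857 false,.eqn 869 false,.code,.edge 377 false,.code,.edge 552 false,.code,.edge 468 false,.code,.edge 534 false,.code,.edge 1390 false,.code]⟩,
⟨8,66,33,0,true,[],[.edge 2222 false]⟩,
⟨8,65,33,0,true,[],[.edge 233 false]⟩,
⟨1899,11,29,5,true,[.code,.edge 1124 false,.code,.edge 2224 false,.code],[.code,.edge 898 false,.code,.edge 884 false,.code,.edge 514 false,.code,.edge 513 false,.code,.edge 952 false,.code,.edge 1405 false,.code]⟩,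
⟨2,234,33,0,true,[],[.edge 2225 false]⟩,
⟨1904,11,15,2,true,[.code,.edge 898 false],[.code,.edge 1489 false,.code,.edge 999 false,.edge 2206 false,.code]⟩,
⟨78,25,33,0,true,[],[.edge 2227 false]⟩,
⟨32,222,33,0,true,[],[.edge 2228 true]⟩,
⟨1904,11,17,4,true,[.code,.edge 1714 false,.eqn 2069 false,.edge 2071 false,.code],[.code,.edge 1489 false,.edge 999 false,.code,.edge 2206 false,.code]⟩,
⟨70,26,33,0,true,[],[.edge 2230 false]⟩,
⟨76,222,33,0,true,[],[.edge 2231 true]⟩,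
⟨0,12,14,5,true,[.code,.edge 853 false,.code,.edge 1309 false,.code],[.code]⟩,
⟨10,122,33,0,true,[],[.edge 2233 false]⟩,
⟨10,12,33,0,true,[],[.edge 2234 true]⟩,
⟨0,12,17,2,true,[.code,.edge 2235 false],[.code,.edge 577 false,.edge 790 false,.code,.edge 805 false,.code,.edge 961 false,.code]⟩,
⟨0,122,32,0,true,[],[.edge 2236 false]⟩,
⟨2,30,31,0,true,[],[.edge 2237 false]⟩,
⟨0,12,21,8,false,[.code,.edge 853 false,.code,.edge 808 false,.code,.edge 807 false,.edge 1556 false,.code],[.edge 577 false,.code,.edge 1026 false]⟩,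
⟨0,184,30,0,false,[],[.eqn 2239 false]⟩,
⟨14,51,33,0,true,[],[.eqn 2240 true,.edge 1558 false]⟩]

/-- Deductions. -/
def c4_19 : List Step := [
⟨1,12,7,2,true,[.code,.edge 2235 false],[.code,.edge 1705 false]⟩,
⟨0,122,31,0,true,[],[.edge 2242 false]⟩,
⟨0,203,32,0,true,[],[.edge 2243 false]⟩,
⟨1,12,13,5,false,[.code,.edge 2235 false,.edge 2237 false,.edge 1032 false,.code],[]⟩,
⟨0,52,30,0,false,[],[.eqn 2245 false]⟩,
⟨44,12,33,0,true,[],[.eqn 2246 true,.edge 1033 false]⟩,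
⟨40,12,33,0,true,[],[.eqn 2246 true,.edge 1035 false]⟩,
⟨1110,31,33,0,false,[],[.edge 2248 true,.edge 1031 false]⟩,
⟨1110,31,30,0,false,[],[.eqn 2249 false,.eqn 1068 false]⟩,
⟨0,31,30,0,false,[],[.eqn 2250 false]⟩,
⟨480,26,31,0,true,[],[.eqn 2251 true,.edge 944 false]⟩,
⟨482,26,31,0,true,[],[.eqn 2251 true,.edge 998 false]⟩,
⟨546,26,31,0,true,[],[.eqn 2251 true,.edge 1410 false]⟩,
⟨544,26,31,0,true,[],[.eqn 2251 true,.edge 1405 false]⟩,
⟨0,26,31,0,true,[],[.eqn 2251 true,.edge 1283 false]⟩,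
⟨1841,110,32,0,false,[],[.edge 2256 false,.edge 1914 false]⟩,
⟨386,26,31,0,true,[],[.eqn 2251 true,.edge 1221 false]⟩,
⟨1067,93,32,0,false,[],[.edge 2258 false,.edge 1371 false]⟩,
⟨480,26,32,0,true,[],[.eqn 2251 true,.edge 2219 false]⟩,
⟨199,223,31,0,false,[],[.edge 2260 false,.edge 1916 false]⟩,
⟨482,26,32,0,true,[],[.eqn 2251 true,.edge 2206 false]⟩,
⟨514,26,32,0,true,[],[.eqn 2251 true,.edge 946 false,.eqn 951 false]⟩,
⟨544,26,32,0,true,[],[.eqn 2251 true,.edge 1427 false,.eqn 2161 false]⟩,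
⟨494,26,33,0,true,[],[.eqn 2251 true,.edge 1686 false]⟩,
⟨684,26,33,0,true,[],[.eqn 2251 true,.edge 1495 false]⟩,
⟨650,26,33,0,true,[],[.eqn 2251 true,.edge 2165 false]⟩,
⟨1841,110,30,0,false,[],[.eqn 2257 false,.eqn 2069 false]⟩,
⟨0,110,30,0,false,[],[.eqn 2268 false]⟩,
⟨546,56,33,0,true,[],[.eqn 2269 true,.edge 1692 false]⟩,
⟨0,93,30,0,false,[],[.eqn 2259 false]⟩,
⟨704,28,33,0,true,[],[.eqn 2271 true,.edge 1218 false]⟩,
⟨512,28,33,0,true,[],[.eqn 2271 true,.edge 1984 false]⟩,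
⟨0,223,30,0,false,[],[.eqn 2261 false]⟩,
⟨544,27,32,0,true,[],[.eqn 2274 true,.edge 2196 false]⟩,
⟨1,12,16,6,false,[.code,.edge 1705 false,.code,.edge 2244 false,.edge 2237 false,.code],[.code,.edge 814 false,.code,.edge 823 false,.edge 1289 false]⟩,
⟨0,113,30,0,false,[],[.eqn 2276 true]⟩,
⟨68,30,33,0,true,[],[.eqn 2277 true,.edge 1290 false]⟩,
⟨70,30,33,0,true,[],[.eqn 2277 true,.edge 1291 false]⟩,
⟨2,12,13,1,true,[.code],[.code,.edge 1614 false,.edge 1845 false]⟩,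
⟨8,12,33,0,true,[],[.edge 2280 false]⟩,
⟨2,12,14,5,false,[.code,.edge 1031 false,.eqn 1068 false,.code,.edge 1375 false,.code],[.code,.edge 2281 false]⟩,
⟨0,208,30,0,false,[],[.eqn 2282 true]⟩,
⟨0,134,31,0,true,[],[.eqn 2283 true,.edge 1990 false]⟩,
⟨0,134,32,0,true,[],[.eqn 2283 true,.edge 1846 false]⟩,
⟨8,134,33,0,true,[],[.eqn 2283 true,.edge 1793 false]⟩,
⟨2,12,16,1,true,[.code],[.code,.edge 722 false,.code,.edge 726 false,.edge 1498 false,.code,.edge 1845 false,.eqn 2283 false,.edge 2284 false,.code]⟩,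
⟨68,12,33,0,true,[],[.edge 2287 false]⟩,
⟨6,62,33,0,true,[],[.edge 2288 true]⟩,
⟨2,12,25,3,true,[.edge 722 false,.edge 726 false,.code],[.edge 722 false,.code,.edge 726 false,.code,.edge 918 false,.edge 1879 false,.eqn 1961 false,.code]⟩,
⟨8,18,33,0,true,[],[.edge 2290 false]⟩,
⟨4,12,7,1,true,[.code],[.code,.edge 1205 false,.eqn 2251 false,.edge 1916 false]⟩,
⟨14,12,33,0,true,[],[.edge 2292 false]⟩,
⟨8,12,3,2,true,[.edge 722 false,.code],[.edge 2281 false,.eqn 2283 false,.edge 2285 false,.code]⟩,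
⟨40,16,33,0,true,[],[.edge 2294 false]⟩,
⟨8,12,15,2,true,[.code,.edge 722 false],[.code,.edge 2281 false,.eqn 2283 false,.code,.edge 2285 false,.edge 1492 false,.code]⟩,
⟨78,16,33,0,true,[],[.edge 2296 false]⟩,
⟨42,62,33,0,true,[],[.edge 2297 true]⟩,
⟨10,12,3,2,true,[.edge 814 false,.code],[.edge 2235 false,.edge 2237 false,.code]⟩,
⟨10,18,33,0,true,[],[.edge 2299 false]⟩,
⟨10,12,14,1,true,[.code],[.code,.edge 577 false,.code,.edge 1026 false,.code]⟩,
⟨38,12,33,0,true,[],[.edge 2301 false]⟩,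
⟨10,12,27,5,false,[.code,.edge 814 false,.code,.edge 2300 false,.edge 2238 false],[.code,.edge 814 false,.edge 2118 false]⟩,
⟨0,221,30,0,false,[],[.eqn 2303 true]⟩,
⟨44,122,33,0,true,[],[.eqn 2304 true,.edge 2119 false]⟩,
⟨12,12,12,2,true,[.code,.edge 1705 false],[.code,.edge 2247 false]⟩,
⟨0,203,31,0,true,[],[.edge 2306 false]⟩,
⟨2,30,32,0,true,[],[.edge 2307 false]⟩,
⟨12,12,14,3,true,[.code,.edge 2247 false,.code],[.code,.edge 752 false,.code]⟩,
⟨72,30,33,0,true,[],[.edge 2309 false]⟩,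
⟨12,17,33,0,true,[],[.edge 2310 true]⟩,
⟨14,12,24,4,true,[.code,.edge 722 false,.edge 726 false,.code],[.edge 2293 false,.edge 2275 false,.code,.edge 943 false,.eqn 2251 false,.code]⟩,
⟨78,18,33,0,true,[],[.edge 2312 false]⟩,
⟨14,12,25,3,true,[.edge 722 false,.edge 726 false,.code],[.edge 722 false,.code,.edge 726 false,.code,.edge 1271 false,.edge 1991 false,.eqn 2283 false,.code]⟩,
⟨14,18,33,0,true,[],[.edge 2314 false]⟩,
⟨22,12,21,6,true,[.code,.edge 825 false,.code,.edge 805 false,.code,.edge 804 false],[.edge 752 false,.code,.edge 2311 false,.code]⟩,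
⟨36,13,33,0,true,[],[.edge 2316 false]⟩,
⟨24,12,25,3,true,[.edge 722 false,.edge 726 false,.code],[.edge 722 false,.code,.edge 726 false,.code,.edge 2313 false,.edge 1916 false,.code]⟩,
⟨4,18,33,0,true,[],[.edge 2318 false]⟩,
⟨26,12,17,4,true,[.code,.edge 577 false,.edge 790 false,.code],[.code,.edge 2235 false,.edge 2237 false,.code,.edge 2308 false,.code]⟩,
⟨72,13,33,0,true,[],[.edge 2320 false]⟩,
⟨34,12,21,6,true,[.code,.edge 1205 false,.eqn 2251 false,.code,.edge 1916 false,.code,.edge 1349 false,.eqn 1913 false],[.edge 958 false,.code,.edge 1849 false,.code]⟩,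
⟨486,26,33,0,true,[],[.edge 2322 false]⟩,
⟨74,62,33,0,true,[],[.edge 2323 true]⟩,
⟨36,12,17,4,true,[.code,.edge 1614 false,.edge 1492 false,.code],[.code,.edge 1646 false,.edge 943 false,.eqn 2251 false,.code,.edge 1916 false,.code]⟩,
⟨12,62,33,0,true,[],[.edge 2325 false]⟩,
⟨70,12,21,8,true,[.code,.edge 577 false,.code,.edge 790 false,.code,.edge 789 false,.edge 966 false,.code],[.edge 1705 false,.code]⟩,
⟨10,34,33,0,true,[],[.edge 2327 false]⟩,
⟨10,203,33,0,true,[],[.edge 2328 true]⟩,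
⟨76,12,14,1,true,[.code],[.code,.edge 1705 false,.code,.edge 2329 false,.code]⟩,
⟨12,12,33,0,true,[],[.edge 2330 false]⟩,
⟨77,12,12,2,true,[.code,.edge 2302 false],[.code,.edge 2331 false]⟩,
⟨0,51,31,0,true,[],[.edge 2332 false]⟩,
⟨0,34,32,0,true,[],[.edge 2333 false]⟩,
⟨102,12,14,3,true,[.code,.edge 825 false,.code],[.code,.edge 2331 false,.code]⟩,
⟨46,13,33,0,true,[],[.edge 2335 false]⟩,
⟨108,12,3,2,true,[.edge 814 false,.code],[.edge 2331 false,.edge 2334 false,.code]⟩,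
⟨12,18,33,0,true,[],[.edge 2337 false]⟩,
⟨108,12,27,5,true,[.code,.edge 814 false,.code,.edge 2338 false,.edge 2333 false],[.code,.edge 814 false]⟩,
⟨76,34,33,0,true,[],[.edge 2339 false]⟩,
⟨74,18,33,0,true,[],[.edge 2340 true]⟩]

/-- Deductions. -/
def c4_20 : List Step := [
⟨456,12,29,17,true,[.code,.edge 2247 false,.code,.edge 942 false,.code,.edge 656 false,.code,.edge 872 false,.eqn 887 false,.code,.edge 890 false,.eqn 965 false,.code,.edge 790 false,.code,.edge 789 false,.code,.edge 2104 false,.code],[.code]⟩,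
⟨480,220,31,0,true,[],[.edge 2342 false]⟩,
⟨386,12,32,0,true,[],[.edge 2343 false]⟩,
⟨482,220,31,0,true,[],[.eqn 2112 true,.edge 2343 false]⟩,
⟨14,162,33,0,true,[],[.edge 234 false]⟩,
⟨457,12,29,5,true,[.code,.edge 1614 false,.code,.edge 2346 false,.code],[.code,.edge 2344 false,.code,.edge 2105 false,.code,.edge 632 false,.code,.edge 633 false,.code,.edge 963 false,.eqn 965 false,.code,.edge 889 false,.code]⟩,
⟨2,235,33,0,true,[],[.edge 2347 false]⟩,
⟨386,25,33,0,true,[],[.edge 2348 true]⟩,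
⟨458,12,1,1,true,[.code],[.code,.edge 2344 false,.code]⟩,
⟨384,12,31,0,true,[],[.edge 2350 false]⟩,
⟨482,220,32,0,true,[],[.edge 2351 false]⟩,
⟨459,12,0,2,true,[.edge 2351 false,.edge 2345 false],[]⟩,
⟨386,12,31,0,true,[],[.edge 2353 false]⟩,
⟨384,12,32,0,true,[],[.edge 2354 false]⟩,
⟨78,14,33,0,true,[],[.edge 235 false]⟩,
⟨2,236,33,0,true,[],[.edge 236 false]⟩,
⟨461,12,29,7,true,[.code,.edge 853 false,.code,.edge 2356 false,.code,.edge 2357 false,.code],[.code,.edge 2355 false,.code,.edge 814 false,.code,.edge 972 false,.eqn 983 false,.code,.edge 984 false,.code,.edge 725 false,.code]⟩,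
⟨480,237,32,0,true,[],[.edge 2358 false]⟩,
⟨546,16,31,0,true,[],[.edge 2359 false]⟩,
⟨384,27,32,0,true,[],[.edge 237 false]⟩,
⟨0,238,31,0,true,[],[.edge 2361 false]⟩,
⟨384,238,32,0,true,[],[.edge 238 false]⟩,
⟨0,239,31,0,true,[],[.edge 2363 false]⟩,
⟨465,12,29,15,true,[.code,.edge 825 false,.code,.edge 676 false,.code,.edge 655 false,.code,.edge 1079 false,.code,.edge 2361 false,.code,.edge 2363 false,.code,.edge 2364 false,.code],[.code,.edge 2355 false,.code]⟩,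
⟨2,238,31,0,true,[],[.edge 2365 false]⟩,
⟨482,12,32,0,true,[],[.edge 2366 false]⟩,
⟨6,30,33,0,true,[],[.edge 239 false]⟩,
⟨472,12,29,5,true,[.code,.edge 2247 false,.code,.edge 2368 false,.code],[.code,.edge 2344 false,.code,.edge 2114 false,.code,.edge 857 false,.eqn 869 false,.code,.edge 870 false,.code,.edge 963 false,.eqn 965 false,.code,.edge 627 false,.code]⟩,
⟨2,240,33,0,true,[],[.edge 2369 false]⟩,
⟨458,13,33,0,true,[],[.edge 2370 true]⟩,
⟨512,71,32,0,true,[],[.edge 240 false]⟩,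
⟨0,241,31,0,true,[],[.edge 2372 false]⟩,
⟨386,71,32,0,true,[],[.eqn 1969 true,.edge 2372 false]⟩,
⟨384,241,32,0,true,[],[.edge 241 false]⟩,
⟨0,242,31,0,true,[],[.edge 2375 false]⟩,
⟨384,242,32,0,true,[],[.edge 242 false]⟩,
⟨0,243,31,0,true,[],[.edge 2377 false]⟩,
⟨476,12,29,14,false,[.code,.edge 1031 false,.eqn 1068 false,.code,.edge 1376 false,.code,.edge 1818 false,.eqn 1955 false,.code,.edge 2372 false,.code,.edge 2375 false,.code,.edge 2377 false,.code,.edge 2378 false],[.code,.edge 2355 false,.code,.edge 722 false,.code]⟩,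
⟨0,242,30,0,false,[],[.eqn 2379 false]⟩,
⟨0,16,31,0,true,[],[.eqn 2380 true,.edge 2376 false]⟩,
⟨794,241,32,0,false,[],[.edge 2381 false,.edge 822 false]⟩,
⟨546,16,32,0,true,[],[.eqn 2380 true,.edge 2377 false]⟩,
⟨0,241,30,0,false,[],[.eqn 2382 false]⟩,
⟨512,18,31,0,true,[],[.eqn 2384 true,.edge 2373 false]⟩,
⟨480,12,1,1,true,[.code],[.code,.edge 2367 false,.code]⟩,
⟨480,12,31,0,true,[],[.edge 2386 false]⟩,
⟨481,12,0,2,true,[.edge 2387 false,.edge 2362 false],[]⟩,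
⟨384,27,31,0,true,[],[.edge 2388 false]⟩,
⟨480,12,32,0,true,[],[.edge 2389 false]⟩,
⟨514,20,32,0,true,[],[.edge 243 false]⟩,
⟨0,244,31,0,true,[],[.edge 2391 false]⟩,
⟨384,244,32,0,true,[],[.edge 244 false]⟩,
⟨0,245,31,0,true,[],[.edge 2393 false]⟩,
⟨384,245,32,0,true,[],[.edge 245 false]⟩,
⟨0,246,31,0,true,[],[.edge 2395 false]⟩,
⟨481,12,29,14,false,[.code,.edge 577 false,.code,.edge 740 false,.code,.edge 771 false,.code,.edge 2391 false,.code,.edge 2393 false,.code,.edge 2395 false,.code,.edge 2396 false],[.code,.edge 2390 false,.code,.edge 994 false,.code]⟩,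
⟨0,245,30,0,false,[],[.eqn 2397 false]⟩,
⟨0,40,31,0,true,[],[.eqn 2398 true,.edge 2394 false]⟩,
⟨1546,244,32,0,false,[],[.edge 2399 false,.edge 989 false]⟩,
⟨386,40,32,0,true,[],[.eqn 2398 true,.edge 2395 false]⟩,
⟨0,244,30,0,false,[],[.eqn 2400 false]⟩,
⟨482,11,31,0,true,[],[.eqn 2402 true,.edge 2392 false]⟩,
⟨1778,20,32,0,false,[],[.edge 2403 false,.edge 904 false]⟩,
⟨0,27,30,0,false,[],[.eqn 2404 true]⟩,
⟨544,20,31,0,true,[],[.eqn 2405 true,.edge 1078 false]⟩,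
⟨546,20,31,0,true,[],[.eqn 2405 true,.edge 1085 false]⟩,
⟨480,20,31,0,true,[],[.eqn 2405 true,.edge 2389 false]⟩,
⟨514,20,31,0,true,[],[.eqn 2405 true,.edge 1149 false]⟩,
⟨512,20,31,0,true,[],[.eqn 2405 true,.edge 986 false]⟩,
⟨2,20,31,0,true,[],[.eqn 2405 true,.edge 1603 false]⟩,
⟨1853,190,32,0,false,[],[.edge 2411 false,.edge 710 false]⟩,
⟨0,20,31,0,true,[],[.eqn 2405 true,.edge 1538 false]⟩,
⟨1632,179,32,0,false,[],[.edge 2413 false,.edge 773 false]⟩,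
⟨384,20,31,0,true,[],[.eqn 2405 true,.edge 1349 false,.eqn 1913 false]⟩,
⟨386,20,31,0,true,[],[.eqn 2405 true,.edge 2186 false]⟩,
⟨544,20,32,0,true,[],[.eqn 2405 true,.edge 994 false]⟩,
⟨546,20,32,0,true,[],[.eqn 2405 true,.edge 1086 false]⟩,
⟨480,20,32,0,true,[],[.eqn 2405 true,.edge 2361 false]⟩,
⟨512,20,32,0,true,[],[.eqn 2405 true,.edge 1139 false,.eqn 1141 false]⟩,
⟨384,20,32,0,true,[],[.eqn 2405 true,.edge 2275 false]⟩,
⟨386,20,32,0,true,[],[.eqn 2405 true,.edge 999 false,.eqn 2251 false]⟩,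
⟨544,20,33,0,true,[],[.eqn 2405 true,.edge 1791 false,.eqn 1971 false]⟩,
⟨742,20,33,0,true,[],[.eqn 2405 true,.edge 1021 false]⟩,
⟨524,20,33,0,true,[],[.eqn 2405 true,.edge 1809 false,.eqn 1956 false]⟩,
⟨520,20,33,0,true,[],[.eqn 2405 true,.edge 2139 false]⟩,
⟨462,20,33,0,true,[],[.eqn 2405 true,.edge 1640 false]⟩,
⟨450,20,33,0,true,[],[.eqn 2405 true,.edge 2073 false]⟩,
⟨642,20,33,0,true,[],[.eqn 2405 true,.edge 1939 false]⟩,
⟨418,20,33,0,true,[],[.eqn 2405 true,.edge 1676 false]⟩,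
⟨0,190,30,0,false,[],[.eqn 2412 false]⟩,
⟨642,20,33,0,true,[],[.eqn 2431 true,.edge 1600 false]⟩,
⟨31,106,33,0,false,[],[.edge 2432 true,.edge 2429 false]⟩,
⟨0,179,30,0,false,[],[.eqn 2414 false]⟩,
⟨544,20,33,0,true,[],[.eqn 2434 true,.edge 1535 false,.eqn 2015 false]⟩,
⟨179,84,33,0,false,[],[.edge 2435 true,.edge 2423 false]⟩,
⟨0,106,30,0,false,[],[.eqn 2433 false]⟩,
⟨12,89,33,0,true,[],[.eqn 2437 true,.edge 1274 false]⟩,
⟨1716,25,33,0,false,[],[.edge 2438 true,.edge 2029 false]⟩,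
⟨0,84,30,0,false,[],[.eqn 2436 false]⟩,
⟨2,81,31,0,true,[],[.eqn 2440 true,.edge 2016 false]⟩]

/-- Deductions. -/
def c4_21 : List Step := [
⟨2,81,32,0,true,[],[.eqn 2440 true,.edge 2022 false,.eqn 2027 false]⟩,
⟨2,81,33,0,true,[],[.eqn 2440 true,.edge 2043 false]⟩,
⟨306,171,33,0,false,[],[.edge 2443 true,.edge 1178 false]⟩,
⟨0,215,30,0,false,[],[.eqn 2439 true]⟩,
⟨514,25,31,0,true,[],[.eqn 2445 true,.edge 2019 false]⟩,
⟨181,87,32,0,false,[],[.edge 2446 false,.edge 1228 false]⟩,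
⟨514,25,32,0,true,[],[.eqn 2445 true,.edge 2041 false]⟩,
⟨165,171,31,0,false,[],[.edge 2448 false,.edge 2184 false]⟩,
⟨716,25,33,0,true,[],[.eqn 2445 true,.edge 1994 false]⟩,
⟨714,25,33,0,true,[],[.eqn 2445 true,.edge 2066 false]⟩,
⟨0,171,30,0,false,[],[.eqn 2444 false]⟩,
⟨0,82,31,0,true,[],[.eqn 2452 true,.edge 2040 false,.eqn 2445 false]⟩,
⟨181,87,30,0,false,[],[.eqn 2447 false,.eqn 2172 false]⟩,
⟨0,87,30,0,false,[],[.eqn 2454 false]⟩,
⟨386,59,31,0,true,[],[.eqn 2455 true,.edge 1544 false,.eqn 2452 false]⟩,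
⟨336,82,32,0,false,[],[.edge 2456 false,.edge 1452 false]⟩,
⟨165,171,30,0,false,[.eqn 2452 false],[.eqn 2449 false]⟩,
⟨0,231,30,0,false,[],[.eqn 2458 true]⟩,
⟨0,160,30,0,false,[],[.eqn 2457 true]⟩,
⟨546,82,33,0,true,[],[.eqn 2460 true,.edge 1766 false]⟩,
⟨482,12,1,1,true,[.code],[.code,.edge 2390 false,.eqn 2405 false,.code]⟩,
⟨482,12,31,0,true,[],[.edge 2462 false]⟩,
⟨482,20,32,0,true,[],[.edge 2463 false]⟩,
⟨544,238,32,0,true,[],[.edge 246 false]⟩,
⟨0,247,31,0,true,[],[.edge 2465 false]⟩,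
⟨384,247,32,0,true,[],[.edge 247 false]⟩,
⟨0,248,31,0,true,[],[.edge 2467 false]⟩,
⟨482,12,29,15,true,[.code,.edge 1022 false,.code,.edge 1824 false,.eqn 2031 false,.code,.edge 1831 false,.eqn 2434 false,.code,.edge 2419 false,.code,.edge 2465 false,.code,.edge 2467 false,.code,.edge 2468 false,.code],[.code,.edge 2367 false,.code]⟩,
⟨2,247,31,0,true,[],[.edge 2469 false]⟩,
⟨546,238,32,0,true,[],[.edge 2470 false]⟩,
⟨483,12,0,1,true,[.edge 2463 false],[.edge 2367 false]⟩,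
⟨482,20,31,0,true,[],[.edge 2472 false]⟩,
⟨485,12,29,17,false,[.code,.edge 579 false,.code,.edge 620 false,.code,.edge 617 false,.code,.edge 1079 false,.eqn 2405 false,.code,.edge 2464 false,.code,.edge 2344 false,.code,.edge 2343 false,.code,.edge 2387 false,.code],[.code,.edge 2367 false]⟩,
⟨456,238,30,0,false,[],[.eqn 2474 true]⟩,
⟨386,238,31,0,true,[],[.eqn 2475 true,.edge 2362 false,.eqn 2405 false]⟩,
⟨384,238,31,0,true,[],[.eqn 2475 true,.edge 2366 false]⟩,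
⟨487,12,29,5,false,[.code,.edge 579 false,.code,.edge 2213 false,.code],[.code,.edge 2390 false,.eqn 2405 false,.code,.edge 711 false,.code,.edge 2421 false,.code,.edge 2195 false,.eqn 2274 false,.eqn 2405 false,.code,.edge 773 false,.code,.edge 2410 false,.code,.edge 1053 false]⟩,
⟨0,222,30,0,false,[],[.eqn 2478 false]⟩,
⟨482,10,31,0,true,[],[.eqn 2479 true,.edge 2205 false,.eqn 2251 false]⟩,
⟨482,10,32,0,true,[],[.eqn 2479 true,.edge 2187 false,.eqn 2405 false]⟩,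
⟨494,10,33,0,true,[],[.eqn 2479 true,.edge 2229 false]⟩,
⟨584,10,33,0,true,[],[.eqn 2479 true,.edge 2232 false]⟩,
⟨71,26,33,0,false,[],[.edge 2483 true,.edge 1715 false]⟩,
⟨384,10,31,0,true,[],[.eqn 554 true,.edge 2480 false]⟩,
⟨384,10,32,0,true,[],[.eqn 554 true,.edge 2481 false]⟩,
⟨0,205,30,0,false,[],[.eqn 2484 true]⟩,
⟨72,26,33,0,true,[],[.eqn 2487 true,.edge 1717 false]⟩,
⟨289,125,33,0,false,[],[.edge 2488 true,.edge 1416 false]⟩,
⟨0,125,30,0,false,[],[.eqn 2489 false]⟩,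
⟨386,95,32,0,true,[],[.eqn 2490 true,.edge 1317 false]⟩,
⟨34,34,33,0,true,[],[.edge 248 false]⟩,
⟨490,12,29,5,true,[.code,.edge 2331 false,.code,.edge 2492 false,.code],[.code,.edge 2390 false,.eqn 2405 false,.code,.edge 2422 false,.code,.edge 1372 false,.code,.edge 1152 false,.eqn 1370 false,.code,.edge 2252 false,.code,.edge 883 false,.code]⟩,
⟨2,249,33,0,true,[],[.edge 2493 false]⟩,
⟨674,25,33,0,true,[],[.edge 2494 true]⟩,
⟨493,12,29,3,false,[.code,.edge 2235 false,.code],[.code,.edge 2390 false,.eqn 2405 false,.code,.edge 2420 false,.code,.edge 2148 false,.code,.edge 2147 false,.code,.edge 1059 false,.eqn 1061 false,.code,.edge 963 false,.eqn 965 false,.code,.edge 750 false,.code,.edge 2317 false]⟩,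
⟨0,122,30,0,false,[],[.eqn 2496 false]⟩,
⟨70,30,33,0,true,[],[.eqn 2497 true,.edge 1310 false]⟩,
⟨327,14,33,0,false,[],[.edge 2498 true,.edge 2279 false]⟩,
⟨68,30,33,0,true,[],[.eqn 2497 true,.edge 1311 false]⟩,
⟨352,123,33,0,false,[],[.edge 2500 true,.edge 2278 false]⟩,
⟨6,30,33,0,true,[],[.eqn 2497 true,.edge 2305 false]⟩,
⟨295,18,33,0,false,[],[.edge 2502 true,.edge 2368 false]⟩,
⟨0,114,30,0,false,[],[.eqn 2499 true]⟩,
⟨74,14,33,0,true,[],[.eqn 2504 true,.edge 2122 false,.eqn 2304 false,.eqn 2497 false]⟩,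
⟨12,14,33,0,true,[],[.eqn 2504 true,.edge 1708 false]⟩,
⟨0,123,30,0,false,[],[.eqn 2501 false]⟩,
⟨480,16,32,0,true,[],[.eqn 2507 true,.edge 1313 false]⟩,
⟨0,240,30,0,false,[],[.eqn 2503 true]⟩,
⟨72,18,33,0,true,[],[.eqn 2509 true,.edge 2370 false]⟩,
⟨811,13,33,0,false,[],[.edge 2510 true,.edge 1271 false]⟩,
⟨0,62,30,0,false,[],[.eqn 2511 true]⟩,
⟨384,13,31,0,true,[],[.eqn 2512 true,.edge 1491 false]⟩,
⟨365,162,32,0,false,[],[.edge 2513 false,.edge 1306 false]⟩,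
⟨384,13,32,0,true,[],[.eqn 2512 true,.edge 1991 false,.eqn 2283 false]⟩,
⟨368,134,31,0,false,[],[.edge 2515 false,.edge 1322 false]⟩,
⟨394,13,33,0,true,[],[.eqn 2512 true,.edge 1118 false]⟩,
⟨388,13,33,0,true,[],[.eqn 2512 true,.edge 1119 false]⟩,
⟨396,13,33,0,true,[],[.eqn 2512 true,.edge 2289 false]⟩,
⟨384,13,33,0,true,[],[.eqn 2512 true,.edge 1202 false,.eqn 1370 false]⟩,
⟨390,13,33,0,true,[],[.eqn 2512 true,.edge 2326 false,.eqn 2405 false]⟩,
⟨422,13,33,0,true,[],[.eqn 2512 true,.edge 2298 false]⟩,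
⟨454,13,33,0,true,[],[.eqn 2512 true,.edge 1848 false]⟩,
⟨448,13,33,0,true,[],[.eqn 2512 true,.edge 1649 false,.eqn 1961 false]⟩,
⟨456,13,33,0,true,[],[.eqn 2512 true,.edge 2183 false]⟩,
⟨460,13,33,0,true,[],[.eqn 2512 true,.edge 2324 false]⟩,
⟨365,162,30,0,false,[],[.eqn 2514 false,.eqn 2125 false]⟩,
⟨0,162,30,0,false,[],[.eqn 2527 false]⟩,
⟨514,56,31,0,true,[],[.eqn 2528 true,.edge 1845 false,.eqn 2283 false]⟩,
⟨522,56,33,0,true,[],[.eqn 2528 true,.edge 1468 false]⟩,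
⟨512,56,33,0,true,[],[.eqn 2528 true,.edge 2346 false]⟩,
⟨0,134,30,0,false,[],[.eqn 2516 false]⟩,
⟨482,40,32,0,true,[],[.eqn 2532 true,.edge 2285 false,.eqn 2528 false]⟩,
⟨682,40,33,0,true,[],[.eqn 2532 true,.edge 2286 false]⟩,
⟨480,246,32,0,true,[],[.edge 249 false]⟩,
⟨384,250,32,0,true,[],[.edge 250 false]⟩,
⟨0,251,31,0,true,[],[.edge 2536 false]⟩,
⟨494,12,29,15,true,[.code,.edge 2293 false,.eqn 2405 false,.code,.edge 2428 false,.code,.edge 1999 false,.eqn 2283 false,.eqn 2532 false,.code,.edge 2401 false,.code,.edge 2535 false,.code,.edge 2536 false,.code,.edge 2537 false,.code],[.code,.edge 2367 false,.code]⟩,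
⟨2,250,31,0,true,[],[.edge 2538 false]⟩,
⟨497,12,29,7,false,[.code,.edge 577 false,.code,.edge 567 false,.code,.edge 538 false,.code],[.code,.edge 2390 false,.eqn 2405 false,.code,.edge 2418 false,.code,.edge 987 false,.eqn 2405 false,.code,.edge 2410 false,.code,.edge 1075 false,.code,.edge 1318 false,.eqn 2490 false]⟩,
⟨0,95,30,0,false,[],[.eqn 2540 true]⟩]

/-- Deductions. -/
def c4_22 : List Step := [
⟨480,8,31,0,true,[],[.eqn 2541 true,.edge 1731 false,.eqn 1971 false]⟩,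
⟨512,8,32,0,true,[],[.eqn 2541 true,.edge 2491 false]⟩,
⟨503,12,29,5,true,[.code,.edge 579 false,.code,.edge 2209 false,.code],[.code,.edge 2390 false,.eqn 2405 false,.code,.edge 774 false,.code,.edge 2391 false,.eqn 2402 false,.code,.edge 904 false,.eqn 2405 false,.code,.edge 710 false,.code,.edge 2416 false,.eqn 2479 false,.code]⟩,
⟨68,126,33,0,true,[],[.edge 2544 false]⟩,
⟨507,12,29,7,false,[.code,.edge 2281 false,.eqn 2283 false,.eqn 2532 false,.code,.edge 2534 false,.code,.edge 1795 false,.code],[.code,.edge 2390 false,.eqn 2405 false,.code,.edge 2421 false,.code,.edge 955 false,.code,.edge 949 false,.eqn 951 false,.code,.edge 2485 false,.code,.edge 1371 false]⟩,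
⟨0,64,30,0,false,[],[.eqn 2546 false]⟩,
⟨384,28,32,0,true,[],[.eqn 2547 true,.edge 1122 false,.eqn 1141 false]⟩,
⟨544,82,32,0,true,[],[.edge 251 false]⟩,
⟨0,252,31,0,true,[],[.edge 2549 false]⟩,
⟨2,82,31,0,true,[],[.edge 252 false]⟩,
⟨0,253,32,0,true,[],[.edge 2551 false]⟩,
⟨512,12,29,17,true,[.code,.edge 1646 false,.code,.edge 2482 false,.code,.edge 1632 false,.code,.edge 1054 false,.eqn 1065 false,.code,.edge 2184 false,.eqn 2459 false,.code,.edge 2549 false,.code,.edge 2550 false,.code,.edge 2551 false,.code],[.code]⟩,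
⟨384,253,31,0,true,[],[.edge 2553 false]⟩,
⟨512,12,32,0,true,[],[.edge 2554 false]⟩,
⟨546,82,32,0,true,[],[.edge 253 false]⟩,
⟨0,254,31,0,true,[],[.edge 2556 false]⟩,
⟨514,12,1,1,true,[.code],[.code,.edge 2555 false,.code]⟩,
⟨514,12,31,0,true,[],[.edge 2558 false]⟩,
⟨519,12,29,17,false,[.code,.edge 958 false,.code,.edge 1674 false,.eqn 2251 false,.code,.edge 2266 false,.eqn 2528 false,.code,.edge 2071 false,.code,.edge 2264 false,.code,.edge 2083 false,.eqn 2094 false,.code,.edge 1175 false,.eqn 2097 false,.code,.edge 1242 false,.code],[.code,.edge 2555 false]⟩,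
⟨0,253,30,0,false,[],[.eqn 2560 true]⟩,
⟨546,103,32,0,true,[],[.eqn 2561 true,.edge 2552 false]⟩,
⟨386,15,32,0,true,[],[.edge 254 false]⟩,
⟨0,255,31,0,true,[],[.edge 2563 false]⟩,
⟨384,255,32,0,true,[],[.edge 255 false]⟩,
⟨0,256,31,0,true,[],[.edge 2565 false]⟩,
⟨523,12,29,15,true,[.code,.edge 1031 false,.eqn 1068 false,.code,.edge 1376 false,.code,.edge 1934 false,.code,.edge 632 false,.code,.edge 2563 false,.code,.edge 2565 false,.code,.edge 2566 false,.code],[.code,.edge 2555 false,.eqn 2561 false,.code]⟩,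
⟨2,255,31,0,true,[],[.edge 2567 false]⟩,
⟨514,103,32,0,true,[],[.edge 2568 false]⟩,
⟨386,28,32,0,true,[],[.edge 256 false]⟩,
⟨0,257,31,0,true,[],[.edge 2570 false]⟩,
⟨384,257,32,0,true,[],[.edge 257 false]⟩,
⟨0,258,31,0,true,[],[.edge 2572 false]⟩,
⟨538,12,29,15,true,[.code,.edge 2247 false,.code,.edge 2368 false,.eqn 2509 false,.code,.edge 2313 false,.code,.edge 1627 false,.eqn 1877 false,.code,.edge 2570 false,.code,.edge 2572 false,.code,.edge 2573 false,.code],[.code,.edge 2555 false,.eqn 2561 false,.code]⟩,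
⟨2,257,31,0,true,[],[.edge 2574 false]⟩,
⟨512,103,32,0,true,[],[.edge 2575 false]⟩,
⟨541,12,29,19,false,[.code,.edge 853 false,.code,.edge 899 false,.code,.edge 900 false,.eqn 2405 false,.code,.edge 711 false,.code,.edge 2391 false,.eqn 2402 false,.code,.edge 790 false,.code,.edge 789 false,.code,.edge 1116 false,.eqn 1141 false,.code,.edge 1300 false,.code],[]⟩,
⟨0,117,30,0,false,[],[.eqn 2577 false]⟩,
⟨512,12,32,0,true,[],[.eqn 2578 true,.edge 1299 false]⟩,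
⟨920,59,31,0,false,[],[.edge 2579 false,.edge 2555 false]⟩,
⟨920,59,30,0,false,[],[.eqn 2580 false,.eqn 2561 false]⟩,
⟨0,103,30,0,false,[],[.eqn 2581 true]⟩,
⟨480,59,32,0,true,[],[.eqn 2582 true,.edge 1241 false]⟩,
⟨512,59,32,0,true,[],[.eqn 2582 true,.edge 2576 false]⟩,
⟨514,59,32,0,true,[],[.eqn 2582 true,.edge 2569 false]⟩,
⟨274,255,31,0,false,[],[.edge 2585 false,.edge 2148 false]⟩,
⟨384,59,32,0,true,[],[.eqn 2582 true,.edge 2562 false]⟩,
⟨618,59,33,0,true,[],[.eqn 2582 true,.edge 1239 false]⟩,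
⟨748,59,33,0,true,[],[.eqn 2582 true,.edge 2056 false]⟩,
⟨550,59,33,0,true,[],[.eqn 2582 true,.edge 1664 false]⟩,
⟨0,255,30,0,false,[],[.eqn 2586 false]⟩,
⟨0,226,31,0,true,[],[.eqn 2591 true,.edge 2564 false]⟩,
⟨1171,15,32,0,false,[],[.edge 2592 false,.edge 2143 false]⟩,
⟨975,15,30,0,false,[],[.eqn 2593 true]⟩,
⟨482,15,31,0,true,[],[.eqn 2594 true,.edge 633 false]⟩,
⟨480,15,31,0,true,[],[.eqn 2594 true,.edge 804 false]⟩,
⟨546,15,31,0,true,[],[.eqn 2594 true,.edge 1723 false]⟩,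
⟨386,15,31,0,true,[],[.eqn 2594 true,.edge 1012 false]⟩,
⟨482,15,32,0,true,[],[.eqn 2594 true,.edge 630 false]⟩,
⟨480,15,32,0,true,[],[.eqn 2594 true,.edge 793 false]⟩,
⟨546,15,32,0,true,[],[.eqn 2594 true,.edge 1112 false,.eqn 1141 false]⟩,
⟨1893,59,31,0,false,[],[.edge 2601 false,.edge 982 false]⟩,
⟨0,59,30,0,false,[],[.eqn 2602 false]⟩,
⟨480,39,31,0,true,[],[.eqn 2603 true,.edge 1059 false,.eqn 1061 false]⟩,
⟨482,39,31,0,true,[],[.eqn 2603 true,.edge 1144 false,.eqn 2405 false]⟩,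
⟨512,39,31,0,true,[],[.eqn 2603 true,.edge 1354 false]⟩,
⟨514,39,31,0,true,[],[.eqn 2603 true,.edge 1452 false,.eqn 2460 false]⟩,
⟨546,39,31,0,true,[],[.eqn 2603 true,.edge 1145 false]⟩,
⟨544,39,31,0,true,[],[.eqn 2603 true,.edge 1146 false]⟩,
⟨2,39,31,0,true,[],[.eqn 2603 true,.edge 1143 false,.eqn 2547 false]⟩,
⟨384,39,31,0,true,[],[.eqn 2603 true,.edge 1294 false,.eqn 2504 false]⟩,
⟨480,39,32,0,true,[],[.eqn 2603 true,.edge 1150 false,.eqn 2405 false]⟩,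
⟨482,39,32,0,true,[],[.eqn 2603 true,.edge 1147 false]⟩,
⟨512,39,32,0,true,[],[.eqn 2603 true,.edge 2587 false]⟩,
⟨514,39,32,0,true,[],[.eqn 2603 true,.edge 1347 false,.eqn 2176 false]⟩,
⟨546,39,32,0,true,[],[.eqn 2603 true,.edge 2583 false]⟩,
⟨544,39,32,0,true,[],[.eqn 2603 true,.edge 1432 false]⟩,
⟨2,39,32,0,true,[],[.eqn 2603 true,.edge 2584 false]⟩,
⟨0,39,32,0,true,[],[.eqn 2603 true,.edge 2148 false]⟩,
⟨386,39,32,0,true,[],[.eqn 2603 true,.edge 1307 false]⟩,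
⟨552,39,33,0,true,[],[.eqn 2603 true,.edge 2175 false]⟩,
⟨416,39,33,0,true,[],[.eqn 2603 true,.edge 2590 false]⟩,
⟨448,39,33,0,true,[],[.eqn 2603 true,.edge 2588 false]⟩,
⟨384,39,33,0,true,[],[.eqn 2603 true,.edge 2589 false]⟩,
⟨542,12,0,2,true,[.edge 2559 false,.eqn 2561 false,.eqn 2582 false,.eqn 2603 false,.edge 2611 false],[]⟩,
⟨480,14,31,0,true,[],[.edge 2625 false]⟩,
⟨514,12,32,0,true,[],[.edge 2626 false]⟩,
⟨554,12,29,17,true,[.code,.edge 847 false,.code,.edge 914 false,.code,.edge 1053 false,.code,.edge 2486 false,.code,.edge 2419 false,.code,.edge 2471 false,.code,.edge 2470 false,.code,.edge 2366 false,.code],[.code]⟩,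
⟨544,12,31,0,true,[],[.edge 2628 false]⟩,
⟨544,12,32,0,true,[],[.edge 2629 false]⟩,
⟨555,12,1,3,true,[.code,.edge 2629 false,.code],[.code]⟩,
⟨546,12,31,0,true,[],[.edge 2631 false]⟩,
⟨546,12,32,0,true,[],[.edge 2632 false]⟩,
⟨590,26,33,0,true,[],[.edge 258 false]⟩,
⟨555,12,29,5,true,[.code,.edge 1205 false,.eqn 2251 false,.code,.edge 2634 false,.code],[.code,.edge 2630 false,.code,.edge 2367 false,.code,.edge 2465 false,.code,.edge 2466 false,.code,.edge 2362 false,.eqn 2405 false,.code,.edge 2415 false,.code]⟩,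
⟨2,259,33,0,true,[],[.edge 2635 false]⟩,
⟨640,26,33,0,true,[],[.edge 2636 true]⟩,
⟨482,81,32,0,true,[],[.edge 259 false]⟩,
⟨0,260,31,0,true,[],[.edge 2638 false]⟩,
⟨384,260,32,0,true,[],[.edge 260 false]⟩,
⟨0,261,31,0,true,[],[.edge 2640 false]⟩]

/-- Deductions. -/
def c4_23 : List Step := [
⟨384,261,32,0,true,[],[.edge 261 false]⟩,
⟨0,262,31,0,true,[],[.edge 2642 false]⟩,
⟨558,12,29,14,false,[.code,.edge 1748 false,.code,.edge 1882 false,.eqn 1959 false,.eqn 2167 false,.code,.edge 2171 false,.eqn 2440 false,.code,.edge 2638 false,.code,.edge 2640 false,.code,.edge 2642 false,.code,.edge 2643 false],[.code,.edge 2633 false,.code,.edge 722 false,.code]⟩,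
⟨0,261,30,0,false,[],[.eqn 2644 false]⟩,
⟨0,16,31,0,true,[],[.eqn 2645 true,.edge 2641 false]⟩,
⟨1158,260,32,0,false,[],[.edge 2646 false,.edge 822 false]⟩,
⟨386,16,32,0,true,[],[.eqn 2645 true,.edge 2642 false]⟩,
⟨0,260,30,0,false,[],[.eqn 2647 false]⟩,
⟨480,18,31,0,true,[],[.eqn 2649 true,.edge 2639 false]⟩,
⟨392,13,33,0,true,[],[.edge 262 false]⟩,
⟨2,263,33,0,true,[],[.edge 263 false]⟩,
⟨0,264,33,0,true,[],[.edge 2652 true]⟩,
⟨480,264,32,0,true,[],[.edge 264 false]⟩,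
⟨0,265,31,0,true,[],[.edge 2654 false]⟩,
⟨560,12,29,9,true,[.code,.edge 2288 false,.eqn 2512 false,.code,.edge 2651 false,.code,.edge 2652 false,.code,.edge 2654 false,.code],[.code,.edge 2630 false,.code,.edge 2627 false,.code,.edge 808 false,.code,.edge 807 false,.code]⟩,
⟨384,265,32,0,true,[],[.edge 2656 false]⟩,
⟨482,14,31,0,true,[],[.edge 2657 false]⟩,
⟨561,12,29,11,false,[.code,.edge 850 false,.code,.edge 639 false,.code,.edge 643 false,.code,.edge 982 false,.code,.edge 2620 false,.code],[.code,.edge 2630 false,.code,.edge 2627 false,.code,.edge 714 false,.code,.edge 713 false]⟩,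
⟨0,121,30,0,false,[],[.eqn 2659 false]⟩,
⟨482,14,31,0,true,[],[.eqn 2660 true,.edge 1308 false,.eqn 2603 false]⟩,
⟨386,39,32,0,false,[],[.edge 2661 false,.edge 2658 false]⟩,
⟨0,265,30,0,false,[],[.eqn 2662 true]⟩,
⟨2,39,31,0,true,[],[.eqn 2663 true,.edge 2655 false]⟩,
⟨593,264,32,0,false,[],[.edge 2664 false,.edge 2610 false]⟩,
⟨0,264,30,0,false,[],[.eqn 2665 false]⟩,
⟨616,28,33,0,true,[],[.eqn 2666 true,.edge 2653 false]⟩,
⟨514,17,32,0,true,[],[.edge 265 false]⟩,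
⟨0,266,31,0,true,[],[.edge 2668 false]⟩,
⟨384,266,32,0,true,[],[.edge 266 false]⟩,
⟨0,267,31,0,true,[],[.edge 2670 false]⟩,
⟨384,267,32,0,true,[],[.edge 267 false]⟩,
⟨0,268,31,0,true,[],[.edge 2672 false]⟩,
⟨563,12,29,14,false,[.code,.edge 850 false,.code,.edge 743 false,.code,.edge 802 false,.code,.edge 2668 false,.code,.edge 2670 false,.code,.edge 2672 false,.code,.edge 2673 false],[.code,.edge 2633 false,.code,.edge 2344 false,.code]⟩,
⟨0,267,30,0,false,[],[.eqn 2674 false]⟩,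
⟨482,220,31,0,true,[],[.eqn 2675 true,.edge 2671 false]⟩,
⟨1553,266,32,0,false,[],[.edge 2676 false,.edge 2345 false]⟩,
⟨0,266,30,0,false,[],[.eqn 2677 false]⟩,
⟨544,12,31,0,true,[],[.eqn 2678 true,.edge 2669 false]⟩,
⟨933,17,32,0,false,[],[.edge 2679 false,.edge 2629 false]⟩,
⟨0,17,30,0,false,[],[.eqn 2680 false]⟩,
⟨514,12,31,0,true,[],[.eqn 2681 true,.edge 830 false]⟩,
⟨374,19,32,0,false,[],[.edge 2682 false,.edge 2559 false]⟩,
⟨512,12,31,0,true,[],[.eqn 2681 true,.edge 713 false]⟩,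
⟨514,12,32,0,true,[],[.eqn 2681 true,.edge 796 false]⟩,
⟨43,14,31,0,false,[],[.edge 2685 false,.edge 2627 false]⟩,
⟨652,12,33,0,true,[],[.eqn 2681 true,.edge 619 false]⟩,
⟨640,12,33,0,true,[],[.eqn 2681 true,.edge 2064 false]⟩,
⟨716,12,33,0,true,[],[.eqn 2681 true,.edge 1840 false,.eqn 2069 false]⟩,
⟨522,12,33,0,true,[],[.eqn 2681 true,.edge 929 false]⟩,
⟨374,19,30,0,false,[],[.eqn 2683 false,.eqn 2561 false,.eqn 2582 false,.eqn 2603 false]⟩,
⟨0,39,30,0,false,[],[.eqn 2691 true]⟩,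
⟨546,19,31,0,true,[],[.eqn 2692 true,.edge 977 false,.eqn 979 false]⟩,
⟨544,19,31,0,true,[],[.eqn 2692 true,.edge 2610 false]⟩,
⟨482,19,31,0,true,[],[.eqn 2692 true,.edge 2604 false]⟩,
⟨480,19,31,0,true,[],[.eqn 2692 true,.edge 2605 false]⟩,
⟨514,19,31,0,true,[],[.eqn 2692 true,.edge 2606 false]⟩,
⟨512,19,31,0,true,[],[.eqn 2692 true,.edge 2607 false]⟩,
⟨386,19,31,0,true,[],[.eqn 2692 true,.edge 2609 false]⟩,
⟨384,19,31,0,true,[],[.eqn 2692 true,.edge 2608 false]⟩,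
⟨546,19,32,0,true,[],[.eqn 2692 true,.edge 2619 false]⟩,
⟨544,19,32,0,true,[],[.eqn 2692 true,.edge 2618 false]⟩,
⟨260,257,31,0,false,[],[.edge 2702 false,.edge 1000 false]⟩,
⟨482,19,32,0,true,[],[.eqn 2692 true,.edge 2612 false]⟩,
⟨480,19,32,0,true,[],[.eqn 2692 true,.edge 2613 false]⟩,
⟨514,19,32,0,true,[],[.eqn 2692 true,.edge 2614 false]⟩,
⟨512,19,32,0,true,[],[.eqn 2692 true,.edge 2615 false]⟩,
⟨386,19,32,0,true,[],[.eqn 2692 true,.edge 2617 false]⟩,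
⟨384,19,32,0,true,[],[.eqn 2692 true,.edge 2616 false]⟩,
⟨32,19,33,0,true,[],[.eqn 2692 true,.edge 2624 false]⟩,
⟨116,217,33,0,false,[],[.edge 2710 true,.edge 820 false]⟩,
⟨64,19,33,0,true,[],[.eqn 2692 true,.edge 2622 false]⟩,
⟨116,196,33,0,false,[],[.edge 2712 true,.edge 811 false]⟩,
⟨0,19,33,0,true,[],[.eqn 2692 true,.edge 2623 false]⟩,
⟨116,102,33,0,false,[],[.edge 2714 true,.edge 695 false]⟩,
⟨428,19,33,0,true,[],[.eqn 2692 true,.edge 2621 false]⟩,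
⟨960,14,30,0,false,[],[.eqn 2686 true]⟩,
⟨482,14,33,0,true,[],[.eqn 2717 true,.edge 1384 false]⟩,
⟨260,257,30,0,false,[],[.eqn 2703 false,.eqn 1011 false]⟩,
⟨0,257,30,0,false,[],[.eqn 2719 false]⟩,
⟨546,15,31,0,true,[],[.eqn 2720 true,.edge 2571 false]⟩,
⟨1186,28,32,0,false,[],[.edge 2721 false,.edge 2597 false]⟩,
⟨0,217,30,0,false,[],[.eqn 2711 false]⟩,
⟨70,11,33,0,true,[],[.eqn 2723 true,.edge 2053 false]⟩,
⟨131,68,33,0,false,[],[.edge 2724 true,.edge 673 false]⟩,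
⟨0,196,30,0,false,[],[.eqn 2713 false]⟩,
⟨38,13,33,0,true,[],[.eqn 2726 true,.edge 1661 false,.eqn 1701 false]⟩,
⟨137,191,33,0,false,[],[.edge 2727 true,.edge 749 false]⟩,
⟨0,102,30,0,false,[],[.eqn 2715 false]⟩,
⟨6,15,33,0,true,[],[.eqn 2729 true,.edge 1237 false]⟩,
⟨114,101,33,0,false,[],[.edge 2730 true,.edge 745 false]⟩,
⟨0,207,30,0,false,[],[.eqn 2722 true]⟩,
⟨484,28,33,0,true,[],[.eqn 2732 true,.edge 1720 false]⟩,
⟨0,68,30,0,false,[],[.eqn 2725 false]⟩,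
⟨8,15,33,0,true,[],[.eqn 2734 true,.edge 1131 false]⟩,
⟨561,11,33,0,false,[],[.edge 2735 true,.edge 961 false]⟩,
⟨6,15,33,0,true,[],[.eqn 2734 true,.edge 1132 false]⟩,
⟨353,69,33,0,false,[],[.edge 2737 true,.edge 745 false]⟩,
⟨10,15,33,0,true,[],[.eqn 2734 true,.edge 2191 false]⟩,
⟨256,233,33,0,false,[],[.edge 2739 true,.edge 647 false]⟩,
⟨2,15,33,0,true,[],[.eqn 2734 true,.edge 1608 false]⟩]

/-- Deductions. -/
def c4_24 : List Step := [
⟨237,98,33,0,false,[],[.edge 2741 true,.edge 694 false]⟩,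
⟨40,15,33,0,true,[],[.eqn 2734 true,.edge 2117 false]⟩,
⟨310,141,33,0,false,[],[.edge 2743 true,.edge 849 false]⟩,
⟨34,15,33,0,true,[],[.eqn 2734 true,.edge 1711 false]⟩,
⟨315,144,33,0,false,[],[.edge 2745 true,.edge 841 false]⟩,
⟨66,15,33,0,true,[],[.eqn 2734 true,.edge 1829 false]⟩,
⟨22,136,33,0,false,[],[.edge 2747 true,.edge 834 false]⟩,
⟨78,15,33,0,true,[],[.eqn 2734 true,.edge 1562 false]⟩,
⟨252,65,33,0,false,[],[.edge 2749 true,.edge 844 false]⟩,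
⟨76,15,33,0,true,[],[.eqn 2734 true,.edge 1398 false]⟩,
⟨113,148,33,0,false,[],[.edge 2751 true,.edge 648 false]⟩,
⟨0,191,30,0,false,[],[.eqn 2728 false]⟩,
⟨78,11,33,0,true,[],[.eqn 2753 true,.edge 1713 false]⟩,
⟨316,147,33,0,false,[],[.edge 2754 true,.edge 836 false]⟩,
⟨8,11,33,0,true,[],[.eqn 2753 true,.edge 2110 false]⟩,
⟨251,220,33,0,false,[],[.edge 2756 true,.edge 1014 false]⟩,
⟨0,101,30,0,false,[],[.eqn 2731 false]⟩,
⟨72,13,33,0,true,[],[.eqn 2758 true,.edge 2108 false]⟩,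
⟨364,220,33,0,false,[],[.edge 2759 true,.edge 2321 false]⟩,
⟨0,30,30,0,false,[],[.eqn 2736 true]⟩,
⟨0,69,30,0,false,[],[.eqn 2738 false]⟩,
⟨2,13,33,0,true,[],[.eqn 2762 true,.edge 1133 false]⟩,
⟨112,70,33,0,false,[],[.edge 2763 true,.edge 689 false]⟩,
⟨0,233,30,0,false,[],[.eqn 2740 false]⟩,
⟨66,15,33,0,true,[],[.eqn 2765 true,.edge 2193 false]⟩,
⟨193,140,33,0,false,[],[.edge 2766 true,.edge 834 false]⟩,
⟨0,98,30,0,false,[],[.eqn 2742 false]⟩,
⟨46,19,33,0,true,[],[.eqn 2768 true,.edge 1230 false]⟩,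
⟨17,99,33,0,false,[],[.edge 2769 true,.edge 2134 false]⟩,
⟨36,19,33,0,true,[],[.eqn 2768 true,.edge 1641 false]⟩,
⟨352,193,33,0,false,[],[.edge 2771 true,.edge 1045 false]⟩,
⟨2,19,33,0,true,[],[.eqn 2768 true,.edge 2188 false]⟩,
⟨97,232,33,0,false,[],[.edge 2773 true,.edge 697 false]⟩,
⟨0,141,30,0,false,[],[.eqn 2744 false]⟩,
⟨14,12,33,0,true,[],[.eqn 2775 true,.edge 1459 false]⟩,
⟨112,161,33,0,false,[],[.edge 2776 true,.edge 2293 false]⟩,
⟨8,12,33,0,true,[],[.eqn 2775 true,.edge 1386 false]⟩,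
⟨352,142,33,0,false,[],[.edge 2778 true,.edge 2281 false]⟩,
⟨315,144,30,0,false,[],[.eqn 2746 false,.eqn 2681 false]⟩,
⟨0,144,30,0,false,[],[.eqn 2780 false]⟩,
⟨640,12,33,0,true,[],[.eqn 2781 true,.edge 1392 false]⟩,
⟨113,145,33,0,false,[],[.edge 2782 true,.edge 2688 false]⟩,
⟨0,136,30,0,false,[],[.eqn 2748 false]⟩,
⟨78,14,33,0,true,[],[.eqn 2784 true,.edge 1658 false]⟩,
⟨112,194,33,0,false,[],[.edge 2785 true,.edge 2356 false]⟩,
⟨0,65,30,0,false,[],[.eqn 2750 false]⟩,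
⟨72,18,33,0,true,[],[.eqn 2787 true,.edge 1125 false]⟩,
⟨257,66,33,0,false,[],[.edge 2788 true,.edge 1271 false]⟩,
⟨68,18,33,0,true,[],[.eqn 2787 true,.edge 2224 false]⟩,
⟨256,234,33,0,false,[],[.edge 2790 true,.edge 918 false]⟩,
⟨0,148,30,0,false,[],[.eqn 2752 false]⟩,
⟨4,15,33,0,true,[],[.eqn 2792 true,.edge 1400 false]⟩,
⟨778,138,33,0,false,[],[.edge 2793 true,.edge 610 false]⟩,
⟨0,147,30,0,false,[],[.eqn 2755 false]⟩,
⟨40,16,33,0,true,[],[.eqn 2795 true,.edge 1633 false]⟩,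
⟨272,192,33,0,false,[],[.edge 2796 true,.edge 2295 false]⟩,
⟨0,220,30,0,false,[],[.eqn 2757 false]⟩,
⟨0,47,31,0,true,[],[.eqn 2798 true,.edge 2088 false,.eqn 2090 false]⟩,
⟨2,47,31,0,true,[],[.eqn 2798 true,.edge 2113 false]⟩,
⟨480,47,31,0,true,[],[.eqn 2798 true,.edge 2343 false]⟩,
⟨482,47,31,0,true,[],[.eqn 2798 true,.edge 2345 false]⟩,
⟨0,47,32,0,true,[],[.eqn 2798 true,.edge 2105 false]⟩,
⟨482,47,32,0,true,[],[.eqn 2798 true,.edge 2352 false]⟩,
⟨74,47,33,0,true,[],[.eqn 2798 true,.edge 2128 false,.eqn 2784 false]⟩,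
⟨364,220,30,0,false,[.eqn 2798 false],[.eqn 2760 false]⟩,
⟨0,203,30,0,false,[],[.eqn 2806 true]⟩,
⟨0,70,30,0,false,[],[.eqn 2764 false]⟩,
⟨384,18,32,0,true,[],[.eqn 2808 true,.edge 1135 false,.eqn 1141 false,.eqn 2603 false,.eqn 2692 false]⟩,
⟨0,140,30,0,false,[],[.eqn 2767 false]⟩,
⟨386,14,32,0,true,[],[.eqn 2810 true,.edge 1367 false]⟩,
⟨0,126,30,0,false,[],[.eqn 2770 true]⟩,
⟨0,99,31,0,true,[],[.eqn 2812 true,.edge 1637 false]⟩,
⟨0,99,32,0,true,[],[.eqn 2812 true,.edge 2203 false]⟩,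
⟨482,99,32,0,true,[],[.eqn 2812 true,.edge 1546 false,.eqn 2180 false]⟩,
⟨72,99,33,0,true,[],[.eqn 2812 true,.edge 1320 false]⟩,
⟨46,99,33,0,true,[],[.eqn 2812 true,.edge 2545 false]⟩,
⟨0,193,30,0,false,[],[.eqn 2772 false]⟩,
⟨4,56,33,0,true,[],[.eqn 2818 true,.edge 1643 false]⟩,
⟨0,232,30,0,false,[],[.eqn 2774 false]⟩,
⟨516,3,33,0,true,[],[.eqn 2820 true,.edge 2190 false]⟩,
⟨337,138,33,0,false,[],[.edge 2821 true,.edge 613 false]⟩,
⟨112,161,30,0,false,[],[.eqn 2777 false,.eqn 2405 false]⟩,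
⟨0,161,30,0,false,[],[.eqn 2823 false]⟩,
⟨462,20,33,0,true,[],[.eqn 2824 true,.edge 1461 false]⟩,
⟨1324,15,33,0,false,[],[.edge 2825 true,.edge 2427 false]⟩,
⟨352,142,30,0,false,[],[.eqn 2779 false,.eqn 2283 false,.eqn 2532 false]⟩,
⟨0,142,30,0,false,[],[.eqn 2827 false]⟩,
⟨682,40,33,0,true,[],[.eqn 2828 true,.edge 1387 false]⟩,
⟨352,143,33,0,false,[],[.edge 2829 true,.edge 2534 false]⟩,
⟨0,185,30,0,false,[],[.eqn 2783 true]⟩,
⟨0,145,31,0,true,[],[.eqn 2831 true,.edge 2199 false]⟩,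
⟨0,236,30,0,false,[],[.eqn 2786 true]⟩,
⟨4,194,33,0,true,[],[.eqn 2833 true,.edge 2357 false]⟩,
⟨112,237,33,0,false,[],[.edge 2834 true,.edge 2221 false]⟩,
⟨257,66,30,0,false,[],[.eqn 2789 false,.eqn 2512 false]⟩,
⟨0,66,30,0,false,[],[.eqn 2836 false]⟩,
⟨452,13,33,0,true,[],[.eqn 2837 true,.edge 1126 false]⟩,
⟨462,13,33,0,true,[],[.eqn 2837 true,.edge 2223 false]⟩,
⟨0,234,30,0,false,[],[.eqn 2791 false]⟩,
⟨4,28,33,0,true,[],[.eqn 2840 true,.edge 2226 false]⟩]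

/-- Deductions. -/
def c4_25 : List Step := [
⟨208,150,33,0,false,[],[.edge 2841 true,.edge 2141 false]⟩,
⟨0,138,30,0,false,[],[.eqn 2794 false]⟩,
⟨386,16,32,0,true,[],[.eqn 2843 true,.edge 1362 false]⟩,
⟨584,25,31,0,false,[],[.edge 2844 false,.edge 2648 false]⟩,
⟨272,192,30,0,false,[],[.eqn 2797 false,.eqn 2528 false]⟩,
⟨0,192,30,0,false,[],[.eqn 2846 false]⟩,
⟨652,56,33,0,true,[],[.eqn 2847 true,.edge 1635 false]⟩,
⟨337,138,30,0,false,[.eqn 2843 false],[.eqn 2822 false]⟩,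
⟨1061,16,30,0,false,[],[.eqn 2849 true]⟩,
⟨482,16,31,0,true,[],[.eqn 2850 true,.edge 822 false]⟩,
⟨480,16,31,0,true,[],[.eqn 2850 true,.edge 723 false]⟩,
⟨480,16,32,0,true,[],[.eqn 2850 true,.edge 726 false]⟩,
⟨226,18,31,0,false,[],[.edge 2853 false,.edge 2508 false]⟩,
⟨514,16,32,0,true,[],[.eqn 2850 true,.edge 2648 false]⟩,
⟨1324,15,30,0,false,[],[.eqn 2826 false,.eqn 2812 false]⟩,
⟨0,99,30,0,false,[],[.eqn 2856 true]⟩,
⟨544,15,31,0,true,[],[.eqn 2857 true,.edge 2813 false,.eqn 2831 false]⟩,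
⟨128,145,32,0,false,[],[.edge 2858 false,.edge 1012 false]⟩,
⟨544,15,32,0,true,[],[.eqn 2857 true,.edge 2814 false]⟩,
⟨90,224,31,0,false,[],[.edge 2860 false,.edge 2142 false]⟩,
⟨514,15,32,0,true,[],[.eqn 2857 true,.edge 2815 false]⟩,
⟨738,15,33,0,true,[],[.eqn 2857 true,.edge 1231 false,.eqn 2164 false,.eqn 2251 false]⟩,
⟨558,15,33,0,true,[],[.eqn 2857 true,.edge 2817 false]⟩,
⟨616,15,33,0,true,[],[.eqn 2857 true,.edge 2816 false]⟩,
⟨0,209,30,0,false,[],[.eqn 2830 true]⟩,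
⟨0,237,30,0,false,[],[.eqn 2835 false]⟩,
⟨544,146,32,0,true,[],[.eqn 2867 true,.edge 2359 false]⟩,
⟨208,150,30,0,false,[],[.eqn 2842 false,.eqn 2455 false,.eqn 2603 false,.eqn 2692 false]⟩,
⟨0,150,30,0,false,[],[.eqn 2869 false]⟩,
⟨386,19,32,0,true,[],[.eqn 2870 true,.edge 1404 false,.eqn 2251 false]⟩,
⟨1819,26,31,0,false,[],[.edge 2871 false,.edge 2708 false]⟩,
⟨0,262,30,0,false,[],[.eqn 2845 true]⟩,
⟨0,40,30,0,false,[],[.eqn 2854 true]⟩,
⟨482,18,31,0,true,[],[.eqn 2874 true,.edge 989 false]⟩,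
⟨480,18,31,0,true,[],[.eqn 2874 true,.edge 993 false,.eqn 2405 false]⟩,
⟨637,20,32,0,false,[],[.edge 2876 false,.edge 2650 false]⟩,
⟨0,18,31,0,true,[],[.eqn 2874 true,.edge 1318 false,.eqn 2490 false,.eqn 2541 false]⟩,
⟨1703,8,32,0,false,[],[.edge 2878 false,.edge 813 false]⟩,
⟨514,18,31,0,true,[],[.eqn 2874 true,.edge 1323 false]⟩,
⟨544,18,31,0,true,[],[.eqn 2874 true,.edge 1161 false]⟩,
⟨546,18,31,0,true,[],[.eqn 2874 true,.edge 1168 false]⟩,
⟨386,18,31,0,true,[],[.eqn 2874 true,.edge 1242 false,.eqn 2582 false,.eqn 2603 false,.eqn 2692 false]⟩,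
⟨384,18,31,0,true,[],[.eqn 2874 true,.edge 1234 false,.eqn 2164 false,.eqn 2251 false]⟩,
⟨482,18,32,0,true,[],[.eqn 2874 true,.edge 1082 false,.eqn 1084 false,.eqn 2405 false]⟩,
⟨480,18,32,0,true,[],[.eqn 2874 true,.edge 1076 false]⟩,
⟨2,18,32,0,true,[],[.eqn 2874 true,.edge 2401 false]⟩,
⟨247,246,31,0,false,[],[.edge 2887 false,.edge 720 false]⟩,
⟨514,18,32,0,true,[],[.eqn 2874 true,.edge 2533 false]⟩,
⟨544,18,32,0,true,[],[.eqn 2874 true,.edge 2083 false,.eqn 2094 false]⟩,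
⟨386,18,32,0,true,[],[.eqn 2874 true,.edge 1438 false]⟩,
⟨578,18,33,0,true,[],[.eqn 2874 true,.edge 1774 false,.eqn 1919 false]⟩,
⟨652,18,33,0,true,[],[.eqn 2874 true,.edge 2534 false,.eqn 2866 false]⟩,
⟨0,145,30,0,false,[],[.eqn 2859 false]⟩,
⟨544,19,31,0,true,[],[.eqn 2894 true,.edge 2832 false]⟩,
⟨39,224,32,0,false,[],[.edge 2895 false,.edge 2694 false]⟩,
⟨744,19,33,0,true,[],[.eqn 2894 true,.edge 1393 false]⟩,
⟨738,19,33,0,true,[],[.eqn 2894 true,.edge 2058 false,.eqn 2164 false,.eqn 2251 false]⟩,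
⟨0,226,30,0,false,[],[.eqn 2861 true]⟩,
⟨2,224,31,0,true,[],[.eqn 2899 true,.edge 2147 false,.eqn 2603 false,.eqn 2692 false]⟩,
⟨480,224,32,0,true,[],[.eqn 2899 true,.edge 2144 false]⟩,
⟨0,156,30,0,false,[],[.eqn 2872 true]⟩,
⟨546,26,31,0,true,[],[.eqn 2902 true,.edge 1437 false,.eqn 2874 false]⟩,
⟨1555,18,32,0,false,[],[.edge 2903 false,.edge 2254 false]⟩,
⟨0,81,30,0,false,[],[.eqn 2877 true]⟩,
⟨480,20,31,0,true,[],[.eqn 2905 true,.edge 2441 false]⟩,
⟨106,111,32,0,false,[],[.edge 2906 false,.edge 2408 false]⟩,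
⟨480,20,32,0,true,[],[.eqn 2905 true,.edge 2442 false]⟩,
⟨173,89,31,0,false,[],[.edge 2908 false,.edge 2419 false]⟩,
⟨0,12,30,0,false,[],[.eqn 2879 true]⟩,
⟨512,8,31,0,true,[],[.eqn 2910 true,.edge 838 false]⟩,
⟨514,8,31,0,true,[],[.eqn 2910 true,.edge 719 false]⟩,
⟨384,8,31,0,true,[],[.eqn 2910 true,.edge 2351 false,.eqn 2798 false]⟩,
⟨386,8,31,0,true,[],[.eqn 2910 true,.edge 2354 false,.eqn 2910 false]⟩,
⟨482,8,31,0,true,[],[.eqn 2910 true,.edge 2387 false]⟩,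
⟨544,8,31,0,true,[],[.eqn 2910 true,.edge 2684 false]⟩,
⟨546,8,31,0,true,[],[.eqn 2910 true,.edge 2559 false,.eqn 2561 false,.eqn 2582 false,.eqn 2603 false,.eqn 2692 false]⟩,
⟨384,8,32,0,true,[],[.eqn 2910 true,.edge 2355 false,.eqn 2910 false]⟩,
⟨386,8,32,0,true,[],[.eqn 2910 true,.edge 2344 false,.eqn 2798 false]⟩,
⟨482,8,32,0,true,[],[.eqn 2910 true,.edge 2390 false,.eqn 2405 false]⟩,
⟨480,8,32,0,true,[],[.eqn 2910 true,.edge 2367 false]⟩,
⟨544,8,32,0,true,[],[.eqn 2910 true,.edge 2555 false,.eqn 2561 false,.eqn 2582 false,.eqn 2603 false,.eqn 2692 false]⟩,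
⟨546,8,32,0,true,[],[.eqn 2910 true,.edge 2627 false]⟩,
⟨642,8,33,0,true,[],[.eqn 2910 true,.edge 1022 false]⟩,
⟨640,8,33,0,true,[],[.eqn 2910 true,.edge 2331 false]⟩,
⟨708,8,33,0,true,[],[.eqn 2910 true,.edge 1614 false,.eqn 2528 false]⟩,
⟨518,8,33,0,true,[],[.eqn 2910 true,.edge 847 false]⟩,
⟨620,8,33,0,true,[],[.eqn 2910 true,.edge 2690 false]⟩,
⟨746,8,33,0,true,[],[.eqn 2910 true,.edge 2688 false,.eqn 2831 false,.eqn 2894 false]⟩,
⟨742,8,33,0,true,[],[.eqn 2910 true,.edge 2687 false]⟩,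
⟨544,8,33,0,true,[],[.eqn 2910 true,.edge 2689 false]⟩,
⟨247,246,30,0,false,[],[.eqn 2888 false,.eqn 2910 false]⟩,
⟨0,246,30,0,false,[],[.eqn 2932 false]⟩,
⟨482,8,32,0,true,[],[.eqn 2933 true,.edge 2535 false]⟩,
⟨108,250,31,0,false,[],[.edge 2934 false,.edge 2920 false]⟩,
⟨0,224,30,0,false,[],[.eqn 2896 false]⟩,
⟨384,28,31,0,true,[],[.eqn 2936 true,.edge 2202 false,.eqn 2812 false,.eqn 2857 false]⟩,
⟨386,28,31,0,true,[],[.eqn 2936 true,.edge 2900 false]⟩,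
⟨482,28,32,0,true,[],[.eqn 2936 true,.edge 2901 false]⟩,
⟨450,28,33,0,true,[],[.eqn 2936 true,.edge 2136 false]⟩,
⟨390,28,33,0,true,[],[.eqn 2936 true,.edge 2215 false]⟩]

/-- Deductions. -/
def c4_26 : List Step := [
⟨0,152,30,0,false,[],[.eqn 2904 true]⟩,
⟨106,111,30,0,false,[],[.eqn 2907 false,.eqn 2910 false]⟩,
⟨0,111,30,0,false,[],[.eqn 2943 false]⟩,
⟨582,8,33,0,true,[],[.eqn 2944 true,.edge 2038 false]⟩,
⟨0,238,30,0,false,[],[.eqn 2909 true]⟩,
⟨451,89,30,0,false,[],[.eqn 2946 true,.eqn 2475 false,.eqn 2946 false]⟩,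
⟨2,89,31,0,true,[],[.eqn 2946 true,.edge 2366 false,.eqn 2910 false]⟩,
⟨384,89,31,0,true,[],[.eqn 2946 true,.edge 2477 false,.eqn 2910 false]⟩,
⟨386,89,31,0,true,[],[.eqn 2946 true,.edge 2476 false]⟩,
⟨0,250,30,0,false,[],[.eqn 2935 false]⟩,
⟨482,20,31,0,true,[],[.eqn 2951 true,.edge 2539 false,.eqn 2946 false]⟩,
⟨518,89,32,0,false,[],[.edge 2952 false,.edge 2473 false]⟩,
⟨518,89,30,0,false,[],[.eqn 2953 false,.eqn 2946 false]⟩,
⟨1774,89,30,0,false,[],[.eqn 2954 true]⟩,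
⟨514,89,31,0,true,[],[.eqn 2955 true,.edge 2028 false,.eqn 2440 false,.eqn 2905 false]⟩,
⟨512,89,31,0,true,[],[.eqn 2955 true,.edge 2948 false]⟩,
⟨480,89,31,0,true,[],[.eqn 2955 true,.edge 2949 false]⟩,
⟨482,89,31,0,true,[],[.eqn 2955 true,.edge 2950 false]⟩,
⟨386,13,33,0,true,[],[.edge 268 false]⟩,
⟨4,269,33,0,true,[],[.edge 269 false]⟩,
⟨0,13,29,5,true,[.code,.edge 2960 false,.code,.edge 2961 false,.code],[.code,.edge 626 false,.code,.edge 987 false,.eqn 2405 false,.code,.edge 2419 false,.eqn 2946 false,.code,.edge 2028 false,.eqn 2440 false,.eqn 2905 false,.code,.edge 2409 false,.eqn 2603 false,.eqn 2692 false,.code,.edge 2697 false,.code]⟩,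
⟨2,270,33,0,true,[],[.edge 2962 false]⟩,
⟨388,26,33,0,true,[],[.edge 270 false]⟩,
⟨0,271,33,0,true,[],[.edge 2964 true]⟩,
⟨1,13,29,5,true,[.code,.edge 2520 false,.code,.edge 2964 false,.code],[.code,.edge 626 false,.code,.edge 987 false,.eqn 2405 false,.code,.edge 2464 false,.eqn 2910 false,.code,.edge 2542 false,.eqn 2905 false,.code,.edge 2409 false,.eqn 2603 false,.eqn 2692 false,.code,.edge 2698 false,.code]⟩,
⟨2,271,33,0,true,[],[.edge 2966 false]⟩,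
⟨424,82,33,0,true,[],[.edge 2967 true]⟩,
⟨2,13,14,5,true,[.code,.edge 810 false,.code,.edge 2149 false,.code],[.code]⟩,
⟨10,228,33,0,true,[],[.edge 2969 false]⟩,
⟨8,13,33,0,true,[],[.edge 2970 true]⟩,
⟨2,13,17,2,true,[.code,.edge 2971 false],[.code,.edge 689 false,.edge 823 false,.code,.edge 839 false,.eqn 2910 false,.code,.edge 2925 false,.code]⟩,
⟨0,228,32,0,true,[],[.edge 2972 false]⟩,
⟨0,34,31,0,true,[],[.edge 2973 false]⟩,
⟨8,13,3,2,true,[.edge 805 false,.code],[.edge 2971 false,.edge 2973 false,.code]⟩,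
⟨14,15,33,0,true,[],[.edge 2975 false]⟩,
⟨8,13,17,4,true,[.code,.edge 689 false,.edge 823 false,.code],[.code,.edge 2971 false,.edge 2973 false,.code,.edge 2334 false,.code]⟩,
⟨74,16,33,0,true,[],[.edge 2977 false]⟩,
⟨8,13,27,5,true,[.code,.edge 805 false,.code,.edge 2976 false,.edge 2974 false],[.code,.edge 805 false]⟩,
⟨44,228,33,0,true,[],[.edge 2979 false]⟩,
⟨72,15,33,0,true,[],[.edge 2980 true]⟩,
⟨8,13,29,9,false,[.code,.edge 2519 false,.eqn 2910 false,.code,.edge 2927 false,.code,.edge 1687 false,.eqn 2251 false,.code,.edge 1627 false,.eqn 1877 false,.code],[.code,.edge 805 false,.code,.edge 1112 false,.eqn 1141 false,.eqn 2603 false,.eqn 2692 false,.code,.edge 2706 false,.code,.edge 2551 false,.eqn 2561 false,.eqn 2582 false,.eqn 2603 false,.eqn 2692 false,.code,.edge 2694 false]⟩,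
⟨960,28,30,0,false,[],[.eqn 2982 true]⟩,
⟨480,28,31,0,true,[],[.eqn 2983 true,.edge 1878 false]⟩,
⟨482,28,31,0,true,[],[.eqn 2983 true,.edge 1257 false]⟩,
⟨544,28,31,0,true,[],[.eqn 2983 true,.edge 2937 false]⟩,
⟨546,28,31,0,true,[],[.eqn 2983 true,.edge 2938 false]⟩,
⟨480,28,32,0,true,[],[.eqn 2983 true,.edge 1879 false,.eqn 1961 false]⟩,
⟨482,28,32,0,true,[],[.eqn 2983 true,.edge 1245 false,.eqn 1370 false]⟩,
⟨853,26,31,0,false,[],[.edge 2989 false,.edge 2939 false]⟩,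
⟨544,28,32,0,true,[],[.eqn 2983 true,.edge 2548 false,.eqn 2603 false,.eqn 2692 false]⟩,
⟨484,28,33,0,true,[],[.eqn 2983 true,.edge 1882 false,.eqn 1959 false,.eqn 2167 false]⟩,
⟨234,129,33,0,false,[],[.edge 2992 true,.edge 2733 false]⟩,
⟨614,28,33,0,true,[],[.eqn 2983 true,.edge 2941 false]⟩,
⟨558,28,33,0,true,[],[.eqn 2983 true,.edge 2940 false]⟩,
⟨398,28,33,0,true,[],[.eqn 2983 true,.edge 2667 false]⟩,
⟨0,227,30,0,false,[],[.eqn 2990 true]⟩,
⟨0,206,30,0,false,[],[.eqn 2993 true]⟩,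
⟨398,13,33,0,true,[],[.edge 271 false]⟩,
⟨11,13,29,3,false,[.code,.edge 2999 false,.code],[.code,.edge 626 false,.code,.edge 890 false,.eqn 965 false,.code,.edge 898 false,.code,.edge 897 false,.code,.edge 2104 false,.eqn 2798 false,.code,.edge 2801 false,.eqn 2910 false,.code,.edge 2929 false,.code,.edge 2898 false]⟩,
⟨0,272,30,0,false,[],[.eqn 3000 false]⟩,
⟨8,263,33,0,true,[],[.edge 272 false]⟩,
⟨12,13,29,5,true,[.code,.edge 2651 false,.code,.edge 3002 false,.code],[.code,.edge 626 false,.code,.edge 1079 false,.eqn 2405 false,.code,.edge 2422 false,.code,.edge 2253 false,.eqn 2405 false,.code,.edge 2407 false,.eqn 2874 false,.code,.edge 2880 false,.code]⟩,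
⟨2,273,33,0,true,[],[.edge 3003 false]⟩,
⟨616,13,33,0,true,[],[.edge 3004 true]⟩,
⟨14,13,12,1,true,[.code],[.code,.edge 2336 false,.edge 2334 false]⟩,
⟨68,13,33,0,true,[],[.edge 3006 false]⟩,
⟨14,13,25,5,true,[.edge 805 false,.edge 793 false,.code,.edge 1013 false,.code],[.edge 805 false,.code,.edge 793 false,.code,.edge 1026 false]⟩,
⟨0,46,31,0,true,[],[.edge 3008 false]⟩,
⟨0,51,32,0,true,[],[.edge 3009 false]⟩,
⟨544,183,32,0,true,[],[.edge 273 false]⟩,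
⟨0,274,31,0,true,[],[.edge 3011 false]⟩,
⟨384,274,32,0,true,[],[.edge 274 false]⟩,
⟨0,275,31,0,true,[],[.edge 3013 false]⟩,
⟨14,13,29,15,true,[.code,.edge 2651 false,.code,.edge 2652 false,.eqn 2666 false,.code,.edge 2994 false,.code,.edge 2179 false,.code,.edge 3011 false,.code,.edge 3013 false,.code,.edge 3014 false,.code],[.code,.edge 805 false,.code]⟩,
⟨2,274,31,0,true,[],[.edge 3015 false]⟩,
⟨512,15,32,0,true,[],[.edge 3016 false]⟩,
⟨544,228,32,0,true,[],[.edge 275 false]⟩,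
⟨0,276,31,0,true,[],[.edge 3018 false]⟩,
⟨384,276,32,0,true,[],[.edge 276 false]⟩,
⟨0,277,31,0,true,[],[.edge 3020 false]⟩,
⟨384,277,32,0,true,[],[.edge 277 false]⟩,
⟨0,278,31,0,true,[],[.edge 3022 false]⟩,
⟨15,13,29,14,false,[.code,.edge 2517 false,.code,.edge 913 false,.code,.edge 2149 false,.code,.edge 3018 false,.code,.edge 3020 false,.code,.edge 3022 false,.code,.edge 3023 false],[.code,.edge 805 false,.code,.edge 3017 false,.code]⟩,
⟨0,277,30,0,false,[],[.eqn 3024 false]⟩,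
⟨0,274,31,0,true,[],[.eqn 3025 true,.edge 3021 false]⟩,
⟨401,276,32,0,false,[],[.edge 3026 false,.edge 3012 false]⟩,
⟨386,274,32,0,true,[],[.eqn 3025 true,.edge 3022 false]⟩,
⟨0,276,30,0,false,[],[.eqn 3027 false]⟩,
⟨2,183,31,0,true,[],[.eqn 3029 true,.edge 3019 false]⟩,
⟨2,269,33,0,true,[],[.edge 278 false]⟩,
⟨0,279,33,0,true,[],[.edge 3031 true]⟩,
⟨16,13,29,5,true,[.code,.edge 2960 false,.code,.edge 3031 false,.code],[.code,.edge 626 false,.code,.edge 1064 false,.eqn 2603 false,.eqn 2692 false,.code,.edge 2707 false,.code,.edge 1228 false,.eqn 2172 false,.eqn 2603 false,.eqn 2692 false,.code,.edge 2696 false,.code,.edge 2473 false,.eqn 2946 false,.code]⟩,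
⟨2,279,33,0,true,[],[.edge 3033 false]⟩,
⟨494,89,33,0,true,[],[.edge 3034 true]⟩,
⟨526,89,33,0,true,[],[.eqn 2947 true,.edge 3035 false]⟩,
⟨76,89,33,0,true,[],[.eqn 2955 true,.edge 3036 false]⟩,
⟨18,13,7,2,false,[.code,.edge 2971 false],[.code,.edge 3007 false,.edge 3010 false]⟩,
⟨0,228,30,0,false,[],[.eqn 3038 false]⟩,
⟨0,46,32,0,true,[],[.eqn 3039 true,.edge 2973 false]⟩,
⟨8,269,33,0,true,[],[.edge 279 false]⟩]

/-- Deductions. -/
def c4_27 : List Step := [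
⟨2,280,33,0,true,[],[.edge 280 false]⟩,
⟨18,13,29,7,true,[.code,.edge 2960 false,.code,.edge 3041 false,.code,.edge 3042 false,.code],[.code,.edge 805 false,.code,.edge 2600 false,.code,.edge 988 false,.eqn 2874 false,.code,.edge 2875 false,.code,.edge 627 false,.code]⟩,
⟨480,281,32,0,true,[],[.edge 3043 false]⟩,
⟨514,13,31,0,true,[],[.edge 3044 false]⟩,
⟨20,13,29,7,true,[.code,.edge 2521 false,.code,.edge 2430 false,.code,.edge 2003 false,.eqn 2528 false,.code],[.code,.edge 805 false,.code,.edge 982 false,.eqn 2692 false,.code,.edge 2706 false,.code,.edge 2551 false,.eqn 2561 false,.eqn 2582 false,.eqn 2603 false,.eqn 2692 false,.code,.edge 2694 false,.code]⟩,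
⟨546,56,32,0,true,[],[.edge 3046 false]⟩,
⟨512,28,31,0,true,[],[.edge 3047 false]⟩,
⟨14,63,33,0,true,[],[.edge 281 false]⟩,
⟨2,282,33,0,true,[],[.edge 282 false]⟩,
⟨0,283,33,0,true,[],[.edge 3050 true]⟩,
⟨21,13,29,7,true,[.code,.edge 2518 false,.code,.edge 3049 false,.code,.edge 3050 false,.code],[.code,.edge 805 false,.code,.edge 982 false,.eqn 2692 false,.code,.edge 2707 false,.code,.edge 1228 false,.eqn 2172 false,.eqn 2603 false,.eqn 2692 false,.code,.edge 2694 false,.code]⟩,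
⟨480,283,32,0,true,[],[.edge 3052 false]⟩,
⟨514,28,31,0,true,[],[.edge 3053 false]⟩,
⟨23,13,29,5,false,[.code,.edge 2518 false,.code,.edge 1120 false,.eqn 2547 false,.code],[.code,.edge 626 false,.code,.edge 898 false,.code,.edge 2179 false,.code,.edge 1551 false,.eqn 1553 false,.eqn 2176 false,.code,.edge 892 false,.code,.edge 873 false,.code,.edge 1688 false,.eqn 1956 false]⟩,
⟨0,91,30,0,false,[],[.eqn 3055 true]⟩,
⟨514,28,31,0,true,[],[.eqn 3056 true,.edge 1738 false,.eqn 1919 false]⟩,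
⟨27,158,32,0,false,[],[.edge 3057 false,.edge 3054 false]⟩,
⟨514,28,32,0,true,[],[.eqn 3056 true,.edge 1441 false]⟩,
⟨704,28,33,0,true,[],[.eqn 3056 true,.edge 1216 false]⟩,
⟨352,92,33,0,false,[],[.edge 3060 true,.edge 2272 false]⟩,
⟨714,28,33,0,true,[],[.eqn 3056 true,.edge 1222 false]⟩,
⟨512,28,33,0,true,[],[.eqn 3056 true,.edge 1957 false]⟩,
⟨368,200,33,0,false,[],[.edge 3063 true,.edge 2273 false]⟩,
⟨642,28,33,0,true,[],[.eqn 3056 true,.edge 1779 false,.eqn 2405 false]⟩,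
⟨648,28,33,0,true,[],[.eqn 3056 true,.edge 1958 false,.eqn 2405 false]⟩,
⟨654,28,33,0,true,[],[.eqn 3056 true,.edge 1443 false,.eqn 1949 false,.eqn 2405 false]⟩,
⟨0,283,30,0,false,[],[.eqn 3058 true]⟩,
⟨580,158,33,0,true,[],[.eqn 3068 true,.edge 3051 false]⟩,
⟨554,158,33,0,true,[],[.eqn 1975 true,.edge 3069 false]⟩,
⟨18,92,30,0,false,[],[.eqn 3061 true]⟩,
⟨0,213,30,0,false,[],[.eqn 3064 true]⟩,
⟨2,200,33,0,true,[],[.eqn 3072 true,.edge 1981 false]⟩,
⟨371,71,33,0,false,[],[.edge 3073 true,.edge 1691 false]⟩,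
⟨371,71,30,0,false,[],[.eqn 3074 false,.eqn 2269 false]⟩,
⟨0,71,30,0,false,[],[.eqn 3075 false]⟩,
⟨1061,56,30,0,false,[],[.eqn 3076 true,.eqn 1969 false,.eqn 3076 false]⟩,
⟨544,56,31,0,true,[],[.eqn 3076 true,.edge 1440 false,.eqn 3056 false]⟩,
⟨512,56,32,0,true,[],[.eqn 3076 true,.edge 2374 false,.eqn 2384 false]⟩,
⟨552,56,33,0,true,[],[.eqn 3076 true,.edge 1156 false]⟩,
⟨554,56,33,0,true,[],[.eqn 3076 true,.edge 1970 false]⟩,
⟨482,56,31,0,true,[],[.eqn 3077 true,.edge 2070 false]⟩,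
⟨480,56,31,0,true,[],[.eqn 3077 true,.edge 1100 false]⟩,
⟨386,56,31,0,true,[],[.eqn 3077 true,.edge 2529 false,.eqn 2532 false,.eqn 2874 false]⟩,
⟨482,56,32,0,true,[],[.eqn 3077 true,.edge 2071 false]⟩,
⟨488,56,33,0,true,[],[.eqn 3077 true,.edge 1832 false]⟩,
⟨448,56,33,0,true,[],[.eqn 3077 true,.edge 2848 false]⟩,
⟨512,8,33,0,true,[],[.edge 283 false]⟩,
⟨24,13,29,5,true,[.code,.edge 2519 false,.eqn 2910 false,.code,.edge 3088 false,.code],[.code,.edge 805 false,.code,.edge 2563 false,.eqn 2591 false,.eqn 2899 false,.eqn 2936 false,.code,.edge 2939 false,.eqn 2997 false,.code,.edge 1371 false,.code,.edge 2987 false,.code,.edge 2698 false,.code]⟩,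
⟨2,284,33,0,true,[],[.edge 3089 false]⟩,
⟨704,82,33,0,true,[],[.edge 3090 true]⟩,
⟨25,13,29,5,true,[.code,.edge 2999 false,.eqn 3001 false,.code,.edge 2637 false,.code],[.code,.edge 805 false,.code,.edge 2563 false,.eqn 2591 false,.eqn 2899 false,.eqn 2936 false,.code,.edge 2988 false,.code,.edge 1962 false,.code,.edge 2987 false,.code,.edge 2697 false,.code]⟩,
⟨10,259,33,0,true,[],[.edge 3092 false]⟩,
⟨452,135,33,0,true,[],[.edge 3093 true]⟩,
⟨546,13,32,0,true,[],[.edge 284 false]⟩,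
⟨0,285,31,0,true,[],[.edge 3095 false]⟩,
⟨384,285,32,0,true,[],[.edge 285 false]⟩,
⟨0,286,31,0,true,[],[.edge 3097 false]⟩,
⟨31,13,29,14,false,[.code,.edge 2517 false,.code,.edge 1714 false,.eqn 2069 false,.code,.edge 2819 false,.eqn 2942 false,.code,.edge 972 false,.eqn 983 false,.code,.edge 3095 false,.code,.edge 3097 false,.code,.edge 3098 false],[.code,.edge 805 false,.code,.edge 2862 false,.code]⟩,
⟨0,285,30,0,false,[],[.eqn 3099 false]⟩,
⟨514,85,31,0,true,[],[.eqn 3100 true,.edge 3096 false]⟩,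
⟨2,85,32,0,true,[],[.eqn 3100 true,.edge 3097 false]⟩,
⟨33,13,29,7,false,[.code,.edge 2524 false,.code,.edge 1654 false,.eqn 2944 false,.code,.edge 2945 false,.code],[.code,.edge 626 false,.code,.edge 987 false,.eqn 2405 false,.code,.edge 2464 false,.eqn 2910 false,.code,.edge 2542 false,.eqn 2905 false,.code,.edge 2409 false,.eqn 2603 false,.eqn 2692 false,.code,.edge 2698 false]⟩,
⟨0,85,30,0,false,[],[.eqn 3103 false]⟩,
⟨546,82,31,0,true,[],[.eqn 3104 true,.edge 2181 false,.eqn 2812 false,.eqn 2857 false]⟩,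
⟨544,82,31,0,true,[],[.eqn 3104 true,.edge 3101 false]⟩,
⟨384,82,32,0,true,[],[.eqn 3104 true,.edge 3102 false]⟩,
⟨2,82,32,0,true,[],[.eqn 3104 true,.edge 1188 false]⟩,
⟨424,82,33,0,true,[],[.eqn 3104 true,.edge 1503 false,.eqn 2027 false]⟩,
⟨67,89,33,0,false,[],[.edge 3109 true,.edge 2968 false]⟩,
⟨0,271,30,0,false,[],[.eqn 3110 true]⟩,
⟨76,89,33,0,true,[],[.eqn 3111 true,.edge 2965 false]⟩,
⟨404,26,33,0,false,[],[.edge 3112 true,.edge 3037 false]⟩,
⟨0,279,30,0,false,[],[.eqn 3113 true]⟩,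
⟨390,26,33,0,true,[],[.eqn 3114 true,.edge 3032 false]⟩,
⟨264,269,33,0,false,[],[.edge 3115 true,.edge 1373 false]⟩,
⟨264,269,30,0,false,[],[.eqn 3116 false,.eqn 2512 false]⟩,
⟨0,269,30,0,false,[],[.eqn 3117 false]⟩,
⟨390,13,33,0,true,[],[.eqn 3118 true,.edge 2961 false]⟩,
⟨16,270,33,0,false,[],[.edge 3119 true,.edge 2521 false]⟩,
⟨394,13,33,0,true,[],[.eqn 3118 true,.edge 3041 false]⟩,
⟨17,280,33,0,false,[],[.edge 3121 true,.edge 2517 false]⟩,
⟨0,270,30,0,false,[],[.eqn 3120 false]⟩,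
⟨418,20,33,0,true,[],[.eqn 3123 true,.edge 2963 false]⟩,
⟨456,135,33,0,false,[],[.edge 3124 true,.edge 2430 false]⟩,
⟨0,280,30,0,false,[],[.eqn 3122 false]⟩,
⟨522,11,33,0,true,[],[.eqn 3126 true,.edge 3042 false]⟩,
⟨352,281,33,0,false,[],[.edge 3127 true,.edge 1714 false]⟩,
⟨0,135,30,0,false,[],[.eqn 3125 false]⟩,
⟨512,25,32,0,true,[],[.eqn 3129 true,.edge 1353 false,.eqn 2603 false,.eqn 2692 false]⟩,
⟨8,25,33,0,true,[],[.eqn 3129 true,.edge 3094 false]⟩,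
⟨27,259,33,0,false,[],[.edge 3131 true,.edge 2216 false]⟩,
⟨352,281,30,0,false,[],[.eqn 3128 false,.eqn 2069 false]⟩,
⟨0,281,30,0,false,[],[.eqn 3133 false]⟩,
⟨514,56,32,0,true,[],[.eqn 3134 true,.edge 3044 false]⟩,
⟨1012,13,31,0,false,[],[.edge 3135 false,.edge 2126 false]⟩,
⟨27,259,30,0,false,[],[.eqn 3132 false,.eqn 2936 false]⟩,
⟨0,259,30,0,false,[],[.eqn 3137 false]⟩,
⟨1069,13,30,0,false,[],[.eqn 3136 true]⟩,
⟨480,13,31,0,true,[],[.eqn 3139 true,.edge 629 false]⟩,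
⟨482,13,31,0,true,[],[.eqn 3139 true,.edge 789 false]⟩]

/-- Deductions. -/
def c4_28 : List Step := [
⟨386,13,31,0,true,[],[.eqn 3139 true,.edge 984 false]⟩,
⟨514,13,32,0,true,[],[.eqn 3139 true,.edge 1322 false,.eqn 2874 false]⟩,
⟨706,18,31,0,false,[],[.edge 3143 false,.edge 1010 false]⟩,
⟨584,13,33,0,true,[],[.eqn 3139 true,.edge 689 false]⟩,
⟨578,13,33,0,true,[],[.eqn 3139 true,.edge 2971 false,.eqn 3039 false]⟩,
⟨576,13,33,0,true,[],[.eqn 3139 true,.edge 734 false]⟩,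
⟨686,13,33,0,true,[],[.eqn 3139 true,.edge 828 false]⟩,
⟨676,13,33,0,true,[],[.eqn 3139 true,.edge 810 false]⟩,
⟨684,13,33,0,true,[],[.eqn 3139 true,.edge 735 false]⟩,
⟨682,13,33,0,true,[],[.eqn 3139 true,.edge 747 false]⟩,
⟨674,13,33,0,true,[],[.eqn 3139 true,.edge 2336 false]⟩,
⟨484,13,33,0,true,[],[.eqn 3139 true,.edge 826 false,.eqn 2910 false]⟩,
⟨492,13,33,0,true,[],[.eqn 3139 true,.edge 684 false]⟩,
⟨480,13,33,0,true,[],[.eqn 3139 true,.edge 742 false]⟩,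
⟨486,13,33,0,true,[],[.eqn 3139 true,.edge 635 false]⟩,
⟨488,13,33,0,true,[],[.eqn 3139 true,.edge 802 false,.eqn 2681 false,.eqn 2910 false]⟩,
⟨716,13,33,0,true,[],[.eqn 3139 true,.edge 2518 false]⟩,
⟨704,13,33,0,true,[],[.eqn 3139 true,.edge 2651 false]⟩,
⟨706,13,33,0,true,[],[.eqn 3139 true,.edge 2519 false,.eqn 2910 false]⟩,
⟨710,13,33,0,true,[],[.eqn 3139 true,.edge 2999 false,.eqn 3001 false]⟩,
⟨514,13,33,0,true,[],[.eqn 3139 true,.edge 2522 false]⟩,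
⟨640,13,33,0,true,[],[.eqn 3139 true,.edge 2838 false]⟩,
⟨652,13,33,0,true,[],[.eqn 3139 true,.edge 2525 false,.eqn 3129 false]⟩,
⟨0,45,30,0,false,[],[.eqn 3144 true]⟩,
⟨34,13,21,8,false,[.code,.edge 2321 false,.eqn 2807 false,.code,.edge 2803 false,.code,.edge 2104 false,.eqn 2798 false,.edge 1029 false,.code],[.edge 828 false,.code,.edge 2978 false]⟩,
⟨0,51,30,0,false,[],[.eqn 3166 true]⟩,
⟨8,48,33,0,true,[],[.eqn 3167 true,.edge 2241 false]⟩,
⟨37,13,29,3,false,[.code,.edge 2838 false,.code],[.code,.edge 805 false,.code,.edge 3017 false,.code,.edge 3013 false,.code,.edge 3014 false,.code,.edge 3012 false,.code,.edge 1551 false,.eqn 1553 false,.eqn 2176 false,.code,.edge 2076 false,.eqn 2812 false,.eqn 2857 false,.code,.edge 2863 false]⟩,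
⟨0,67,30,0,false,[],[.eqn 3169 false]⟩,
⟨546,26,32,0,true,[],[.eqn 3170 true,.edge 1128 false,.eqn 1141 false,.eqn 2603 false,.eqn 2692 false]⟩,
⟨38,13,29,5,true,[.code,.edge 2523 false,.code,.edge 2079 false,.eqn 2831 false,.eqn 2894 false,.code],[.code,.edge 626 false,.code,.edge 988 false,.eqn 2874 false,.code,.edge 2889 false,.code,.edge 2529 false,.eqn 2532 false,.eqn 2874 false,.code,.edge 2650 false,.eqn 2905 false,.code,.edge 2416 false,.eqn 2479 false,.code]⟩,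
⟨552,19,33,0,true,[],[.edge 3172 false]⟩,
⟨516,10,33,0,true,[],[.edge 3173 true]⟩,
⟨42,13,29,7,false,[.code,.edge 2526 false,.code,.edge 2265 false,.code,.edge 2149 false,.eqn 3039 false,.code],[.code,.edge 626 false,.code,.edge 857 false,.eqn 869 false,.code,.edge 895 false,.code,.edge 892 false,.code,.edge 908 false,.code,.edge 1175 false,.eqn 2097 false,.eqn 2874 false]⟩,
⟨0,46,30,0,false,[],[.eqn 3175 false]⟩,
⟨384,18,31,0,true,[],[.eqn 3176 true,.edge 3009 false,.eqn 3167 false]⟩,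
⟨315,48,32,0,false,[],[.edge 3177 false,.edge 2884 false]⟩,
⟨384,18,32,0,true,[],[.eqn 3176 true,.edge 3040 false]⟩,
⟨315,34,31,0,false,[],[.edge 3179 false,.edge 2809 false]⟩,
⟨0,48,30,0,false,[],[.eqn 3178 false]⟩,
⟨546,26,33,0,true,[],[.eqn 3181 true,.edge 1017 false]⟩,
⟨552,26,33,0,true,[],[.eqn 3181 true,.edge 3168 false]⟩,
⟨0,34,30,0,false,[],[.eqn 3180 false]⟩,
⟨390,19,33,0,true,[],[.eqn 3184 true,.edge 2492 false]⟩,
⟨43,13,29,3,true,[.code,.edge 2839 false,.code],[.code,.edge 626 false,.code,.edge 857 false,.eqn 869 false,.code,.edge 872 false,.eqn 887 false,.code,.edge 888 false,.code,.edge 908 false,.code,.edge 1182 false,.code,.edge 2082 false,.code]⟩,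
⟨36,143,33,0,true,[],[.edge 3186 false]⟩,
⟨6,159,33,0,true,[],[.edge 3187 true]⟩,
⟨392,25,33,0,true,[],[.edge 286 false]⟩,
⟨46,13,29,5,true,[.code,.edge 2525 false,.eqn 3129 false,.code,.edge 3189 false,.code],[.code,.edge 805 false,.code,.edge 1112 false,.eqn 1141 false,.eqn 2603 false,.eqn 2692 false,.code,.edge 2707 false,.code,.edge 1228 false,.eqn 2172 false,.eqn 2603 false,.eqn 2692 false,.code,.edge 2694 false,.code,.edge 2985 false,.code]⟩,
⟨2,287,33,0,true,[],[.edge 3190 false]⟩,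
⟨524,26,33,0,true,[],[.edge 287 false]⟩,
⟨55,13,29,5,true,[.code,.edge 2838 false,.eqn 3170 false,.code,.edge 3192 false,.code],[.code,.edge 626 false,.code,.edge 1079 false,.eqn 2405 false,.code,.edge 2422 false,.code,.edge 2253 false,.eqn 2405 false,.code,.edge 2407 false,.eqn 2874 false,.code,.edge 2880 false,.code]⟩,
⟨2,288,33,0,true,[],[.edge 3193 false]⟩,
⟨548,13,33,0,true,[],[.edge 3194 true]⟩,
⟨63,13,29,7,false,[.code,.edge 2371 false,.eqn 2509 false,.code,.edge 2341 false,.eqn 3184 false,.code,.edge 2716 false,.code],[.code,.edge 805 false,.code,.edge 2563 false,.eqn 2591 false,.eqn 2899 false,.eqn 2936 false,.code,.edge 2939 false,.eqn 2997 false,.code,.edge 1371 false,.code,.edge 2987 false,.code,.edge 2698 false]⟩,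
⟨1784,82,30,0,false,[],[.eqn 3196 true]⟩,
⟨514,82,31,0,true,[],[.eqn 3197 true,.edge 2453 false]⟩,
⟨512,82,31,0,true,[],[.eqn 3197 true,.edge 2551 false,.eqn 2561 false,.eqn 2582 false,.eqn 2603 false,.eqn 2692 false]⟩,
⟨512,82,32,0,true,[],[.eqn 3197 true,.edge 3108 false]⟩,
⟨482,82,32,0,true,[],[.eqn 3197 true,.edge 3107 false]⟩,
⟨386,82,32,0,true,[],[.eqn 3197 true,.edge 1181 false]⟩,
⟨552,82,33,0,true,[],[.eqn 3197 true,.edge 2461 false]⟩,
⟨110,112,33,0,false,[],[.edge 3203 true,.edge 1288 false]⟩,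
⟨272,112,30,0,false,[],[.eqn 3204 true]⟩,
⟨64,13,29,1,true,[.code],[.code,.edge 626 false,.code,.edge 987 false,.eqn 2405 false,.code,.edge 2419 false,.eqn 2946 false,.code,.edge 2028 false,.eqn 2440 false,.eqn 2905 false,.code,.edge 2409 false,.eqn 2603 false,.eqn 2692 false,.code,.edge 2697 false,.eqn 3129 false,.code,.edge 1674 false,.eqn 2251 false,.code,.edge 2266 false,.eqn 2528 false,.code]⟩,
⟨418,13,33,0,true,[],[.edge 3206 false]⟩,
⟨420,13,33,0,true,[],[.edge 288 false]⟩,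
⟨522,13,33,0,true,[],[.eqn 3139 true,.edge 3208 false]⟩,
⟨4,289,33,0,true,[],[.edge 289 false]⟩,
⟨8,289,33,0,true,[],[.edge 290 false]⟩,
⟨71,13,29,5,true,[.code,.edge 3208 false,.code,.edge 3211 false,.code],[.code,.edge 626 false,.code,.edge 890 false,.eqn 965 false,.code,.edge 898 false,.code,.edge 897 false,.code,.edge 2104 false,.eqn 2798 false,.code,.edge 2801 false,.eqn 2910 false,.code]⟩,
⟨2,291,33,0,true,[],[.edge 3212 false]⟩,
⟨556,8,33,0,true,[],[.edge 3213 true]⟩,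
⟨430,13,33,0,true,[],[.edge 291 false]⟩,
⟨512,13,33,0,true,[],[.eqn 3139 true,.edge 3215 false]⟩,
⟨73,13,29,3,true,[.code,.edge 3215 false,.code],[.code,.edge 805 false,.code,.edge 3017 false,.code,.edge 3013 false,.code,.edge 3014 false,.code,.edge 3012 false,.code,.edge 1551 false,.eqn 1553 false,.eqn 2176 false,.code,.edge 2079 false,.eqn 2831 false,.eqn 2894 false,.code]⟩,
⟨4,292,33,0,true,[],[.edge 3217 false]⟩,
⟨424,13,33,0,true,[],[.edge 292 false]⟩,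
⟨518,13,33,0,true,[],[.eqn 3139 true,.edge 3219 false]⟩,
⟨84,13,29,7,false,[.code,.edge 2522 false,.code,.edge 2978 false,.eqn 3167 false,.eqn 3181 false,.code,.edge 3183 false,.code],[.code,.edge 805 false,.code,.edge 2563 false,.eqn 2591 false,.eqn 2899 false,.eqn 2936 false,.code,.edge 2939 false,.eqn 2997 false,.code,.edge 1371 false,.code,.edge 2987 false,.code,.edge 2698 false]⟩,
⟨0,82,30,0,false,[],[.eqn 3221 true]⟩,
⟨103,73,30,0,false,[],[.eqn 3222 true,.eqn 3197 false,.eqn 3222 false]⟩,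
⟨544,73,31,0,true,[],[.eqn 3222 true,.edge 2453 false]⟩,
⟨546,73,31,0,true,[],[.eqn 3222 true,.edge 2551 false,.eqn 2561 false,.eqn 2582 false,.eqn 2603 false,.eqn 2692 false]⟩,
⟨512,73,31,0,true,[],[.eqn 3222 true,.edge 3199 false]⟩,
⟨514,73,31,0,true,[],[.eqn 3222 true,.edge 3198 false]⟩,
⟨2,73,31,0,true,[],[.eqn 3222 true,.edge 3106 false]⟩,
⟨0,73,31,0,true,[],[.eqn 3222 true,.edge 3105 false]⟩,
⟨480,73,32,0,true,[],[.eqn 3222 true,.edge 3107 false]⟩,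
⟨155,286,31,0,false,[],[.edge 3230 false,.edge 1160 false]⟩,
⟨482,73,32,0,true,[],[.eqn 3222 true,.edge 3202 false]⟩,
⟨386,73,32,0,true,[],[.eqn 3222 true,.edge 1181 false]⟩,
⟨384,73,32,0,true,[],[.eqn 3222 true,.edge 3201 false]⟩,
⟨512,73,32,0,true,[],[.eqn 3222 true,.edge 3200 false]⟩,
⟨2,73,32,0,true,[],[.eqn 3222 true,.edge 2549 false]⟩,
⟨0,73,32,0,true,[],[.eqn 3222 true,.edge 2556 false]⟩,
⟨38,73,33,0,true,[],[.eqn 3222 true,.edge 1288 false]⟩,
⟨716,73,33,0,true,[],[.eqn 3222 true,.edge 3091 false]⟩,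
⟨265,284,33,0,false,[],[.edge 3239 true,.edge 2152 false]⟩,
⟨155,286,30,0,false,[],[.eqn 3231 false,.eqn 2874 false]⟩]

/-- Deductions. -/
def c4_29 : List Step := [
⟨0,286,30,0,false,[],[.eqn 3241 false]⟩,
⟨265,284,30,0,false,[],[.eqn 3240 false,.eqn 3039 false,.eqn 3176 false]⟩,
⟨0,284,30,0,false,[],[.eqn 3243 false]⟩,
⟨85,13,29,3,false,[.code,.edge 3208 false,.code],[.code,.edge 805 false,.code,.edge 2563 false,.eqn 2591 false,.eqn 2899 false,.eqn 2936 false,.code,.edge 2988 false,.code,.edge 1962 false,.code,.edge 2987 false,.code,.edge 2697 false,.eqn 3129 false,.code,.edge 2079 false,.eqn 2831 false,.eqn 2894 false,.code,.edge 3173 false]⟩,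
⟨0,289,30,0,false,[],[.eqn 3245 false]⟩,
⟨514,10,33,0,true,[],[.eqn 3246 true,.edge 3210 false]⟩,
⟨622,10,33,0,true,[],[.eqn 554 true,.edge 3247 false]⟩,
⟨520,10,33,0,true,[],[.edge 293 false]⟩,
⟨87,13,29,5,true,[.code,.edge 3208 false,.eqn 3246 false,.code,.edge 3249 false,.code],[.code,.edge 626 false,.code,.edge 2093 false,.eqn 2798 false,.code,.edge 2804 false,.eqn 2910 false,.code,.edge 2913 false,.code,.edge 2800 false,.code,.edge 889 false,.code]⟩,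
⟨2,294,33,0,true,[],[.edge 3250 false]⟩,
⟨448,25,33,0,true,[],[.edge 3251 true]⟩,
⟨89,13,29,3,false,[.code,.edge 3215 false,.code],[.code,.edge 805 false,.code,.edge 2862 false,.eqn 3104 false,.eqn 3222 false,.code,.edge 3232 false,.code,.edge 1182 false,.eqn 3222 false,.code,.edge 3228 false,.code,.edge 1306 false,.eqn 2125 false,.code,.edge 3086 false,.code,.edge 1834 false]⟩,
⟨0,292,30,0,false,[],[.eqn 3253 false]⟩,
⟨462,76,33,0,true,[],[.eqn 3254 true,.edge 3218 false]⟩,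
⟨452,76,33,0,true,[],[.edge 294 false]⟩,
⟨91,13,29,5,true,[.code,.edge 3215 false,.eqn 3254 false,.code,.edge 3256 false,.code],[.code,.edge 626 false,.code,.edge 1079 false,.eqn 2405 false,.code,.edge 2422 false,.code,.edge 2253 false,.eqn 2405 false,.code,.edge 2407 false,.eqn 2874 false,.code,.edge 2880 false,.code]⟩,
⟨2,295,33,0,true,[],[.edge 3257 false]⟩,
⟨750,13,33,0,true,[],[.edge 3258 true]⟩,
⟨92,13,29,3,true,[.code,.edge 3219 false,.code],[.code,.edge 626 false,.code,.edge 857 false,.eqn 869 false,.code,.edge 872 false,.eqn 887 false,.code,.edge 888 false,.code,.edge 908 false,.code,.edge 1182 false,.eqn 3222 false,.code,.edge 3238 false,.code]⟩,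
⟨2,293,33,0,true,[],[.edge 3260 false]⟩,
⟨6,112,33,0,true,[],[.edge 3261 true]⟩,
⟨8,293,33,0,true,[],[.edge 295 false]⟩,
⟨94,13,29,5,true,[.code,.edge 3219 false,.code,.edge 3263 false,.code],[.code,.edge 805 false,.code,.edge 982 false,.eqn 2692 false,.code,.edge 2707 false,.code,.edge 1228 false,.eqn 2172 false,.eqn 2603 false,.eqn 2692 false,.code,.edge 2694 false,.code,.edge 3054 false,.eqn 3068 false,.code]⟩,
⟨2,296,33,0,true,[],[.edge 3264 false]⟩,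
⟨680,158,33,0,true,[],[.edge 3265 true]⟩,
⟨620,158,33,0,true,[],[.eqn 1975 true,.edge 3266 false]⟩,
⟨97,13,29,7,false,[.code,.edge 3155 false,.code,.edge 841 false,.eqn 2681 false,.eqn 2910 false,.code,.edge 2928 false,.code],[.code,.edge 626 false,.code,.edge 1079 false,.eqn 2405 false,.code,.edge 2464 false,.eqn 2910 false,.code,.edge 2542 false,.eqn 2905 false,.code,.edge 2407 false,.eqn 2874 false,.code,.edge 2882 false]⟩,
⟨0,76,30,0,false,[],[.eqn 3268 true]⟩,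
⟨716,25,33,0,true,[],[.eqn 3269 true,.edge 1165 false]⟩,
⟨3,75,33,0,false,[],[.edge 3270 true,.edge 2450 false]⟩,
⟨452,25,33,0,true,[],[.eqn 3269 true,.edge 3256 false]⟩,
⟨462,25,33,0,true,[],[.eqn 3269 true,.edge 3255 false]⟩,
⟨0,214,30,0,false,[],[.eqn 3271 true]⟩,
⟨610,26,33,0,true,[],[.edge 296 false]⟩,
⟨512,254,32,0,true,[],[.edge 297 false]⟩,
⟨0,298,31,0,true,[],[.edge 3276 false]⟩,
⟨100,13,29,14,false,[.code,.edge 3156 false,.code,.edge 1026 false,.eqn 3167 false,.eqn 3181 false,.code,.edge 3182 false,.code,.edge 2184 false,.eqn 2459 false,.eqn 3222 false,.code,.edge 3237 false,.code,.edge 3276 false,.code,.edge 3277 false],[.code,.edge 805 false,.code,.edge 3017 false,.code]⟩,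
⟨0,274,30,0,false,[],[.eqn 3278 true]⟩,
⟨0,254,31,0,true,[],[.eqn 3279 true,.edge 3012 false]⟩,
⟨1089,183,32,0,false,[],[.edge 3280 false,.edge 2557 false]⟩,
⟨480,254,32,0,true,[],[.eqn 3279 true,.edge 3013 false]⟩,
⟨482,254,32,0,true,[],[.eqn 3279 true,.edge 3028 false]⟩,
⟨1089,183,30,0,false,[],[.eqn 3281 false,.eqn 3222 false]⟩,
⟨0,183,30,0,false,[],[.eqn 3284 false]⟩,
⟨384,73,31,0,true,[],[.eqn 3285 true,.edge 1551 false,.eqn 1553 false,.eqn 2176 false]⟩,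
⟨386,73,31,0,true,[],[.eqn 3285 true,.edge 3030 false,.eqn 3039 false,.eqn 3176 false]⟩,
⟨480,73,31,0,true,[],[.eqn 3223 true,.edge 3286 false]⟩,
⟨482,73,31,0,true,[],[.eqn 3223 true,.edge 3287 false]⟩,
⟨102,13,29,7,true,[.code,.edge 3156 false,.code,.edge 576 false,.eqn 2910 false,.code,.edge 2924 false,.code],[.code,.edge 626 false,.code,.edge 890 false,.eqn 965 false,.code,.edge 1064 false,.eqn 2603 false,.eqn 2692 false,.code,.edge 2695 false,.code,.edge 2104 false,.eqn 2798 false,.code]⟩,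
⟨384,50,32,0,true,[],[.edge 3290 false]⟩,
⟨546,47,31,0,true,[],[.edge 3291 false]⟩,
⟨544,47,31,0,true,[],[.eqn 1028 true,.edge 3292 false]⟩,
⟨103,13,29,7,false,[.code,.edge 3153 false,.code,.edge 2926 false,.code,.edge 2530 false,.code],[.code,.edge 626 false,.code,.edge 890 false,.eqn 965 false,.code,.edge 987 false,.eqn 2405 false,.code,.edge 2410 false,.code,.edge 2104 false,.eqn 2798 false,.code,.edge 3293 false]⟩,
⟨0,163,30,0,false,[],[.eqn 3294 false]⟩,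
⟨106,13,29,5,true,[.code,.edge 3154 false,.code,.edge 779 false,.code],[.code,.edge 626 false,.code,.edge 857 false,.eqn 869 false,.code,.edge 377 false,.code,.edge 378 false,.code,.edge 906 false,.code,.edge 1363 false,.eqn 2843 false,.code]⟩,
⟨68,20,33,0,true,[],[.edge 3296 false]⟩,
⟨108,13,29,5,true,[.code,.edge 3157 false,.code,.edge 3214 false,.code],[.code,.edge 626 false,.code,.edge 987 false,.eqn 2405 false,.code,.edge 2417 false,.eqn 2874 false,.code,.edge 2650 false,.eqn 2905 false,.code,.edge 2409 false,.eqn 2603 false,.eqn 2692 false,.code,.edge 2700 false,.eqn 3170 false,.code]⟩,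
⟨6,291,33,0,true,[],[.edge 3298 false]⟩,
⟨704,26,33,0,true,[],[.edge 3299 true]⟩,
⟨480,25,32,0,true,[],[.edge 298 false]⟩,
⟨0,299,31,0,true,[],[.edge 3301 false]⟩,
⟨482,25,32,0,true,[],[.edge 299 false]⟩,
⟨0,300,31,0,true,[],[.edge 3303 false]⟩,
⟨126,13,29,7,false,[.code,.edge 3157 false,.code,.edge 2931 false,.code,.edge 1458 false,.code],[.code,.edge 805 false,.code,.edge 982 false,.eqn 2692 false,.code,.edge 2705 false,.code,.edge 1116 false,.eqn 1141 false,.eqn 2603 false,.eqn 2692 false,.code,.edge 2694 false,.code,.edge 2985 false]⟩,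
⟨0,74,30,0,false,[],[.eqn 3305 false]⟩,
⟨384,50,31,0,true,[],[.eqn 3306 true,.edge 1725 false,.eqn 2100 false,.eqn 3306 false]⟩,
⟨386,50,31,0,true,[],[.eqn 3306 true,.edge 2101 false]⟩,
⟨384,50,32,0,true,[],[.eqn 3306 true,.edge 1413 false]⟩,
⟨352,80,31,0,false,[],[.edge 3309 false,.edge 3291 false]⟩,
⟨386,50,32,0,true,[],[.eqn 3306 true,.edge 2102 false,.eqn 3306 false]⟩,
⟨0,80,30,0,false,[],[.eqn 3310 false]⟩,
⟨544,13,33,0,true,[],[.edge 300 false]⟩,
⟨556,13,33,0,true,[],[.eqn 3139 true,.edge 3313 false]⟩,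
⟨4,301,33,0,true,[],[.edge 301 false]⟩,
⟨546,13,33,0,true,[],[.edge 302 false]⟩,
⟨0,303,33,0,true,[],[.edge 3316 true]⟩,
⟨4,303,33,0,true,[],[.edge 303 false]⟩,
⟨0,304,33,0,true,[],[.edge 3318 true]⟩,
⟨130,13,29,5,true,[.code,.edge 3316 false,.code,.edge 3318 false,.code],[.code,.edge 805 false,.code,.edge 2862 false,.eqn 3104 false,.eqn 3222 false,.code,.edge 3234 false,.eqn 3242 false,.code,.edge 2881 false,.code,.edge 3228 false,.code,.edge 3140 false,.code]⟩,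
⟨2,304,33,0,true,[],[.edge 3320 false]⟩,
⟨131,13,29,3,false,[.code,.edge 3313 false,.code],[.code,.edge 805 false,.code,.edge 2862 false,.eqn 3104 false,.eqn 3222 false,.code,.edge 3233 false,.code,.edge 1182 false,.eqn 3222 false,.code,.edge 3228 false,.code,.edge 789 false,.code,.edge 1504 false,.eqn 1919 false,.code,.edge 1925 false]⟩,
⟨0,301,30,0,false,[],[.eqn 3322 false]⟩,
⟨12,175,33,0,true,[],[.eqn 3323 true,.edge 3315 false]⟩,
⟨132,13,29,1,true,[.code],[.code,.edge 805 false,.code,.edge 2142 false,.eqn 2899 false,.eqn 2936 false,.code,.edge 1245 false,.eqn 1370 false,.code,.edge 1371 false,.code,.edge 2938 false,.code,.edge 2700 false,.eqn 3170 false,.code,.edge 3192 false,.code,.edge 3194 false,.code]⟩,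
⟨550,13,33,0,true,[],[.edge 3325 false]⟩,
⟨554,13,33,0,true,[],[.edge 3326 true]⟩,
⟨134,13,29,3,true,[.code,.edge 3326 false,.code],[.code,.edge 626 false,.code,.edge 988 false,.eqn 2874 false,.code,.edge 823 false,.code,.edge 822 false,.code,.edge 2650 false,.eqn 2905 false,.code,.edge 773 false,.code,.edge 2425 false,.eqn 3056 false,.code]⟩,
⟨558,13,33,0,true,[],[.edge 3328 false]⟩,
⟨12,288,33,0,true,[],[.edge 304 false]⟩,
⟨0,305,33,0,true,[],[.edge 3330 true]⟩,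
⟨6,175,33,0,true,[],[.edge 305 false]⟩,
⟨2,306,33,0,true,[],[.edge 306 false]⟩,
⟨136,13,29,7,true,[.code,.edge 3314 false,.eqn 3323 false,.code,.edge 3332 false,.code,.edge 3333 false,.code],[.code,.edge 805 false,.code,.edge 2600 false,.code,.edge 890 false,.eqn 965 false,.code,.edge 963 false,.eqn 965 false,.code,.edge 627 false,.code]⟩,
⟨480,307,32,0,true,[],[.edge 3334 false]⟩,
⟨546,13,31,0,true,[],[.edge 3335 false]⟩,
⟨748,20,33,0,true,[],[.edge 307 false]⟩,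
⟨137,13,29,7,true,[.code,.edge 3329 false,.code,.edge 3067 false,.code,.edge 3337 false,.code],[.code,.edge 805 false,.code,.edge 2600 false,.code,.edge 2093 false,.eqn 2798 false,.code,.edge 2799 false,.code,.edge 627 false,.code]⟩,
⟨480,308,32,0,true,[],[.edge 3338 false]⟩,
⟨544,13,31,0,true,[],[.edge 3339 false]⟩,
⟨8,302,33,0,true,[],[.edge 308 false]⟩]

/-- Deductions. -/
def c4_30 : List Step := [
⟨138,13,29,7,true,[.code,.edge 3314 false,.eqn 3323 false,.code,.edge 3324 false,.code,.edge 3341 false,.code],[.code,.edge 626 false,.code,.edge 890 false,.eqn 965 false,.code,.edge 988 false,.eqn 2874 false,.code,.edge 2875 false,.code,.edge 2104 false,.eqn 2798 false,.code]⟩,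
⟨480,309,32,0,true,[],[.edge 3342 false]⟩,
⟨514,47,31,0,true,[],[.edge 3343 false]⟩,
⟨512,47,31,0,true,[],[.eqn 1028 true,.edge 3344 false]⟩,
⟨139,13,29,7,false,[.code,.edge 3329 false,.code,.edge 3065 false,.code,.edge 2424 false,.code],[.code,.edge 626 false,.code,.edge 890 false,.eqn 965 false,.code,.edge 1079 false,.eqn 2405 false,.code,.edge 2406 false,.code,.edge 2104 false,.eqn 2798 false,.code,.edge 3345 false]⟩,
⟨0,309,30,0,false,[],[.eqn 3346 true]⟩,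
⟨552,13,33,0,true,[],[.edge 309 false]⟩,
⟨4,310,33,0,true,[],[.edge 310 false]⟩,
⟨0,311,33,0,true,[],[.edge 3349 true]⟩,
⟨140,13,29,5,true,[.code,.edge 3348 false,.code,.edge 3349 false,.code],[.code,.edge 626 false,.code,.edge 987 false,.eqn 2405 false,.code,.edge 2421 false,.code,.edge 2195 false,.eqn 2274 false,.eqn 2405 false,.code,.edge 2409 false,.eqn 2603 false,.eqn 2692 false,.code,.edge 2693 false,.code]⟩,
⟨2,311,33,0,true,[],[.edge 3351 false]⟩,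
⟨708,15,33,0,true,[],[.edge 3352 true]⟩,
⟨141,13,29,7,false,[.code,.edge 3327 false,.code,.edge 3195 false,.code,.edge 3330 false,.code],[.code,.edge 626 false,.code,.edge 987 false,.eqn 2405 false,.code,.edge 2422 false,.code,.edge 2253 false,.eqn 2405 false,.code,.edge 2409 false,.eqn 2603 false,.eqn 2692 false,.code,.edge 2694 false]⟩,
⟨0,305,30,0,false,[],[.eqn 3354 false]⟩,
⟨558,28,33,0,true,[],[.eqn 3355 true,.edge 3331 false]⟩,
⟨268,288,33,0,false,[],[.edge 3356 true,.edge 2995 false]⟩,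
⟨0,288,30,0,false,[],[.eqn 3357 false]⟩,
⟨143,13,29,5,true,[.code,.edge 3327 false,.code,.edge 3348 false,.code],[.code,.edge 805 false,.code,.edge 1112 false,.eqn 1141 false,.eqn 2603 false,.eqn 2692 false,.code,.edge 2704 false,.code,.edge 2409 false,.eqn 2603 false,.eqn 2692 false,.code,.edge 2694 false,.code,.edge 3054 false,.eqn 3068 false,.code]⟩,
⟨8,310,33,0,true,[],[.edge 3359 false]⟩,
⟨716,158,33,0,true,[],[.edge 3360 true]⟩,
⟨416,158,33,0,true,[],[.eqn 1975 true,.edge 3361 false]⟩,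
⟨148,13,29,7,false,[.code,.edge 3326 false,.code,.edge 3316 false,.code,.edge 3318 false,.code],[.code,.edge 805 false,.code,.edge 982 false,.eqn 2692 false,.code,.edge 2708 false,.eqn 2902 false,.code,.edge 2255 false,.eqn 2870 false,.code,.edge 2694 false,.code,.edge 1878 false]⟩,
⟨0,304,30,0,false,[],[.eqn 3363 false]⟩,
⟨706,26,33,0,true,[],[.eqn 3364 true,.edge 3319 false]⟩,
⟨704,26,33,0,true,[],[.eqn 3364 true,.edge 3321 false]⟩,
⟨1817,15,33,0,false,[],[.edge 3366 true,.edge 3300 false]⟩,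
⟨0,291,30,0,false,[],[.eqn 3367 true]⟩,
⟨544,13,32,0,true,[],[.edge 311 false]⟩,
⟨0,312,31,0,true,[],[.edge 3369 false]⟩,
⟨153,13,29,7,false,[.code,.edge 3329 false,.code,.edge 3066 false,.code,.edge 2426 false,.code],[.code,.edge 805 false,.code,.edge 2599 false,.code,.edge 3095 false,.eqn 3100 false,.eqn 3104 false,.eqn 3222 false,.code,.edge 3228 false,.code,.edge 789 false,.code,.edge 2104 false,.eqn 2798 false]⟩,
⟨0,130,30,0,false,[],[.eqn 3371 false]⟩,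
⟨512,47,31,0,true,[],[.eqn 3372 true,.edge 1668 false,.eqn 1959 false,.eqn 2167 false]⟩,
⟨46,129,32,0,false,[],[.edge 3373 false,.edge 3345 false]⟩,
⟨512,47,32,0,true,[],[.eqn 3372 true,.edge 2046 false]⟩,
⟨46,129,30,0,false,[],[.eqn 3374 false,.eqn 3347 false]⟩,
⟨0,129,30,0,false,[],[.eqn 3376 false]⟩,
⟨386,49,31,0,true,[],[.eqn 3377 true,.edge 2045 false,.eqn 3372 false]⟩,
⟨384,49,31,0,true,[],[.eqn 3377 true,.edge 2168 false,.eqn 3377 false]⟩,
⟨386,49,32,0,true,[],[.eqn 3377 true,.edge 2062 false,.eqn 2167 false,.eqn 3377 false]⟩,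
⟨460,49,33,0,true,[],[.eqn 3377 true,.edge 1931 false]⟩,
⟨158,13,29,5,false,[.code,.edge 3348 false,.code,.edge 3360 false,.code],[.code,.edge 805 false,.code,.edge 2563 false,.eqn 2591 false,.eqn 2899 false,.eqn 2936 false,.code,.edge 3059 false,.eqn 3076 false,.code,.edge 3078 false,.code,.edge 2938 false,.code,.edge 2695 false,.code,.edge 1504 false,.eqn 1919 false]⟩,
⟨1918,158,30,0,false,[],[.eqn 3382 true]⟩,
⟨514,158,31,0,true,[],[.eqn 3383 true,.edge 1471 false,.eqn 1955 false,.eqn 3076 false]⟩,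
⟨716,158,33,0,true,[],[.eqn 3383 true,.edge 1924 false]⟩,
⟨113,169,33,0,false,[],[.edge 3385 true,.edge 3361 false]⟩,
⟨620,158,33,0,true,[],[.eqn 3383 true,.edge 3362 false]⟩,
⟨24,310,33,0,false,[],[.edge 3387 true,.edge 3267 false]⟩,
⟨384,158,33,0,true,[],[.eqn 3383 true,.edge 3070 false]⟩,
⟨386,158,31,0,true,[],[.eqn 1975 true,.edge 3384 false]⟩,
⟨0,310,30,0,false,[],[.eqn 3386 true]⟩,
⟨12,169,33,0,true,[],[.eqn 3391 true,.edge 3349 false]⟩,
⟨24,310,30,0,false,[.eqn 3391 false],[.eqn 3388 false]⟩,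
⟨0,296,30,0,false,[],[.eqn 3393 true]⟩,
⟨650,158,33,0,true,[],[.eqn 1975 true,.edge 3389 false]⟩,
⟨546,158,31,0,true,[],[.eqn 3383 true,.edge 3390 false]⟩,
⟨480,158,31,0,true,[],[.eqn 1975 true,.edge 3396 false]⟩,
⟨512,28,32,0,true,[],[.edge 312 false]⟩,
⟨0,313,31,0,true,[],[.edge 3398 false]⟩,
⟨163,13,29,5,true,[.code,.edge 3216 false,.eqn 3254 false,.eqn 3269 false,.code,.edge 3273 false,.code],[.code,.edge 805 false,.code,.edge 982 false,.eqn 2692 false,.code,.edge 729 false,.code,.edge 728 false,.code,.edge 2694 false,.code,.edge 2987 false,.code]⟩,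
⟨544,19,33,0,true,[],[.edge 3400 false]⟩,
⟨164,13,29,5,false,[.code,.edge 3220 false,.code,.edge 3261 false,.code],[.code,.edge 805 false,.code,.edge 1112 false,.eqn 1141 false,.eqn 2603 false,.eqn 2692 false,.code,.edge 2709 false,.eqn 2874 false,.code,.edge 2883 false,.code,.edge 2694 false,.code,.edge 2986 false,.code,.edge 3353 false]⟩,
⟨0,311,30,0,false,[],[.eqn 3402 true]⟩,
⟨10,112,33,0,true,[],[.eqn 3403 true,.edge 3350 false,.eqn 3391 false]⟩,
⟨14,112,33,0,true,[],[.eqn 3403 true,.edge 3352 false]⟩,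
⟨4,112,33,0,true,[],[.eqn 3205 true,.edge 3405 false]⟩,
⟨166,13,29,7,false,[.code,.edge 3220 false,.code,.edge 3263 false,.eqn 3394 false,.code,.edge 3392 false,.eqn 3403 false,.code],[.code,.edge 626 false,.code,.edge 857 false,.eqn 869 false,.code,.edge 894 false,.code,.edge 892 false,.code,.edge 909 false,.code,.edge 1189 false,.eqn 3104 false,.eqn 3222 false]⟩,
⟨0,112,30,0,false,[],[.eqn 3407 false]⟩,
⟨32,73,33,0,true,[],[.eqn 3408 true,.edge 3406 false]⟩,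
⟨724,15,33,0,false,[],[.edge 3409 true,.edge 1827 false]⟩,
⟨40,73,33,0,true,[],[.eqn 3408 true,.edge 3262 false]⟩,
⟨36,73,33,0,true,[],[.eqn 3408 true,.edge 3404 false]⟩,
⟨0,175,30,0,false,[],[.eqn 3410 true]⟩,
⟨714,15,33,0,true,[],[.eqn 3413 true,.edge 3324 false]⟩,
⟨173,13,29,5,true,[.code,.edge 3209 false,.eqn 3246 false,.code,.edge 3249 false,.code],[.code,.edge 626 false,.code,.edge 987 false,.eqn 2405 false,.code,.edge 711 false,.code,.edge 710 false,.code,.edge 2409 false,.eqn 2603 false,.eqn 2692 false,.code,.edge 807 false,.code]⟩,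
⟨14,294,33,0,true,[],[.edge 3415 false]⟩,
⟨386,254,32,0,true,[],[.edge 313 false]⟩,
⟨0,314,31,0,true,[],[.edge 3417 false]⟩,
⟨175,13,29,14,false,[.code,.edge 3209 false,.eqn 3246 false,.code,.edge 3174 false,.code,.edge 3401 false,.code,.edge 2706 false,.eqn 3222 false,.code,.edge 3237 false,.code,.edge 3417 false,.code,.edge 3418 false],[.code,.edge 805 false,.code,.edge 3017 false,.eqn 3279 false,.code]⟩,
⟨267,254,30,0,false,[],[.eqn 3419 true]⟩,
⟨512,254,32,0,true,[],[.eqn 3420 true,.edge 3283 false]⟩,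
⟨327,278,31,0,false,[],[.edge 3421 false,.edge 3276 false]⟩,
⟨0,298,30,0,false,[],[.eqn 3422 true]⟩,
⟨176,13,29,7,true,[.code,.edge 3162 false,.code,.edge 2978 false,.eqn 3167 false,.eqn 3181 false,.code,.edge 1073 false,.code],[.code,.edge 626 false,.code,.edge 890 false,.eqn 965 false,.code,.edge 632 false,.code,.edge 633 false,.code,.edge 2104 false,.eqn 2798 false,.code]⟩,
⟨386,60,32,0,true,[],[.edge 3424 false]⟩,
⟨384,47,31,0,true,[],[.edge 3425 false]⟩,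
⟨14,295,33,0,true,[],[.edge 314 false]⟩,
⟨177,13,29,7,true,[.code,.edge 3216 false,.eqn 3254 false,.eqn 3269 false,.code,.edge 3272 false,.code,.edge 3427 false,.code],[.code,.edge 626 false,.code,.edge 890 false,.eqn 965 false,.code,.edge 790 false,.code,.edge 789 false,.code,.edge 2104 false,.eqn 2798 false,.code]⟩,
⟨480,315,32,0,true,[],[.edge 3428 false]⟩,
⟨386,47,31,0,true,[],[.edge 3429 false]⟩,
⟨182,13,29,3,false,[.code,.edge 3220 false,.code],[.code,.edge 626 false,.code,.edge 898 false,.code,.edge 2184 false,.eqn 2459 false,.eqn 3222 false,.code,.edge 3224 false,.code,.edge 892 false,.code,.edge 908 false,.code,.edge 3189 false,.code,.edge 3191 false]⟩,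
⟨0,293,30,0,false,[],[.eqn 3431 false]⟩,
⟨386,13,32,0,true,[],[.edge 315 false]⟩,
⟨512,13,32,0,true,[],[.eqn 3139 true,.edge 3433 false]⟩,
⟨396,19,33,0,true,[],[.edge 316 false]⟩,
⟨194,13,29,5,true,[.code,.edge 3152 false,.eqn 3184 false,.code,.edge 3185 false,.code],[.code,.edge 805 false,.code,.edge 2563 false,.eqn 2591 false,.eqn 2899 false,.eqn 2936 false,.code,.edge 1879 false,.eqn 1961 false,.code,.edge 1962 false,.code,.edge 2938 false,.code,.edge 807 false,.code]⟩,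
⟨8,249,33,0,true,[],[.edge 3436 false]⟩,
⟨200,13,29,5,false,[.code,.edge 3150 false,.code,.edge 2971 false,.eqn 3039 false,.eqn 3176 false,.code],[.code,.edge 805 false,.code,.edge 3017 false,.eqn 3279 false,.code,.edge 3276 false,.eqn 3423 false,.code,.edge 3023 false,.eqn 3025 false,.eqn 3279 false,.code,.edge 2557 false,.eqn 3222 false,.code,.edge 3227 false,.code,.edge 1044 false]⟩,
⟨0,55,30,0,false,[],[.eqn 3438 true]⟩,
⟨462,18,33,0,true,[],[.eqn 3439 true,.edge 1043 false]⟩,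
⟨203,13,29,7,false,[.code,.edge 3148 false,.code,.edge 2297 false,.eqn 2512 false,.code,.edge 3219 false,.eqn 3432 false,.code],[.code,.edge 626 false,.code,.edge 890 false,.eqn 965 false,.code,.edge 987 false,.eqn 2405 false,.code,.edge 2410 false,.code,.edge 2104 false,.eqn 2798 false,.code,.edge 3293 false]⟩]

/-- Deductions. -/
def c4_31 : List Step := [
⟨986,50,30,0,false,[],[.eqn 3441 true]⟩,
⟨480,50,31,0,true,[],[.eqn 3442 true,.edge 1962 false]⟩,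
⟨482,50,31,0,true,[],[.eqn 3442 true,.edge 1152 false,.eqn 1370 false]⟩,
⟨546,50,31,0,true,[],[.eqn 3442 true,.edge 3307 false]⟩,
⟨544,50,31,0,true,[],[.eqn 3442 true,.edge 3308 false,.eqn 3312 false]⟩,
⟨482,50,32,0,true,[],[.eqn 3442 true,.edge 1258 false]⟩,
⟨215,13,29,3,true,[.code,.edge 3149 false,.code],[.code,.edge 626 false,.code,.edge 987 false,.eqn 2405 false,.code,.edge 2417 false,.eqn 2874 false,.code,.edge 2650 false,.eqn 2905 false,.code,.edge 2409 false,.eqn 2603 false,.eqn 2692 false,.code,.edge 2700 false,.eqn 3170 false,.code,.edge 2637 false,.eqn 3138 false,.code]⟩,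
⟨68,19,33,0,true,[],[.edge 3448 false]⟩,
⟨221,13,29,5,true,[.code,.edge 3151 false,.code,.edge 779 false,.code],[.code,.edge 626 false,.code,.edge 857 false,.eqn 869 false,.code,.edge 377 false,.code,.edge 378 false,.code,.edge 906 false,.code,.edge 1363 false,.eqn 2843 false,.code]⟩,
⟨72,20,33,0,true,[],[.edge 3450 false]⟩,
⟨230,13,29,5,true,[.code,.edge 3161 false,.code,.edge 2267 false,.eqn 2894 false,.code],[.code,.edge 626 false,.code,.edge 1064 false,.eqn 2603 false,.eqn 2692 false,.code,.edge 729 false,.code,.edge 728 false,.code,.edge 2696 false,.code,.edge 773 false,.code]⟩,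
⟨742,19,33,0,true,[],[.edge 3452 false]⟩,
⟨424,20,33,0,true,[],[.edge 3453 true]⟩,
⟨234,13,29,5,true,[.code,.edge 3158 false,.code,.edge 3049 false,.code],[.code,.edge 626 false,.code,.edge 857 false,.eqn 869 false,.code,.edge 894 false,.code,.edge 892 false,.code,.edge 909 false,.code,.edge 1189 false,.eqn 3104 false,.eqn 3222 false,.code]⟩,
⟨4,282,33,0,true,[],[.edge 3455 false]⟩,
⟨14,73,33,0,true,[],[.edge 3456 true]⟩,
⟨240,13,29,5,true,[.code,.edge 3160 false,.code,.edge 3088 false,.eqn 3244 false,.code],[.code,.edge 626 false,.code,.edge 890 false,.eqn 965 false,.code,.edge 632 false,.code,.edge 633 false,.code,.edge 2104 false,.eqn 2798 false,.code,.edge 3426 false,.code]⟩,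
⟨452,18,33,0,true,[],[.edge 3458 false]⟩,
⟨241,13,29,5,true,[.code,.edge 3159 false,.code,.edge 3002 false,.code],[.code,.edge 626 false,.code,.edge 890 false,.eqn 965 false,.code,.edge 790 false,.code,.edge 789 false,.code,.edge 2104 false,.eqn 2798 false,.code,.edge 3430 false,.code]⟩,
⟨4,273,33,0,true,[],[.edge 3460 false]⟩,
⟨243,13,29,3,false,[.code,.edge 3159 false,.code],[.code,.edge 805 false,.code,.edge 2142 false,.eqn 2899 false,.eqn 2936 false,.code,.edge 2991 false,.code,.edge 2694 false,.code,.edge 2987 false,.code,.edge 807 false,.code,.edge 2718 false,.eqn 2812 false,.eqn 2857 false,.code,.edge 2864 false]⟩,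
⟨0,263,30,0,false,[],[.eqn 3462 false]⟩,
⟨552,10,33,0,true,[],[.eqn 3463 true,.edge 3002 false]⟩,
⟨736,13,33,0,true,[],[.edge 317 false]⟩,
⟨746,13,33,0,true,[],[.eqn 3139 true,.edge 3465 false]⟩,
⟨4,318,33,0,true,[],[.edge 318 false]⟩,
⟨0,319,33,0,true,[],[.edge 3467 true]⟩,
⟨257,13,29,5,true,[.code,.edge 3465 false,.code,.edge 3467 false,.code],[.code,.edge 626 false,.code,.edge 898 false,.code,.edge 884 false,.code,.edge 883 false,.code,.edge 892 false,.code,.edge 1390 false,.code]⟩,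
⟨2,319,33,0,true,[],[.edge 3469 false]⟩,
⟨68,143,33,0,true,[],[.edge 3470 true]⟩,
⟨738,13,33,0,true,[],[.edge 319 false]⟩,
⟨259,13,29,3,false,[.code,.edge 3465 false,.code],[.code,.edge 805 false,.code,.edge 2862 false,.eqn 3104 false,.eqn 3222 false,.code,.edge 3233 false,.code,.edge 1182 false,.eqn 3222 false,.code,.edge 3228 false,.code,.edge 789 false,.code,.edge 1154 false,.eqn 3076 false,.code,.edge 3080 false]⟩,
⟨0,318,30,0,false,[],[.eqn 3473 false]⟩,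
⟨12,72,33,0,true,[],[.eqn 3474 true,.edge 3467 false]⟩,
⟨742,13,33,0,true,[],[.edge 320 false]⟩,
⟨748,13,33,0,true,[],[.eqn 3139 true,.edge 3476 false]⟩,
⟨260,13,29,3,true,[.code,.edge 3476 false,.code],[.code,.edge 805 false,.code,.edge 1112 false,.eqn 1141 false,.eqn 2603 false,.eqn 2692 false,.code,.edge 2704 false,.code,.edge 2409 false,.eqn 2603 false,.eqn 2692 false,.code,.edge 2694 false,.code,.edge 3054 false,.eqn 3068 false,.code,.edge 3395 false,.code]⟩,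
⟨4,321,33,0,true,[],[.edge 3478 false]⟩,
⟨261,13,29,1,false,[.code],[.code,.edge 805 false,.code,.edge 1112 false,.eqn 1141 false,.eqn 2603 false,.eqn 2692 false,.code,.edge 2705 false,.code,.edge 1116 false,.eqn 1141 false,.eqn 2603 false,.eqn 2692 false,.code,.edge 2694 false,.code,.edge 3048 false,.code,.edge 3087 false,.code,.edge 3471 false,.code,.edge 3468 false,.eqn 3474 false]⟩,
⟨0,72,30,0,false,[],[.eqn 3480 true]⟩,
⟨744,13,33,0,true,[],[.eqn 3481 true,.edge 1157 false,.eqn 3076 false]⟩,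
⟨748,13,33,0,true,[],[.eqn 3481 true,.edge 1158 false]⟩,
⟨368,73,33,0,false,[],[.edge 3483 true,.edge 3477 false]⟩,
⟨740,13,33,0,true,[],[.eqn 3481 true,.edge 3475 false]⟩,
⟨0,321,30,0,false,[],[.eqn 3484 true]⟩,
⟨14,73,33,0,true,[],[.eqn 3486 true,.edge 3479 false]⟩,
⟨381,282,33,0,false,[],[.edge 3487 true,.edge 3457 false]⟩,
⟨8,282,30,0,false,[],[.eqn 3488 true]⟩,
⟨4,73,33,0,true,[],[.edge 321 false]⟩,
⟨263,13,29,3,true,[.code,.edge 3485 false,.code],[.code,.edge 626 false,.code,.edge 1064 false,.eqn 2603 false,.eqn 2692 false,.code,.edge 1000 false,.eqn 1011 false,.code,.edge 1012 false,.code,.edge 2696 false,.code,.edge 2416 false,.eqn 2479 false,.code,.edge 3248 false,.code]⟩,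
⟨14,319,33,0,true,[],[.edge 3491 false]⟩,
⟨8,290,33,0,true,[],[.edge 3492 true]⟩,
⟨2,73,33,0,true,[],[.edge 322 false]⟩,
⟨267,13,29,3,false,[.code,.edge 3259 false,.code],[.code,.edge 626 false,.code,.edge 988 false,.eqn 2874 false,.code,.edge 720 false,.eqn 2910 false,.code,.edge 2912 false,.code,.edge 2650 false,.eqn 2905 false,.code,.edge 710 false,.code,.edge 2427 false,.eqn 2812 false,.eqn 2857 false,.code,.edge 2865 false]⟩,
⟨0,295,30,0,false,[],[.eqn 3495 false]⟩,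
⟨8,127,33,0,true,[],[.eqn 3496 true,.edge 3427 false]⟩,
⟨269,13,29,5,true,[.code,.edge 3466 false,.eqn 3474 false,.eqn 3481 false,.code,.edge 3472 false,.code],[.code,.edge 626 false,.code,.edge 2093 false,.eqn 2798 false,.code,.edge 3375 false,.eqn 3377 false,.code,.edge 3378 false,.code,.edge 2800 false,.code,.edge 1075 false,.eqn 2874 false,.code]⟩,
⟨8,320,33,0,true,[],[.edge 3498 false]⟩,
⟨522,18,33,0,true,[],[.edge 3499 true]⟩,
⟨270,13,29,7,false,[.code,.edge 3482 false,.code,.edge 3081 false,.code,.edge 1992 false,.eqn 3274 false,.code],[.code,.edge 805 false,.code,.edge 2600 false,.code,.edge 2093 false,.eqn 2798 false,.code,.edge 2799 false,.code,.edge 627 false,.code,.edge 3340 false]⟩,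
⟨0,308,30,0,false,[],[.eqn 3501 true]⟩,
⟨271,13,29,5,true,[.code,.edge 3466 false,.eqn 3474 false,.eqn 3481 false,.code,.edge 3259 false,.eqn 3496 false,.code],[.code,.edge 805 false,.code,.edge 2600 false,.code,.edge 890 false,.eqn 965 false,.code,.edge 963 false,.eqn 965 false,.code,.edge 627 false,.code,.edge 3336 false,.code]⟩,
⟨6,127,33,0,true,[],[.edge 3503 false]⟩,
⟨0,3,32,0,true,[],[.edge 323 false]⟩,
⟨0,324,31,0,true,[],[.edge 3505 false]⟩,
⟨2,3,32,0,true,[],[.edge 324 false]⟩,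
⟨0,325,31,0,true,[],[.edge 3507 false]⟩,
⟨277,13,29,3,false,[.code,.edge 3485 false,.code],[.code,.edge 805 false,.code,.edge 2563 false,.eqn 2591 false,.eqn 2899 false,.eqn 2936 false,.code,.edge 3059 false,.eqn 3076 false,.code,.edge 3078 false,.code,.edge 2938 false,.code,.edge 2695 false,.code,.edge 1154 false,.eqn 3076 false,.code,.edge 2270 false]⟩,
⟨0,319,30,0,false,[],[.eqn 3509 false]⟩,
⟨8,200,33,0,true,[],[.eqn 3510 true,.edge 3492 false]⟩,
⟨278,13,29,5,true,[.code,.edge 3476 false,.eqn 3486 false,.code,.edge 3494 false,.code],[.code,.edge 626 false,.code,.edge 987 false,.eqn 2405 false,.code,.edge 2422 false,.code,.edge 2253 false,.eqn 2405 false,.code,.edge 2409 false,.eqn 2603 false,.eqn 2692 false,.code,.edge 2694 false,.code]⟩,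
⟨14,323,33,0,true,[],[.edge 3512 false]⟩,
⟨744,28,33,0,true,[],[.edge 3513 true]⟩,
⟨418,28,33,0,true,[],[.eqn 2983 true,.edge 3514 false]⟩,
⟨282,13,29,5,true,[.code,.edge 3477 false,.eqn 3486 false,.code,.edge 3457 false,.code],[.code,.edge 626 false,.code,.edge 1079 false,.eqn 2405 false,.code,.edge 711 false,.code,.edge 710 false,.code,.edge 2407 false,.eqn 2874 false,.code,.edge 725 false,.code]⟩,
⟨6,282,33,0,true,[],[.edge 3516 false]⟩,
⟨610,16,33,0,true,[],[.edge 3517 true]⟩,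
⟨283,13,29,5,false,[.code,.edge 3259 false,.eqn 3496 false,.code,.edge 3504 false,.code],[.code,.edge 626 false,.code,.edge 1079 false,.eqn 2405 false,.code,.edge 774 false,.code,.edge 773 false,.code,.edge 2407 false,.eqn 2874 false,.code,.edge 813 false,.eqn 2910 false,.code,.edge 3214 false,.eqn 3368 false]⟩,
⟨0,307,30,0,false,[],[.eqn 3519 false]⟩,
⟨512,15,32,0,true,[],[.eqn 3520 true,.edge 3335 false]⟩,
⟨767,13,31,0,false,[],[.edge 3521 false,.edge 3017 false]⟩,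
⟨767,13,30,0,false,[],[.eqn 3522 false,.eqn 3279 false]⟩,
⟨0,254,30,0,false,[],[.eqn 3523 true]⟩,
⟨544,13,31,0,true,[],[.eqn 3524 true,.edge 2557 false,.eqn 3222 false]⟩,
⟨284,73,32,0,false,[],[.edge 3525 false,.edge 3340 false]⟩,
⟨512,13,32,0,true,[],[.eqn 3524 true,.edge 3282 false]⟩,
⟨337,275,31,0,false,[],[.edge 3527 false,.edge 3434 false]⟩,
⟨284,73,30,0,false,[],[.eqn 3526 false,.eqn 3502 false]⟩,
⟨0,75,30,0,false,[],[.eqn 3529 true]⟩,
⟨0,316,30,0,false,[],[.eqn 3528 true]⟩,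
⟨285,13,29,7,false,[.code,.edge 3466 false,.eqn 3474 false,.eqn 3481 false,.code,.edge 3485 false,.eqn 3510 false,.code,.edge 3511 false,.code],[.code,.edge 626 false,.code,.edge 890 false,.eqn 965 false,.code,.edge 988 false,.eqn 2874 false,.code,.edge 2875 false,.code,.edge 2104 false,.eqn 2798 false,.code,.edge 3344 false,.eqn 3347 false]⟩,
⟨0,290,30,0,false,[],[.eqn 3532 false]⟩,
⟨554,49,33,0,true,[],[.eqn 3533 true,.edge 3493 false,.eqn 3510 false]⟩,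
⟨290,13,29,7,false,[.code,.edge 3146 false,.eqn 3176 false,.code,.edge 3440 false,.code,.edge 2495 false,.code],[.code,.edge 805 false,.code,.edge 2563 false,.eqn 2591 false,.eqn 2899 false,.eqn 2936 false,.code,.edge 1879 false,.eqn 1961 false,.code,.edge 1962 false,.code,.edge 2938 false,.code,.edge 807 false]⟩,
⟨0,249,30,0,false,[],[.eqn 3535 false]⟩,
⟨608,14,33,0,true,[],[.eqn 3536 true,.edge 3437 false]⟩,
⟨384,14,33,0,true,[],[.eqn 2717 true,.edge 3537 false]⟩,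
⟨305,13,29,7,false,[.code,.edge 3147 false,.code,.edge 2336 false,.eqn 3184 false,.code,.edge 3435 false,.code],[.code,.edge 626 false,.code,.edge 988 false,.eqn 2874 false,.code,.edge 2890 false,.code,.edge 1175 false,.eqn 2097 false,.eqn 2874 false,.code,.edge 2650 false,.eqn 2905 false,.code,.edge 2408 false,.eqn 2910 false]⟩,
⟨0,317,30,0,false,[],[.eqn 3539 false]⟩,
⟨8,14,33,0,true,[],[.edge 325 false]⟩]

/-- Deductions. -/
def c4_32 : List Step := [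
⟨316,13,29,7,false,[.code,.edge 3145 false,.code,.edge 2315 false,.eqn 2532 false,.eqn 2874 false,.code,.edge 3500 false,.code],[.code,.edge 626 false,.code,.edge 890 false,.eqn 965 false,.code,.edge 987 false,.eqn 2405 false,.code,.edge 2410 false,.code,.edge 2104 false,.eqn 2798 false,.code,.edge 3293 false]⟩,
⟨0,320,30,0,false,[],[.eqn 3542 false]⟩,
⟨608,13,33,0,true,[],[.edge 326 false]⟩,
⟨614,13,33,0,true,[],[.eqn 3139 true,.edge 3544 false]⟩,
⟨610,13,33,0,true,[],[.edge 327 false]⟩,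
⟨323,13,29,3,false,[.code,.edge 3544 false,.code],[.code,.edge 805 false,.code,.edge 2862 false,.eqn 3104 false,.eqn 3222 false,.code,.edge 3233 false,.code,.edge 1182 false,.eqn 3222 false,.code,.edge 3228 false,.code,.edge 789 false,.code,.edge 1215 false,.eqn 3056 false,.code,.edge 3062 false]⟩,
⟨0,327,30,0,false,[],[.eqn 3547 false]⟩,
⟨612,13,33,0,true,[],[.edge 328 false]⟩,
⟨0,329,33,0,true,[],[.edge 3549 true]⟩,
⟨327,13,29,3,false,[.code,.edge 3549 false,.code],[.code,.edge 626 false,.code,.edge 890 false,.eqn 965 false,.code,.edge 1079 false,.eqn 2405 false,.code,.edge 2406 false,.code,.edge 2104 false,.eqn 2798 false,.code,.edge 3345 false,.eqn 3347 false,.code,.edge 1111 false,.eqn 2874 false,.code,.edge 2892 false]⟩,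
⟨0,329,30,0,false,[],[.eqn 3551 false]⟩,
⟨4,158,33,0,true,[],[.eqn 3552 true,.edge 3550 false]⟩,
⟨628,13,33,0,false,[],[.edge 3553 true,.edge 1448 false]⟩,
⟨0,159,30,0,false,[],[.eqn 3554 true]⟩,
⟨614,13,33,0,true,[],[.eqn 3555 true,.edge 1449 false,.eqn 2460 false,.eqn 3222 false]⟩,
⟨87,73,33,0,false,[],[.edge 3556 true,.edge 3545 false]⟩,
⟨610,13,33,0,true,[],[.eqn 3555 true,.edge 3188 false]⟩,
⟨162,143,33,0,false,[],[.edge 3558 true,.edge 3546 false]⟩,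
⟨87,73,30,0,false,[],[.eqn 3557 false,.eqn 3548 false]⟩,
⟨0,94,30,0,false,[],[.eqn 3560 true]⟩,
⟨0,328,30,0,false,[],[.eqn 3559 true]⟩,
⟨622,13,33,0,true,[],[.edge 329 false]⟩,
⟨331,13,29,3,false,[.code,.edge 3563 false,.code],[.code,.edge 626 false,.code,.edge 1064 false,.eqn 2603 false,.eqn 2692 false,.code,.edge 1000 false,.eqn 1011 false,.code,.edge 1012 false,.code,.edge 2696 false,.code,.edge 2416 false,.eqn 2479 false,.code,.edge 3464 false,.code,.edge 3461 false]⟩,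
⟨0,330,30,0,false,[],[.eqn 3564 false]⟩,
⟨332,13,29,3,false,[.code,.edge 3005 false,.code],[.code,.edge 626 false,.code,.edge 1079 false,.eqn 2405 false,.code,.edge 774 false,.code,.edge 773 false,.code,.edge 2407 false,.eqn 2874 false,.code,.edge 813 false,.eqn 2910 false,.code,.edge 2929 false,.code,.edge 2897 false]⟩,
⟨0,273,30,0,false,[],[.eqn 3566 false]⟩,
⟨78,73,33,0,true,[],[.edge 330 false]⟩,
⟨337,13,29,5,true,[.code,.edge 3544 false,.eqn 3548 false,.eqn 3561 false,.code,.edge 3568 false,.code],[.code,.edge 626 false,.code,.edge 857 false,.eqn 869 false,.code,.edge 3507 false,.code,.edge 3508 false,.code,.edge 906 false,.code,.edge 879 false,.code]⟩,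
⟨2,331,33,0,true,[],[.edge 3569 false]⟩,
⟨736,10,33,0,true,[],[.edge 3570 true]⟩,
⟨646,10,33,0,true,[],[.eqn 554 true,.edge 3571 false]⟩,
⟨338,13,29,3,false,[.code,.edge 3546 false,.eqn 3562 false,.code],[.code,.edge 805 false,.code,.edge 3017 false,.eqn 3279 false,.eqn 3524 false,.code,.edge 805 false,.code,.edge 804 false,.code,.edge 3340 false,.eqn 3502 false,.eqn 3530 false,.code,.edge 3289 false,.code,.edge 1271 false,.eqn 2512 false,.code,.edge 2839 false]⟩,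
⟨119,143,30,0,false,[],[.eqn 3573 true]⟩,
⟨342,13,29,5,true,[.code,.edge 3545 false,.eqn 3548 false,.eqn 3561 false,.code,.edge 3568 false,.code],[.code,.edge 626 false,.code,.edge 2093 false,.eqn 2798 false,.code,.edge 3375 false,.eqn 3377 false,.code,.edge 3378 false,.code,.edge 2800 false,.code,.edge 1075 false,.eqn 2874 false,.code]⟩,
⟨4,331,33,0,true,[],[.edge 3575 false]⟩,
⟨710,18,33,0,true,[],[.edge 3576 true]⟩,
⟨345,13,29,3,false,[.code,.edge 3563 false,.eqn 3565 false,.code],[.code,.edge 805 false,.code,.edge 2563 false,.eqn 2591 false,.eqn 2899 false,.eqn 2936 false,.code,.edge 3059 false,.eqn 3076 false,.code,.edge 3078 false,.code,.edge 2938 false,.code,.edge 2695 false,.code,.edge 1215 false,.eqn 3056 false,.code,.edge 2272 false]⟩,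
⟨0,315,30,0,false,[],[.eqn 3578 false]⟩,
⟨348,13,29,3,false,[.code,.edge 3005 false,.eqn 3567 false,.code],[.code,.edge 626 false,.code,.edge 988 false,.eqn 2874 false,.code,.edge 720 false,.eqn 2910 false,.code,.edge 2912 false,.code,.edge 2650 false,.eqn 2905 false,.code,.edge 710 false,.code,.edge 3454 false,.code,.edge 2897 false]⟩,
⟨103,146,30,0,false,[],[.eqn 3580 true]⟩,
⟨369,13,29,5,true,[.code,.edge 3163 false,.eqn 3170 false,.code,.edge 3192 false,.eqn 3358 false,.code],[.code,.edge 626 false,.code,.edge 890 false,.eqn 965 false,.code,.edge 790 false,.code,.edge 789 false,.code,.edge 2104 false,.eqn 2798 false,.code,.edge 3430 false,.eqn 3579 false,.code]⟩,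
⟨4,225,33,0,true,[],[.edge 3582 false]⟩,
⟨68,92,33,0,true,[],[.edge 3583 true]⟩,
⟨378,13,29,5,true,[.code,.edge 3164 false,.code,.edge 2349 false,.code],[.code,.edge 626 false,.code,.edge 987 false,.eqn 2405 false,.code,.edge 711 false,.code,.edge 710 false,.code,.edge 2409 false,.eqn 2603 false,.eqn 2692 false,.code,.edge 807 false,.code]⟩,
⟨12,235,33,0,true,[],[.edge 3585 false]⟩,
⟨384,13,1,3,false,[.code,.edge 1306 false,.eqn 2125 false,.code],[.code,.edge 3433 false,.eqn 3531 false]⟩,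
⟨0,275,30,0,false,[],[.eqn 3587 true]⟩,
⟨512,56,31,0,true,[],[.eqn 3588 true,.edge 3014 false,.eqn 3279 false,.eqn 3524 false]⟩,
⟨384,56,31,0,true,[],[.eqn 3077 true,.edge 3589 false]⟩,
⟨384,13,29,9,false,[.code,.edge 689 false,.code,.edge 2319 false,.eqn 2405 false,.code,.edge 2430 false,.code,.edge 3301 false,.code],[.code,.edge 1322 false,.eqn 2874 false,.code,.edge 720 false,.eqn 2910 false,.code,.edge 2923 false,.code,.edge 2626 false,.eqn 2910 false,.code,.edge 2911 false]⟩,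
⟨0,299,30,0,false,[],[.eqn 3591 false]⟩,
⟨512,16,31,0,true,[],[.eqn 3592 true,.edge 3302 false]⟩,
⟨384,16,31,0,true,[],[.eqn 2850 true,.edge 3593 false]⟩,
⟨385,13,29,7,true,[.code,.edge 583 false,.code,.edge 585 false,.code,.edge 591 false,.code],[.code,.edge 1322 false,.eqn 2874 false,.code,.edge 720 false,.eqn 2910 false,.code,.edge 2922 false,.code,.edge 717 false,.eqn 2681 false,.eqn 2910 false,.code,.edge 2911 false,.code]⟩,
⟨384,14,32,0,true,[],[.edge 3595 false]⟩,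
⟨514,16,31,0,true,[],[.edge 3596 false]⟩,
⟨386,16,31,0,true,[],[.eqn 2850 true,.edge 3597 false]⟩,
⟨386,13,12,2,true,[.code,.edge 2839 false],[.code,.edge 3219 false,.eqn 3432 false]⟩,
⟨0,143,31,0,true,[],[.edge 3599 false]⟩,
⟨386,13,25,5,true,[.edge 3433 false,.eqn 3531 false,.eqn 3588 false,.edge 3079 false,.code,.edge 3577 false,.code],[.edge 3433 false,.eqn 3531 false,.eqn 3588 false,.code,.edge 3079 false,.code,.edge 2893 false]⟩,
⟨2,331,31,0,true,[],[.edge 3601 false]⟩,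
⟨0,143,32,0,true,[],[.edge 3602 false]⟩,
⟨512,49,32,0,true,[],[.edge 331 false]⟩,
⟨0,332,31,0,true,[],[.edge 3604 false]⟩,
⟨388,13,3,4,true,[.edge 3433 false,.eqn 3531 false,.eqn 3588 false,.code,.edge 2530 false,.eqn 3295 false,.code],[.edge 2518 false]⟩,
⟨512,50,31,0,true,[],[.edge 3606 false]⟩,
⟨0,63,32,0,true,[],[.edge 3607 false]⟩,
⟨388,13,5,1,false,[.edge 2518 false],[.code,.edge 2839 false,.edge 3603 false]⟩,
⟨0,331,30,0,false,[],[.eqn 3609 true]⟩,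
⟨0,63,31,0,true,[],[.eqn 3610 true,.edge 3602 false]⟩,
⟨388,13,7,2,true,[.code,.edge 2999 false,.eqn 3001 false],[.code,.edge 2525 false,.eqn 3129 false]⟩,
⟨514,26,31,0,true,[],[.edge 3612 false]⟩,
⟨384,25,32,0,true,[],[.edge 3613 false]⟩,
⟨391,13,29,5,false,[.code,.edge 591 false,.code,.edge 3541 false,.code],[.code,.edge 1322 false,.eqn 2874 false,.code,.edge 2891 false,.eqn 2902 false,.code,.edge 1101 false,.code,.edge 1100 false,.code,.edge 2255 false,.eqn 2870 false,.code,.edge 2695 false,.code,.edge 1095 false]⟩,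
⟨0,326,30,0,false,[],[.eqn 3615 false]⟩,
⟨392,13,17,4,true,[.code,.edge 2960 false,.eqn 3118 false,.edge 3433 false,.eqn 3531 false,.eqn 3588 false,.code],[.code,.edge 2651 false,.eqn 3463 false,.edge 881 false,.code,.edge 3614 false,.code]⟩,
⟨704,56,33,0,true,[],[.edge 3617 false]⟩,
⟨392,13,29,9,false,[.code,.edge 734 false,.code,.edge 810 false,.code,.edge 3449 false,.code,.edge 3398 false,.code],[.code,.edge 3433 false,.eqn 3531 false,.eqn 3588 false,.code,.edge 3047 false,.code,.edge 2548 false,.eqn 2603 false,.eqn 2692 false,.code,.edge 2694 false,.code,.edge 3054 false,.eqn 3068 false]⟩,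
⟨0,313,30,0,false,[],[.eqn 3619 false]⟩,
⟨482,158,31,0,true,[],[.eqn 3620 true,.edge 3399 false]⟩,
⟨544,158,31,0,true,[],[.eqn 1975 true,.edge 3621 false]⟩,
⟨384,158,31,0,true,[],[.eqn 3383 true,.edge 3622 false]⟩,
⟨512,158,31,0,true,[],[.eqn 1975 true,.edge 3623 false]⟩,
⟨2,158,31,0,true,[],[.eqn 3383 true,.edge 3624 false]⟩,
⟨398,13,3,4,false,[.edge 3433 false,.eqn 3531 false,.eqn 3588 false,.code,.edge 2531 false,.code],[.edge 2999 false,.eqn 3001 false,.edge 2263 false]⟩,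
⟨0,235,30,0,false,[],[.eqn 3626 false]⟩,
⟨646,10,33,0,true,[],[.eqn 3627 true,.edge 3586 false]⟩,
⟨1774,14,33,0,false,[],[.edge 3628 true,.edge 3572 false]⟩,
⟨1774,14,30,0,false,[],[.eqn 3629 false,.eqn 3610 false]⟩,
⟨0,63,30,0,false,[],[.eqn 3630 true]⟩,
⟨514,14,31,0,true,[],[.eqn 3631 true,.edge 3611 false]⟩,
⟨514,14,32,0,true,[],[.eqn 3631 true,.edge 3608 false]⟩,
⟨544,49,32,0,true,[],[.edge 332 false]⟩,
⟨0,333,31,0,true,[],[.edge 3634 false]⟩,
⟨546,49,32,0,true,[],[.edge 333 false]⟩,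
⟨0,334,31,0,true,[],[.edge 3636 false]⟩,
⟨512,16,32,0,true,[],[.edge 334 false]⟩,
⟨0,335,31,0,true,[],[.edge 3638 false]⟩,
⟨384,16,32,0,true,[],[.eqn 2850 true,.edge 3638 false]⟩,
⟨402,13,29,9,false,[.code,.edge 689 false,.code,.edge 2291 false,.code,.edge 1967 false,.eqn 2998 false,.eqn 3377 false,.code,.edge 3604 false,.code],[.code,.edge 3433 false,.eqn 3531 false,.eqn 3588 false,.code,.edge 3085 false,.code,.edge 2262 false,.eqn 2479 false,.code,.edge 2480 false,.code,.edge 1091 false]⟩]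

/-- Deductions. -/
def c4_33 : List Step := [
⟨0,332,30,0,false,[],[.eqn 3641 false]⟩,
⟨514,49,31,0,true,[],[.eqn 3642 true,.edge 3605 false]⟩,
⟨403,13,29,9,false,[.code,.edge 583 false,.code,.edge 569 false,.code,.edge 1014 false,.code,.edge 3375 false,.eqn 3377 false,.code],[.code,.edge 3433 false,.eqn 3531 false,.eqn 3588 false,.code,.edge 3085 false,.code,.edge 1916 false,.eqn 2405 false,.code,.edge 2415 false,.code,.edge 1091 false]⟩,
⟨1080,49,30,0,false,[],[.eqn 3644 true]⟩,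
⟨482,49,31,0,true,[],[.eqn 3645 true,.edge 1381 false,.eqn 1913 false]⟩,
⟨480,49,31,0,true,[],[.eqn 3645 true,.edge 1105 false]⟩,
⟨512,49,31,0,true,[],[.eqn 3645 true,.edge 3378 false]⟩,
⟨648,49,33,0,true,[],[.eqn 3645 true,.edge 3381 false]⟩,
⟨512,158,32,0,true,[],[.edge 335 false]⟩,
⟨0,336,31,0,true,[],[.edge 3650 false]⟩,
⟨2,158,32,0,true,[],[.eqn 3383 true,.edge 3650 false]⟩,
⟨676,25,33,0,true,[],[.edge 336 false]⟩,
⟨414,13,29,7,true,[.code,.edge 2971 false,.eqn 3039 false,.eqn 3176 false,.code,.edge 3440 false,.code,.edge 3653 false,.code],[.code,.edge 3433 false,.eqn 3531 false,.eqn 3588 false,.code,.edge 2071 false,.code,.edge 1916 false,.eqn 2405 false,.code,.edge 2415 false,.code,.edge 1091 false,.code]⟩,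
⟨480,337,32,0,true,[],[.edge 3654 false]⟩,
⟨546,49,31,0,true,[],[.edge 3655 false]⟩,
⟨415,13,29,9,false,[.code,.edge 681 false,.code,.edge 779 false,.code,.edge 3451 false,.code,.edge 2383 false,.code],[.code,.edge 3433 false,.eqn 3531 false,.eqn 3588 false,.code,.edge 2071 false,.code,.edge 2262 false,.eqn 2479 false,.code,.edge 2480 false,.code,.edge 1091 false]⟩,
⟨0,243,30,0,false,[],[.eqn 3657 false]⟩,
⟨544,49,31,0,true,[],[.eqn 3658 true,.edge 2378 false,.eqn 2380 false]⟩,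
⟨418,13,21,8,false,[.code,.edge 2525 false,.eqn 3129 false,.code,.edge 3614 false,.code,.edge 3613 false,.edge 3252 false,.code],[.edge 3207 false,.code,.edge 3618 false]⟩,
⟨0,294,30,0,false,[],[.eqn 3660 false]⟩,
⟨706,26,33,0,true,[],[.eqn 3661 true,.edge 3416 false]⟩,
⟨514,14,33,0,false,[],[.edge 3662 true,.edge 3365 false]⟩,
⟨0,303,30,0,false,[],[.eqn 3663 true]⟩,
⟨524,14,33,0,true,[],[.eqn 3664 true,.edge 3317 false]⟩,
⟨452,13,29,7,false,[.code,.edge 749 false,.code,.edge 799 false,.code,.edge 2356 false,.eqn 2833 false,.code],[.code,.edge 3433 false,.eqn 3531 false,.eqn 3588 false,.code,.edge 3047 false,.code,.edge 2548 false,.eqn 2603 false,.eqn 2692 false,.code,.edge 2694 false,.code,.edge 3054 false,.eqn 3068 false,.code,.edge 3621 false]⟩,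
⟨0,194,30,0,false,[],[.eqn 3666 false]⟩,
⟨418,28,33,0,true,[],[.eqn 3667 true,.edge 2221 false]⟩,
⟨160,146,33,0,false,[],[.edge 3668 true,.edge 3515 false]⟩,
⟨0,323,30,0,false,[],[.eqn 3669 true]⟩,
⟨459,13,29,5,true,[.code,.edge 2336 false,.eqn 3184 false,.code,.edge 3435 false,.eqn 3540 false,.code],[.code,.edge 1322 false,.eqn 2874 false,.code,.edge 2890 false,.code,.edge 877 false,.eqn 887 false,.code,.edge 889 false,.code,.edge 1182 false,.eqn 3222 false,.code,.edge 3289 false,.code]⟩,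
⟨390,8,33,0,true,[],[.edge 3671 false]⟩,
⟨473,13,29,5,true,[.code,.edge 2336 false,.eqn 3184 false,.code,.edge 3185 false,.eqn 3536 false,.code],[.code,.edge 3433 false,.eqn 3531 false,.eqn 3588 false,.code,.edge 2071 false,.code,.edge 1916 false,.eqn 2405 false,.code,.edge 2415 false,.code,.edge 1091 false,.code,.edge 3656 false,.code]⟩,
⟨620,14,33,0,true,[],[.edge 3673 false]⟩,
⟨396,14,33,0,true,[],[.eqn 2717 true,.edge 3674 false]⟩,
⟨521,13,29,9,false,[.code,.edge 810 false,.code,.edge 3449 false,.code,.edge 2996 false,.eqn 3463 false,.code,.edge 955 false,.code],[.code,.edge 1010 false,.eqn 3165 false,.code,.edge 2809 false,.code,.edge 2701 false,.eqn 2899 false,.eqn 2936 false,.code,.edge 2938 false,.code,.edge 2700 false,.eqn 3170 false]⟩,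
⟨0,33,30,0,false,[],[.eqn 3676 false]⟩,
⟨512,26,31,0,true,[],[.eqn 3677 true,.edge 949 false,.eqn 951 false]⟩,
⟨525,13,29,7,false,[.code,.edge 735 false,.code,.edge 2971 false,.eqn 3039 false,.eqn 3176 false,.code,.edge 3459 false,.code],[.code,.edge 3434 false,.eqn 3531 false,.eqn 3588 false,.code,.edge 2071 false,.code,.edge 3171 false,.code,.edge 2700 false,.eqn 3170 false,.code,.edge 1091 false,.code,.edge 3378 false]⟩,
⟨0,60,30,0,false,[],[.eqn 3679 false]⟩,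
⟨538,13,29,5,true,[.code,.edge 747 false,.code,.edge 779 false,.code],[.code,.edge 3434 false,.eqn 3531 false,.eqn 3588 false,.code,.edge 3085 false,.code,.edge 2263 false,.code,.edge 952 false,.eqn 2251 false,.code,.edge 1091 false,.code,.edge 3656 false,.code]⟩,
⟨66,20,33,0,true,[],[.edge 3681 false]⟩,
⟨544,13,0,2,false,[.edge 3340 false,.eqn 3502 false,.eqn 3530 false,.edge 3229 false],[.edge 3369 false]⟩,
⟨0,312,30,0,false,[],[.eqn 3683 true]⟩,
⟨514,15,31,0,true,[],[.eqn 3684 true,.edge 3370 false]⟩,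
⟨546,13,0,1,false,[.edge 3336 false,.eqn 3520 false],[.edge 3095 false,.eqn 3100 false,.eqn 3104 false,.eqn 3222 false,.edge 3236 false]⟩,
⟨0,252,30,0,false,[],[.eqn 3686 true]⟩,
⟨512,15,31,0,true,[],[.eqn 3687 true,.edge 2550 false,.eqn 3222 false]⟩,
⟨546,13,3,4,true,[.edge 3095 false,.eqn 3100 false,.eqn 3104 false,.eqn 3222 false,.code,.edge 3490 false,.code],[.edge 3316 false,.eqn 3664 false]⟩,
⟨0,322,31,0,true,[],[.edge 3689 false]⟩,
⟨512,14,32,0,true,[],[.edge 3690 false]⟩,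
⟨546,13,4,2,false,[.edge 3316 false,.eqn 3664 false,.edge 3691 false],[.code,.edge 3546 false,.eqn 3562 false]⟩,
⟨0,322,30,0,false,[],[.eqn 3692 false]⟩,
⟨2,143,31,0,true,[],[.eqn 3693 true,.edge 3690 false]⟩,
⟨546,13,5,1,true,[.edge 3316 false,.eqn 3664 false],[.code,.edge 3472 false,.eqn 3543 false]⟩,
⟨512,14,31,0,true,[],[.edge 3695 false]⟩,
⟨514,50,32,0,true,[],[.edge 3696 false]⟩,
⟨546,13,7,2,true,[.code,.edge 3348 false,.eqn 3391 false],[.code,.edge 3485 false,.eqn 3510 false]⟩,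
⟨2,169,31,0,true,[],[.edge 3698 false]⟩,
⟨0,200,32,0,true,[],[.edge 3699 false]⟩,
⟨546,13,12,2,true,[.code,.edge 3259 false,.eqn 3496 false],[.code,.edge 3005 false,.eqn 3567 false]⟩,
⟨2,127,31,0,true,[],[.edge 3701 false]⟩,
⟨546,13,13,2,true,[.code,.edge 3348 false,.eqn 3391 false],[.code,.edge 3563 false,.eqn 3565 false,.eqn 3579 false]⟩,
⟨2,169,32,0,true,[],[.edge 3703 false]⟩,
⟨0,92,31,0,true,[],[.edge 3704 false]⟩,
⟨2,92,31,0,true,[],[.eqn 3071 true,.edge 3705 false]⟩,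
⟨546,13,15,4,true,[.code,.edge 3095 false,.eqn 3100 false,.eqn 3104 false,.eqn 3222 false,.edge 3411 false,.eqn 3432 false,.code],[.code,.edge 3316 false,.eqn 3664 false,.code,.edge 3691 false,.eqn 3693 false]⟩,
⟨514,50,31,0,true,[],[.edge 3707 false]⟩,
⟨546,13,16,6,false,[.code,.edge 3485 false,.eqn 3510 false,.code,.edge 3700 false,.edge 3704 false,.code],[.code,.edge 3095 false,.eqn 3100 false,.eqn 3104 false,.eqn 3222 false,.code,.edge 3236 false,.eqn 3687 false,.edge 3414 false]⟩,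
⟨0,302,30,0,false,[],[.eqn 3709 true]⟩,
⟨68,92,33,0,true,[],[.eqn 3710 true,.edge 3341 false,.eqn 3347 false]⟩,
⟨1820,49,33,0,false,[],[.edge 3711 true,.edge 3584 false]⟩,
⟨0,225,30,0,false,[],[.eqn 3712 true]⟩,
⟨548,13,3,4,false,[.edge 3095 false,.eqn 3100 false,.eqn 3104 false,.eqn 3222 false,.code,.edge 3494 false,.eqn 3670 false,.code],[.edge 3195 false,.eqn 3358 false,.eqn 3713 false,.edge 3634 false]⟩,
⟨0,333,30,0,false,[],[.eqn 3714 true]⟩,
⟨2,146,31,0,true,[],[.eqn 3715 true,.edge 3635 false]⟩,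
⟨548,13,5,2,false,[.edge 3195 false,.eqn 3358 false,.eqn 3713 false,.edge 3659 false],[.code,.edge 3259 false,.eqn 3496 false]⟩,
⟨0,127,30,0,false,[],[.eqn 3717 true]⟩,
⟨546,16,31,0,true,[],[.eqn 3718 true,.edge 3702 false]⟩,
⟨89,146,32,0,false,[],[.edge 3719 false,.edge 2360 false]⟩,
⟨610,16,33,0,true,[],[.eqn 3718 true,.edge 3497 false,.eqn 3579 false]⟩,
⟨62,92,33,0,false,[],[.edge 3721 true,.edge 3518 false]⟩,
⟨89,146,30,0,false,[],[.eqn 3720 false,.eqn 2867 false]⟩,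
⟨1385,146,30,0,false,[],[.eqn 3723 true]⟩,
⟨544,146,31,0,true,[],[.eqn 3724 true,.edge 3716 false]⟩,
⟨0,282,30,0,false,[],[.eqn 3722 true]⟩,
⟨2,92,30,0,false,[],[.eqn 3726 true,.eqn 3489 false,.eqn 3726 false]⟩,
⟨514,146,31,0,true,[],[.eqn 3581 true,.edge 3725 false]⟩,
⟨552,13,12,2,false,[.code,.edge 3482 false],[.code,.edge 3549 false,.eqn 3552 false,.edge 3652 false]⟩,
⟨0,336,30,0,false,[],[.eqn 3729 true]⟩,
⟨546,56,31,0,true,[],[.eqn 3730 true,.edge 3651 false]⟩,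
⟨552,13,15,4,true,[.code,.edge 3095 false,.eqn 3100 false,.eqn 3104 false,.eqn 3222 false,.edge 3412 false,.code],[.code,.edge 3348 false,.eqn 3391 false,.code,.edge 3704 false]⟩,
⟨0,169,31,0,true,[],[.edge 3732 false]⟩,
⟨0,92,32,0,true,[],[.edge 3733 false]⟩,
⟨558,13,12,2,false,[.code,.edge 3485 false,.eqn 3510 false],[.code,.edge 3563 false,.eqn 3565 false,.eqn 3579 false,.edge 3734 false]⟩,
⟨0,200,30,0,false,[],[.eqn 3735 false]⟩,
⟨560,13,29,5,false,[.code,.edge 3007 false,.eqn 3167 false,.eqn 3181 false,.code,.edge 3275 false,.code],[.code,.edge 3369 false,.eqn 3684 false,.code,.edge 630 false,.code,.edge 3434 false,.eqn 3531 false,.eqn 3588 false,.code,.edge 3589 false,.code,.edge 789 false,.code,.edge 904 false,.eqn 2405 false,.code,.edge 3297 false]⟩,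
⟨0,297,30,0,false,[],[.eqn 3737 false]⟩,
⟨624,13,29,5,true,[.code,.edge 2336 false,.eqn 3184 false,.code,.edge 3185 false,.eqn 3536 false,.code],[.code,.edge 3369 false,.eqn 3684 false,.code,.edge 630 false,.code,.edge 3434 false,.eqn 3531 false,.eqn 3588 false,.code,.edge 3589 false,.code,.edge 789 false,.code,.edge 904 false,.eqn 2405 false,.code]⟩,
⟨614,14,33,0,true,[],[.edge 3739 false]⟩,
⟨390,14,33,0,true,[],[.eqn 2717 true,.edge 3740 false]⟩]

/-- Deductions. -/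
def c4_34 : List Step := [
⟨626,13,29,5,true,[.code,.edge 2336 false,.eqn 3184 false,.code,.edge 3435 false,.eqn 3540 false,.code],[.code,.edge 3095 false,.eqn 3100 false,.eqn 3104 false,.eqn 3222 false,.code,.edge 3235 false,.code,.edge 3614 false,.code,.edge 3613 false,.code,.edge 1228 false,.eqn 2172 false,.eqn 2603 false,.eqn 2692 false,.code,.edge 807 false,.code]⟩,
⟨396,8,33,0,true,[],[.edge 3742 false]⟩,
⟨388,14,33,0,true,[],[.edge 3743 true]⟩,
⟨729,13,29,5,true,[.code,.edge 3007 false,.eqn 3167 false,.eqn 3181 false,.code,.edge 3275 false,.eqn 3738 false,.code],[.code,.edge 1010 false,.eqn 3165 false,.code,.edge 2885 false,.code,.edge 774 false,.code,.edge 773 false,.code,.edge 2406 false,.code,.edge 889 false,.code]⟩,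
⟨514,16,33,0,true,[],[.edge 3745 false]⟩,
⟨482,25,33,0,true,[],[.edge 3746 true]⟩,
⟨803,13,29,5,true,[.code,.edge 3216 false,.eqn 3254 false,.eqn 3269 false,.code,.edge 3273 false,.code],[.code,.edge 3433 false,.eqn 3531 false,.eqn 3588 false,.code,.edge 2071 false,.code,.edge 2263 false,.code,.edge 952 false,.eqn 2251 false,.code,.edge 1091 false,.code,.edge 3643 false,.code]⟩,
⟨550,19,33,0,true,[],[.edge 3748 false]⟩,
⟨813,13,29,9,false,[.code,.edge 3209 false,.eqn 3246 false,.code,.edge 3174 false,.code,.edge 3749 false,.code,.edge 3636 false,.code],[.code,.edge 1322 false,.eqn 2874 false,.code,.edge 720 false,.eqn 2910 false,.code,.edge 2919 false,.code,.edge 2801 false,.eqn 2910 false,.code,.edge 2911 false]⟩,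
⟨0,334,30,0,false,[],[.eqn 3750 false]⟩,
⟨544,16,31,0,true,[],[.eqn 3751 true,.edge 3637 false]⟩,
⟨544,16,32,0,true,[],[.edge 337 false]⟩,
⟨0,338,31,0,true,[],[.edge 3753 false]⟩,
⟨829,13,29,7,false,[.code,.edge 3209 false,.eqn 3246 false,.code,.edge 3247 false,.eqn 3533 false,.code,.edge 3534 false,.eqn 3736 false,.code],[.code,.edge 1322 false,.eqn 2874 false,.code,.edge 823 false,.code,.edge 2383 false,.eqn 3658 false,.code,.edge 3659 false,.code,.edge 723 false,.eqn 2910 false,.code,.edge 2913 false]⟩,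
⟨0,169,30,0,false,[],[.eqn 3755 false]⟩,
⟨386,47,31,0,true,[],[.eqn 3756 true,.edge 3733 false]⟩,
⟨375,92,32,0,false,[],[.edge 3757 false,.edge 3430 false]⟩,
⟨375,92,30,0,false,[],[.eqn 3758 false,.eqn 3579 false]⟩,
⟨1708,92,30,0,false,[],[.eqn 3759 true]⟩,
⟨512,92,31,0,true,[],[.eqn 3760 true,.edge 3705 false,.eqn 3756 false]⟩,
⟨514,92,31,0,true,[],[.eqn 3760 true,.edge 3706 false,.eqn 3756 false]⟩,
⟨930,13,29,5,true,[.code,.edge 2838 false,.eqn 3170 false,.code,.edge 3192 false,.eqn 3358 false,.eqn 3713 false,.code],[.code,.edge 1010 false,.eqn 3165 false,.code,.edge 2891 false,.eqn 2902 false,.code,.edge 1372 false,.code,.edge 1152 false,.eqn 1370 false,.code,.edge 2255 false,.eqn 2870 false,.code,.edge 807 false,.code]⟩,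
⟨608,49,33,0,true,[],[.edge 3763 false]⟩,
⟨522,14,33,0,true,[],[.edge 3764 true]⟩,
⟨3,14,29,3,false,[.code,.edge 3538 false,.code],[.code,.edge 714 false,.eqn 2681 false,.eqn 2910 false,.code,.edge 2918 false,.code,.edge 2921 false,.eqn 2946 false,.code,.edge 2948 false,.code,.edge 2913 false,.code,.edge 3344 false,.eqn 3347 false,.code,.edge 3649 false,.code,.edge 2451 false]⟩,
⟨0,216,30,0,false,[],[.eqn 3766 true]⟩,
⟨742,14,33,0,true,[],[.eqn 3767 true,.edge 2006 false]⟩,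
⟨744,14,33,0,true,[],[.eqn 3767 true,.edge 2067 false,.eqn 2445 false]⟩,
⟨422,14,33,0,true,[],[.eqn 2717 true,.edge 3768 false]⟩,
⟨418,14,33,0,true,[],[.eqn 2717 true,.edge 3769 false]⟩,
⟨40,337,33,0,true,[],[.edge 338 false]⟩,
⟨8,14,29,5,true,[.code,.edge 3675 false,.code,.edge 3772 false,.code],[.code,.edge 714 false,.eqn 2681 false,.eqn 2910 false,.code,.edge 755 false,.code,.edge 2923 false,.code,.edge 2626 false,.eqn 2910 false,.code,.edge 664 false,.code,.edge 2916 false,.code]⟩,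
⟨2,339,33,0,true,[],[.edge 3773 false]⟩,
⟨458,14,33,0,true,[],[.edge 3774 true]⟩,
⟨20,14,29,7,false,[.code,.edge 3741 false,.code,.edge 787 false,.code,.edge 3682 false,.code],[.code,.edge 714 false,.eqn 2681 false,.eqn 2910 false,.code,.edge 2543 false,.eqn 2874 false,.code,.edge 2886 false,.code,.edge 1075 false,.eqn 2874 false,.code,.edge 725 false,.code,.edge 2360 false,.eqn 2867 false]⟩,
⟨0,337,30,0,false,[],[.eqn 3776 false]⟩,
⟨32,14,21,6,true,[.code,.edge 2505 false,.eqn 2761 false,.code,.edge 2093 false,.eqn 2798 false,.code,.edge 2799 false],[.edge 833 false,.code,.edge 2981 false,.eqn 3039 false,.eqn 3176 false,.code]⟩,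
⟨748,11,33,0,true,[],[.edge 3778 false]⟩,
⟨12,339,33,0,true,[],[.edge 339 false]⟩,
⟨61,14,29,5,true,[.code,.edge 3775 false,.code,.edge 3780 false,.code],[.code,.edge 808 false,.code,.edge 2705 false,.code,.edge 1079 false,.eqn 2405 false,.code,.edge 2406 false,.code,.edge 904 false,.eqn 2405 false,.code,.edge 2473 false,.eqn 2946 false,.code]⟩,
⟨2,340,33,0,true,[],[.edge 3781 false]⟩,
⟨612,89,33,0,true,[],[.edge 3782 true]⟩,
⟨70,14,29,7,false,[.code,.edge 3770 false,.code,.edge 376 false,.code,.edge 435 false,.code],[.code,.edge 808 false,.code,.edge 2705 false,.code,.edge 1079 false,.eqn 2405 false,.code,.edge 2406 false,.code,.edge 904 false,.eqn 2405 false,.code,.edge 2473 false,.eqn 2946 false]⟩,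
⟨0,89,30,0,false,[],[.eqn 3784 true]⟩,
⟨352,2,30,0,false,[],[.eqn 3785 true,.eqn 2947 false,.eqn 3785 false]⟩,
⟨96,2,30,0,false,[],[.eqn 3785 true,.eqn 2955 false,.eqn 3785 false]⟩,
⟨384,2,31,0,true,[],[.eqn 3785 true,.edge 2028 false,.eqn 2440 false,.eqn 2905 false]⟩,
⟨386,2,31,0,true,[],[.eqn 3785 true,.edge 2948 false]⟩,
⟨514,2,31,0,true,[],[.eqn 3785 true,.edge 2949 false]⟩,
⟨512,2,31,0,true,[],[.eqn 3785 true,.edge 2950 false]⟩,
⟨546,2,31,0,true,[],[.eqn 3785 true,.edge 2958 false]⟩,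
⟨544,2,31,0,true,[],[.eqn 3785 true,.edge 2959 false]⟩,
⟨482,2,31,0,true,[],[.eqn 3785 true,.edge 2957 false]⟩,
⟨480,2,31,0,true,[],[.eqn 3785 true,.edge 2956 false]⟩,
⟨70,2,33,0,true,[],[.eqn 3785 true,.edge 3783 false]⟩,
⟨116,340,33,0,false,[],[.edge 3796 true,.edge 460 false]⟩,
⟨0,340,30,0,false,[],[.eqn 3797 false]⟩,
⟨184,14,29,7,false,[.code,.edge 3665 false,.code,.edge 3313 false,.eqn 3323 false,.eqn 3413 false,.code,.edge 3414 false,.eqn 3710 false,.code],[.code,.edge 714 false,.eqn 2681 false,.eqn 2910 false,.code,.edge 2918 false,.code,.edge 2923 false,.code,.edge 2626 false,.eqn 2910 false,.code,.edge 2913 false,.code,.edge 3430 false,.eqn 3579 false]⟩,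
⟨887,92,30,0,false,[],[.eqn 3799 true]⟩,
⟨480,92,31,0,true,[],[.eqn 3800 true,.edge 3705 false,.eqn 3756 false]⟩,
⟨482,92,31,0,true,[],[.eqn 3800 true,.edge 3706 false,.eqn 3756 false]⟩,
⟨546,92,31,0,true,[],[.eqn 3800 true,.edge 3761 false]⟩,
⟨544,92,31,0,true,[],[.eqn 3800 true,.edge 3762 false]⟩,
⟨384,14,0,0,false,[],[.edge 3596 false,.edge 2855 false,.eqn 2873 false,.edge 3303 false]⟩,
⟨0,300,30,0,false,[],[.eqn 3805 true]⟩,
⟨384,14,31,0,true,[],[.eqn 3806 true,.edge 3304 false]⟩,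
⟨544,14,31,0,true,[],[.eqn 2717 true,.edge 3807 false]⟩,
⟨386,14,0,0,false,[],[.edge 2811 false,.edge 3301 false,.eqn 3592 false,.edge 3638 false]⟩,
⟨0,335,30,0,false,[],[.eqn 3809 true]⟩,
⟨386,14,31,0,true,[],[.eqn 3810 true,.edge 3639 false]⟩,
⟨546,14,31,0,true,[],[.eqn 2717 true,.edge 3811 false]⟩,
⟨388,14,21,6,true,[.code,.edge 3771 false,.code,.edge 3130 false,.code,.edge 2697 false,.eqn 3129 false],[.edge 3744 false,.code,.edge 3672 false,.code]⟩,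
⟨640,25,33,0,true,[],[.edge 3813 false]⟩,
⟨386,18,33,0,true,[],[.edge 3814 true]⟩,
⟨390,14,7,2,true,[.code,.edge 3675 false,.eqn 3777 false],[.code,.edge 3775 false]⟩,
⟨384,146,31,0,true,[],[.edge 3816 false]⟩,
⟨480,146,31,0,true,[],[.eqn 3581 true,.edge 3817 false]⟩,
⟨394,14,12,2,false,[.code,.edge 3775 false],[.code,.edge 3770 false,.edge 3507 false]⟩,
⟨0,339,30,0,false,[],[.eqn 3819 false]⟩,
⟨14,325,33,0,true,[],[.eqn 3820 true,.edge 3780 false,.eqn 3798 false]⟩,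
⟨394,14,29,15,false,[.code,.edge 2506 false,.eqn 2807 false,.code,.edge 2805 false,.code,.edge 3541 false,.eqn 3616 false,.code,.edge 3380 false,.code,.edge 3634 false,.eqn 3715 false,.code,.edge 2868 false,.code,.edge 2360 false,.eqn 2867 false,.code],[.code,.edge 3596 false,.code,.edge 3753 false]⟩,
⟨0,338,30,0,false,[],[.eqn 3822 true]⟩,
⟨0,146,31,0,true,[],[.eqn 3823 true,.edge 3754 false]⟩,
⟨546,146,31,0,true,[],[.eqn 3724 true,.edge 3824 false]⟩,
⟨512,146,31,0,true,[],[.eqn 3581 true,.edge 3825 false]⟩,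
⟨544,324,32,0,true,[],[.edge 340 false]⟩,
⟨0,341,31,0,true,[],[.edge 3827 false]⟩,
⟨518,14,29,15,true,[.code,.edge 1309 false,.eqn 2497 false,.eqn 2761 false,.code,.edge 3779 false,.code,.edge 3815 false,.code,.edge 907 false,.code,.edge 3505 false,.code,.edge 3827 false,.code,.edge 3828 false,.code],[.code,.edge 3691 false,.eqn 3693 false,.code]⟩,
⟨2,324,31,0,true,[],[.edge 3829 false]⟩,
⟨546,324,32,0,true,[],[.edge 341 false]⟩,
⟨0,342,31,0,true,[],[.edge 3831 false]⟩,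
⟨522,14,3,2,true,[.edge 3691 false,.eqn 3693 false,.code],[.edge 3765 false,.edge 3634 false,.eqn 3715 false,.code]⟩,
⟨78,143,33,0,true,[],[.edge 3833 false]⟩,
⟨522,14,29,17,false,[.code,.edge 1556 false,.eqn 2240 false,.eqn 3167 false,.eqn 3181 false,.code,.edge 3182 false,.code,.edge 3747 false,.code,.edge 3640 false,.eqn 3810 false,.code,.edge 3633 false,.code,.edge 1963 false,.code,.edge 1629 false,.eqn 1961 false,.code,.edge 3708 false,.code],[.code,.edge 3691 false,.eqn 3693 false]⟩,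
⟨1401,143,30,0,false,[],[.eqn 3835 true]⟩,
⟨546,143,31,0,true,[],[.eqn 3836 true,.edge 3600 false]⟩,
⟨544,143,31,0,true,[],[.eqn 3836 true,.edge 3694 false]⟩,
⟨512,143,31,0,true,[],[.eqn 3574 true,.edge 3837 false]⟩,
⟨514,143,31,0,true,[],[.eqn 3574 true,.edge 3838 false]⟩,
⟨534,14,29,11,false,[.code,.edge 1309 false,.eqn 2497 false,.eqn 2761 false,.code,.edge 1391 false,.eqn 2781 false,.eqn 2910 false,.code,.edge 2930 false,.code,.edge 3505 false,.code,.edge 3827 false,.code],[.code,.edge 3691 false,.eqn 3693 false,.code,.edge 1389 false,.code,.edge 894 false,.code,.edge 892 false]⟩]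

/-- Deductions. -/
def c4_35 : List Step := [
⟨0,341,30,0,false,[],[.eqn 3841 false]⟩,
⟨2,3,31,0,true,[],[.eqn 3842 true,.edge 3828 false]⟩,
⟨1383,324,32,0,false,[],[.edge 3843 false,.edge 1396 false]⟩,
⟨0,324,30,0,false,[],[.eqn 3844 false]⟩,
⟨386,146,31,0,true,[],[.eqn 3845 true,.edge 3506 false]⟩,
⟨384,146,31,0,true,[],[.eqn 3845 true,.edge 3830 false]⟩,
⟨1637,143,32,0,false,[],[.edge 3847 false,.edge 3817 false]⟩,
⟨482,146,32,0,true,[],[.eqn 3845 true,.edge 3831 false]⟩,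
⟨482,146,31,0,true,[],[.eqn 3581 true,.edge 3846 false]⟩,
⟨386,146,32,0,true,[],[.eqn 3581 true,.edge 3849 false]⟩,
⟨1637,143,30,0,false,[],[.eqn 3848 false,.eqn 3820 false]⟩,
⟨0,325,30,0,false,[],[.eqn 3852 true]⟩,
⟨482,143,31,0,true,[],[.eqn 3853 true,.edge 3508 false]⟩,
⟨682,143,33,0,true,[],[.eqn 3853 true,.edge 3821 false]⟩,
⟨386,143,31,0,true,[],[.eqn 3574 true,.edge 3854 false]⟩,
⟨959,14,29,7,false,[.code,.edge 3775 false,.eqn 3820 false,.eqn 3853 false,.code,.edge 3855 false,.code,.edge 427 false,.code],[.code,.edge 3633 false,.code,.edge 3311 false,.code,.edge 3697 false,.code,.edge 3696 false,.code,.edge 3308 false,.eqn 3312 false,.code,.edge 3430 false,.eqn 3579 false]⟩,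
⟨0,92,30,0,false,[],[.eqn 3857 true]⟩,
⟨1,1,30,0,false,[],[.eqn 3858 true,.eqn 3071 false,.eqn 3858 false]⟩,
⟨17,1,30,0,false,[],[.eqn 3858 true,.eqn 3727 false,.eqn 3858 false]⟩,
⟨544,1,31,0,true,[],[.eqn 3858 true,.edge 3705 false,.eqn 3756 false]⟩,
⟨546,1,31,0,true,[],[.eqn 3858 true,.edge 3706 false,.eqn 3756 false]⟩,
⟨482,1,31,0,true,[],[.eqn 3858 true,.edge 3801 false]⟩,
⟨480,1,31,0,true,[],[.eqn 3858 true,.edge 3802 false]⟩,
⟨514,1,31,0,true,[],[.eqn 3858 true,.edge 3761 false]⟩,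
⟨512,1,31,0,true,[],[.eqn 3858 true,.edge 3762 false]⟩,
⟨386,1,31,0,true,[],[.eqn 3858 true,.edge 3804 false]⟩,
⟨384,1,31,0,true,[],[.eqn 3858 true,.edge 3803 false]⟩,
⟨523,16,29,9,false,[.code,.edge 2295 false,.eqn 2528 false,.code,.edge 2848 false,.code,.edge 3834 false,.code,.edge 3851 false,.code],[.code,.edge 3638 false,.eqn 3810 false,.code,.edge 3633 false,.code,.edge 3447 false,.code,.edge 1257 false,.code,.edge 3708 false]⟩,
⟨0,342,30,0,false,[],[.eqn 3869 false]⟩,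
⟨384,143,31,0,true,[],[.eqn 3870 true,.edge 3832 false,.eqn 3845 false]⟩,
⟨480,143,31,0,true,[],[.eqn 3574 true,.edge 3871 false]⟩]

/-- All deductions. -/
def c4_ : List Step :=
  List.flatten [c4_0,c4_1,c4_2,c4_3,c4_4,c4_5,c4_6,c4_7,c4_8,c4_9,c4_10,c4_11,c4_12,c4_13,c4_14,c4_15,c4_16,c4_17,c4_18,c4_19,c4_20,c4_21,c4_22,c4_23,c4_24,c4_25,c4_26,c4_27,c4_28,c4_29,c4_30,c4_31,c4_32,c4_33,c4_34,c4_35]

/-- The closing certificate. -/
def p4 : Proto := ⟨d4, c4_⟩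

end Cfsg.Agent.J3Glue.CertData
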