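import Cfsg.Agent.Lib.J3Glue.Cert

/-!
Relations used by the certificates.
-/

set_option autoImplicit false
set_option maxRecDepth 100000
set_option maxHeartbeats 4000000

namespace Cfsg.Agent.J3Glue.CertData

/-- Relations in the normalizer of the elementary abelian group. -/
def neRels : List (List Ltr) := [
  [.si,.code 32,.r,.code 64,.s,.r],
  [.r,.si,.r,.code 64],
  [.r,.s,.r,.code 32],
  [.code 32,.r,.s,.r],
  [.code 379,.r,.s,.r,.code 346],
  [.code 363,.r,.s,.r,.code 330],
  [.code 33,.r,.s,.r,.code 1],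
  [.code 283,.r,.s,.r,.code 219],
  [.code 1,.r,.si,.r,.code 65],
  [.code 141,.r,.s,.r,.code 247],
  [.code 379,.r,.si,.r,.code 314],
  [.code 219,.r,.code 141,.r,.code 378,.r,.code 378],
  [.code 64,.si,.r,.code 346,.s,.s,.code 346,.r,.code 1],
  [.code 247,.r,.code 295,.si,.si,.code 379,.r,.s,.code 247,.s,.code 16],
  [.code 378,.r,.si,.code 378,.r,.code 96,.s,.code 346,.s,.r,.code 16],
  [.si,.r,.code 378,.si,.si,.code 283,.s,.code 379,.s,.r,.s,.code 96],
  [.code 96,.si,.si,.r,.code 16,.r,.s,.s],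
  [.code 347,.r,.code 247,.si,.code 16,.s,.code 346,.r,.code 86],
  [.code 346,.r,.code 247,.si,.code 1,.s,.r,.code 379,.r,.code 379,.r],
  [.code 96,.r,.s,.r,.code 160],
  [.code 16,.r,.si,.r,.code 272,.r,.s,.r,.code 96],
  [.code 151,.si,.si,.code 378,.r,.code 379,.s,.code 214,.s,.r],
  [.si,.si,.code 283,.r,.code 1,.s,.r,.code 379,.s,.code 346,.s],
  [.code 113,.r,.code 96,.r,.code 97],
  [.code 33,.si,.code 1,.r,.s,.r,.s,.code 16],
  [.code 288,.si,.r,.code 378,.s,.code 346,.s,.code 346,.r,.code 96]]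

/-- The eight possible gluing relations. -/
def candRels : List (List Ltr) := [
  [.code 768,.r,.code 98,.r,.code 2,.r,.code 480,.si,.code 384,.si,.code 384,.si,.code 16,.s,.code 384,.s,.code 384,.s,.code 16],
  [.code 768,.r,.code 2,.r,.code 100,.r,.code 480,.si,.code 384,.si,.code 384,.si,.code 16,.s,.code 384,.s,.code 384,.s,.code 16],
  [.code 768,.r,.code 258,.r,.code 367,.r,.code 480,.si,.code 384,.si,.code 384,.si,.code 16,.s,.code 384,.s,.code 384,.s,.code 16],
  [.code 768,.r,.code 354,.r,.code 264,.r,.code 480,.si,.code 384,.si,.code 384,.si,.code 16,.s,.code 384,.s,.code 384,.s,.code 16],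
  [.code 772,.r,.code 98,.r,.code 2,.r,.code 481,.si,.code 384,.si,.code 384,.si,.code 16,.s,.code 384,.s,.code 384,.s,.code 16],
  [.code 772,.r,.code 2,.r,.code 100,.r,.code 481,.si,.code 384,.si,.code 384,.si,.code 16,.s,.code 384,.s,.code 384,.s,.code 16],
  [.code 772,.r,.code 258,.r,.code 367,.r,.code 481,.si,.code 384,.si,.code 384,.si,.code 16,.s,.code 384,.s,.code 384,.s,.code 16],
  [.code 772,.r,.code 354,.r,.code 264,.r,.code 481,.si,.code 384,.si,.code 384,.si,.code 16,.s,.code 384,.s,.code 384,.s,.code 16]]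

/-- The relations of a branch. -/
def relsFor (w : List Ltr) : List (List Ltr) :=
  [[.s,.s,.s],[.code 65,.s,.code 2,.s,.code 2],[.r,.r]] ++ neRels ++ [w] ++
    [[],[.s,.si],[.si,.s],[.r,.r]]

end Cfsg.Agent.J3Glue.CertData
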