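import Cfsg.Agent.Lib.J3Glue.Cert

/-!
The closing certificate: the live nodes.
-/

set_option autoImplicit false
set_option maxRecDepth 100000
set_option maxHeartbeats 4000000

namespace Cfsg.Agent.J3Glue.CertData

/-- Coset representatives. -/
def reps : List Nat := [0,2,384,386,480,482,512,514,544,546]

/-- A live node. -/
def row0 : Row := ⟨0, ((List.range 1920).map fun h => (h, [Mv.base 0])),
  [[.edge 390 false],
   [.edge 392 false],
   [.edge 393 false],
   [.edge 395 false],
   [.edge 397 false],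
   [.edge 398 false],
   [.edge 394 false],
   [.edge 396 false],
   [.edge 399 false],
   [.edge 400 false]]⟩

/-- A live node. -/
def row1 : Row := ⟨1, [(0,[]),
(1,[.eqn 3859 false]),
(16,[.eqn 3860 false,.eqn 3859 false]),
(17,[.eqn 3860 false]),
(96,[.eqn 356 false]),
(97,[.eqn 3859 false,.eqn 356 false]),
(112,[.eqn 3860 false,.eqn 3859 false,.eqn 356 false]),
(113,[.eqn 3860 false,.eqn 356 false]),
(256,[.eqn 364 false]),
(257,[.eqn 3859 false,.eqn 364 false]),
(272,[.eqn 3860 false,.eqn 3859 false,.eqn 364 false]),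
(273,[.eqn 3860 false,.eqn 364 false]),
(352,[.eqn 364 false,.eqn 356 false]),
(353,[.eqn 3859 false,.eqn 364 false,.eqn 356 false]),
(368,[.eqn 3860 false,.eqn 3859 false,.eqn 364 false,.eqn 356 false]),
(369,[.eqn 3860 false,.eqn 364 false,.eqn 356 false])],
  [[.edge 403 false],
   [.edge 410 false],
   [.edge 3868 false],
   [.edge 3867 false],
   [.edge 3864 false],
   [.edge 3863 false],
   [.edge 3866 false],
   [.edge 3865 false],
   [.edge 3861 false],
   [.edge 3862 false]]⟩

/-- A live node. -/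
def row2 : Row := ⟨2, [(0,[]),
(96,[.eqn 3787 false]),
(256,[.eqn 3787 false,.eqn 3786 false]),
(352,[.eqn 3786 false])],
  [[.edge 424 false],
   [.edge 462 false],
   [.edge 3788 false],
   [.edge 3789 false],
   [.edge 3795 false],
   [.edge 3794 false],
   [.edge 3791 false],
   [.edge 3790 false],
   [.edge 3793 false],
   [.edge 3792 false]]⟩

/-- A live node. -/
def row3 : Row := ⟨3, [(0,[]),
(224,[.eqn 465 false,.eqn 465 false]),
(320,[.eqn 465 false])],
  [[.edge 1390 false],
   [.edge 1396 false],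
   [.edge 909 false],
   [.edge 873 false],
   [.edge 623 false],
   [.edge 468 false],
   [.edge 908 false],
   [.edge 871 false],
   [.edge 906 false],
   [.edge 870 false]]⟩

/-- A live node. -/
def row4 : Row := ⟨4, [(0,[]),
(18,[.eqn 524 false]),
(32,[.eqn 484 false,.eqn 484 false]),
(50,[.eqn 524 false,.eqn 484 false,.eqn 484 false]),
(64,[.eqn 484 false]),
(82,[.eqn 524 false,.eqn 484 false]),
(876,[.eqn 532 false]),
(894,[.eqn 532 false,.eqn 524 false]),
(908,[.eqn 484 false,.eqn 532 false]),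
(926,[.eqn 484 false,.eqn 532 false,.eqn 524 false]),
(940,[.eqn 484 false,.eqn 484 false,.eqn 532 false]),
(958,[.eqn 532 false,.eqn 484 false,.eqn 532 false,.eqn 484 false]),
(1269,[.eqn 532 false,.eqn 524 false,.eqn 484 false,.eqn 484 false]),
(1271,[.eqn 532 false,.eqn 484 false,.eqn 484 false]),
(1301,[.eqn 532 false,.eqn 484 false,.eqn 532 false]),
(1303,[.eqn 532 false,.eqn 484 false,.eqn 532 false,.eqn 524 false]),
(1333,[.eqn 484 false,.eqn 532 false,.eqn 524 false,.eqn 484 false,.eqn 484 false]),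
(1335,[.eqn 484 false,.eqn 532 false,.eqn 484 false,.eqn 484 false]),
(1657,[.eqn 532 false,.eqn 524 false,.eqn 484 false]),
(1659,[.eqn 532 false,.eqn 484 false]),
(1689,[.eqn 484 false,.eqn 532 false,.eqn 524 false,.eqn 484 false]),
(1691,[.eqn 484 false,.eqn 532 false,.eqn 484 false]),
(1721,[.eqn 532 false,.eqn 484 false,.eqn 532 false,.eqn 484 false,.eqn 484 false]),
(1723,[.eqn 484 false,.eqn 484 false,.eqn 532 false,.eqn 484 false])],
  [[.edge 378 false],
   [.edge 526 false],
   [.edge 488 false],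
   [.edge 471 false,.eqn 487 false],
   [.edge 534 false],
   [.edge 535 false],
   [.edge 549 false],
   [.edge 550 false],
   [.edge 543 false],
   [.edge 544 false]]⟩

/-- A live node. -/
def row7 : Row := ⟨7, [(0,[]),
(2,[.eqn 560 false,.eqn 560 false,.eqn 437 false,.eqn 437 false,.eqn 437 false]),
(5,[.eqn 560 false,.eqn 560 false,.eqn 560 false,.eqn 437 false,.eqn 437 false,.eqn 437 false]),
(7,[.eqn 560 false,.eqn 560 false,.eqn 560 false]),
(9,[.eqn 560 false,.eqn 490 false,.eqn 437 false,.eqn 560 false,.eqn 437 false]),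
(11,[.eqn 490 false,.eqn 560 false,.eqn 437 false,.eqn 437 false]),
(12,[.eqn 413 false,.eqn 560 false,.eqn 413 false,.eqn 413 false]),
(14,[.eqn 437 false,.eqn 560 false,.eqn 437 false,.eqn 437 false,.eqn 560 false]),
(16,[.eqn 560 false,.eqn 560 false]),
(18,[.eqn 437 false,.eqn 437 false,.eqn 437 false]),
(21,[.eqn 560 false,.eqn 437 false,.eqn 437 false,.eqn 437 false]),
(23,[.eqn 560 false]),
(25,[.eqn 437 false,.eqn 560 false,.eqn 437 false,.eqn 437 false]),
(27,[.eqn 413 false,.eqn 413 false,.eqn 560 false,.eqn 413 false]),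
(28,[.eqn 437 false,.eqn 437 false,.eqn 560 false,.eqn 437 false]),
(30,[.eqn 490 false,.eqn 437 false,.eqn 560 false,.eqn 437 false]),
(32,[.eqn 413 false]),
(34,[.eqn 560 false,.eqn 560 false,.eqn 437 false,.eqn 437 false,.eqn 437 false,.eqn 413 false]),
(37,[.eqn 437 false,.eqn 560 false,.eqn 437 false,.eqn 437 false,.eqn 560 false,.eqn 413 false]),
(39,[.eqn 560 false,.eqn 560 false,.eqn 413 false,.eqn 560 false]),
(41,[.eqn 413 false,.eqn 560 false,.eqn 490 false,.eqn 437 false,.eqn 560 false,.eqn 437 false]),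
(43,[.eqn 560 false,.eqn 560 false,.eqn 560 false,.eqn 413 false]),
(44,[.eqn 413 false,.eqn 413 false,.eqn 560 false,.eqn 413 false,.eqn 413 false]),
(46,[.eqn 560 false,.eqn 490 false,.eqn 437 false,.eqn 560 false,.eqn 437 false,.eqn 413 false]),
(48,[.eqn 560 false,.eqn 560 false,.eqn 413 false]),
(50,[.eqn 437 false,.eqn 437 false,.eqn 437 false,.eqn 413 false]),
(53,[.eqn 490 false,.eqn 437 false,.eqn 560 false,.eqn 437 false,.eqn 413 false]),
(55,[.eqn 413 false,.eqn 560 false]),
(57,[.eqn 560 false,.eqn 437 false,.eqn 437 false,.eqn 437 false,.eqn 413 false]),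
(59,[.eqn 560 false,.eqn 413 false]),
(60,[.eqn 560 false,.eqn 413 false,.eqn 560 false]),
(62,[.eqn 437 false,.eqn 560 false,.eqn 437 false,.eqn 437 false,.eqn 413 false]),
(64,[.eqn 413 false,.eqn 413 false]),
(66,[.eqn 560 false,.eqn 560 false,.eqn 437 false,.eqn 413 false,.eqn 437 false]),
(69,[.eqn 560 false,.eqn 560 false,.eqn 437 false,.eqn 560 false,.eqn 413 false,.eqn 437 false]),
(71,[.eqn 560 false,.eqn 413 false,.eqn 560 false,.eqn 413 false]),
(73,[.eqn 490 false,.eqn 560 false,.eqn 413 false,.eqn 560 false,.eqn 437 false]),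
(75,[.eqn 560 false,.eqn 560 false,.eqn 413 false,.eqn 560 false,.eqn 413 false]),
(76,[.eqn 560 false,.eqn 413 false,.eqn 413 false]),
(78,[.eqn 560 false,.eqn 560 false,.eqn 560 false,.eqn 437 false,.eqn 413 false,.eqn 437 false]),
(80,[.eqn 490 false,.eqn 413 false,.eqn 437 false]),
(82,[.eqn 437 false,.eqn 413 false,.eqn 437 false]),
(85,[.eqn 437 false,.eqn 560 false,.eqn 413 false,.eqn 437 false]),
(87,[.eqn 413 false,.eqn 413 false,.eqn 560 false]),
(89,[.eqn 560 false,.eqn 437 false,.eqn 560 false,.eqn 413 false,.eqn 437 false]),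
(91,[.eqn 413 false,.eqn 560 false,.eqn 413 false]),
(92,[.eqn 560 false,.eqn 490 false,.eqn 413 false,.eqn 437 false]),
(94,[.eqn 560 false,.eqn 437 false,.eqn 413 false,.eqn 437 false]),
(864,[.eqn 413 false,.eqn 560 false,.eqn 437 false]),
(866,[.eqn 413 false,.eqn 560 false,.eqn 490 false]),
(869,[.eqn 413 false,.eqn 560 false,.eqn 490 false,.eqn 560 false]),
(871,[.eqn 560 false,.eqn 413 false,.eqn 560 false,.eqn 437 false]),
(873,[.eqn 560 false,.eqn 560 false,.eqn 560 false,.eqn 413 false,.eqn 437 false]),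
(875,[.eqn 560 false,.eqn 413 false,.eqn 490 false]),
(876,[.eqn 560 false,.eqn 560 false,.eqn 413 false,.eqn 490 false]),
(878,[.eqn 560 false,.eqn 560 false,.eqn 413 false,.eqn 437 false]),
(880,[.eqn 560 false,.eqn 560 false,.eqn 413 false,.eqn 560 false,.eqn 437 false]),
(882,[.eqn 560 false,.eqn 560 false,.eqn 413 false,.eqn 560 false,.eqn 490 false]),
(885,[.eqn 560 false,.eqn 413 false,.eqn 560 false,.eqn 490 false]),
(887,[.eqn 413 false,.eqn 560 false,.eqn 437 false,.eqn 560 false]),
(889,[.eqn 560 false,.eqn 413 false,.eqn 437 false]),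
(891,[.eqn 560 false,.eqn 560 false,.eqn 560 false,.eqn 413 false,.eqn 490 false]),
(892,[.eqn 413 false,.eqn 490 false]),
(894,[.eqn 413 false,.eqn 437 false]),
(896,[.eqn 560 false,.eqn 437 false]),
(898,[.eqn 560 false,.eqn 490 false]),
(901,[.eqn 560 false,.eqn 490 false,.eqn 560 false]),
(903,[.eqn 437 false,.eqn 437 false,.eqn 560 false,.eqn 437 false,.eqn 437 false]),
(905,[.eqn 560 false,.eqn 560 false,.eqn 437 false,.eqn 560 false]),
(907,[.eqn 490 false,.eqn 560 false]),
(908,[.eqn 560 false,.eqn 560 false,.eqn 490 false]),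
(910,[.eqn 560 false,.eqn 560 false,.eqn 437 false]),
(912,[.eqn 560 false,.eqn 560 false,.eqn 560 false,.eqn 437 false]),
(914,[.eqn 560 false,.eqn 560 false,.eqn 560 false,.eqn 490 false]),
(917,[.eqn 490 false,.eqn 437 false,.eqn 560 false,.eqn 437 false,.eqn 437 false]),
(919,[.eqn 560 false,.eqn 437 false,.eqn 560 false]),
(921,[.eqn 437 false,.eqn 560 false]),
(923,[.eqn 560 false,.eqn 560 false,.eqn 490 false,.eqn 560 false]),
(924,[.eqn 490 false]),
(926,[.eqn 437 false]),
(928,[.eqn 413 false,.eqn 413 false,.eqn 560 false,.eqn 437 false]),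
(930,[.eqn 413 false,.eqn 413 false,.eqn 560 false,.eqn 490 false]),
(933,[.eqn 560 false,.eqn 413 false,.eqn 413 false,.eqn 490 false]),
(935,[.eqn 560 false,.eqn 490 false,.eqn 413 false,.eqn 437 false,.eqn 437 false]),
(937,[.eqn 490 false,.eqn 413 false,.eqn 437 false,.eqn 437 false,.eqn 560 false]),
(939,[.eqn 413 false,.eqn 560 false,.eqn 413 false,.eqn 490 false]),
(940,[.eqn 437 false,.eqn 413 false,.eqn 437 false,.eqn 437 false]),
(942,[.eqn 490 false,.eqn 413 false,.eqn 437 false,.eqn 437 false]),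
(944,[.eqn 560 false,.eqn 413 false,.eqn 560 false,.eqn 413 false,.eqn 437 false]),
(946,[.eqn 437 false,.eqn 560 false,.eqn 413 false,.eqn 437 false,.eqn 437 false]),
(949,[.eqn 560 false,.eqn 437 false,.eqn 413 false,.eqn 437 false,.eqn 437 false]),
(951,[.eqn 560 false,.eqn 413 false,.eqn 413 false,.eqn 437 false]),
(953,[.eqn 413 false,.eqn 560 false,.eqn 413 false,.eqn 437 false]),
(955,[.eqn 437 false,.eqn 413 false,.eqn 437 false,.eqn 437 false,.eqn 560 false]),
(956,[.eqn 413 false,.eqn 413 false,.eqn 490 false]),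
(958,[.eqn 413 false,.eqn 413 false,.eqn 437 false]),
(1248,[.eqn 490 false,.eqn 437 false,.eqn 560 false]),
(1250,[.eqn 437 false,.eqn 437 false,.eqn 560 false]),
(1253,[.eqn 560 false,.eqn 560 false,.eqn 437 false,.eqn 437 false]),
(1255,[.eqn 490 false,.eqn 437 false]),
(1257,[.eqn 490 false,.eqn 560 false,.eqn 437 false]),
(1259,[.eqn 560 false,.eqn 490 false,.eqn 437 false,.eqn 560 false]),
(1260,[.eqn 560 false,.eqn 560 false,.eqn 560 false,.eqn 490 false,.eqn 437 false]),
(1262,[.eqn 560 false,.eqn 560 false,.eqn 560 false,.eqn 437 false,.eqn 437 false]),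
(1264,[.eqn 560 false,.eqn 560 false,.eqn 490 false,.eqn 437 false,.eqn 560 false]),
(1266,[.eqn 560 false,.eqn 560 false,.eqn 437 false,.eqn 437 false,.eqn 560 false]),
(1269,[.eqn 437 false,.eqn 437 false]),
(1271,[.eqn 560 false,.eqn 560 false,.eqn 490 false,.eqn 437 false]),
(1273,[.eqn 560 false,.eqn 437 false,.eqn 437 false,.eqn 560 false]),
(1275,[.eqn 437 false,.eqn 560 false,.eqn 437 false]),
(1276,[.eqn 560 false,.eqn 490 false,.eqn 437 false]),
(1278,[.eqn 560 false,.eqn 437 false,.eqn 437 false]),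
(1280,[.eqn 413 false,.eqn 490 false,.eqn 437 false,.eqn 560 false]),
(1282,[.eqn 413 false,.eqn 437 false,.eqn 437 false,.eqn 560 false]),
(1285,[.eqn 490 false,.eqn 413 false,.eqn 437 false,.eqn 437 false,.eqn 413 false]),
(1287,[.eqn 413 false,.eqn 490 false,.eqn 437 false]),
(1289,[.eqn 560 false,.eqn 413 false,.eqn 490 false,.eqn 437 false]),
(1291,[.eqn 413 false,.eqn 560 false,.eqn 490 false,.eqn 437 false,.eqn 560 false]),
(1292,[.eqn 437 false,.eqn 413 false,.eqn 437 false,.eqn 437 false,.eqn 560 false,.eqn 413 false]),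
(1294,[.eqn 490 false,.eqn 413 false,.eqn 437 false,.eqn 437 false,.eqn 560 false,.eqn 413 false]),
(1296,[.eqn 560 false,.eqn 413 false,.eqn 560 false,.eqn 437 false,.eqn 437 false]),
(1298,[.eqn 560 false,.eqn 413 false,.eqn 560 false,.eqn 490 false,.eqn 437 false]),
(1301,[.eqn 413 false,.eqn 437 false,.eqn 437 false]),
(1303,[.eqn 437 false,.eqn 413 false,.eqn 437 false,.eqn 437 false,.eqn 413 false]),
(1305,[.eqn 413 false,.eqn 560 false,.eqn 437 false,.eqn 437 false,.eqn 560 false]),
(1307,[.eqn 560 false,.eqn 413 false,.eqn 437 false,.eqn 437 false]),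
(1308,[.eqn 413 false,.eqn 560 false,.eqn 490 false,.eqn 437 false]),
(1310,[.eqn 413 false,.eqn 560 false,.eqn 437 false,.eqn 437 false]),
(1312,[.eqn 560 false,.eqn 437 false,.eqn 413 false]),
(1314,[.eqn 560 false,.eqn 490 false,.eqn 413 false]),
(1317,[.eqn 560 false,.eqn 560 false,.eqn 437 false,.eqn 413 false]),
(1319,[.eqn 490 false,.eqn 413 false]),
(1321,[.eqn 560 false,.eqn 490 false,.eqn 560 false,.eqn 413 false]),
(1323,[.eqn 490 false,.eqn 560 false,.eqn 413 false,.eqn 560 false]),
(1324,[.eqn 560 false,.eqn 560 false,.eqn 490 false,.eqn 560 false,.eqn 413 false]),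
(1326,[.eqn 560 false,.eqn 560 false,.eqn 437 false,.eqn 560 false,.eqn 413 false]),
(1328,[.eqn 560 false,.eqn 560 false,.eqn 560 false,.eqn 437 false,.eqn 413 false]),
(1330,[.eqn 560 false,.eqn 560 false,.eqn 560 false,.eqn 490 false,.eqn 413 false]),
(1333,[.eqn 437 false,.eqn 413 false]),
(1335,[.eqn 560 false,.eqn 560 false,.eqn 490 false,.eqn 413 false]),
(1337,[.eqn 437 false,.eqn 560 false,.eqn 413 false,.eqn 560 false]),
(1339,[.eqn 560 false,.eqn 437 false,.eqn 560 false,.eqn 413 false]),
(1340,[.eqn 490 false,.eqn 560 false,.eqn 413 false]),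
(1342,[.eqn 437 false,.eqn 560 false,.eqn 413 false]),
(1632,[.eqn 490 false,.eqn 437 false,.eqn 560 false,.eqn 413 false]),
(1634,[.eqn 437 false,.eqn 437 false,.eqn 560 false,.eqn 413 false]),
(1637,[.eqn 437 false,.eqn 437 false,.eqn 560 false,.eqn 413 false,.eqn 560 false]),
(1639,[.eqn 560 false,.eqn 490 false,.eqn 437 false,.eqn 413 false]),
(1641,[.eqn 560 false,.eqn 560 false,.eqn 437 false,.eqn 437 false,.eqn 413 false]),
(1643,[.eqn 490 false,.eqn 437 false,.eqn 413 false]),
(1644,[.eqn 437 false,.eqn 560 false,.eqn 437 false,.eqn 413 false]),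
(1646,[.eqn 490 false,.eqn 560 false,.eqn 437 false,.eqn 413 false]),
(1648,[.eqn 560 false,.eqn 560 false,.eqn 490 false,.eqn 437 false,.eqn 560 false,.eqn 413 false]),
(1650,[.eqn 560 false,.eqn 560 false,.eqn 437 false,.eqn 437 false,.eqn 560 false,.eqn 413 false]),
(1653,[.eqn 560 false,.eqn 437 false,.eqn 437 false,.eqn 413 false]),
(1655,[.eqn 490 false,.eqn 437 false,.eqn 560 false,.eqn 413 false,.eqn 560 false]),
(1657,[.eqn 437 false,.eqn 437 false,.eqn 413 false]),
(1659,[.eqn 560 false,.eqn 560 false,.eqn 490 false,.eqn 437 false,.eqn 413 false]),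
(1660,[.eqn 560 false,.eqn 490 false,.eqn 437 false,.eqn 560 false,.eqn 413 false]),
(1662,[.eqn 560 false,.eqn 437 false,.eqn 437 false,.eqn 560 false,.eqn 413 false]),
(1664,[.eqn 560 false,.eqn 437 false,.eqn 413 false,.eqn 413 false]),
(1666,[.eqn 560 false,.eqn 490 false,.eqn 413 false,.eqn 413 false]),
(1669,[.eqn 490 false,.eqn 560 false,.eqn 437 false,.eqn 413 false,.eqn 437 false]),
(1671,[.eqn 490 false,.eqn 560 false,.eqn 413 false,.eqn 413 false]),
(1673,[.eqn 490 false,.eqn 437 false,.eqn 413 false,.eqn 437 false]),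
(1675,[.eqn 490 false,.eqn 413 false,.eqn 413 false]),
(1676,[.eqn 490 false,.eqn 413 false,.eqn 413 false,.eqn 560 false]),
(1678,[.eqn 437 false,.eqn 413 false,.eqn 413 false,.eqn 560 false]),
(1680,[.eqn 560 false,.eqn 490 false,.eqn 437 false,.eqn 413 false,.eqn 437 false]),
(1682,[.eqn 560 false,.eqn 437 false,.eqn 437 false,.eqn 413 false,.eqn 437 false]),
(1685,[.eqn 437 false,.eqn 560 false,.eqn 413 false,.eqn 413 false]),
(1687,[.eqn 437 false,.eqn 560 false,.eqn 437 false,.eqn 413 false,.eqn 437 false]),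
(1689,[.eqn 437 false,.eqn 413 false,.eqn 413 false]),
(1691,[.eqn 437 false,.eqn 437 false,.eqn 413 false,.eqn 437 false]),
(1692,[.eqn 490 false,.eqn 560 false,.eqn 413 false,.eqn 560 false,.eqn 413 false]),
(1694,[.eqn 437 false,.eqn 560 false,.eqn 413 false,.eqn 560 false,.eqn 413 false]),
(1696,[.eqn 413 false,.eqn 490 false,.eqn 437 false,.eqn 560 false,.eqn 413 false]),
(1698,[.eqn 413 false,.eqn 437 false,.eqn 437 false,.eqn 560 false,.eqn 413 false]),
(1701,[.eqn 437 false,.eqn 413 false,.eqn 413 false,.eqn 560 false,.eqn 437 false]),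
(1703,[.eqn 413 false,.eqn 560 false,.eqn 490 false,.eqn 437 false,.eqn 413 false]),
(1705,[.eqn 490 false,.eqn 413 false,.eqn 413 false,.eqn 437 false]),
(1707,[.eqn 413 false,.eqn 490 false,.eqn 437 false,.eqn 413 false]),
(1708,[.eqn 560 false,.eqn 413 false,.eqn 437 false,.eqn 437 false,.eqn 413 false]),
(1710,[.eqn 560 false,.eqn 413 false,.eqn 490 false,.eqn 437 false,.eqn 413 false]),
(1712,[.eqn 490 false,.eqn 560 false,.eqn 413 false,.eqn 413 false,.eqn 437 false]),
(1714,[.eqn 437 false,.eqn 560 false,.eqn 413 false,.eqn 413 false,.eqn 437 false]),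
(1717,[.eqn 413 false,.eqn 560 false,.eqn 437 false,.eqn 437 false,.eqn 413 false]),
(1719,[.eqn 490 false,.eqn 413 false,.eqn 413 false,.eqn 560 false,.eqn 437 false]),
(1721,[.eqn 413 false,.eqn 437 false,.eqn 437 false,.eqn 413 false]),
(1723,[.eqn 437 false,.eqn 413 false,.eqn 413 false,.eqn 437 false]),
(1724,[.eqn 560 false,.eqn 490 false,.eqn 413 false,.eqn 413 false,.eqn 437 false]),
(1726,[.eqn 560 false,.eqn 437 false,.eqn 413 false,.eqn 413 false,.eqn 437 false])],
  [[.edge 473 false],
   [.edge 478 false],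
   [.edge 385 false],
   [.edge 421 false],
   [.edge 483 false],
   [.edge 476 false],
   [.edge 479 false],
   [.edge 477 false],
   [.edge 480 false],
   [.edge 475 false]]⟩

/-- A live node. -/
def row8 : Row := ⟨8, [(0,[])],
  [[.edge 664 false],
   [.edge 754 false],
   [.edge 2913 false],
   [.edge 2914 false],
   [.edge 2542 false,.eqn 2905 false],
   [.edge 2915 false,.eqn 2946 false,.eqn 3785 false],
   [.edge 2911 false],
   [.edge 2912 false],
   [.edge 2916 false],
   [.edge 2917 false]]⟩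

/-- A live node. -/
def row10 : Row := ⟨10, [(0,[]),
(102,[.eqn 554 false])],
  [[.edge 757 false],
   [.edge 513 false],
   [.edge 2485 false],
   [.edge 2197 false,.eqn 2274 false,.eqn 2405 false],
   [.edge 2195 false,.eqn 2274 false,.eqn 2405 false],
   [.edge 2480 false],
   [.edge 952 false,.eqn 2251 false],
   [.edge 883 false],
   [.edge 954 false,.eqn 2251 false],
   [.edge 885 false]]⟩

/-- A live node. -/
def row11 : Row := ⟨11, [(0,[])],
  [[.edge 627 false],
   [.edge 792 false],
   [.edge 1075 false,.eqn 2874 false],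
   [.edge 923 false,.eqn 1084 false,.eqn 2405 false],
   [.edge 1116 false,.eqn 1141 false,.eqn 2603 false,.eqn 2692 false],
   [.edge 904 false,.eqn 2405 false],
   [.edge 888 false],
   [.edge 889 false],
   [.edge 963 false,.eqn 965 false],
   [.edge 2104 false,.eqn 2798 false]]⟩

/-- A live node. -/
def row13 : Row := ⟨13, [(0,[]),
(1069,[.eqn 3139 false])],
  [[.edge 629 false],
   [.edge 789 false],
   [.edge 1306 false,.eqn 2125 false],
   [.edge 3142 false],
   [.edge 3140 false],
   [.edge 3141 false],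
   [.edge 984 false],
   [.edge 3045 false,.eqn 3134 false],
   [.edge 3340 false,.eqn 3502 false,.eqn 3530 false],
   [.edge 3336 false,.eqn 3520 false]]⟩

/-- A live node. -/
def row14 : Row := ⟨14, [(0,[]),
(960,[.eqn 2717 false])],
  [[.edge 795 false,.eqn 2681 false,.eqn 2910 false],
   [.edge 728 false],
   [.edge 3807 false],
   [.edge 3811 false],
   [.edge 2626 false,.eqn 2910 false],
   [.edge 2658 false,.eqn 2663 false,.eqn 2692 false],
   [.edge 3696 false],
   [.edge 3632 false],
   [.edge 3808 false],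
   [.edge 3812 false]]⟩

/-- A live node. -/
def row15 : Row := ⟨15, [(0,[]),
(975,[.eqn 2594 false])],
  [[.edge 633 false],
   [.edge 804 false],
   [.edge 1723 false,.eqn 2732 false],
   [.edge 2598 false],
   [.edge 2596 false],
   [.edge 2595 false],
   [.edge 3688 false],
   [.edge 3685 false],
   [.edge 1012 false],
   [.edge 2597 false,.eqn 2732 false]]⟩

/-- A live node. -/
def row16 : Row := ⟨16, [(0,[]),
(1061,[.eqn 2850 false])],
  [[.edge 822 false],
   [.edge 723 false,.eqn 2910 false],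
   [.edge 3594 false],
   [.edge 3598 false],
   [.edge 2852 false,.eqn 2910 false],
   [.edge 2851 false],
   [.edge 3593 false],
   [.edge 3597 false],
   [.edge 3752 false],
   [.edge 2360 false,.eqn 2867 false]]⟩

/-- A live node. -/
def row18 : Row := ⟨18, [(0,[])],
  [[.edge 813 false,.eqn 2910 false],
   [.edge 725 false],
   [.edge 2884 false],
   [.edge 2883 false],
   [.edge 2650 false,.eqn 2905 false],
   [.edge 2875 false],
   [.edge 2385 false,.eqn 3076 false],
   [.edge 2880 false],
   [.edge 2881 false],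
   [.edge 2882 false,.eqn 3269 false]]⟩

/-- A live node. -/
def row19 : Row := ⟨19, [(0,[])],
  [[.edge 807 false],
   [.edge 717 false,.eqn 2681 false,.eqn 2910 false],
   [.edge 2700 false,.eqn 3170 false],
   [.edge 2699 false,.eqn 2808 false],
   [.edge 2696 false],
   [.edge 2695 false],
   [.edge 2698 false,.eqn 3222 false],
   [.edge 2697 false,.eqn 3129 false],
   [.edge 2694 false],
   [.edge 2693 false]]⟩

/-- A live node. -/
def row20 : Row := ⟨20, [(0,[])],
  [[.edge 773 false],
   [.edge 710 false],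
   [.edge 2415 false],
   [.edge 2416 false,.eqn 2479 false],
   [.edge 2408 false,.eqn 2910 false],
   [.edge 2473 false,.eqn 2946 false,.eqn 3785 false],
   [.edge 2410 false],
   [.edge 2409 false,.eqn 2603 false,.eqn 2692 false],
   [.edge 2406 false],
   [.edge 2407 false,.eqn 2874 false]]⟩

/-- A live node. -/
def row25 : Row := ⟨25, [(0,[])],
  [[.edge 892 false],
   [.edge 897 false],
   [.edge 879 false],
   [.edge 971 false,.eqn 1068 false],
   [.edge 1368 false,.eqn 2810 false],
   [.edge 1363 false,.eqn 2843 false],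
   [.edge 1189 false,.eqn 3104 false,.eqn 3222 false],
   [.edge 1228 false,.eqn 2172 false,.eqn 2603 false,.eqn 2692 false],
   [.edge 1175 false,.eqn 2097 false,.eqn 2874 false],
   [.edge 1182 false,.eqn 3222 false]]⟩

/-- A live node. -/
def row26 : Row := ⟨26, [(0,[])],
  [[.edge 1914 false,.eqn 2069 false],
   [.edge 1091 false],
   [.edge 1629 false,.eqn 1961 false],
   [.edge 1371 false],
   [.edge 2252 false],
   [.edge 2253 false,.eqn 2405 false],
   [.edge 3678 false],
   [.edge 3613 false],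
   [.edge 2255 false,.eqn 2870 false],
   [.edge 2254 false,.eqn 2942 false]]⟩

/-- A live node. -/
def row28 : Row := ⟨28, [(0,[]),
(960,[.eqn 2983 false])],
  [[.edge 1878 false],
   [.edge 1257 false],
   [.edge 2937 false],
   [.edge 2938 false],
   [.edge 2984 false],
   [.edge 2985 false],
   [.edge 3048 false],
   [.edge 3054 false,.eqn 3068 false],
   [.edge 2986 false],
   [.edge 2987 false]]⟩

/-- A live node. -/
def row47 : Row := ⟨47, [(0,[]),
(2,[.eqn 1028 false])],
  [[.edge 2799 false],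
   [.edge 2800 false],
   [.edge 3426 false,.eqn 3680 false],
   [.edge 3430 false,.eqn 3579 false,.eqn 3858 false],
   [.edge 2801 false,.eqn 2910 false],
   [.edge 2802 false,.eqn 2910 false],
   [.edge 3345 false,.eqn 3347 false],
   [.edge 3344 false,.eqn 3347 false],
   [.edge 3293 false],
   [.edge 3292 false]]⟩

/-- A live node. -/
def row49 : Row := ⟨49, [(0,[]),
(1080,[.eqn 3645 false])],
  [[.edge 1381 false,.eqn 1913 false],
   [.edge 1105 false],
   [.edge 3379 false],
   [.edge 3378 false],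
   [.edge 3647 false],
   [.edge 3646 false],
   [.edge 3648 false],
   [.edge 3643 false],
   [.edge 3659 false],
   [.edge 3656 false,.eqn 3777 false]]⟩

/-- A live node. -/
def row50 : Row := ⟨50, [(0,[]),
(986,[.eqn 3442 false])],
  [[.edge 1962 false],
   [.edge 1152 false,.eqn 1370 false],
   [.edge 3307 false],
   [.edge 3308 false,.eqn 3312 false],
   [.edge 3443 false],
   [.edge 3444 false],
   [.edge 3607 false,.eqn 3631 false],
   [.edge 3708 false],
   [.edge 3446 false],
   [.edge 3445 false]]⟩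

/-- A live node. -/
def row56 : Row := ⟨56, [(0,[]),
(1061,[.eqn 3077 false])],
  [[.edge 2070 false],
   [.edge 1100 false],
   [.edge 3590 false],
   [.edge 3084 false],
   [.edge 3083 false],
   [.edge 3082 false],
   [.edge 3589 false],
   [.edge 2529 false,.eqn 2532 false,.eqn 2874 false],
   [.edge 3078 false],
   [.edge 3731 false]]⟩

/-- A live node. -/
def row73 : Row := ⟨73, [(0,[]),
(103,[.eqn 3223 false])],
  [[.edge 3229 false],
   [.edge 3228 false],
   [.edge 3286 false],
   [.edge 3287 false],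
   [.edge 3288 false],
   [.edge 3289 false],
   [.edge 3226 false],
   [.edge 3227 false],
   [.edge 3224 false],
   [.edge 3225 false]]⟩

/-- A live node. -/
def row143 : Row := ⟨143, [(0,[]),
(119,[.eqn 3574 false]),
(1303,[.eqn 3574 false,.eqn 3836 false]),
(1401,[.eqn 3836 false]),
(1689,[.eqn 3836 false,.eqn 3574 false]),
(1760,[.eqn 3574 false,.eqn 3836 false,.eqn 3574 false])],
  [[.edge 3600 false],
   [.edge 3694 false],
   [.edge 3871 false],
   [.edge 3856 false],
   [.edge 3872 false],
   [.edge 3854 false],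
   [.edge 3839 false],
   [.edge 3840 false],
   [.edge 3838 false],
   [.edge 3837 false]]⟩

/-- A live node. -/
def row146 : Row := ⟨146, [(0,[]),
(103,[.eqn 3581 false]),
(1303,[.eqn 3581 false,.eqn 3724 false]),
(1385,[.eqn 3724 false]),
(1689,[.eqn 3724 false,.eqn 3581 false]),
(1776,[.eqn 3581 false,.eqn 3724 false,.eqn 3581 false])],
  [[.edge 3824 false],
   [.edge 3716 false],
   [.edge 3817 false,.eqn 3820 false,.eqn 3853 false],
   [.edge 3846 false],
   [.edge 3818 false,.eqn 3820 false,.eqn 3853 false],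
   [.edge 3850 false],
   [.edge 3826 false],
   [.edge 3728 false],
   [.edge 3725 false],
   [.edge 3825 false]]⟩

/-- A live node. -/
def row158 : Row := ⟨158, [(0,[]),
(380,[.eqn 1975 false]),
(456,[.eqn 1975 false,.eqn 3383 false,.eqn 1975 false]),
(527,[.eqn 3383 false,.eqn 1975 false]),
(864,[.eqn 1975 false,.eqn 3383 false,.eqn 1975 false,.eqn 3383 false,.eqn 1975 false]),
(1054,[.eqn 3383 false,.eqn 1975 false,.eqn 3383 false,.eqn 1975 false]),
(1391,[.eqn 3383 false,.eqn 1975 false,.eqn 3383 false]),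
(1468,[.eqn 1975 false,.eqn 3383 false,.eqn 1975 false,.eqn 3383 false]),
(1544,[.eqn 1975 false,.eqn 3383 false]),
(1918,[.eqn 3383 false])],
  [[.edge 1471 false,.eqn 1955 false,.eqn 3076 false],
   [.edge 3625 false],
   [.edge 3623 false],
   [.edge 3390 false],
   [.edge 3397 false],
   [.edge 3621 false],
   [.edge 3624 false],
   [.edge 3384 false],
   [.edge 3622 false],
   [.edge 3396 false]]⟩

/-- The live nodes. -/
def rows : List Row := [row0,row1,row2,row3,row4,row7,row8,row10,row11,row13,row14,row15,row16,row18,row19,row20,row25,row26,row28,row47,row49,row50,row56,row73,row143,row146,row158]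

/-- The word agreeing with `r`. -/
def word : List Ltr := [.code 0,.s,.code 433,.s,.code 451,.s,.code 870,.s,.code 1221,.s,.code 400,.s,.code 1901]

/-- Its walk. -/
def wordWalk : List Mv := [.code,.edge 390 false,.code,.edge 473 false,.code,.edge 378 false,.code,.edge 873 false,.code,.edge 2104 false,.eqn 2798 false,.code,.edge 3430 false,.eqn 3579 false,.eqn 3858 false,.code]

/-- The walk of `r`. -/
def rWalk : List Mv := [.edge 366 false]

end Cfsg.Agent.J3Glue.CertData
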