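import Cfsg.Agent.Lib.J3Glue.Cert

/-!
Certificates of the collapsing branches.
-/

set_option autoImplicit false
set_option maxRecDepth 100000
set_option maxHeartbeats 4000000

namespace Cfsg.Agent.J3Glue.CertData

/-- Node definitions. -/
def d0 : List NDef := [⟨2,768,0⟩,⟨2,98,1⟩,⟨2,2,2⟩,⟨1,480,3⟩,⟨1,384,4⟩,⟨1,384,5⟩,⟨0,2,5⟩,⟨2,4,3⟩,⟨2,2,8⟩,⟨2,97,4⟩,⟨2,491,4⟩,⟨2,497,4⟩,
⟨2,498,4⟩,⟨1,645,11⟩,⟨1,384,14⟩,⟨1,384,15⟩,⟨2,47,11⟩,⟨2,98,17⟩,⟨2,2,18⟩,⟨1,1534,11⟩]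

/-- Deductions. -/
def c0_0 : List Step := [
⟨384,0,33,0,true,[],[.edge 0 false]⟩,
⟨0,1,33,0,true,[],[.edge 20 true]⟩,
⟨64,0,33,0,true,[],[.base 384,.edge 20 false]⟩,
⟨448,0,33,0,true,[],[.base 384,.edge 20 false]⟩,
⟨66,0,33,0,true,[],[.base 64,.edge 22 false]⟩,
⟨704,0,33,0,true,[],[.base 64,.edge 22 false]⟩,
⟨32,0,33,0,true,[],[.base 448,.edge 23 false]⟩,
⟨416,0,33,0,true,[],[.base 448,.edge 23 false]⟩,
⟨386,0,33,0,true,[],[.base 66,.edge 24 false]⟩,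
⟨718,0,33,0,true,[],[.base 83,.edge 24 false]⟩,
⟨718,0,33,0,true,[],[.base 705,.edge 25 false]⟩,
⟨368,1,33,0,false,[],[.edge 30 true,.edge 29 false]⟩,
⟨34,0,33,0,true,[],[.base 32,.edge 26 false]⟩,
⟨0,0,33,0,true,[],[.base 416,.edge 27 false]⟩,
⟨452,0,33,0,true,[],[.base 387,.edge 28 false]⟩,
⟨96,1,30,0,false,[],[.eqn 31 true]⟩,
⟨648,0,33,0,true,[],[.base 50,.edge 32 false]⟩,
⟨424,0,33,0,true,[],[.base 452,.edge 34 false]⟩,
⟨642,0,33,0,true,[],[.base 648,.edge 36 false]⟩,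
⟨8,0,33,0,true,[],[.base 424,.edge 37 false]⟩,
⟨650,0,33,0,true,[],[.base 642,.edge 38 false]⟩,
⟨10,0,33,0,true,[],[.base 24,.edge 39 false]⟩,
⟨490,0,33,0,true,[],[.base 650,.edge 40 false]⟩,
⟨42,0,33,0,true,[],[.base 490,.edge 42 false]⟩,
⟨4,1,33,0,true,[],[.edge 1 false]⟩,
⟨0,2,33,0,true,[],[.edge 44 true]⟩,
⟨2,1,33,0,true,[],[.eqn 35 true,.edge 44 false]⟩,
⟨2,2,33,0,true,[],[.edge 2 false]⟩,
⟨0,3,33,0,true,[],[.edge 47 true]⟩,
⟨480,3,32,0,true,[],[.edge 3 false]⟩,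
⟨0,4,31,0,true,[],[.edge 49 false]⟩,
⟨384,4,32,0,true,[],[.edge 4 false]⟩,
⟨384,5,32,0,true,[],[.edge 5 false]⟩,
⟨0,6,31,0,true,[],[.edge 52 false]⟩,
⟨2,5,31,0,true,[],[.edge 6 false]⟩,
⟨0,7,32,0,true,[],[.edge 54 false]⟩,
⟨0,0,29,17,true,[.code,.edge 20 false,.code,.edge 44 false,.code,.edge 47 false,.code,.edge 49 false,.code,.edge 51 false,.code,.edge 52 false,.code,.edge 53 false,.code,.edge 54 false,.code],[.code]⟩,
⟨384,7,31,0,true,[],[.edge 56 false]⟩,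
⟨0,0,32,0,true,[],[.edge 57 false]⟩,
⟨2,0,32,0,true,[],[.base 0,.edge 58 false]⟩,
⟨384,0,32,0,true,[],[.base 0,.edge 58 false]⟩,
⟨386,0,32,0,true,[],[.base 2,.edge 59 false]⟩,
⟨0,0,1,1,true,[.code],[.code,.edge 59 false,.code]⟩,
⟨0,0,31,0,true,[],[.edge 62 false]⟩,
⟨386,7,32,0,true,[],[.edge 63 false]⟩,
⟨2,0,31,0,true,[],[.base 0,.edge 63 false]⟩,
⟨384,0,31,0,true,[],[.base 0,.edge 63 false]⟩,
⟨386,0,31,0,true,[],[.base 2,.edge 65 false]⟩,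
⟨514,0,31,0,true,[],[.base 2,.edge 65 false]⟩,
⟨482,0,31,0,true,[],[.base 514,.edge 68 false]⟩,
⟨0,0,4,1,true,[.edge 33 false],[.code,.edge 26 false]⟩,
⟨0,1,32,0,true,[],[.edge 70 false]⟩,
⟨0,1,31,0,true,[],[.edge 71 false]⟩,
⟨0,0,14,3,true,[.code,.edge 43 false,.code],[.code,.edge 41 false,.code]⟩,
⟨76,1,33,0,true,[],[.edge 73 false]⟩,
⟨0,0,15,2,true,[.code,.edge 58 false],[.code,.edge 33 false,.code,.edge 71 false,.edge 71 false,.code]⟩,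
⟨448,7,33,0,true,[],[.edge 75 false]⟩,
⟨32,1,33,0,true,[],[.edge 76 true]⟩,
⟨0,1,1,3,true,[.code,.edge 72 false,.code],[.code]⟩,
⟨2,1,31,0,true,[],[.edge 78 false]⟩,
⟨2,1,32,0,true,[],[.edge 79 false]⟩,
⟨0,1,4,2,false,[.edge 21 false,.edge 60 false],[.code,.edge 77 false]⟩,
⟨32,7,30,0,false,[],[.eqn 81 true]⟩,
⟨64,7,30,0,false,[],[.eqn 82 false,.eqn 82 false]⟩,
⟨0,1,5,2,true,[.edge 21 false,.edge 66 false],[.code]⟩,
⟨418,7,33,0,true,[],[.edge 84 false]⟩,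
⟨64,1,33,0,true,[],[.edge 85 true]⟩,
⟨0,1,12,3,true,[.code,.edge 74 false,.edge 72 false],[.code]⟩,
⟨12,1,33,0,true,[],[.edge 87 false]⟩,
⟨0,1,15,4,true,[.code,.edge 71 false,.edge 86 false,.code],[.code,.edge 21 false,.code,.edge 60 false]⟩,
⟨386,7,31,0,true,[],[.edge 89 false]⟩,
⟨384,7,32,0,true,[],[.edge 90 false]⟩,
⟨2,1,3,4,true,[.edge 80 false,.code,.edge 46 false,.code],[.edge 46 false]⟩,
⟨0,2,31,0,true,[],[.edge 92 false]⟩,
⟨6,1,14,3,false,[.code,.edge 77 false,.code],[.code,.edge 88 false,.code,.edge 77 false]⟩,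
⟨910,7,30,0,false,[],[.eqn 94 true]⟩,
⟨878,7,30,0,false,[],[.eqn 82 false,.eqn 95 false]⟩,
⟨1317,7,30,0,false,[],[.eqn 95 false,.eqn 82 false]⟩,
⟨1269,7,30,0,false,[],[.eqn 95 false,.eqn 95 false]⟩,
⟨1301,7,30,0,false,[],[.eqn 96 false,.eqn 95 false]⟩,
⟨82,7,30,0,false,[],[.eqn 97 false,.eqn 95 false]⟩,
⟨2,7,30,0,false,[],[.eqn 98 false,.eqn 95 false]⟩,
⟨1721,7,30,0,false,[],[.eqn 99 false,.eqn 82 false]⟩,
⟨956,7,30,0,false,[],[.eqn 100 false,.eqn 95 false]⟩,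
⟨908,7,30,0,false,[],[.eqn 101 false,.eqn 95 false]⟩,
⟨1643,7,30,0,false,[],[.eqn 102 false,.eqn 95 false]⟩,
⟨1287,7,30,0,false,[],[.eqn 103 false,.eqn 82 false]⟩,
⟨1255,7,30,0,false,[],[.eqn 104 false,.eqn 95 false]⟩,
⟨546,7,32,0,true,[],[.eqn 106 true,.edge 55 false]⟩,
⟨482,7,32,0,true,[],[.eqn 83 true,.edge 108 false]⟩,
⟨514,7,32,0,true,[],[.eqn 83 true,.edge 109 false]⟩,
⟨2,7,32,0,true,[],[.eqn 105 true,.edge 109 false]⟩,
⟨0,2,1,3,true,[.code,.edge 93 false,.code],[.code]⟩,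
⟨2,2,31,0,true,[],[.edge 112 false]⟩,
⟨2,2,32,0,true,[],[.edge 113 false]⟩,
⟨0,3,4,4,false,[.edge 48 false,.edge 114 false,.edge 47 false,.code],[]⟩,
⟨320,3,30,0,false,[],[.eqn 115 true]⟩,
⟨224,3,30,0,false,[],[.eqn 116 false,.eqn 116 false]⟩,
⟨32,3,33,0,true,[],[.eqn 117 true,.edge 48 false]⟩,
⟨64,3,33,0,true,[],[.eqn 117 true,.edge 118 false]⟩]

/-- Deductions. -/
def c0_1 : List Step := [
⟨482,3,1,1,true,[.code],[.code,.edge 49 false,.code]⟩,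
⟨482,3,31,0,true,[],[.edge 120 false]⟩,
⟨2,4,32,0,true,[],[.edge 121 false]⟩,
⟨386,4,1,1,true,[.code],[.code,.edge 51 false,.code]⟩,
⟨386,4,31,0,true,[],[.edge 123 false]⟩,
⟨387,4,0,2,true,[.edge 124 false,.edge 54 false],[]⟩,
⟨0,7,31,0,true,[],[.edge 125 false]⟩,
⟨386,4,32,0,true,[],[.edge 126 false]⟩,
⟨546,7,31,0,true,[],[.eqn 106 true,.edge 126 false]⟩,
⟨482,7,31,0,true,[],[.eqn 83 true,.edge 128 false]⟩,
⟨514,7,31,0,true,[],[.eqn 83 true,.edge 129 false]⟩,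
⟨2,7,31,0,true,[],[.eqn 105 true,.edge 129 false]⟩,
⟨512,7,31,0,true,[],[.eqn 95 true,.edge 130 false]⟩,
⟨544,7,31,0,true,[],[.eqn 106 true,.edge 131 false]⟩,
⟨544,7,31,0,true,[],[.eqn 83 true,.edge 132 false]⟩,
⟨1561,4,32,0,false,[],[.edge 134 false,.edge 133 false]⟩,
⟨82,4,30,0,false,[],[.eqn 135 true]⟩,
⟨32,4,30,0,false,[],[.eqn 136 false,.eqn 136 false]⟩,
⟨18,4,30,0,false,[],[.eqn 137 false,.eqn 136 false]⟩,
⟨64,4,30,0,false,[],[.eqn 138 false,.eqn 136 false]⟩,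
⟨50,4,30,0,false,[],[.eqn 139 false,.eqn 136 false]⟩,
⟨2,4,31,0,true,[],[.eqn 136 true,.edge 50 false]⟩,
⟨0,4,32,0,true,[],[.eqn 136 true,.edge 122 false]⟩,
⟨390,4,1,1,false,[.code],[.code,.edge 127 false,.code,.edge 111 false]⟩,
⟨0,5,30,0,false,[],[.eqn 143 true]⟩,
⟨384,4,31,0,true,[],[.eqn 144 true,.edge 54 false]⟩,
⟨480,3,0,0,true,[],[.edge 49 false,.edge 142 false]⟩,
⟨480,3,31,0,true,[],[.edge 146 false]⟩,
⟨482,3,32,0,true,[],[.edge 147 false]⟩,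
⟨4,3,33,0,true,[],[.edge 7 false]⟩,
⟨40,3,33,0,true,[],[.eqn 117 true,.edge 149 false]⟩,
⟨78,3,33,0,true,[],[.eqn 117 true,.edge 150 false]⟩,
⟨2,8,33,0,true,[],[.edge 8 false]⟩,
⟨497,3,29,5,true,[.code,.edge 149 false,.code,.edge 152 false,.code],[.code,.edge 49 false,.code,.edge 51 false,.eqn 144 false,.code,.edge 142 false,.code,.edge 121 false,.code,.edge 145 false,.code,.edge 90 false,.code]⟩,
⟨2,9,33,0,true,[],[.edge 153 false]⟩,
⟨32,7,33,0,true,[],[.edge 154 true]⟩,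
⟨64,7,33,0,true,[],[.eqn 83 true,.edge 155 false]⟩,
⟨622,7,33,0,true,[],[.eqn 107 true,.edge 155 false]⟩,
⟨0,7,33,0,true,[],[.eqn 83 true,.edge 156 false]⟩,
⟨740,7,33,0,true,[],[.eqn 107 true,.edge 156 false]⟩,
⟨590,7,33,0,true,[],[.eqn 83 true,.edge 157 false]⟩,
⟨676,7,33,0,true,[],[.eqn 107 true,.edge 157 false]⟩,
⟨676,7,33,0,true,[],[.eqn 83 true,.edge 159 false]⟩,
⟨281,9,33,0,false,[],[.edge 162 true,.edge 161 false]⟩,
⟨488,7,33,0,true,[],[.eqn 107 true,.edge 159 false]⟩,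
⟨2,7,33,0,true,[],[.eqn 107 true,.edge 160 false]⟩,
⟨34,7,33,0,true,[],[.eqn 107 true,.edge 161 false]⟩,
⟨102,9,30,0,false,[],[.eqn 163 true]⟩,
⟨66,7,33,0,true,[],[.eqn 107 true,.edge 164 false]⟩,
⟨556,7,33,0,true,[],[.eqn 107 true,.edge 165 false]⟩,
⟨746,7,33,0,true,[],[.eqn 107 true,.edge 168 false]⟩,
⟨582,7,33,0,true,[],[.eqn 107 true,.edge 169 false]⟩,
⟨386,4,27,4,true,[.code,.edge 127 false,.code,.edge 156 false],[.code,.edge 127 false,.edge 155 false]⟩,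
⟨2,9,31,0,true,[],[.edge 172 false]⟩,
⟨2,9,32,0,true,[],[.edge 173 false]⟩,
⟨386,4,28,8,true,[.code,.edge 127 false,.edge 158 false,.code,.edge 173 false,.code,.edge 173 false,.code],[.code]⟩,
⟨66,9,33,0,true,[],[.edge 175 false]⟩,
⟨386,4,33,0,true,[],[.edge 176 true]⟩,
⟨418,4,33,0,true,[],[.eqn 137 true,.edge 177 false]⟩,
⟨450,4,33,0,true,[],[.eqn 137 true,.edge 178 false]⟩,
⟨0,4,33,0,true,[],[.edge 9 false]⟩,
⟨0,10,33,0,true,[],[.edge 180 true]⟩,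
⟨66,4,33,0,true,[],[.eqn 140 true,.edge 180 false]⟩,
⟨32,4,33,0,true,[],[.eqn 140 true,.edge 182 false]⟩,
⟨2,4,33,0,true,[],[.eqn 140 true,.edge 183 false]⟩,
⟨386,4,29,3,true,[.code,.edge 180 false,.code],[.code,.edge 127 false,.code,.edge 64 false,.code,.edge 61 false,.code,.edge 57 false,.code,.edge 67 false,.code,.edge 131 false,.code,.edge 184 false,.code]⟩,
⟨4,10,33,0,true,[],[.edge 185 false]⟩,
⟨392,4,16,6,true,[.code,.edge 179 false,.code,.edge 174 false,.edge 174 false,.code],[.code,.edge 127 false,.code,.edge 55 false,.eqn 144 false]⟩,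
⟨34,9,33,0,true,[],[.edge 187 false]⟩,
⟨384,4,33,0,true,[],[.edge 188 true]⟩,
⟨402,4,29,3,true,[.code,.edge 180 false,.code],[.code,.edge 127 false,.code,.edge 91 false,.code,.edge 55 false,.eqn 144 false,.code,.edge 145 false,.code,.edge 57 false,.code,.edge 66 false,.code,.edge 166 false,.code]⟩,
⟨2,10,33,0,true,[],[.edge 190 false]⟩,
⟨10,9,33,0,true,[],[.edge 191 true]⟩,
⟨12,9,33,0,true,[],[.eqn 167 true,.edge 192 false]⟩,
⟨776,4,29,1,false,[.code],[.code,.edge 127 false,.code,.edge 91 false,.code,.edge 110 false,.eqn 144 false,.code,.edge 145 false,.code,.edge 57 false,.code,.edge 69 false,.code,.edge 170 false,.code,.edge 193 false,.code,.edge 181 false]⟩,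
⟨876,4,30,0,false,[],[.eqn 194 true]⟩,
⟨926,4,30,0,false,[],[.eqn 136 false,.eqn 195 false]⟩,
⟨894,4,30,0,false,[],[.eqn 138 false,.eqn 195 false]⟩,
⟨480,4,32,0,true,[],[.eqn 196 true,.edge 142 false]⟩,
⟨482,4,32,0,true,[],[.eqn 196 true,.edge 122 false]⟩,
⟨492,4,33,0,true,[],[.eqn 197 true,.edge 180 false]⟩,
⟨488,4,33,0,true,[],[.eqn 197 true,.edge 184 false]⟩,
⟨676,4,33,0,true,[],[.eqn 197 true,.edge 182 false]⟩,
⟨394,4,33,0,true,[],[.eqn 195 true,.edge 189 false]⟩,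
⟨544,4,32,0,true,[],[.eqn 140 true,.edge 199 false]⟩,
⟨426,4,33,0,true,[],[.eqn 137 true,.edge 203 false]⟩,
⟨514,4,32,0,true,[],[.eqn 140 true,.edge 204 false]⟩,
⟨422,4,33,0,true,[],[.eqn 195 true,.edge 205 false]⟩,
⟨778,4,14,3,true,[.code,.edge 207 false,.code],[.code,.edge 189 false,.code]⟩,
⟨14,9,33,0,true,[],[.edge 208 false]⟩,
⟨778,4,24,4,false,[.code,.edge 51 false,.eqn 144 false,.edge 127 false,.code],[.edge 203 false,.edge 174 false,.code,.edge 174 false,.code,.edge 154 false]⟩,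
⟨23,7,30,0,false,[],[.eqn 210 true]⟩,
⟨42,7,33,0,true,[],[.eqn 211 true,.edge 155 false]⟩,
⟨588,7,33,0,true,[],[.eqn 211 true,.edge 171 false]⟩,
⟨750,7,33,0,true,[],[.eqn 211 true,.edge 170 false]⟩,
⟨10,7,33,0,true,[],[.eqn 107 true,.edge 213 false]⟩,
⟨482,7,33,0,true,[],[.eqn 107 true,.edge 214 false]⟩,
⟨490,4,33,0,true,[],[.edge 10 false]⟩,
⟨0,11,33,0,true,[],[.edge 217 true]⟩,
⟨558,4,33,0,true,[],[.eqn 140 true,.edge 217 false]⟩]

/-- Deductions. -/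
def c0_2 : List Step := [
⟨522,4,33,0,true,[],[.eqn 140 true,.edge 219 false]⟩,
⟨640,4,33,0,true,[],[.eqn 197 true,.edge 219 false]⟩,
⟨748,4,33,0,true,[],[.eqn 197 true,.edge 220 false]⟩,
⟨584,4,33,0,true,[],[.eqn 140 true,.edge 221 false]⟩,
⟨706,4,33,0,true,[],[.eqn 140 true,.edge 222 false]⟩,
⟨38,4,33,0,true,[],[.eqn 197 true,.edge 223 false]⟩,
⟨616,4,33,0,true,[],[.eqn 197 true,.edge 224 false]⟩,
⟨576,4,33,0,true,[],[.eqn 197 true,.edge 225 false]⟩,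
⟨480,4,33,0,true,[],[.edge 11 false]⟩,
⟨548,4,33,0,true,[],[.eqn 140 true,.edge 228 false]⟩,
⟨14,4,33,0,true,[],[.eqn 197 true,.edge 228 false]⟩,
⟨650,4,33,0,true,[],[.eqn 197 true,.edge 229 false]⟩,
⟨76,4,33,0,true,[],[.eqn 140 true,.edge 230 false]⟩,
⟨578,4,33,0,true,[],[.eqn 140 true,.edge 231 false]⟩,
⟨678,4,33,0,true,[],[.eqn 197 true,.edge 232 false]⟩,
⟨44,4,33,0,true,[],[.eqn 197 true,.edge 233 false]⟩,
⟨586,4,33,0,true,[],[.eqn 197 true,.edge 235 false]⟩,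
⟨482,4,33,0,true,[],[.edge 12 false]⟩,
⟨550,4,33,0,true,[],[.eqn 140 true,.edge 237 false]⟩,
⟨10,4,33,0,true,[],[.eqn 197 true,.edge 237 false]⟩,
⟨644,4,33,0,true,[],[.eqn 197 true,.edge 238 false]⟩,
⟨72,4,33,0,true,[],[.eqn 140 true,.edge 239 false]⟩,
⟨588,4,33,0,true,[],[.eqn 140 true,.edge 240 false]⟩,
⟨686,4,33,0,true,[],[.eqn 197 true,.edge 241 false]⟩,
⟨612,4,33,0,true,[],[.eqn 140 true,.edge 242 false]⟩,
⟨74,4,33,0,true,[],[.eqn 197 true,.edge 243 false]⟩,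
⟨672,4,33,0,true,[],[.eqn 197 true,.edge 245 false]⟩,
⟨864,4,4,1,true,[.edge 228 false],[.code,.edge 227 false]⟩,
⟨0,12,32,0,true,[],[.edge 247 false]⟩,
⟨0,11,31,0,true,[],[.edge 248 false]⟩,
⟨864,4,5,1,true,[.edge 228 false],[.code,.edge 246 false]⟩,
⟨0,12,31,0,true,[],[.edge 250 false]⟩,
⟨0,13,32,0,true,[],[.edge 251 false]⟩,
⟨864,4,13,2,true,[.code,.edge 217 false],[.code,.edge 242 false]⟩,
⟨0,11,32,0,true,[],[.edge 253 false]⟩,
⟨0,13,31,0,true,[],[.edge 254 false]⟩,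
⟨864,4,14,3,true,[.code,.edge 236 false,.code],[.code,.edge 217 false,.code]⟩,
⟨76,12,33,0,true,[],[.edge 256 false]⟩,
⟨10,11,33,0,true,[],[.edge 257 true]⟩,
⟨864,4,15,2,true,[.code,.edge 198 false],[.code,.edge 228 false,.code,.edge 248 false,.edge 254 false,.code]⟩,
⟨676,3,33,0,true,[],[.edge 259 false]⟩,
⟨580,3,33,0,true,[],[.eqn 117 true,.edge 260 false]⟩,
⟨484,3,33,0,true,[],[.eqn 117 true,.edge 261 false]⟩,
⟨864,4,16,6,true,[.code,.edge 234 false,.code,.edge 248 false,.edge 254 false,.code],[.code,.edge 198 false,.code,.edge 148 false]⟩,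
⟨64,13,33,0,true,[],[.edge 263 false]⟩,
⟨492,3,33,0,true,[],[.edge 264 true]⟩,
⟨684,3,33,0,true,[],[.eqn 117 true,.edge 265 false]⟩,
⟨864,4,25,6,true,[.edge 198 false,.edge 148 false,.code,.edge 266 false,.code,.edge 255 false],[.edge 198 false,.code,.edge 148 false,.code]⟩,
⟨64,11,33,0,true,[],[.edge 267 false]⟩,
⟨586,3,33,0,true,[],[.edge 268 true]⟩,
⟨490,3,33,0,true,[],[.eqn 117 true,.edge 269 false]⟩,
⟨865,4,3,2,true,[.edge 198 false,.code],[.edge 228 false,.edge 248 false,.code]⟩,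
⟨590,3,33,0,true,[],[.edge 271 false]⟩,
⟨32,11,33,0,true,[],[.edge 272 true]⟩,
⟨494,3,33,0,true,[],[.eqn 117 true,.edge 272 false]⟩,
⟨865,4,27,5,true,[.code,.edge 198 false,.code,.edge 272 false,.edge 249 false],[.code,.edge 198 false]⟩,
⟨32,12,33,0,true,[],[.edge 275 false]⟩,
⟨488,3,33,0,true,[],[.edge 276 true]⟩,
⟨868,4,7,2,true,[.code,.edge 201 false],[.code,.edge 202 false]⟩,
⟨0,10,31,0,true,[],[.edge 278 false]⟩,
⟨0,10,32,0,true,[],[.edge 279 false]⟩,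
⟨868,4,14,3,true,[.code,.edge 223 false,.code],[.code,.edge 201 false,.code]⟩,
⟨76,11,33,0,true,[],[.edge 281 false]⟩,
⟨868,4,25,3,true,[.edge 199 false,.edge 148 false,.code],[.edge 199 false,.code,.edge 148 false,.code,.edge 266 false,.edge 252 false,.code]⟩,
⟨486,3,33,0,true,[],[.edge 283 false]⟩,
⟨678,3,33,0,true,[],[.eqn 117 true,.edge 284 false]⟩,
⟨582,3,33,0,true,[],[.eqn 117 true,.edge 285 false]⟩,
⟨876,4,3,2,true,[.edge 198 false,.code],[.edge 200 false,.edge 280 false,.code]⟩,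
⟨578,3,33,0,true,[],[.edge 287 false]⟩,
⟨482,3,33,0,true,[],[.eqn 117 true,.edge 288 false]⟩,
⟨0,7,14,3,true,[.code,.edge 212 false,.code],[.code,.edge 215 false,.code]⟩,
⟨78,9,33,0,true,[],[.edge 290 false]⟩,
⟨8,9,33,0,true,[],[.edge 291 true]⟩,
⟨0,7,21,6,true,[.code,.edge 212 false,.code,.edge 174 false,.code,.edge 173 false],[.edge 158 false,.code,.edge 292 false,.code]⟩,
⟨68,9,33,0,true,[],[.edge 293 false]⟩,
⟨2,3,12,2,true,[.code,.edge 151 false],[.code,.edge 150 false]⟩,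
⟨0,8,31,0,true,[],[.edge 295 false]⟩,
⟨480,3,14,3,true,[.code,.edge 269 false,.code],[.code,.edge 270 false,.code]⟩,
⟨44,11,33,0,true,[],[.edge 297 false]⟩,
⟨74,11,33,0,true,[],[.edge 298 true]⟩,
⟨482,3,17,4,true,[.code,.edge 277 false,.edge 248 false,.code],[.code,.edge 289 false,.edge 280 false,.code,.edge 280 false,.code]⟩,
⟨42,11,33,0,true,[],[.edge 300 false]⟩,
⟨484,3,17,4,true,[.code,.edge 274 false,.edge 254 false,.code],[.code,.edge 262 false,.edge 252 false,.code,.edge 248 false,.code]⟩,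
⟨42,13,33,0,true,[],[.edge 302 false]⟩,
⟨12,11,33,0,true,[],[.edge 303 true]⟩,
⟨484,3,21,6,true,[.code,.edge 288 false,.code,.edge 280 false,.code,.edge 279 false],[.edge 262 false,.code,.edge 303 false,.code]⟩,
⟨6,10,33,0,true,[],[.edge 305 false]⟩,
⟨6,11,33,0,true,[],[.edge 306 true]⟩,
⟨490,3,21,6,true,[.code,.edge 286 false,.code,.edge 248 false,.code,.edge 249 false],[.edge 270 false,.code,.edge 299 false,.code]⟩,
⟨38,12,33,0,true,[],[.edge 308 false]⟩,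
⟨38,11,33,0,true,[],[.edge 309 true]⟩,
⟨0,8,1,3,true,[.code,.edge 296 false,.code],[.code]⟩,
⟨2,8,31,0,true,[],[.edge 311 false]⟩,
⟨2,8,32,0,true,[],[.edge 312 false]⟩,
⟨2,8,3,4,true,[.edge 313 false,.code,.edge 152 false,.code],[.edge 152 false]⟩,
⟨0,9,31,0,true,[],[.edge 314 false]⟩,
⟨0,9,32,0,true,[],[.edge 315 false]⟩,
⟨2,8,4,2,true,[.edge 152 false,.edge 316 false],[.code]⟩,
⟨64,9,33,0,true,[],[.edge 317 false]⟩,
⟨514,11,32,0,true,[],[.edge 13 false]⟩]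

/-- Deductions. -/
def c0_3 : List Step := [
⟨0,14,31,0,true,[],[.edge 319 false]⟩,
⟨384,14,32,0,true,[],[.edge 14 false]⟩,
⟨0,15,31,0,true,[],[.edge 321 false]⟩,
⟨384,15,32,0,true,[],[.edge 15 false]⟩,
⟨0,16,31,0,true,[],[.edge 323 false]⟩,
⟨97,7,29,14,false,[.code,.edge 216 false,.code,.edge 192 false,.code,.edge 306 false,.code,.edge 319 false,.code,.edge 321 false,.code,.edge 323 false,.code,.edge 324 false],[.code,.edge 55 false,.eqn 144 false,.code,.edge 204 false,.code]⟩,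
⟨0,15,30,0,false,[],[.eqn 325 false]⟩,
⟨480,3,31,0,true,[],[.eqn 326 true,.edge 322 false]⟩,
⟨1213,14,32,0,false,[],[.edge 327 false,.edge 147 false]⟩,
⟨512,3,32,0,true,[],[.eqn 326 true,.edge 323 false]⟩,
⟨384,3,32,0,true,[],[.eqn 117 true,.edge 329 false]⟩,
⟨0,14,30,0,false,[],[.eqn 328 false]⟩,
⟨386,3,31,0,true,[],[.eqn 331 true,.edge 320 false]⟩,
⟨546,3,31,0,true,[],[.eqn 117 true,.edge 332 false]⟩,
⟨512,11,1,1,false,[.code],[.code,.edge 319 false,.eqn 331 false,.code,.edge 330 false]⟩,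
⟨0,16,30,0,false,[],[.eqn 334 true]⟩,
⟨512,11,31,0,true,[],[.eqn 335 true,.edge 324 false,.eqn 326 false]⟩,
⟨46,11,33,0,true,[],[.edge 16 false]⟩,
⟨0,17,33,0,true,[],[.edge 337 true]⟩,
⟨4,17,33,0,true,[],[.edge 17 false]⟩,
⟨0,18,33,0,true,[],[.edge 339 true]⟩,
⟨2,18,33,0,true,[],[.edge 18 false]⟩,
⟨0,19,33,0,true,[],[.edge 341 true]⟩,
⟨527,11,29,7,true,[.code,.edge 337 false,.code,.edge 339 false,.code,.edge 341 false,.code],[.code,.edge 319 false,.eqn 331 false,.code,.edge 49 false,.code,.edge 51 false,.eqn 144 false,.code,.edge 124 false,.eqn 144 false,.code,.edge 141 false,.code]⟩,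
⟨480,19,32,0,true,[],[.edge 343 false]⟩,
⟨544,3,31,0,true,[],[.edge 344 false]⟩,
⟨512,3,31,0,true,[],[.eqn 117 true,.edge 345 false]⟩,
⟨528,11,0,2,true,[.edge 336 false,.edge 346 false],[]⟩,
⟨480,19,31,0,true,[],[.edge 347 false]⟩,
⟨512,11,32,0,true,[],[.edge 348 false]⟩,
⟨530,11,1,1,true,[.code],[.code,.edge 349 false,.code]⟩,
⟨514,11,31,0,true,[],[.edge 350 false]⟩,
⟨531,11,0,1,true,[.edge 351 false],[.edge 319 false,.eqn 331 false]⟩,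
⟨482,19,31,0,true,[],[.edge 352 false]⟩,
⟨386,3,32,0,true,[],[.edge 353 false]⟩,
⟨546,3,32,0,true,[],[.eqn 117 true,.edge 354 false]⟩,
⟨514,3,32,0,true,[],[.eqn 117 true,.edge 355 false]⟩,
⟨543,11,29,3,true,[.code,.edge 337 false,.code],[.code,.edge 319 false,.eqn 331 false,.code,.edge 148 false,.code,.edge 356 false,.code,.edge 353 false,.code,.edge 121 false,.code,.edge 124 false,.eqn 144 false,.code,.edge 244 false,.code]⟩,
⟨2,17,33,0,true,[],[.edge 357 false]⟩,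
⟨546,11,32,0,true,[],[.edge 19 false]⟩,
⟨0,20,31,0,true,[],[.edge 359 false]⟩,
⟨569,11,29,17,false,[.code,.edge 282 false,.code,.edge 186 false,.code,.edge 181 false,.code,.edge 206 false,.code,.edge 330 false,.eqn 335 false,.code,.edge 359 false,.code,.edge 360 false,.code,.edge 351 false,.code],[.code,.edge 359 false]⟩,
⟨0,20,30,0,false,[],[.eqn 361 true]⟩,
⟨512,19,31,0,true,[],[.eqn 362 true,.edge 360 false]⟩,
⟨570,11,1,1,true,[.code],[.code,.edge 359 false,.eqn 362 false,.code]⟩,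
⟨544,11,31,0,true,[],[.edge 364 false]⟩,
⟨622,11,29,7,false,[.code,.edge 301 false,.code,.edge 191 false,.code,.edge 209 false,.code],[.code,.edge 359 false,.eqn 362 false,.code,.edge 344 false,.code,.edge 49 false,.code,.edge 50 false,.code,.edge 333 false,.code,.edge 365 false]⟩,
⟨0,19,30,0,false,[],[.eqn 366 true]⟩,
⟨384,9,31,0,true,[],[.eqn 367 true,.edge 348 false]⟩,
⟨482,9,31,0,true,[],[.eqn 367 true,.edge 363 false]⟩,
⟨34,9,33,0,true,[],[.eqn 367 true,.edge 342 false]⟩,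
⟨116,18,33,0,false,[],[.edge 370 true,.edge 188 false]⟩,
⟨482,9,31,0,true,[],[.eqn 167 true,.edge 368 false]⟩,
⟨1895,11,32,0,false,[],[.edge 372 false,.edge 369 false]⟩,
⟨0,18,30,0,false,[],[.eqn 371 false]⟩,
⟨386,4,33,0,true,[],[.eqn 374 true,.edge 340 false]⟩,
⟨98,17,33,0,false,[],[.edge 375 true,.edge 177 false]⟩,
⟨103,11,30,0,false,[],[.eqn 373 true]⟩,
⟨6,11,33,0,true,[],[.eqn 377 true,.edge 218 false]⟩,
⟨1451,4,33,0,false,[],[.edge 378 true,.edge 307 false]⟩,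
⟨12,11,33,0,true,[],[.eqn 377 true,.edge 258 false]⟩,
⟨77,12,33,0,false,[],[.edge 380 true,.edge 304 false]⟩,
⟨42,11,33,0,true,[],[.eqn 377 true,.edge 273 false]⟩,
⟨1080,3,33,0,false,[],[.edge 382 true,.edge 301 false]⟩,
⟨44,11,33,0,true,[],[.eqn 377 true,.edge 310 false]⟩,
⟨342,12,33,0,false,[],[.edge 384 true,.edge 298 false]⟩,
⟨76,11,33,0,true,[],[.eqn 377 true,.edge 268 false]⟩,
⟨1258,3,33,0,false,[],[.edge 386 true,.edge 282 false]⟩,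
⟨0,17,30,0,false,[],[.eqn 376 false]⟩,
⟨64,9,33,0,true,[],[.eqn 388 true,.edge 338 false]⟩,
⟨184,11,33,0,false,[],[.edge 389 true,.edge 318 false]⟩,
⟨68,9,33,0,true,[],[.eqn 388 true,.edge 358 false]⟩,
⟨372,13,33,0,false,[],[.edge 391 true,.edge 294 false]⟩,
⟨0,10,30,0,false,[],[.eqn 379 true]⟩,
⟨0,13,30,0,false,[],[.eqn 381 true]⟩,
⟨1080,3,30,0,false,[],[.eqn 383 false,.eqn 393 false]⟩,
⟨0,4,30,0,false,[],[.eqn 395 true]⟩,
⟨512,3,31,0,true,[],[.eqn 396 true,.edge 50 false]⟩,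
⟨1754,3,32,0,false,[],[.edge 397 false,.edge 346 false]⟩,
⟨0,3,31,0,true,[],[.eqn 396 true,.edge 145 false]⟩,
⟨2,3,31,0,true,[],[.eqn 396 true,.edge 124 false,.eqn 144 false,.eqn 396 false]⟩,
⟨64,3,33,0,true,[],[.eqn 396 true,.edge 203 false]⟩,
⟨51,9,33,0,false,[],[.edge 401 true,.edge 119 false]⟩,
⟨556,3,33,0,true,[],[.eqn 396 true,.edge 226 false]⟩,
⟨0,12,30,0,false,[],[.eqn 385 false]⟩,
⟨1258,3,30,0,false,[],[.eqn 387 false,.eqn 393 false,.eqn 396 false]⟩,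
⟨21,3,30,0,false,[],[.eqn 405 true]⟩,
⟨2,3,31,0,true,[],[.eqn 406 true,.edge 399 false]⟩,
⟨285,7,32,0,false,[],[.edge 407 false,.edge 400 false]⟩,
⟨0,11,30,0,false,[],[.eqn 390 false]⟩,
⟨372,13,30,0,false,[.eqn 394 false,.eqn 404 false,.eqn 409 false],[.eqn 392 false]⟩,
⟨0,9,30,0,false,[],[.eqn 410 true]⟩,
⟨1754,3,30,0,false,[],[.eqn 398 false,.eqn 367 false,.eqn 411 false]⟩,
⟨0,8,30,0,false,[],[.eqn 412 true]⟩,
⟨51,9,30,0,false,[.eqn 411 false,.eqn 413 false],[.eqn 402 false]⟩,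
⟨0,3,30,0,false,[],[.eqn 414 false]⟩,
⟨384,2,31,0,true,[],[.eqn 415 true,.edge 147 false,.eqn 415 false]⟩,
⟨0,2,33,0,true,[],[.eqn 415 true,.edge 403 false,.eqn 409 false,.eqn 413 false,.eqn 415 false]⟩,
⟨253,2,33,0,false,[],[.edge 417 true,.edge 45 false]⟩,
⟨285,7,30,0,false,[],[.eqn 408 false,.eqn 415 false]⟩]

/-- Deductions. -/
def c0_4 : List Step := [
⟨0,7,30,0,false,[],[.eqn 419 false]⟩,
⟨384,2,31,0,true,[],[.eqn 420 true,.edge 57 false]⟩,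
⟨154,0,32,0,false,[],[.edge 421 false,.edge 416 false]⟩,
⟨0,2,30,0,false,[],[.eqn 418 false]⟩,
⟨154,0,30,0,false,[],[.eqn 422 false,.eqn 423 false]⟩,
⟨0,1,30,0,false,[],[.eqn 424 true]⟩]

/-- All deductions. -/
def c0_ : List Step :=
  List.flatten [c0_0,c0_1,c0_2,c0_3,c0_4]

/-- A collapsing certificate. -/
def p0 : Proto := ⟨d0, c0_⟩

/-- Its last walk. -/
def m0 : List Mv := [.edge 63 false,.eqn 420 false,.eqn 423 false,.eqn 425 false]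

/-- Node definitions. -/
def d1 : List NDef := [⟨2,768,0⟩,⟨2,2,1⟩,⟨2,100,2⟩,⟨1,480,3⟩,⟨1,384,4⟩,⟨1,384,5⟩,⟨0,2,5⟩,⟨2,4,3⟩,⟨2,98,8⟩,⟨2,97,4⟩,⟨2,491,4⟩,⟨2,2,11⟩,
⟨2,497,4⟩,⟨2,2,13⟩,⟨2,498,4⟩,⟨2,2,15⟩,⟨2,98,11⟩,⟨2,98,13⟩,⟨2,98,15⟩,⟨1,757,11⟩,⟨1,384,20⟩,⟨1,384,21⟩,⟨1,747,22⟩,⟨0,270,22⟩,
⟨2,72,11⟩,⟨2,85,15⟩,⟨2,100,26⟩,⟨2,98,25⟩,⟨1,1058,11⟩,⟨1,384,29⟩]

/-- Deductions. -/
def c1_0 : List Step := [
⟨384,0,33,0,true,[],[.edge 0 false]⟩,
⟨0,1,33,0,true,[],[.edge 30 true]⟩,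
⟨64,0,33,0,true,[],[.base 384,.edge 30 false]⟩,
⟨448,0,33,0,true,[],[.base 384,.edge 30 false]⟩,
⟨66,0,33,0,true,[],[.base 64,.edge 32 false]⟩,
⟨32,0,33,0,true,[],[.base 448,.edge 33 false]⟩,
⟨416,0,33,0,true,[],[.base 448,.edge 33 false]⟩,
⟨386,0,33,0,true,[],[.base 66,.edge 34 false]⟩,
⟨34,0,33,0,true,[],[.base 32,.edge 35 false]⟩,
⟨0,0,33,0,true,[],[.base 416,.edge 36 false]⟩,
⟨452,0,33,0,true,[],[.base 387,.edge 37 false]⟩,
⟨648,0,33,0,true,[],[.base 50,.edge 38 false]⟩,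
⟨424,0,33,0,true,[],[.base 452,.edge 40 false]⟩,
⟨642,0,33,0,true,[],[.base 648,.edge 41 false]⟩,
⟨8,0,33,0,true,[],[.base 424,.edge 42 false]⟩,
⟨650,0,33,0,true,[],[.base 642,.edge 43 false]⟩,
⟨10,0,33,0,true,[],[.base 24,.edge 44 false]⟩,
⟨490,0,33,0,true,[],[.base 650,.edge 45 false]⟩,
⟨42,0,33,0,true,[],[.base 490,.edge 47 false]⟩,
⟨2,1,33,0,true,[],[.edge 1 false]⟩,
⟨2,2,33,0,true,[],[.edge 2 false]⟩,
⟨0,3,33,0,true,[],[.edge 50 true]⟩,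
⟨480,3,32,0,true,[],[.edge 3 false]⟩,
⟨0,4,31,0,true,[],[.edge 52 false]⟩,
⟨384,4,32,0,true,[],[.edge 4 false]⟩,
⟨384,5,32,0,true,[],[.edge 5 false]⟩,
⟨0,6,31,0,true,[],[.edge 55 false]⟩,
⟨2,5,31,0,true,[],[.edge 6 false]⟩,
⟨0,7,32,0,true,[],[.edge 57 false]⟩,
⟨0,0,29,17,true,[.code,.edge 30 false,.code,.edge 49 false,.code,.edge 50 false,.code,.edge 52 false,.code,.edge 54 false,.code,.edge 55 false,.code,.edge 56 false,.code,.edge 57 false,.code],[.code]⟩,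
⟨384,7,31,0,true,[],[.edge 59 false]⟩,
⟨0,0,32,0,true,[],[.edge 60 false]⟩,
⟨2,0,32,0,true,[],[.base 0,.edge 61 false]⟩,
⟨384,0,32,0,true,[],[.base 0,.edge 61 false]⟩,
⟨386,0,32,0,true,[],[.base 2,.edge 62 false]⟩,
⟨0,0,1,1,true,[.code],[.code,.edge 62 false,.code]⟩,
⟨0,0,31,0,true,[],[.edge 65 false]⟩,
⟨386,7,32,0,true,[],[.edge 66 false]⟩,
⟨2,0,31,0,true,[],[.base 0,.edge 66 false]⟩,
⟨384,0,31,0,true,[],[.base 0,.edge 66 false]⟩,
⟨386,0,31,0,true,[],[.base 2,.edge 68 false]⟩,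
⟨514,0,31,0,true,[],[.base 2,.edge 68 false]⟩,
⟨482,0,31,0,true,[],[.base 514,.edge 71 false]⟩,
⟨0,0,4,1,true,[.edge 39 false],[.code,.edge 35 false]⟩,
⟨0,1,32,0,true,[],[.edge 73 false]⟩,
⟨0,1,31,0,true,[],[.edge 74 false]⟩,
⟨0,0,14,3,true,[.code,.edge 48 false,.code],[.code,.edge 46 false,.code]⟩,
⟨76,1,33,0,true,[],[.edge 76 false]⟩,
⟨0,0,15,2,true,[.code,.edge 61 false],[.code,.edge 39 false,.code,.edge 74 false,.edge 74 false,.code]⟩,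
⟨448,7,33,0,true,[],[.edge 78 false]⟩,
⟨32,1,33,0,true,[],[.edge 79 true]⟩,
⟨0,1,1,3,true,[.code,.edge 75 false,.code],[.code]⟩,
⟨2,1,31,0,true,[],[.edge 81 false]⟩,
⟨2,1,32,0,true,[],[.edge 82 false]⟩,
⟨0,1,4,2,false,[.edge 31 false,.edge 63 false],[.code,.edge 80 false]⟩,
⟨32,7,30,0,false,[],[.eqn 84 true]⟩,
⟨64,7,30,0,false,[],[.eqn 85 false,.eqn 85 false]⟩,
⟨0,1,5,2,true,[.edge 31 false,.edge 69 false],[.code]⟩,
⟨418,7,33,0,true,[],[.edge 87 false]⟩,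
⟨64,1,33,0,true,[],[.edge 88 true]⟩,
⟨0,1,12,3,true,[.code,.edge 77 false,.edge 75 false],[.code]⟩,
⟨12,1,33,0,true,[],[.edge 90 false]⟩,
⟨0,1,15,4,true,[.code,.edge 74 false,.edge 89 false,.code],[.code,.edge 31 false,.code,.edge 63 false]⟩,
⟨386,7,31,0,true,[],[.edge 92 false]⟩,
⟨384,7,32,0,true,[],[.edge 93 false]⟩,
⟨2,1,3,4,true,[.edge 83 false,.code,.edge 49 false,.code],[.edge 49 false]⟩,
⟨0,2,31,0,true,[],[.edge 95 false]⟩,
⟨2,1,5,2,true,[.edge 49 false,.edge 96 false],[.code]⟩,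
⟨32,2,33,0,true,[],[.edge 97 false]⟩,
⟨6,1,14,3,false,[.code,.edge 80 false,.code],[.code,.edge 91 false,.code,.edge 80 false]⟩,
⟨910,7,30,0,false,[],[.eqn 99 true]⟩,
⟨878,7,30,0,false,[],[.eqn 85 false,.eqn 100 false]⟩,
⟨1317,7,30,0,false,[],[.eqn 100 false,.eqn 85 false]⟩,
⟨1269,7,30,0,false,[],[.eqn 100 false,.eqn 100 false]⟩,
⟨1301,7,30,0,false,[],[.eqn 101 false,.eqn 100 false]⟩,
⟨82,7,30,0,false,[],[.eqn 102 false,.eqn 100 false]⟩,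
⟨2,7,30,0,false,[],[.eqn 103 false,.eqn 100 false]⟩,
⟨1721,7,30,0,false,[],[.eqn 104 false,.eqn 85 false]⟩,
⟨956,7,30,0,false,[],[.eqn 105 false,.eqn 100 false]⟩,
⟨908,7,30,0,false,[],[.eqn 106 false,.eqn 100 false]⟩,
⟨1643,7,30,0,false,[],[.eqn 107 false,.eqn 100 false]⟩,
⟨1287,7,30,0,false,[],[.eqn 108 false,.eqn 85 false]⟩,
⟨1255,7,30,0,false,[],[.eqn 109 false,.eqn 100 false]⟩,
⟨546,7,32,0,true,[],[.eqn 111 true,.edge 58 false]⟩,
⟨482,7,32,0,true,[],[.eqn 86 true,.edge 113 false]⟩,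
⟨514,7,32,0,true,[],[.eqn 86 true,.edge 114 false]⟩,
⟨2,7,32,0,true,[],[.eqn 110 true,.edge 114 false]⟩,
⟨512,7,32,0,true,[],[.eqn 100 true,.edge 115 false]⟩,
⟨544,7,32,0,true,[],[.eqn 111 true,.edge 116 false]⟩,
⟨480,7,32,0,true,[],[.eqn 86 true,.edge 118 false]⟩,
⟨0,2,1,3,true,[.code,.edge 96 false,.code],[.code]⟩,
⟨2,2,31,0,true,[],[.edge 120 false]⟩,
⟨2,2,32,0,true,[],[.edge 121 false]⟩,
⟨0,3,4,4,false,[.edge 51 false,.edge 122 false,.edge 50 false,.code],[]⟩,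
⟨320,3,30,0,false,[],[.eqn 123 true]⟩,
⟨224,3,30,0,false,[],[.eqn 124 false,.eqn 124 false]⟩,
⟨482,3,1,1,true,[.code],[.code,.edge 52 false,.code]⟩,
⟨482,3,31,0,true,[],[.edge 126 false]⟩,
⟨2,4,32,0,true,[],[.edge 127 false]⟩,
⟨386,4,1,1,true,[.code],[.code,.edge 54 false,.code]⟩]

/-- Deductions. -/
def c1_1 : List Step := [
⟨386,4,31,0,true,[],[.edge 129 false]⟩,
⟨387,4,0,2,true,[.edge 130 false,.edge 57 false],[]⟩,
⟨0,7,31,0,true,[],[.edge 131 false]⟩,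
⟨386,4,32,0,true,[],[.edge 132 false]⟩,
⟨546,7,31,0,true,[],[.eqn 111 true,.edge 132 false]⟩,
⟨482,7,31,0,true,[],[.eqn 86 true,.edge 134 false]⟩,
⟨514,7,31,0,true,[],[.eqn 86 true,.edge 135 false]⟩,
⟨2,7,31,0,true,[],[.eqn 110 true,.edge 135 false]⟩,
⟨512,7,31,0,true,[],[.eqn 100 true,.edge 136 false]⟩,
⟨544,7,31,0,true,[],[.eqn 111 true,.edge 137 false]⟩,
⟨544,7,31,0,true,[],[.eqn 86 true,.edge 138 false]⟩,
⟨1561,4,32,0,false,[],[.edge 140 false,.edge 139 false]⟩,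
⟨82,4,30,0,false,[],[.eqn 141 true]⟩,
⟨32,4,30,0,false,[],[.eqn 142 false,.eqn 142 false]⟩,
⟨18,4,30,0,false,[],[.eqn 143 false,.eqn 142 false]⟩,
⟨64,4,30,0,false,[],[.eqn 144 false,.eqn 142 false]⟩,
⟨50,4,30,0,false,[],[.eqn 145 false,.eqn 142 false]⟩,
⟨2,4,31,0,true,[],[.eqn 142 true,.edge 53 false]⟩,
⟨0,4,32,0,true,[],[.eqn 142 true,.edge 128 false]⟩,
⟨390,4,1,1,false,[.code],[.code,.edge 133 false,.code,.edge 116 false]⟩,
⟨0,5,30,0,false,[],[.eqn 149 true]⟩,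
⟨384,4,31,0,true,[],[.eqn 150 true,.edge 57 false]⟩,
⟨480,3,0,0,true,[],[.edge 52 false,.edge 148 false]⟩,
⟨480,3,31,0,true,[],[.edge 152 false]⟩,
⟨482,3,32,0,true,[],[.edge 153 false]⟩,
⟨4,3,33,0,true,[],[.edge 7 false]⟩,
⟨4,8,33,0,true,[],[.edge 8 false]⟩,
⟨497,3,29,5,true,[.code,.edge 155 false,.code,.edge 156 false,.code],[.code,.edge 52 false,.code,.edge 54 false,.eqn 150 false,.code,.edge 148 false,.code,.edge 127 false,.code,.edge 151 false,.code,.edge 93 false,.code]⟩,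
⟨2,9,33,0,true,[],[.edge 157 false]⟩,
⟨32,7,33,0,true,[],[.edge 158 true]⟩,
⟨64,7,33,0,true,[],[.eqn 86 true,.edge 159 false]⟩,
⟨622,7,33,0,true,[],[.eqn 112 true,.edge 159 false]⟩,
⟨0,7,33,0,true,[],[.eqn 86 true,.edge 160 false]⟩,
⟨740,7,33,0,true,[],[.eqn 112 true,.edge 160 false]⟩,
⟨676,7,33,0,true,[],[.eqn 112 true,.edge 161 false]⟩,
⟨676,7,33,0,true,[],[.eqn 86 true,.edge 163 false]⟩,
⟨382,9,33,0,false,[],[.edge 165 true,.edge 164 false]⟩,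
⟨488,7,33,0,true,[],[.eqn 112 true,.edge 163 false]⟩,
⟨34,7,33,0,true,[],[.eqn 112 true,.edge 164 false]⟩,
⟨102,9,30,0,false,[],[.eqn 166 true]⟩,
⟨66,7,33,0,true,[],[.eqn 112 true,.edge 167 false]⟩,
⟨746,7,33,0,true,[],[.eqn 112 true,.edge 170 false]⟩,
⟨386,4,27,4,true,[.code,.edge 133 false,.code,.edge 160 false],[.code,.edge 133 false,.edge 159 false]⟩,
⟨2,9,31,0,true,[],[.edge 172 false]⟩,
⟨2,9,32,0,true,[],[.edge 173 false]⟩,
⟨386,4,28,8,true,[.code,.edge 133 false,.edge 162 false,.code,.edge 173 false,.code,.edge 173 false,.code],[.code]⟩,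
⟨66,9,33,0,true,[],[.edge 175 false]⟩,
⟨386,4,33,0,true,[],[.edge 176 true]⟩,
⟨418,4,33,0,true,[],[.eqn 143 true,.edge 177 false]⟩,
⟨450,4,33,0,true,[],[.eqn 143 true,.edge 178 false]⟩,
⟨0,4,33,0,true,[],[.edge 9 false]⟩,
⟨0,10,33,0,true,[],[.edge 180 true]⟩,
⟨66,4,33,0,true,[],[.eqn 146 true,.edge 180 false]⟩,
⟨32,4,33,0,true,[],[.eqn 146 true,.edge 182 false]⟩,
⟨2,4,33,0,true,[],[.eqn 146 true,.edge 183 false]⟩,
⟨64,4,33,0,true,[],[.eqn 146 true,.edge 184 false]⟩,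
⟨34,4,33,0,true,[],[.eqn 146 true,.edge 185 false]⟩,
⟨386,4,29,3,true,[.code,.edge 180 false,.code],[.code,.edge 133 false,.code,.edge 67 false,.code,.edge 64 false,.code,.edge 60 false,.code,.edge 70 false,.code,.edge 137 false,.code,.edge 184 false,.code]⟩,
⟨2,10,33,0,true,[],[.edge 187 false]⟩,
⟨392,4,16,6,true,[.code,.edge 179 false,.code,.edge 174 false,.edge 174 false,.code],[.code,.edge 133 false,.code,.edge 58 false,.eqn 150 false]⟩,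
⟨34,9,33,0,true,[],[.edge 189 false]⟩,
⟨384,4,33,0,true,[],[.edge 190 true]⟩,
⟨402,4,29,3,true,[.code,.edge 180 false,.code],[.code,.edge 133 false,.code,.edge 94 false,.code,.edge 58 false,.eqn 150 false,.code,.edge 151 false,.code,.edge 60 false,.code,.edge 69 false,.code,.edge 168 false,.code]⟩,
⟨4,10,33,0,true,[],[.edge 192 false]⟩,
⟨10,9,33,0,true,[],[.edge 193 true]⟩,
⟨12,9,33,0,true,[],[.eqn 169 true,.edge 194 false]⟩,
⟨776,4,29,1,false,[.code],[.code,.edge 133 false,.code,.edge 94 false,.code,.edge 115 false,.eqn 150 false,.code,.edge 151 false,.code,.edge 60 false,.code,.edge 72 false,.code,.edge 171 false,.code,.edge 195 false,.code,.edge 181 false]⟩,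
⟨876,4,30,0,false,[],[.eqn 196 true]⟩,
⟨926,4,30,0,false,[],[.eqn 142 false,.eqn 197 false]⟩,
⟨894,4,30,0,false,[],[.eqn 144 false,.eqn 197 false]⟩,
⟨480,4,31,0,true,[],[.eqn 198 true,.edge 53 false]⟩,
⟨482,4,31,0,true,[],[.eqn 198 true,.edge 147 false]⟩,
⟨480,4,32,0,true,[],[.eqn 198 true,.edge 148 false]⟩,
⟨482,4,32,0,true,[],[.eqn 198 true,.edge 128 false]⟩,
⟨492,4,33,0,true,[],[.eqn 199 true,.edge 180 false]⟩,
⟨488,4,33,0,true,[],[.eqn 199 true,.edge 184 false]⟩,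
⟨590,4,33,0,true,[],[.eqn 199 true,.edge 186 false]⟩,
⟨676,4,33,0,true,[],[.eqn 199 true,.edge 182 false]⟩,
⟨394,4,33,0,true,[],[.eqn 197 true,.edge 191 false]⟩,
⟨546,4,31,0,true,[],[.eqn 146 true,.edge 200 false]⟩,
⟨546,4,32,0,true,[],[.eqn 146 true,.edge 202 false]⟩,
⟨544,4,32,0,true,[],[.eqn 146 true,.edge 203 false]⟩,
⟨512,4,31,0,true,[],[.eqn 146 true,.edge 209 false]⟩,
⟨512,4,32,0,true,[],[.eqn 146 true,.edge 210 false]⟩,
⟨514,4,32,0,true,[],[.eqn 146 true,.edge 211 false]⟩,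
⟨778,4,24,4,false,[.code,.edge 54 false,.eqn 150 false,.edge 133 false,.code],[.edge 208 false,.edge 174 false,.code,.edge 174 false,.code,.edge 158 false]⟩,
⟨23,7,30,0,false,[],[.eqn 215 true]⟩,
⟨750,7,33,0,true,[],[.eqn 216 true,.edge 171 false]⟩,
⟨482,7,33,0,true,[],[.eqn 112 true,.edge 217 false]⟩,
⟨490,4,33,0,true,[],[.edge 10 false]⟩,
⟨0,11,33,0,true,[],[.edge 219 true]⟩,
⟨558,4,33,0,true,[],[.eqn 146 true,.edge 219 false]⟩,
⟨640,4,33,0,true,[],[.eqn 199 true,.edge 221 false]⟩,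
⟨584,4,33,0,true,[],[.eqn 146 true,.edge 222 false]⟩,
⟨38,4,33,0,true,[],[.eqn 199 true,.edge 223 false]⟩,
⟨576,4,33,0,true,[],[.eqn 199 true,.edge 224 false]⟩,
⟨2,11,33,0,true,[],[.edge 11 false]⟩,
⟨782,4,29,5,true,[.code,.edge 219 false,.code,.edge 226 false,.code],[.code,.edge 133 false,.code,.edge 114 false,.eqn 150 false,.code,.edge 213 false,.code,.edge 127 false,.code,.edge 130 false,.eqn 150 false,.code,.edge 209 false,.code]⟩,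
⟨2,12,33,0,true,[],[.edge 227 false]⟩,
⟨398,3,33,0,true,[],[.edge 228 true]⟩]

/-- Deductions. -/
def c1_2 : List Step := [
⟨480,4,33,0,true,[],[.edge 12 false]⟩,
⟨14,4,33,0,true,[],[.eqn 199 true,.edge 230 false]⟩,
⟨76,4,33,0,true,[],[.eqn 146 true,.edge 231 false]⟩,
⟨678,4,33,0,true,[],[.eqn 199 true,.edge 232 false]⟩,
⟨744,4,33,0,true,[],[.eqn 146 true,.edge 233 false]⟩,
⟨78,4,33,0,true,[],[.eqn 199 true,.edge 233 false]⟩,
⟨680,4,33,0,true,[],[.eqn 199 true,.edge 235 false]⟩,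
⟨2,13,33,0,true,[],[.edge 13 false]⟩,
⟨786,4,29,5,true,[.code,.edge 230 false,.code,.edge 237 false,.code],[.code,.edge 133 false,.code,.edge 113 false,.eqn 150 false,.code,.edge 148 false,.code,.edge 127 false,.code,.edge 130 false,.eqn 150 false,.code,.edge 212 false,.code]⟩,
⟨2,14,33,0,true,[],[.edge 238 false]⟩,
⟨454,3,33,0,true,[],[.edge 239 true]⟩,
⟨550,3,33,0,true,[],[.eqn 125 true,.edge 240 false]⟩,
⟨646,3,33,0,true,[],[.eqn 125 true,.edge 241 false]⟩,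
⟨482,4,33,0,true,[],[.edge 14 false]⟩,
⟨550,4,33,0,true,[],[.eqn 146 true,.edge 243 false]⟩,
⟨10,4,33,0,true,[],[.eqn 199 true,.edge 243 false]⟩,
⟨644,4,33,0,true,[],[.eqn 199 true,.edge 244 false]⟩,
⟨72,4,33,0,true,[],[.eqn 146 true,.edge 245 false]⟩,
⟨588,4,33,0,true,[],[.eqn 146 true,.edge 246 false]⟩,
⟨686,4,33,0,true,[],[.eqn 199 true,.edge 247 false]⟩,
⟨74,4,33,0,true,[],[.eqn 199 true,.edge 249 false]⟩,
⟨672,4,33,0,true,[],[.eqn 199 true,.edge 250 false]⟩,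
⟨2,15,33,0,true,[],[.edge 15 false]⟩,
⟨788,4,29,5,true,[.code,.edge 243 false,.code,.edge 252 false,.code],[.code,.edge 133 false,.code,.edge 117 false,.eqn 150 false,.code,.edge 148 false,.code,.edge 127 false,.code,.edge 130 false,.eqn 150 false,.code,.edge 209 false,.code]⟩,
⟨2,16,33,0,true,[],[.edge 253 false]⟩,
⟨420,3,33,0,true,[],[.edge 254 true]⟩,
⟨4,11,33,0,true,[],[.edge 16 false]⟩,
⟨798,4,29,5,true,[.code,.edge 219 false,.code,.edge 256 false,.code],[.code,.edge 133 false,.code,.edge 119 false,.eqn 150 false,.code,.edge 203 false,.code,.edge 127 false,.code,.edge 130 false,.eqn 150 false,.code,.edge 212 false,.code]⟩,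
⟨2,17,33,0,true,[],[.edge 257 false]⟩,
⟨394,3,33,0,true,[],[.edge 258 true]⟩,
⟨864,4,4,1,true,[.edge 230 false],[.code,.edge 225 false]⟩,
⟨0,13,32,0,true,[],[.edge 260 false]⟩,
⟨0,11,31,0,true,[],[.edge 261 false]⟩,
⟨864,4,5,1,true,[.edge 230 false],[.code,.edge 251 false]⟩,
⟨0,13,31,0,true,[],[.edge 263 false]⟩,
⟨0,15,32,0,true,[],[.edge 264 false]⟩,
⟨864,4,13,2,true,[.code,.edge 219 false],[.code,.edge 248 false]⟩,
⟨0,11,32,0,true,[],[.edge 266 false]⟩,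
⟨0,15,31,0,true,[],[.edge 267 false]⟩,
⟨864,4,15,2,true,[.code,.edge 202 false],[.code,.edge 230 false,.code,.edge 261 false,.edge 267 false,.code]⟩,
⟨676,3,33,0,true,[],[.edge 269 false]⟩,
⟨580,3,33,0,true,[],[.eqn 125 true,.edge 270 false]⟩,
⟨484,3,33,0,true,[],[.eqn 125 true,.edge 271 false]⟩,
⟨864,4,16,6,true,[.code,.edge 233 false,.code,.edge 261 false,.edge 267 false,.code],[.code,.edge 202 false,.code,.edge 154 false]⟩,
⟨64,15,33,0,true,[],[.edge 273 false]⟩,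
⟨492,3,33,0,true,[],[.edge 274 true]⟩,
⟨684,3,33,0,true,[],[.eqn 125 true,.edge 275 false]⟩,
⟨864,4,17,4,true,[.code,.edge 219 false,.edge 267 false,.code],[.code,.edge 230 false,.edge 261 false,.code,.edge 267 false,.code]⟩,
⟨10,15,33,0,true,[],[.edge 277 false]⟩,
⟨864,4,25,6,true,[.edge 202 false,.edge 154 false,.code,.edge 276 false,.code,.edge 268 false],[.edge 202 false,.code,.edge 154 false,.code]⟩,
⟨64,11,33,0,true,[],[.edge 279 false]⟩,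
⟨586,3,33,0,true,[],[.edge 280 true]⟩,
⟨490,3,33,0,true,[],[.eqn 125 true,.edge 281 false]⟩,
⟨865,4,3,2,true,[.edge 202 false,.code],[.edge 230 false,.edge 261 false,.code]⟩,
⟨590,3,33,0,true,[],[.edge 283 false]⟩,
⟨494,3,33,0,true,[],[.eqn 125 true,.edge 284 false]⟩,
⟨865,4,27,5,true,[.code,.edge 202 false,.code,.edge 284 false,.edge 262 false],[.code,.edge 202 false]⟩,
⟨32,13,33,0,true,[],[.edge 286 false]⟩,
⟨488,3,33,0,true,[],[.edge 287 true]⟩,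
⟨868,4,7,2,true,[.code,.edge 205 false],[.code,.edge 207 false]⟩,
⟨0,10,31,0,true,[],[.edge 289 false]⟩,
⟨0,10,32,0,true,[],[.edge 290 false]⟩,
⟨868,4,21,6,true,[.code,.edge 223 false,.code,.edge 267 false,.code,.edge 268 false],[.edge 243 false,.code,.edge 278 false,.code]⟩,
⟨70,11,33,0,true,[],[.edge 292 false]⟩,
⟨868,4,25,3,true,[.edge 203 false,.edge 154 false,.code],[.edge 203 false,.code,.edge 154 false,.code,.edge 276 false,.edge 265 false,.code]⟩,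
⟨486,3,33,0,true,[],[.edge 294 false]⟩,
⟨678,3,33,0,true,[],[.eqn 125 true,.edge 295 false]⟩,
⟨582,3,33,0,true,[],[.eqn 125 true,.edge 296 false]⟩,
⟨876,4,3,2,true,[.edge 202 false,.code],[.edge 204 false,.edge 291 false,.code]⟩,
⟨578,3,33,0,true,[],[.edge 298 false]⟩,
⟨482,3,33,0,true,[],[.eqn 125 true,.edge 299 false]⟩,
⟨4,13,33,0,true,[],[.edge 17 false]⟩,
⟨1156,4,29,5,true,[.code,.edge 236 false,.code,.edge 301 false,.code],[.code,.edge 133 false,.code,.edge 114 false,.eqn 150 false,.code,.edge 214 false,.code,.edge 127 false,.code,.edge 130 false,.eqn 150 false,.code,.edge 201 false,.code]⟩,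
⟨2,18,33,0,true,[],[.edge 302 false]⟩,
⟨552,3,33,0,true,[],[.edge 303 true]⟩,
⟨648,3,33,0,true,[],[.eqn 125 true,.edge 304 false]⟩,
⟨456,3,33,0,true,[],[.eqn 125 true,.edge 305 false]⟩,
⟨4,15,33,0,true,[],[.edge 18 false]⟩,
⟨1170,4,29,5,true,[.code,.edge 251 false,.code,.edge 307 false,.code],[.code,.edge 133 false,.code,.edge 113 false,.eqn 150 false,.code,.edge 148 false,.code,.edge 127 false,.code,.edge 130 false,.eqn 150 false,.code,.edge 212 false,.code]⟩,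
⟨2,19,33,0,true,[],[.edge 308 false]⟩,
⟨428,3,33,0,true,[],[.edge 309 true]⟩,
⟨384,3,13,2,true,[.code,.edge 259 false],[.code,.edge 310 false]⟩,
⟨2,17,32,0,true,[],[.edge 311 false]⟩,
⟨2,19,31,0,true,[],[.edge 312 false]⟩,
⟨388,3,7,2,true,[.code,.edge 229 false],[.code,.edge 306 false]⟩,
⟨2,12,31,0,true,[],[.edge 314 false]⟩,
⟨2,18,32,0,true,[],[.edge 315 false]⟩,
⟨388,3,13,2,true,[.code,.edge 229 false],[.code,.edge 255 false]⟩,
⟨2,12,32,0,true,[],[.edge 317 false]⟩,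
⟨392,3,12,2,true,[.code,.edge 306 false],[.code,.edge 255 false]⟩,
⟨2,18,31,0,true,[],[.edge 319 false]⟩,
⟨2,16,32,0,true,[],[.edge 320 false]⟩,
⟨396,3,12,2,true,[.code,.edge 240 false],[.code,.edge 310 false]⟩,
⟨2,14,31,0,true,[],[.edge 322 false]⟩,
⟨480,3,14,3,true,[.code,.edge 281 false,.code],[.code,.edge 282 false,.code]⟩,
⟨44,11,33,0,true,[],[.edge 324 false]⟩,
⟨74,11,33,0,true,[],[.edge 325 true]⟩,
⟨482,3,17,4,true,[.code,.edge 288 false,.edge 261 false,.code],[.code,.edge 300 false,.edge 291 false,.code,.edge 291 false,.code]⟩,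
⟨42,11,33,0,true,[],[.edge 327 false]⟩,
⟨484,3,17,4,true,[.code,.edge 285 false,.edge 267 false,.code],[.code,.edge 272 false,.edge 265 false,.code,.edge 261 false,.code]⟩]

/-- Deductions. -/
def c1_3 : List Step := [
⟨42,15,33,0,true,[],[.edge 329 false]⟩,
⟨484,3,21,6,true,[.code,.edge 299 false,.code,.edge 291 false,.code,.edge 290 false],[.edge 272 false,.code,.edge 330 false,.code]⟩,
⟨6,10,33,0,true,[],[.edge 331 false]⟩,
⟨490,3,21,6,true,[.code,.edge 297 false,.code,.edge 261 false,.code,.edge 262 false],[.edge 282 false,.code,.edge 326 false,.code]⟩,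
⟨38,13,33,0,true,[],[.edge 333 false]⟩,
⟨0,11,1,3,true,[.code,.edge 262 false,.code],[.code]⟩,
⟨2,13,31,0,true,[],[.edge 335 false]⟩,
⟨2,11,32,0,true,[],[.edge 336 false]⟩,
⟨2,11,1,1,true,[.code],[.code,.edge 267 false,.code]⟩,
⟨2,11,31,0,true,[],[.edge 338 false]⟩,
⟨2,11,3,4,true,[.edge 337 false,.code,.edge 301 false,.code],[.edge 226 false]⟩,
⟨0,18,31,0,true,[],[.edge 340 false]⟩,
⟨0,12,32,0,true,[],[.edge 341 false]⟩,
⟨2,11,4,2,true,[.edge 226 false,.edge 342 false],[.code]⟩,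
⟨64,18,33,0,true,[],[.edge 343 false]⟩,
⟨34,11,33,0,true,[],[.edge 344 true]⟩,
⟨3,11,0,1,true,[.edge 339 false],[.edge 337 false]⟩,
⟨2,15,31,0,true,[],[.edge 346 false]⟩,
⟨2,13,32,0,true,[],[.edge 347 false]⟩,
⟨3,11,24,6,true,[.code,.edge 337 false,.edge 348 false,.code,.edge 252 false,.code],[.edge 226 false,.edge 342 false,.code]⟩,
⟨0,16,31,0,true,[],[.edge 349 false]⟩,
⟨0,18,32,0,true,[],[.edge 350 false]⟩,
⟨4,11,12,1,true,[.code],[.code,.edge 345 false,.edge 351 false]⟩,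
⟨66,11,33,0,true,[],[.edge 352 false]⟩,
⟨8,11,7,2,true,[.code,.edge 226 false],[.code,.edge 353 false]⟩,
⟨0,12,31,0,true,[],[.edge 354 false]⟩,
⟨0,16,32,0,true,[],[.edge 355 false]⟩,
⟨8,11,16,6,true,[.code,.edge 353 false,.code,.edge 356 false,.edge 342 false,.code],[.code,.edge 337 false,.code,.edge 348 false]⟩,
⟨32,18,33,0,true,[],[.edge 357 false]⟩,
⟨66,15,33,0,true,[],[.edge 358 true]⟩,
⟨546,11,32,0,true,[],[.edge 19 false]⟩,
⟨0,20,31,0,true,[],[.edge 360 false]⟩,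
⟨384,20,32,0,true,[],[.edge 20 false]⟩,
⟨0,21,31,0,true,[],[.edge 362 false]⟩,
⟨384,21,32,0,true,[],[.edge 21 false]⟩,
⟨0,22,31,0,true,[],[.edge 364 false]⟩,
⟨97,7,29,14,false,[.code,.edge 218 false,.code,.edge 194 false,.code,.edge 332 false,.code,.edge 360 false,.code,.edge 362 false,.code,.edge 364 false,.code,.edge 365 false],[.code,.edge 58 false,.eqn 150 false,.code,.edge 211 false,.code]⟩,
⟨0,21,30,0,false,[],[.eqn 366 false]⟩,
⟨480,3,31,0,true,[],[.eqn 367 true,.edge 363 false]⟩,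
⟨1213,20,32,0,false,[],[.edge 368 false,.edge 153 false]⟩,
⟨512,3,32,0,true,[],[.eqn 367 true,.edge 364 false]⟩,
⟨384,3,32,0,true,[],[.eqn 125 true,.edge 370 false]⟩,
⟨0,20,30,0,false,[],[.eqn 369 false]⟩,
⟨386,3,31,0,true,[],[.eqn 372 true,.edge 361 false]⟩,
⟨546,3,31,0,true,[],[.eqn 125 true,.edge 373 false]⟩,
⟨544,3,32,0,true,[],[.eqn 125 true,.edge 371 false]⟩,
⟨514,3,31,0,true,[],[.eqn 125 true,.edge 374 false]⟩,
⟨544,22,32,0,true,[],[.edge 22 false]⟩,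
⟨0,23,31,0,true,[],[.edge 377 false]⟩,
⟨2,22,31,0,true,[],[.edge 23 false]⟩,
⟨526,11,29,17,true,[.code,.edge 328 false,.code,.edge 188 false,.code,.edge 181 false,.code,.edge 210 false,.code,.edge 375 false,.code,.edge 377 false,.code,.edge 378 false,.code,.edge 379 false,.code],[.code]⟩,
⟨384,24,31,0,true,[],[.edge 380 false]⟩,
⟨514,11,32,0,true,[],[.edge 381 false]⟩,
⟨528,11,1,1,true,[.code],[.code,.edge 382 false,.code]⟩,
⟨512,11,31,0,true,[],[.edge 383 false]⟩,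
⟨386,24,32,0,true,[],[.edge 384 false]⟩,
⟨544,11,1,1,false,[.code],[.code,.edge 360 false,.eqn 372 false,.code,.edge 371 false]⟩,
⟨0,22,30,0,false,[],[.eqn 386 true]⟩,
⟨544,11,31,0,true,[],[.eqn 387 true,.edge 365 false,.eqn 367 false]⟩,
⟨546,11,31,0,true,[],[.eqn 387 true,.edge 379 false]⟩,
⟨514,11,32,0,true,[],[.eqn 387 true,.edge 377 false]⟩,
⟨22,23,31,0,false,[],[.edge 390 false,.edge 382 false]⟩,
⟨0,24,30,0,false,[],[.eqn 391 true]⟩,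
⟨2,23,32,0,true,[],[.eqn 392 true,.edge 385 false]⟩,
⟨546,11,0,1,true,[.edge 389 false,.eqn 392 false],[.edge 360 false,.eqn 372 false]⟩,
⟨480,23,31,0,true,[],[.edge 394 false]⟩,
⟨386,3,32,0,true,[],[.edge 395 false]⟩,
⟨546,3,32,0,true,[],[.eqn 125 true,.edge 396 false]⟩,
⟨514,3,32,0,true,[],[.eqn 125 true,.edge 397 false]⟩,
⟨546,11,1,3,true,[.code,.edge 389 false,.eqn 392 false,.code],[.code]⟩,
⟨482,23,31,0,true,[],[.edge 399 false]⟩,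
⟨544,11,32,0,true,[],[.edge 400 false]⟩,
⟨550,11,0,1,true,[.edge 388 false],[.edge 401 false]⟩,
⟨512,3,31,0,true,[],[.edge 402 false]⟩,
⟨482,23,32,0,true,[],[.edge 403 false]⟩,
⟨384,3,31,0,true,[],[.eqn 125 true,.edge 403 false]⟩,
⟨544,3,31,0,true,[],[.eqn 125 true,.edge 405 false]⟩,
⟨552,11,3,5,true,[.edge 360 false,.eqn 372 false,.code,.edge 229 false,.code,.edge 315 false],[]⟩,
⟨66,18,33,0,true,[],[.edge 407 false]⟩,
⟨552,11,33,0,true,[],[.edge 408 true]⟩,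
⟨552,11,24,4,true,[.code,.edge 360 false,.eqn 372 false,.edge 396 false,.code],[.edge 409 false,.edge 316 false,.code,.edge 318 false,.code]⟩,
⟨672,23,33,0,true,[],[.edge 410 false]⟩,
⟨72,11,33,0,true,[],[.edge 24 false]⟩,
⟨552,11,29,3,true,[.code,.edge 412 false,.code],[.code,.edge 360 false,.eqn 372 false,.code,.edge 154 false,.code,.edge 398 false,.code,.edge 395 false,.code,.edge 127 false,.code,.edge 130 false,.eqn 150 false,.code,.edge 234 false,.code]⟩,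
⟨2,25,33,0,true,[],[.edge 413 false]⟩,
⟨8,13,33,0,true,[],[.edge 414 true]⟩,
⟨554,11,24,9,true,[.code,.edge 401 false,.edge 404 false,.code,.edge 242 false,.code,.edge 323 false,.code,.edge 313 false],[]⟩,
⟨34,17,33,0,true,[],[.edge 416 false]⟩,
⟨554,11,33,0,true,[],[.edge 417 true]⟩,
⟨555,11,3,2,true,[.edge 401 false,.code],[.edge 418 false,.edge 312 false,.code]⟩,
⟨484,23,33,0,true,[],[.edge 419 false]⟩,
⟨555,11,27,5,true,[.code,.edge 401 false,.code,.edge 420 false,.edge 313 false],[.code,.edge 401 false]⟩,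
⟨66,17,33,0,true,[],[.edge 421 false]⟩,
⟨686,23,33,0,true,[],[.edge 422 true]⟩,
⟨558,11,25,3,true,[.edge 360 false,.eqn 372 false,.edge 396 false,.code],[.edge 360 false,.eqn 372 false,.code,.edge 396 false,.code,.edge 411 false,.edge 321 false,.code]⟩,
⟨480,23,33,0,true,[],[.edge 424 false]⟩,
⟨34,18,33,0,true,[],[.edge 425 true]⟩,
⟨68,15,33,0,true,[],[.edge 25 false]⟩,
⟨2,26,33,0,true,[],[.edge 26 false]⟩,
⟨565,11,29,7,true,[.code,.edge 293 false,.code,.edge 427 false,.code,.edge 428 false,.code],[.code,.edge 360 false,.eqn 372 false,.code,.edge 397 false,.code,.edge 393 false,.code,.edge 384 false,.eqn 392 false,.code,.edge 400 false,.code]⟩]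

/-- Deductions. -/
def c1_4 : List Step := [
⟨480,27,32,0,true,[],[.edge 429 false]⟩,
⟨482,11,31,0,true,[],[.edge 430 false]⟩,
⟨4,25,33,0,true,[],[.edge 27 false]⟩,
⟨568,11,29,5,true,[.code,.edge 412 false,.code,.edge 432 false,.code],[.code,.edge 360 false,.eqn 372 false,.code,.edge 52 false,.code,.edge 54 false,.eqn 150 false,.code,.edge 130 false,.eqn 150 false,.code,.edge 147 false,.code,.edge 406 false,.code]⟩,
⟨2,28,33,0,true,[],[.edge 433 false]⟩,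
⟨462,23,33,0,true,[],[.edge 434 true]⟩,
⟨578,11,1,3,true,[.code,.edge 431 false,.code],[.code]⟩,
⟨482,27,31,0,true,[],[.edge 436 false]⟩,
⟨480,11,32,0,true,[],[.edge 437 false]⟩,
⟨482,11,32,0,true,[],[.edge 28 false]⟩,
⟨384,29,32,0,true,[],[.edge 29 false]⟩,
⟨0,30,31,0,true,[],[.edge 440 false]⟩,
⟨583,11,29,15,true,[.code,.edge 293 false,.code,.edge 359 false,.code,.edge 426 false,.code,.edge 393 false,.code,.edge 439 false,.code,.edge 440 false,.code,.edge 441 false,.code],[.code,.edge 438 false,.code]⟩,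
⟨2,29,31,0,true,[],[.edge 442 false]⟩,
⟨586,11,1,1,true,[.code],[.code,.edge 439 false,.code]⟩,
⟨480,11,31,0,true,[],[.edge 444 false]⟩,
⟨587,11,0,2,false,[.edge 445 false,.edge 443 false],[.edge 438 false]⟩,
⟨948,27,30,0,false,[],[.eqn 446 true]⟩,
⟨1643,27,30,0,false,[],[.eqn 447 false,.eqn 447 false]⟩,
⟨2,27,31,0,true,[],[.eqn 448 true,.edge 437 false]⟩,
⟨512,27,31,0,true,[],[.eqn 448 true,.edge 449 false]⟩,
⟨482,27,31,0,true,[],[.eqn 448 true,.edge 450 false]⟩,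
⟨1735,11,32,0,false,[],[.edge 451 false,.edge 437 false]⟩,
⟨4,11,30,0,false,[],[.eqn 452 true]⟩,
⟨2,11,31,0,true,[],[.eqn 453 true,.edge 262 false]⟩,
⟨283,13,32,0,false,[],[.edge 454 false,.edge 339 false]⟩,
⟨546,11,31,0,true,[],[.eqn 453 true,.edge 388 false]⟩,
⟨1408,3,32,0,false,[],[.edge 456 false,.edge 389 false]⟩,
⟨4,11,33,0,true,[],[.eqn 453 true,.edge 220 false]⟩,
⟨491,4,33,0,false,[],[.edge 458 true,.edge 256 false]⟩,
⟨72,11,33,0,true,[],[.eqn 453 true,.edge 293 false]⟩,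
⟨246,15,33,0,false,[],[.edge 460 true,.edge 412 false]⟩,
⟨0,15,30,0,false,[],[.eqn 455 true]⟩,
⟨8,13,33,0,true,[],[.eqn 462 true,.edge 330 false]⟩,
⟨268,11,33,0,false,[],[.edge 463 true,.edge 415 false]⟩,
⟨1408,3,30,0,false,[],[.eqn 457 false,.eqn 392 false]⟩,
⟨0,23,30,0,false,[],[.eqn 465 true]⟩,
⟨546,3,31,0,true,[],[.eqn 466 true,.edge 378 false,.eqn 387 false]⟩,
⟨996,11,32,0,false,[],[.edge 467 false,.edge 374 false]⟩,
⟨450,3,33,0,true,[],[.eqn 466 true,.edge 435 false]⟩,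
⟨642,3,33,0,true,[],[.eqn 466 true,.edge 423 false]⟩,
⟨450,3,33,0,true,[],[.eqn 125 true,.edge 470 false]⟩,
⟨302,17,33,0,false,[],[.edge 471 true,.edge 469 false]⟩,
⟨0,17,30,0,false,[],[.eqn 459 true]⟩,
⟨488,4,33,0,true,[],[.eqn 473 true,.edge 258 false]⟩,
⟨1611,3,33,0,false,[],[.edge 474 true,.edge 205 false]⟩,
⟨590,4,33,0,true,[],[.eqn 473 true,.edge 417 false]⟩,
⟨923,11,33,0,false,[],[.edge 476 true,.edge 206 false]⟩,
⟨246,15,30,0,false,[.eqn 462 false],[.eqn 461 false]⟩,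
⟨0,25,30,0,false,[],[.eqn 478 true]⟩,
⟨38,13,33,0,true,[],[.eqn 479 true,.edge 432 false]⟩,
⟨352,28,33,0,false,[],[.edge 480 true,.edge 334 false]⟩,
⟨268,11,30,0,false,[],[.eqn 464 false,.eqn 479 false]⟩,
⟨0,13,30,0,false,[],[.eqn 482 true]⟩,
⟨585,11,30,0,false,[],[.eqn 468 true]⟩,
⟨302,17,30,0,false,[.eqn 473 false],[.eqn 472 false]⟩,
⟨0,28,30,0,false,[],[.eqn 485 true]⟩,
⟨0,10,30,0,false,[],[.eqn 475 true]⟩,
⟨923,11,30,0,false,[],[.eqn 477 false,.eqn 487 false]⟩,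
⟨0,11,30,0,false,[],[.eqn 488 false]⟩,
⟨15,3,30,0,false,[],[.eqn 489 true,.eqn 453 false,.eqn 489 false]⟩,
⟨335,3,30,0,false,[],[.eqn 124 false,.eqn 490 false]⟩,
⟨232,3,30,0,false,[],[.eqn 491 false,.eqn 124 false]⟩,
⟨2,3,30,0,false,[],[.eqn 492 false,.eqn 124 false]⟩,
⟨13,3,30,0,false,[],[.eqn 493 false,.eqn 490 false]⟩,
⟨598,3,30,0,false,[],[.eqn 489 true,.eqn 484 false,.eqn 489 false]⟩,
⟨602,3,30,0,false,[],[.eqn 494 false,.eqn 495 false]⟩,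
⟨1661,3,30,0,false,[],[.eqn 496 false,.eqn 124 false]⟩,
⟨1002,3,30,0,false,[],[.eqn 497 false,.eqn 495 false]⟩,
⟨582,3,33,0,true,[],[.eqn 498 true,.edge 51 false]⟩,
⟨265,2,33,0,false,[],[.edge 499 true,.edge 297 false]⟩,
⟨352,28,30,0,false,[.eqn 486 false],[.eqn 481 false,.eqn 489 false]⟩,
⟨0,4,30,0,false,[],[.eqn 501 false]⟩,
⟨514,3,31,0,true,[],[.eqn 502 true,.edge 151 false]⟩,
⟨288,7,32,0,false,[],[.edge 503 false,.edge 376 false]⟩,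
⟨265,2,30,0,false,[],[.eqn 500 false,.eqn 483 false,.eqn 489 false]⟩,
⟨0,3,30,0,false,[],[.eqn 505 true]⟩,
⟨386,2,31,0,true,[],[.eqn 506 true,.edge 376 false,.eqn 489 false,.eqn 506 false]⟩,
⟨32,2,33,0,true,[],[.eqn 506 true,.edge 272 false,.eqn 462 false,.eqn 483 false,.eqn 489 false,.eqn 506 false]⟩,
⟨326,2,33,0,false,[],[.edge 508 true,.edge 98 false]⟩,
⟨288,7,30,0,false,[],[.eqn 504 false,.eqn 489 false,.eqn 506 false]⟩,
⟨0,7,30,0,false,[],[.eqn 510 false]⟩,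
⟨386,2,31,0,true,[],[.eqn 511 true,.edge 60 false]⟩,
⟨92,0,32,0,false,[],[.edge 512 false,.edge 507 false]⟩,
⟨0,2,30,0,false,[],[.eqn 509 false]⟩,
⟨92,0,30,0,false,[],[.eqn 513 false,.eqn 514 false]⟩,
⟨0,1,30,0,false,[],[.eqn 515 true]⟩]

/-- All deductions. -/
def c1_ : List Step :=
  List.flatten [c1_0,c1_1,c1_2,c1_3,c1_4]

/-- A collapsing certificate. -/
def p1 : Proto := ⟨d1, c1_⟩

/-- Its last walk. -/
def m1 : List Mv := [.edge 66 false,.eqn 511 false,.eqn 514 false,.eqn 516 false]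

/-- Node definitions. -/
def d2 : List NDef := [⟨2,768,0⟩,⟨2,258,1⟩,⟨2,367,2⟩,⟨1,480,3⟩,⟨1,384,4⟩,⟨1,384,5⟩,⟨0,2,5⟩,⟨2,4,3⟩,⟨2,354,8⟩,⟨2,97,4⟩,⟨2,491,4⟩,⟨2,497,4⟩,
⟨2,498,4⟩,⟨1,407,11⟩,⟨1,384,14⟩,⟨1,384,15⟩,⟨2,115,11⟩,⟨2,258,17⟩,⟨2,367,18⟩,⟨2,190,11⟩,⟨2,258,20⟩,⟨1,877,11⟩,⟨2,19,11⟩,⟨2,258,23⟩,
⟨2,367,24⟩]

/-- Deductions. -/
def c2_0 : List Step := [
⟨384,0,33,0,true,[],[.edge 0 false]⟩,
⟨0,1,33,0,true,[],[.edge 25 true]⟩,
⟨64,0,33,0,true,[],[.base 384,.edge 25 false]⟩,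
⟨448,0,33,0,true,[],[.base 384,.edge 25 false]⟩,
⟨66,0,33,0,true,[],[.base 64,.edge 27 false]⟩,
⟨32,0,33,0,true,[],[.base 448,.edge 28 false]⟩,
⟨416,0,33,0,true,[],[.base 448,.edge 28 false]⟩,
⟨386,0,33,0,true,[],[.base 66,.edge 29 false]⟩,
⟨718,0,33,0,true,[],[.base 83,.edge 29 false]⟩,
⟨34,0,33,0,true,[],[.base 32,.edge 30 false]⟩,
⟨0,0,33,0,true,[],[.base 416,.edge 31 false]⟩,
⟨452,0,33,0,true,[],[.base 387,.edge 32 false]⟩,
⟨584,0,33,0,true,[],[.base 719,.edge 33 false]⟩,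
⟨648,0,33,0,true,[],[.base 50,.edge 34 false]⟩,
⟨424,0,33,0,true,[],[.base 452,.edge 36 false]⟩,
⟨66,0,33,0,true,[],[.base 585,.edge 37 false]⟩,
⟨272,1,33,0,false,[],[.edge 40 true,.edge 29 false]⟩,
⟨642,0,33,0,true,[],[.base 648,.edge 38 false]⟩,
⟨8,0,33,0,true,[],[.base 424,.edge 39 false]⟩,
⟨256,1,30,0,false,[],[.eqn 41 true]⟩,
⟨650,0,33,0,true,[],[.base 642,.edge 42 false]⟩,
⟨10,0,33,0,true,[],[.base 24,.edge 43 false]⟩,
⟨490,0,33,0,true,[],[.base 650,.edge 45 false]⟩,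
⟨42,0,33,0,true,[],[.base 490,.edge 47 false]⟩,
⟨8,1,33,0,true,[],[.edge 1 false]⟩,
⟨0,2,33,0,true,[],[.edge 49 true]⟩,
⟨2,1,33,0,true,[],[.eqn 44 true,.edge 49 false]⟩,
⟨2,2,33,0,true,[],[.edge 2 false]⟩,
⟨0,3,33,0,true,[],[.edge 52 true]⟩,
⟨480,3,32,0,true,[],[.edge 3 false]⟩,
⟨0,4,31,0,true,[],[.edge 54 false]⟩,
⟨384,4,32,0,true,[],[.edge 4 false]⟩,
⟨384,5,32,0,true,[],[.edge 5 false]⟩,
⟨0,6,31,0,true,[],[.edge 57 false]⟩,
⟨2,5,31,0,true,[],[.edge 6 false]⟩,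
⟨0,7,32,0,true,[],[.edge 59 false]⟩,
⟨0,0,29,17,true,[.code,.edge 25 false,.code,.edge 49 false,.code,.edge 52 false,.code,.edge 54 false,.code,.edge 56 false,.code,.edge 57 false,.code,.edge 58 false,.code,.edge 59 false,.code],[.code]⟩,
⟨384,7,31,0,true,[],[.edge 61 false]⟩,
⟨0,0,32,0,true,[],[.edge 62 false]⟩,
⟨2,0,32,0,true,[],[.base 0,.edge 63 false]⟩,
⟨384,0,32,0,true,[],[.base 0,.edge 63 false]⟩,
⟨386,0,32,0,true,[],[.base 2,.edge 64 false]⟩,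
⟨0,0,1,1,true,[.code],[.code,.edge 64 false,.code]⟩,
⟨0,0,31,0,true,[],[.edge 67 false]⟩,
⟨386,7,32,0,true,[],[.edge 68 false]⟩,
⟨2,0,31,0,true,[],[.base 0,.edge 68 false]⟩,
⟨384,0,31,0,true,[],[.base 0,.edge 68 false]⟩,
⟨386,0,31,0,true,[],[.base 2,.edge 70 false]⟩,
⟨514,0,31,0,true,[],[.base 2,.edge 70 false]⟩,
⟨482,0,31,0,true,[],[.base 514,.edge 73 false]⟩,
⟨0,0,4,1,true,[.edge 35 false],[.code,.edge 30 false]⟩,
⟨0,1,32,0,true,[],[.edge 75 false]⟩,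
⟨0,1,31,0,true,[],[.edge 76 false]⟩,
⟨0,0,14,3,true,[.code,.edge 48 false,.code],[.code,.edge 46 false,.code]⟩,
⟨76,1,33,0,true,[],[.edge 78 false]⟩,
⟨0,0,15,2,true,[.code,.edge 63 false],[.code,.edge 35 false,.code,.edge 76 false,.edge 76 false,.code]⟩,
⟨448,7,33,0,true,[],[.edge 80 false]⟩,
⟨32,1,33,0,true,[],[.edge 81 true]⟩,
⟨0,1,1,3,true,[.code,.edge 77 false,.code],[.code]⟩,
⟨2,1,31,0,true,[],[.edge 83 false]⟩,
⟨2,1,32,0,true,[],[.edge 84 false]⟩,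
⟨0,1,4,2,false,[.edge 26 false,.edge 65 false],[.code,.edge 82 false]⟩,
⟨32,7,30,0,false,[],[.eqn 86 true]⟩,
⟨64,7,30,0,false,[],[.eqn 87 false,.eqn 87 false]⟩,
⟨0,1,5,2,true,[.edge 26 false,.edge 71 false],[.code]⟩,
⟨418,7,33,0,true,[],[.edge 89 false]⟩,
⟨64,1,33,0,true,[],[.edge 90 true]⟩,
⟨0,1,12,3,true,[.code,.edge 79 false,.edge 77 false],[.code]⟩,
⟨12,1,33,0,true,[],[.edge 92 false]⟩,
⟨0,1,15,4,true,[.code,.edge 76 false,.edge 91 false,.code],[.code,.edge 26 false,.code,.edge 65 false]⟩,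
⟨386,7,31,0,true,[],[.edge 94 false]⟩,
⟨384,7,32,0,true,[],[.edge 95 false]⟩,
⟨2,1,3,4,true,[.edge 85 false,.code,.edge 51 false,.code],[.edge 51 false]⟩,
⟨0,2,31,0,true,[],[.edge 97 false]⟩,
⟨6,1,14,3,false,[.code,.edge 82 false,.code],[.code,.edge 93 false,.code,.edge 82 false]⟩,
⟨910,7,30,0,false,[],[.eqn 99 true]⟩,
⟨878,7,30,0,false,[],[.eqn 87 false,.eqn 100 false]⟩,
⟨1317,7,30,0,false,[],[.eqn 100 false,.eqn 87 false]⟩,
⟨1269,7,30,0,false,[],[.eqn 100 false,.eqn 100 false]⟩,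
⟨1301,7,30,0,false,[],[.eqn 101 false,.eqn 100 false]⟩,
⟨82,7,30,0,false,[],[.eqn 102 false,.eqn 100 false]⟩,
⟨2,7,30,0,false,[],[.eqn 103 false,.eqn 100 false]⟩,
⟨1721,7,30,0,false,[],[.eqn 104 false,.eqn 87 false]⟩,
⟨956,7,30,0,false,[],[.eqn 105 false,.eqn 100 false]⟩,
⟨908,7,30,0,false,[],[.eqn 106 false,.eqn 100 false]⟩,
⟨1643,7,30,0,false,[],[.eqn 107 false,.eqn 100 false]⟩,
⟨1287,7,30,0,false,[],[.eqn 108 false,.eqn 87 false]⟩,
⟨1255,7,30,0,false,[],[.eqn 109 false,.eqn 100 false]⟩,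
⟨546,7,32,0,true,[],[.eqn 111 true,.edge 60 false]⟩,
⟨482,7,32,0,true,[],[.eqn 88 true,.edge 113 false]⟩,
⟨514,7,32,0,true,[],[.eqn 88 true,.edge 114 false]⟩,
⟨2,7,32,0,true,[],[.eqn 110 true,.edge 114 false]⟩,
⟨0,2,1,3,true,[.code,.edge 98 false,.code],[.code]⟩,
⟨2,2,31,0,true,[],[.edge 117 false]⟩,
⟨2,2,32,0,true,[],[.edge 118 false]⟩,
⟨0,3,4,4,false,[.edge 53 false,.edge 119 false,.edge 52 false,.code],[]⟩,
⟨320,3,30,0,false,[],[.eqn 120 true]⟩,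
⟨224,3,30,0,false,[],[.eqn 121 false,.eqn 121 false]⟩,
⟨32,3,33,0,true,[],[.eqn 122 true,.edge 53 false]⟩,
⟨64,3,33,0,true,[],[.eqn 122 true,.edge 123 false]⟩]

/-- Deductions. -/
def c2_1 : List Step := [
⟨482,3,1,1,true,[.code],[.code,.edge 54 false,.code]⟩,
⟨482,3,31,0,true,[],[.edge 125 false]⟩,
⟨2,4,32,0,true,[],[.edge 126 false]⟩,
⟨386,4,1,1,true,[.code],[.code,.edge 56 false,.code]⟩,
⟨386,4,31,0,true,[],[.edge 128 false]⟩,
⟨387,4,0,2,true,[.edge 129 false,.edge 59 false],[]⟩,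
⟨0,7,31,0,true,[],[.edge 130 false]⟩,
⟨386,4,32,0,true,[],[.edge 131 false]⟩,
⟨546,7,31,0,true,[],[.eqn 111 true,.edge 131 false]⟩,
⟨482,7,31,0,true,[],[.eqn 88 true,.edge 133 false]⟩,
⟨514,7,31,0,true,[],[.eqn 88 true,.edge 134 false]⟩,
⟨2,7,31,0,true,[],[.eqn 110 true,.edge 134 false]⟩,
⟨512,7,31,0,true,[],[.eqn 100 true,.edge 135 false]⟩,
⟨544,7,31,0,true,[],[.eqn 111 true,.edge 136 false]⟩,
⟨544,7,31,0,true,[],[.eqn 88 true,.edge 137 false]⟩,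
⟨1561,4,32,0,false,[],[.edge 139 false,.edge 138 false]⟩,
⟨82,4,30,0,false,[],[.eqn 140 true]⟩,
⟨32,4,30,0,false,[],[.eqn 141 false,.eqn 141 false]⟩,
⟨18,4,30,0,false,[],[.eqn 142 false,.eqn 141 false]⟩,
⟨64,4,30,0,false,[],[.eqn 143 false,.eqn 141 false]⟩,
⟨50,4,30,0,false,[],[.eqn 144 false,.eqn 141 false]⟩,
⟨2,4,31,0,true,[],[.eqn 141 true,.edge 55 false]⟩,
⟨0,4,32,0,true,[],[.eqn 141 true,.edge 127 false]⟩,
⟨390,4,1,1,false,[.code],[.code,.edge 132 false,.code,.edge 116 false]⟩,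
⟨0,5,30,0,false,[],[.eqn 148 true]⟩,
⟨384,4,31,0,true,[],[.eqn 149 true,.edge 59 false]⟩,
⟨480,3,0,0,true,[],[.edge 54 false,.edge 147 false]⟩,
⟨480,3,31,0,true,[],[.edge 151 false]⟩,
⟨482,3,32,0,true,[],[.edge 152 false]⟩,
⟨4,3,33,0,true,[],[.edge 7 false]⟩,
⟨40,3,33,0,true,[],[.eqn 122 true,.edge 154 false]⟩,
⟨481,3,29,3,true,[.code,.edge 154 false,.code],[.code,.edge 54 false,.code,.edge 132 false,.code,.edge 96 false,.code,.edge 95 false,.code,.edge 136 false,.code,.edge 146 false,.code,.edge 155 false,.code]⟩,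
⟨8,8,33,0,true,[],[.edge 156 false]⟩,
⟨14,8,33,0,true,[],[.edge 8 false]⟩,
⟨0,9,33,0,true,[],[.edge 158 true]⟩,
⟨497,3,29,5,true,[.code,.edge 154 false,.code,.edge 158 false,.code],[.code,.edge 54 false,.code,.edge 56 false,.eqn 149 false,.code,.edge 147 false,.code,.edge 126 false,.code,.edge 150 false,.code,.edge 95 false,.code]⟩,
⟨2,9,33,0,true,[],[.edge 160 false]⟩,
⟨32,7,33,0,true,[],[.edge 161 true]⟩,
⟨64,7,33,0,true,[],[.eqn 88 true,.edge 162 false]⟩,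
⟨622,7,33,0,true,[],[.eqn 112 true,.edge 162 false]⟩,
⟨0,7,33,0,true,[],[.eqn 88 true,.edge 163 false]⟩,
⟨740,7,33,0,true,[],[.eqn 112 true,.edge 163 false]⟩,
⟨590,7,33,0,true,[],[.eqn 88 true,.edge 164 false]⟩,
⟨676,7,33,0,true,[],[.eqn 112 true,.edge 164 false]⟩,
⟨676,7,33,0,true,[],[.eqn 88 true,.edge 166 false]⟩,
⟨117,9,33,0,false,[],[.edge 169 true,.edge 168 false]⟩,
⟨488,7,33,0,true,[],[.eqn 112 true,.edge 166 false]⟩,
⟨2,7,33,0,true,[],[.eqn 112 true,.edge 167 false]⟩,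
⟨34,7,33,0,true,[],[.eqn 112 true,.edge 168 false]⟩,
⟨102,9,30,0,false,[],[.eqn 170 true]⟩,
⟨66,7,33,0,true,[],[.eqn 112 true,.edge 171 false]⟩,
⟨556,7,33,0,true,[],[.eqn 112 true,.edge 172 false]⟩,
⟨746,7,33,0,true,[],[.eqn 112 true,.edge 175 false]⟩,
⟨582,7,33,0,true,[],[.eqn 112 true,.edge 176 false]⟩,
⟨386,4,27,4,true,[.code,.edge 132 false,.code,.edge 163 false],[.code,.edge 132 false,.edge 162 false]⟩,
⟨2,9,31,0,true,[],[.edge 179 false]⟩,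
⟨2,9,32,0,true,[],[.edge 180 false]⟩,
⟨386,4,28,8,true,[.code,.edge 132 false,.edge 165 false,.code,.edge 180 false,.code,.edge 180 false,.code],[.code]⟩,
⟨66,9,33,0,true,[],[.edge 182 false]⟩,
⟨386,4,33,0,true,[],[.edge 183 true]⟩,
⟨418,4,33,0,true,[],[.eqn 142 true,.edge 184 false]⟩,
⟨450,4,33,0,true,[],[.eqn 142 true,.edge 185 false]⟩,
⟨0,4,33,0,true,[],[.edge 9 false]⟩,
⟨0,10,33,0,true,[],[.edge 187 true]⟩,
⟨66,4,33,0,true,[],[.eqn 145 true,.edge 187 false]⟩,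
⟨32,4,33,0,true,[],[.eqn 145 true,.edge 189 false]⟩,
⟨2,4,33,0,true,[],[.eqn 145 true,.edge 190 false]⟩,
⟨386,4,29,3,true,[.code,.edge 187 false,.code],[.code,.edge 132 false,.code,.edge 69 false,.code,.edge 66 false,.code,.edge 62 false,.code,.edge 72 false,.code,.edge 136 false,.code,.edge 191 false,.code]⟩,
⟨8,10,33,0,true,[],[.edge 192 false]⟩,
⟨392,4,16,6,true,[.code,.edge 186 false,.code,.edge 181 false,.edge 181 false,.code],[.code,.edge 132 false,.code,.edge 60 false,.eqn 149 false]⟩,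
⟨34,9,33,0,true,[],[.edge 194 false]⟩,
⟨384,4,33,0,true,[],[.edge 195 true]⟩,
⟨402,4,29,3,true,[.code,.edge 187 false,.code],[.code,.edge 132 false,.code,.edge 96 false,.code,.edge 60 false,.eqn 149 false,.code,.edge 150 false,.code,.edge 62 false,.code,.edge 71 false,.code,.edge 173 false,.code]⟩,
⟨14,10,33,0,true,[],[.edge 197 false]⟩,
⟨10,9,33,0,true,[],[.edge 198 true]⟩,
⟨12,9,33,0,true,[],[.eqn 174 true,.edge 199 false]⟩,
⟨776,4,29,1,false,[.code],[.code,.edge 132 false,.code,.edge 96 false,.code,.edge 115 false,.eqn 149 false,.code,.edge 150 false,.code,.edge 62 false,.code,.edge 74 false,.code,.edge 177 false,.code,.edge 200 false,.code,.edge 188 false]⟩,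
⟨876,4,30,0,false,[],[.eqn 201 true]⟩,
⟨926,4,30,0,false,[],[.eqn 141 false,.eqn 202 false]⟩,
⟨894,4,30,0,false,[],[.eqn 143 false,.eqn 202 false]⟩,
⟨480,4,32,0,true,[],[.eqn 203 true,.edge 147 false]⟩,
⟨482,4,32,0,true,[],[.eqn 203 true,.edge 127 false]⟩,
⟨492,4,33,0,true,[],[.eqn 204 true,.edge 187 false]⟩,
⟨488,4,33,0,true,[],[.eqn 204 true,.edge 191 false]⟩,
⟨676,4,33,0,true,[],[.eqn 204 true,.edge 189 false]⟩,
⟨394,4,33,0,true,[],[.eqn 202 true,.edge 196 false]⟩,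
⟨398,4,33,0,true,[],[.eqn 202 true,.edge 184 false]⟩,
⟨544,4,32,0,true,[],[.eqn 145 true,.edge 206 false]⟩,
⟨426,4,33,0,true,[],[.eqn 142 true,.edge 210 false]⟩,
⟨422,4,33,0,true,[],[.eqn 202 true,.edge 213 false]⟩,
⟨778,4,14,3,true,[.code,.edge 214 false,.code],[.code,.edge 196 false,.code]⟩,
⟨14,9,33,0,true,[],[.edge 215 false]⟩,
⟨40,9,33,0,true,[],[.edge 216 true]⟩,
⟨778,4,21,6,true,[.code,.edge 214 false,.code,.edge 181 false,.code,.edge 180 false],[.edge 210 false,.code,.edge 217 false,.code]⟩,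
⟨4,9,33,0,true,[],[.edge 218 false]⟩,
⟨778,4,24,4,false,[.code,.edge 56 false,.eqn 149 false,.edge 132 false,.code],[.edge 210 false,.edge 181 false,.code,.edge 181 false,.code,.edge 161 false]⟩,
⟨23,7,30,0,false,[],[.eqn 220 true]⟩,
⟨42,7,33,0,true,[],[.eqn 221 true,.edge 162 false]⟩,
⟨588,7,33,0,true,[],[.eqn 221 true,.edge 178 false]⟩,
⟨750,7,33,0,true,[],[.eqn 221 true,.edge 177 false]⟩]

/-- Deductions. -/
def c2_2 : List Step := [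
⟨10,7,33,0,true,[],[.eqn 112 true,.edge 223 false]⟩,
⟨482,7,33,0,true,[],[.eqn 112 true,.edge 224 false]⟩,
⟨490,4,33,0,true,[],[.edge 10 false]⟩,
⟨0,11,33,0,true,[],[.edge 227 true]⟩,
⟨558,4,33,0,true,[],[.eqn 145 true,.edge 227 false]⟩,
⟨640,4,33,0,true,[],[.eqn 204 true,.edge 229 false]⟩,
⟨584,4,33,0,true,[],[.eqn 145 true,.edge 230 false]⟩,
⟨38,4,33,0,true,[],[.eqn 204 true,.edge 231 false]⟩,
⟨576,4,33,0,true,[],[.eqn 204 true,.edge 232 false]⟩,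
⟨480,4,33,0,true,[],[.edge 11 false]⟩,
⟨548,4,33,0,true,[],[.eqn 145 true,.edge 234 false]⟩,
⟨14,4,33,0,true,[],[.eqn 204 true,.edge 234 false]⟩,
⟨650,4,33,0,true,[],[.eqn 204 true,.edge 235 false]⟩,
⟨76,4,33,0,true,[],[.eqn 145 true,.edge 236 false]⟩,
⟨578,4,33,0,true,[],[.eqn 145 true,.edge 237 false]⟩,
⟨678,4,33,0,true,[],[.eqn 204 true,.edge 238 false]⟩,
⟨44,4,33,0,true,[],[.eqn 204 true,.edge 239 false]⟩,
⟨586,4,33,0,true,[],[.eqn 204 true,.edge 241 false]⟩,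
⟨482,4,33,0,true,[],[.edge 12 false]⟩,
⟨550,4,33,0,true,[],[.eqn 145 true,.edge 243 false]⟩,
⟨10,4,33,0,true,[],[.eqn 204 true,.edge 243 false]⟩,
⟨644,4,33,0,true,[],[.eqn 204 true,.edge 244 false]⟩,
⟨72,4,33,0,true,[],[.eqn 145 true,.edge 245 false]⟩,
⟨588,4,33,0,true,[],[.eqn 145 true,.edge 246 false]⟩,
⟨686,4,33,0,true,[],[.eqn 204 true,.edge 247 false]⟩,
⟨612,4,33,0,true,[],[.eqn 145 true,.edge 248 false]⟩,
⟨74,4,33,0,true,[],[.eqn 204 true,.edge 249 false]⟩,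
⟨672,4,33,0,true,[],[.eqn 204 true,.edge 251 false]⟩,
⟨864,4,4,1,true,[.edge 234 false],[.code,.edge 233 false]⟩,
⟨0,12,32,0,true,[],[.edge 253 false]⟩,
⟨0,11,31,0,true,[],[.edge 254 false]⟩,
⟨864,4,5,1,true,[.edge 234 false],[.code,.edge 252 false]⟩,
⟨0,12,31,0,true,[],[.edge 256 false]⟩,
⟨0,13,32,0,true,[],[.edge 257 false]⟩,
⟨864,4,13,2,true,[.code,.edge 227 false],[.code,.edge 248 false]⟩,
⟨0,11,32,0,true,[],[.edge 259 false]⟩,
⟨0,13,31,0,true,[],[.edge 260 false]⟩,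
⟨864,4,14,3,true,[.code,.edge 242 false,.code],[.code,.edge 227 false,.code]⟩,
⟨76,12,33,0,true,[],[.edge 262 false]⟩,
⟨10,11,33,0,true,[],[.edge 263 true]⟩,
⟨864,4,15,2,true,[.code,.edge 205 false],[.code,.edge 234 false,.code,.edge 254 false,.edge 260 false,.code]⟩,
⟨676,3,33,0,true,[],[.edge 265 false]⟩,
⟨580,3,33,0,true,[],[.eqn 122 true,.edge 266 false]⟩,
⟨484,3,33,0,true,[],[.eqn 122 true,.edge 267 false]⟩,
⟨864,4,16,6,true,[.code,.edge 240 false,.code,.edge 254 false,.edge 260 false,.code],[.code,.edge 205 false,.code,.edge 153 false]⟩,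
⟨64,13,33,0,true,[],[.edge 269 false]⟩,
⟨492,3,33,0,true,[],[.edge 270 true]⟩,
⟨684,3,33,0,true,[],[.eqn 122 true,.edge 271 false]⟩,
⟨864,4,25,6,true,[.edge 205 false,.edge 153 false,.code,.edge 272 false,.code,.edge 261 false],[.edge 205 false,.code,.edge 153 false,.code]⟩,
⟨64,11,33,0,true,[],[.edge 273 false]⟩,
⟨586,3,33,0,true,[],[.edge 274 true]⟩,
⟨490,3,33,0,true,[],[.eqn 122 true,.edge 275 false]⟩,
⟨865,4,3,2,true,[.edge 205 false,.code],[.edge 234 false,.edge 254 false,.code]⟩,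
⟨590,3,33,0,true,[],[.edge 277 false]⟩,
⟨32,11,33,0,true,[],[.edge 278 true]⟩,
⟨494,3,33,0,true,[],[.eqn 122 true,.edge 278 false]⟩,
⟨865,4,27,5,true,[.code,.edge 205 false,.code,.edge 278 false,.edge 255 false],[.code,.edge 205 false]⟩,
⟨32,12,33,0,true,[],[.edge 281 false]⟩,
⟨488,3,33,0,true,[],[.edge 282 true]⟩,
⟨868,4,7,2,true,[.code,.edge 208 false],[.code,.edge 209 false]⟩,
⟨0,10,31,0,true,[],[.edge 284 false]⟩,
⟨0,10,32,0,true,[],[.edge 285 false]⟩,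
⟨868,4,25,3,true,[.edge 206 false,.edge 153 false,.code],[.edge 206 false,.code,.edge 153 false,.code,.edge 272 false,.edge 258 false,.code]⟩,
⟨486,3,33,0,true,[],[.edge 287 false]⟩,
⟨678,3,33,0,true,[],[.eqn 122 true,.edge 288 false]⟩,
⟨582,3,33,0,true,[],[.eqn 122 true,.edge 289 false]⟩,
⟨876,4,3,2,true,[.edge 205 false,.code],[.edge 207 false,.edge 286 false,.code]⟩,
⟨578,3,33,0,true,[],[.edge 291 false]⟩,
⟨482,3,33,0,true,[],[.eqn 122 true,.edge 292 false]⟩,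
⟨0,7,14,3,true,[.code,.edge 222 false,.code],[.code,.edge 225 false,.code]⟩,
⟨78,9,33,0,true,[],[.edge 294 false]⟩,
⟨8,9,33,0,true,[],[.edge 295 true]⟩,
⟨0,7,21,6,true,[.code,.edge 222 false,.code,.edge 181 false,.code,.edge 180 false],[.edge 165 false,.code,.edge 296 false,.code]⟩,
⟨68,9,33,0,true,[],[.edge 297 false]⟩,
⟨480,3,14,3,true,[.code,.edge 275 false,.code],[.code,.edge 276 false,.code]⟩,
⟨44,11,33,0,true,[],[.edge 299 false]⟩,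
⟨74,11,33,0,true,[],[.edge 300 true]⟩,
⟨482,3,17,4,true,[.code,.edge 283 false,.edge 254 false,.code],[.code,.edge 293 false,.edge 286 false,.code,.edge 286 false,.code]⟩,
⟨42,11,33,0,true,[],[.edge 302 false]⟩,
⟨484,3,17,4,true,[.code,.edge 280 false,.edge 260 false,.code],[.code,.edge 268 false,.edge 258 false,.code,.edge 254 false,.code]⟩,
⟨42,13,33,0,true,[],[.edge 304 false]⟩,
⟨12,11,33,0,true,[],[.edge 305 true]⟩,
⟨484,3,21,6,true,[.code,.edge 292 false,.code,.edge 286 false,.code,.edge 285 false],[.edge 268 false,.code,.edge 305 false,.code]⟩,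
⟨6,10,33,0,true,[],[.edge 307 false]⟩,
⟨6,11,33,0,true,[],[.edge 308 true]⟩,
⟨490,3,21,6,true,[.code,.edge 290 false,.code,.edge 254 false,.code,.edge 255 false],[.edge 276 false,.code,.edge 301 false,.code]⟩,
⟨38,12,33,0,true,[],[.edge 310 false]⟩,
⟨38,11,33,0,true,[],[.edge 311 true]⟩,
⟨384,11,32,0,true,[],[.edge 13 false]⟩,
⟨0,14,31,0,true,[],[.edge 313 false]⟩,
⟨384,14,32,0,true,[],[.edge 14 false]⟩,
⟨0,15,31,0,true,[],[.edge 315 false]⟩,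
⟨384,15,32,0,true,[],[.edge 15 false]⟩,
⟨0,16,31,0,true,[],[.edge 317 false]⟩,
⟨97,7,29,14,false,[.code,.edge 226 false,.code,.edge 199 false,.code,.edge 308 false,.code,.edge 313 false,.code,.edge 315 false,.code,.edge 317 false,.code,.edge 318 false],[.code,.edge 60 false,.eqn 149 false,.code,.edge 212 false,.code]⟩,
⟨0,15,30,0,false,[],[.eqn 319 false]⟩,
⟨480,3,31,0,true,[],[.eqn 320 true,.edge 316 false]⟩,
⟨1213,14,32,0,false,[],[.edge 321 false,.edge 152 false]⟩,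
⟨512,3,32,0,true,[],[.eqn 320 true,.edge 317 false]⟩,
⟨384,3,32,0,true,[],[.eqn 122 true,.edge 323 false]⟩]

/-- Deductions. -/
def c2_3 : List Step := [
⟨0,14,30,0,false,[],[.eqn 322 false]⟩,
⟨386,3,31,0,true,[],[.eqn 325 true,.edge 314 false]⟩,
⟨546,3,31,0,true,[],[.eqn 122 true,.edge 326 false]⟩,
⟨514,3,31,0,true,[],[.eqn 122 true,.edge 327 false]⟩,
⟨386,11,1,1,false,[.code],[.code,.edge 313 false,.eqn 325 false,.code,.edge 324 false]⟩,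
⟨0,16,30,0,false,[],[.eqn 329 true]⟩,
⟨386,11,31,0,true,[],[.eqn 330 true,.edge 318 false,.eqn 320 false]⟩,
⟨4,11,33,0,true,[],[.edge 16 false]⟩,
⟨0,17,33,0,true,[],[.edge 332 true]⟩,
⟨8,17,33,0,true,[],[.edge 17 false]⟩,
⟨0,18,33,0,true,[],[.edge 334 true]⟩,
⟨2,18,33,0,true,[],[.edge 18 false]⟩,
⟨0,19,33,0,true,[],[.edge 336 true]⟩,
⟨406,11,29,7,true,[.code,.edge 332 false,.code,.edge 334 false,.code,.edge 336 false,.code],[.code,.edge 313 false,.eqn 325 false,.code,.edge 54 false,.code,.edge 56 false,.eqn 149 false,.code,.edge 129 false,.eqn 149 false,.code,.edge 146 false,.code]⟩,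
⟨480,19,32,0,true,[],[.edge 338 false]⟩,
⟨544,3,31,0,true,[],[.edge 339 false]⟩,
⟨512,3,31,0,true,[],[.eqn 122 true,.edge 340 false]⟩,
⟨408,11,0,2,true,[.edge 331 false,.edge 341 false],[]⟩,
⟨480,19,31,0,true,[],[.edge 342 false]⟩,
⟨386,11,32,0,true,[],[.edge 343 false]⟩,
⟨410,11,1,1,true,[.code],[.code,.edge 344 false,.code]⟩,
⟨384,11,31,0,true,[],[.edge 345 false]⟩,
⟨411,11,0,1,true,[.edge 346 false],[.edge 313 false,.eqn 325 false]⟩,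
⟨482,19,31,0,true,[],[.edge 347 false]⟩,
⟨386,3,32,0,true,[],[.edge 348 false]⟩,
⟨546,3,32,0,true,[],[.eqn 122 true,.edge 349 false]⟩,
⟨514,3,32,0,true,[],[.eqn 122 true,.edge 350 false]⟩,
⟨40,11,33,0,true,[],[.edge 19 false]⟩,
⟨8,20,33,0,true,[],[.edge 20 false]⟩,
⟨0,21,33,0,true,[],[.edge 353 true]⟩,
⟨461,11,29,5,true,[.code,.edge 352 false,.code,.edge 353 false,.code],[.code,.edge 313 false,.eqn 325 false,.code,.edge 54 false,.code,.edge 56 false,.eqn 149 false,.code,.edge 129 false,.eqn 149 false,.code,.edge 146 false,.code,.edge 340 false,.code]⟩,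
⟨2,21,33,0,true,[],[.edge 355 false]⟩,
⟨32,19,33,0,true,[],[.edge 356 true]⟩,
⟨477,11,29,3,true,[.code,.edge 352 false,.code],[.code,.edge 313 false,.eqn 325 false,.code,.edge 153 false,.code,.edge 351 false,.code,.edge 348 false,.code,.edge 126 false,.code,.edge 129 false,.eqn 149 false,.code,.edge 250 false,.code]⟩,
⟨14,20,33,0,true,[],[.edge 358 false]⟩,
⟨480,11,32,0,true,[],[.edge 21 false]⟩,
⟨0,22,31,0,true,[],[.edge 360 false]⟩,
⟨487,11,29,17,false,[.code,.edge 309 false,.code,.edge 193 false,.code,.edge 188 false,.code,.edge 206 false,.code,.edge 324 false,.eqn 330 false,.code,.edge 360 false,.code,.edge 361 false,.code,.edge 346 false,.code],[.code,.edge 360 false]⟩,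
⟨0,22,30,0,false,[],[.eqn 362 true]⟩,
⟨384,19,31,0,true,[],[.eqn 363 true,.edge 361 false]⟩,
⟨488,11,1,1,true,[.code],[.code,.edge 360 false,.eqn 363 false,.code]⟩,
⟨482,11,31,0,true,[],[.edge 365 false]⟩,
⟨2,11,33,0,true,[],[.edge 22 false]⟩,
⟨8,23,33,0,true,[],[.edge 23 false]⟩,
⟨0,24,33,0,true,[],[.edge 368 true]⟩,
⟨2,24,33,0,true,[],[.edge 24 false]⟩,
⟨0,25,33,0,true,[],[.edge 370 true]⟩,
⟨502,11,29,7,true,[.code,.edge 367 false,.code,.edge 368 false,.code,.edge 370 false,.code],[.code,.edge 360 false,.eqn 363 false,.code,.edge 339 false,.code,.edge 153 false,.code,.edge 152 false,.code,.edge 327 false,.code]⟩,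
⟨480,25,32,0,true,[],[.edge 372 false]⟩,
⟨480,11,31,0,true,[],[.edge 373 false]⟩,
⟨503,11,0,1,true,[.edge 374 false],[.edge 360 false,.eqn 363 false]⟩,
⟨480,25,31,0,true,[],[.edge 375 false]⟩,
⟨384,19,32,0,true,[],[.edge 376 false]⟩,
⟨503,11,29,7,false,[.code,.edge 309 false,.code,.edge 198 false,.code,.edge 219 false,.code],[.code,.edge 360 false,.eqn 363 false,.code,.edge 339 false,.code,.edge 54 false,.code,.edge 55 false,.code,.edge 327 false,.code,.edge 366 false]⟩,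
⟨0,19,30,0,false,[],[.eqn 378 true]⟩,
⟨480,9,31,0,true,[],[.eqn 379 true,.edge 364 false]⟩,
⟨386,9,31,0,true,[],[.eqn 379 true,.edge 343 false]⟩,
⟨480,9,32,0,true,[],[.eqn 379 true,.edge 377 false]⟩,
⟨386,9,32,0,true,[],[.eqn 379 true,.edge 339 false]⟩,
⟨2,9,33,0,true,[],[.eqn 379 true,.edge 337 false]⟩,
⟨116,18,33,0,false,[],[.edge 384 true,.edge 161 false]⟩,
⟨34,9,33,0,true,[],[.eqn 379 true,.edge 357 false]⟩,
⟨116,21,33,0,false,[],[.edge 386 true,.edge 195 false]⟩,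
⟨480,9,31,0,true,[],[.eqn 174 true,.edge 381 false]⟩,
⟨1561,11,32,0,false,[],[.edge 388 false,.edge 380 false]⟩,
⟨480,9,32,0,true,[],[.eqn 174 true,.edge 383 false]⟩,
⟨752,3,31,0,false,[],[.edge 390 false,.edge 382 false]⟩,
⟨0,18,30,0,false,[],[.eqn 385 false]⟩,
⟨34,7,33,0,true,[],[.eqn 392 true,.edge 335 false]⟩,
⟨8,17,33,0,false,[],[.edge 393 true,.edge 173 false]⟩,
⟨0,21,30,0,false,[],[.eqn 387 false]⟩,
⟨386,4,33,0,true,[],[.eqn 395 true,.edge 354 false]⟩,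
⟨356,20,33,0,false,[],[.edge 396 true,.edge 184 false]⟩,
⟨102,11,30,0,false,[],[.eqn 389 true]⟩,
⟨6,11,33,0,true,[],[.eqn 398 true,.edge 228 false]⟩,
⟨890,4,33,0,false,[],[.edge 399 true,.edge 309 false]⟩,
⟨12,11,33,0,true,[],[.eqn 398 true,.edge 264 false]⟩,
⟨317,12,33,0,false,[],[.edge 401 true,.edge 306 false]⟩,
⟨42,11,33,0,true,[],[.eqn 398 true,.edge 279 false]⟩,
⟨1268,3,33,0,false,[],[.edge 403 true,.edge 303 false]⟩,
⟨44,11,33,0,true,[],[.eqn 398 true,.edge 312 false]⟩,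
⟨55,12,33,0,false,[],[.edge 405 true,.edge 300 false]⟩,
⟨0,25,30,0,false,[],[.eqn 391 true]⟩,
⟨32,3,33,0,true,[],[.eqn 407 true,.edge 371 false]⟩,
⟨382,24,33,0,false,[],[.edge 408 true,.edge 123 false]⟩,
⟨0,17,30,0,false,[],[.eqn 394 false]⟩,
⟨0,9,33,0,true,[],[.eqn 410 true,.edge 333 false]⟩,
⟨4,11,33,0,false,[],[.edge 411 true,.edge 159 false]⟩,
⟨0,20,30,0,false,[],[.eqn 397 false]⟩,
⟨68,9,33,0,true,[],[.eqn 413 true,.edge 359 false]⟩,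
⟨377,13,33,0,false,[],[.edge 414 true,.edge 298 false]⟩,
⟨0,10,30,0,false,[],[.eqn 400 true]⟩,
⟨0,13,30,0,false,[],[.eqn 402 true]⟩,
⟨1268,3,30,0,false,[],[.eqn 404 false,.eqn 416 false]⟩,
⟨0,4,30,0,false,[],[.eqn 418 true]⟩,
⟨514,3,31,0,true,[],[.eqn 419 true,.edge 55 false]⟩,
⟨1254,3,32,0,false,[],[.edge 420 false,.edge 328 false]⟩,
⟨64,3,33,0,true,[],[.eqn 419 true,.edge 211 false]⟩,
⟨318,9,33,0,false,[],[.edge 422 true,.edge 124 false]⟩,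
⟨738,3,33,0,true,[],[.eqn 419 true,.edge 235 false]⟩]

/-- Deductions. -/
def c2_4 : List Step := [
⟨0,12,30,0,false,[],[.eqn 406 false]⟩,
⟨0,24,30,0,false,[],[.eqn 409 false]⟩,
⟨0,2,33,0,true,[],[.eqn 426 true,.edge 369 false]⟩,
⟨356,23,33,0,false,[],[.edge 427 true,.edge 50 false]⟩,
⟨0,11,30,0,false,[],[.eqn 412 false]⟩,
⟨8,8,33,0,true,[],[.eqn 429 true,.edge 367 false]⟩,
⟨353,23,33,0,false,[],[.edge 430 true,.edge 157 false]⟩,
⟨377,13,30,0,false,[.eqn 417 false,.eqn 425 false,.eqn 429 false],[.eqn 415 false]⟩,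
⟨0,9,30,0,false,[],[.eqn 432 true]⟩,
⟨8,8,33,0,true,[],[.eqn 433 true,.edge 161 false]⟩,
⟨33,7,33,0,false,[],[.edge 434 true,.edge 157 false]⟩,
⟨1254,3,30,0,false,[],[.eqn 421 false,.eqn 429 false]⟩,
⟨0,8,30,0,false,[],[.eqn 436 true]⟩,
⟨318,9,30,0,false,[.eqn 433 false,.eqn 437 false],[.eqn 423 false]⟩,
⟨0,3,30,0,false,[],[.eqn 438 false]⟩,
⟨36,2,33,0,true,[],[.eqn 439 true,.edge 424 false,.eqn 425 false,.eqn 429 false,.eqn 437 false,.eqn 439 false]⟩,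
⟨0,23,30,0,false,[],[.eqn 428 false]⟩,
⟨353,23,30,0,false,[.eqn 441 false],[.eqn 431 false,.eqn 437 false,.eqn 439 false]⟩,
⟨0,2,30,0,false,[],[.eqn 442 true]⟩,
⟨0,1,33,0,true,[],[.eqn 443 true,.edge 440 false,.eqn 443 false]⟩,
⟨329,1,33,0,false,[],[.edge 444 true,.edge 26 false]⟩,
⟨33,7,30,0,false,[],[.eqn 435 false,.eqn 437 false,.eqn 439 false,.eqn 443 false]⟩,
⟨0,7,30,0,false,[],[.eqn 446 false]⟩,
⟨0,1,30,0,false,[],[.eqn 445 false]⟩]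

/-- All deductions. -/
def c2_ : List Step :=
  List.flatten [c2_0,c2_1,c2_2,c2_3,c2_4]

/-- A collapsing certificate. -/
def p2 : Proto := ⟨d2, c2_⟩

/-- Its last walk. -/
def m2 : List Mv := [.edge 68 false,.eqn 447 false,.eqn 448 false]

/-- Node definitions. -/
def d3 : List NDef := [⟨2,768,0⟩,⟨2,354,1⟩,⟨2,264,2⟩,⟨1,480,3⟩,⟨1,384,4⟩,⟨1,384,5⟩,⟨0,2,5⟩,⟨2,4,3⟩,⟨2,258,8⟩,⟨2,97,4⟩,⟨2,491,4⟩,⟨2,497,4⟩,
⟨2,498,4⟩,⟨1,487,11⟩,⟨1,384,14⟩,⟨1,384,15⟩,⟨1,572,16⟩,⟨0,137,16⟩,⟨2,3,11⟩,⟨2,354,19⟩,⟨2,264,20⟩]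

/-- Deductions. -/
def c3_0 : List Step := [
⟨384,0,33,0,true,[],[.edge 0 false]⟩,
⟨0,1,33,0,true,[],[.edge 21 true]⟩,
⟨64,0,33,0,true,[],[.base 384,.edge 21 false]⟩,
⟨448,0,33,0,true,[],[.base 384,.edge 21 false]⟩,
⟨66,0,33,0,true,[],[.base 64,.edge 23 false]⟩,
⟨704,0,33,0,true,[],[.base 64,.edge 23 false]⟩,
⟨32,0,33,0,true,[],[.base 448,.edge 24 false]⟩,
⟨416,0,33,0,true,[],[.base 448,.edge 24 false]⟩,
⟨386,0,33,0,true,[],[.base 66,.edge 25 false]⟩,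
⟨718,0,33,0,true,[],[.base 83,.edge 25 false]⟩,
⟨718,0,33,0,true,[],[.base 705,.edge 26 false]⟩,
⟨368,1,33,0,false,[],[.edge 31 true,.edge 30 false]⟩,
⟨34,0,33,0,true,[],[.base 32,.edge 27 false]⟩,
⟨0,0,33,0,true,[],[.base 416,.edge 28 false]⟩,
⟨452,0,33,0,true,[],[.base 387,.edge 29 false]⟩,
⟨584,0,33,0,true,[],[.base 719,.edge 30 false]⟩,
⟨96,1,30,0,false,[],[.eqn 32 true]⟩,
⟨648,0,33,0,true,[],[.base 50,.edge 33 false]⟩,
⟨424,0,33,0,true,[],[.base 452,.edge 35 false]⟩,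
⟨66,0,33,0,true,[],[.base 585,.edge 36 false]⟩,
⟨272,1,33,0,false,[],[.edge 40 true,.edge 25 false]⟩,
⟨642,0,33,0,true,[],[.base 648,.edge 38 false]⟩,
⟨8,0,33,0,true,[],[.base 424,.edge 39 false]⟩,
⟨256,1,30,0,false,[],[.eqn 41 true]⟩,
⟨650,0,33,0,true,[],[.base 642,.edge 42 false]⟩,
⟨10,0,33,0,true,[],[.base 24,.edge 43 false]⟩,
⟨490,0,33,0,true,[],[.base 650,.edge 45 false]⟩,
⟨42,0,33,0,true,[],[.base 490,.edge 47 false]⟩,
⟨14,1,33,0,true,[],[.edge 1 false]⟩,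
⟨8,1,33,0,true,[],[.eqn 37 true,.edge 49 false]⟩,
⟨2,1,33,0,true,[],[.eqn 44 true,.edge 50 false]⟩,
⟨2,2,33,0,true,[],[.edge 2 false]⟩,
⟨0,3,33,0,true,[],[.edge 52 true]⟩,
⟨480,3,32,0,true,[],[.edge 3 false]⟩,
⟨0,4,31,0,true,[],[.edge 54 false]⟩,
⟨384,4,32,0,true,[],[.edge 4 false]⟩,
⟨384,5,32,0,true,[],[.edge 5 false]⟩,
⟨0,6,31,0,true,[],[.edge 57 false]⟩,
⟨2,5,31,0,true,[],[.edge 6 false]⟩,
⟨0,7,32,0,true,[],[.edge 59 false]⟩,
⟨0,0,29,17,true,[.code,.edge 21 false,.code,.edge 49 false,.code,.edge 52 false,.code,.edge 54 false,.code,.edge 56 false,.code,.edge 57 false,.code,.edge 58 false,.code,.edge 59 false,.code],[.code]⟩,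
⟨384,7,31,0,true,[],[.edge 61 false]⟩,
⟨0,0,32,0,true,[],[.edge 62 false]⟩,
⟨2,0,32,0,true,[],[.base 0,.edge 63 false]⟩,
⟨384,0,32,0,true,[],[.base 0,.edge 63 false]⟩,
⟨386,0,32,0,true,[],[.base 2,.edge 64 false]⟩,
⟨0,0,1,1,true,[.code],[.code,.edge 64 false,.code]⟩,
⟨0,0,31,0,true,[],[.edge 67 false]⟩,
⟨386,7,32,0,true,[],[.edge 68 false]⟩,
⟨2,0,31,0,true,[],[.base 0,.edge 68 false]⟩,
⟨384,0,31,0,true,[],[.base 0,.edge 68 false]⟩,
⟨386,0,31,0,true,[],[.base 2,.edge 70 false]⟩,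
⟨514,0,31,0,true,[],[.base 2,.edge 70 false]⟩,
⟨482,0,31,0,true,[],[.base 514,.edge 73 false]⟩,
⟨0,0,4,1,true,[.edge 34 false],[.code,.edge 27 false]⟩,
⟨0,1,32,0,true,[],[.edge 75 false]⟩,
⟨0,1,31,0,true,[],[.edge 76 false]⟩,
⟨0,0,14,3,true,[.code,.edge 48 false,.code],[.code,.edge 46 false,.code]⟩,
⟨76,1,33,0,true,[],[.edge 78 false]⟩,
⟨0,0,15,2,true,[.code,.edge 63 false],[.code,.edge 34 false,.code,.edge 76 false,.edge 76 false,.code]⟩,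
⟨448,7,33,0,true,[],[.edge 80 false]⟩,
⟨32,1,33,0,true,[],[.edge 81 true]⟩,
⟨0,1,1,3,true,[.code,.edge 77 false,.code],[.code]⟩,
⟨2,1,31,0,true,[],[.edge 83 false]⟩,
⟨2,1,32,0,true,[],[.edge 84 false]⟩,
⟨0,1,4,2,false,[.edge 22 false,.edge 65 false],[.code,.edge 82 false]⟩,
⟨32,7,30,0,false,[],[.eqn 86 true]⟩,
⟨64,7,30,0,false,[],[.eqn 87 false,.eqn 87 false]⟩,
⟨0,1,5,2,true,[.edge 22 false,.edge 71 false],[.code]⟩,
⟨418,7,33,0,true,[],[.edge 89 false]⟩,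
⟨64,1,33,0,true,[],[.edge 90 true]⟩,
⟨0,1,12,3,true,[.code,.edge 79 false,.edge 77 false],[.code]⟩,
⟨12,1,33,0,true,[],[.edge 92 false]⟩,
⟨0,1,15,4,true,[.code,.edge 76 false,.edge 91 false,.code],[.code,.edge 22 false,.code,.edge 65 false]⟩,
⟨386,7,31,0,true,[],[.edge 94 false]⟩,
⟨384,7,32,0,true,[],[.edge 95 false]⟩,
⟨2,1,3,4,true,[.edge 85 false,.code,.edge 51 false,.code],[.edge 51 false]⟩,
⟨0,2,31,0,true,[],[.edge 97 false]⟩,
⟨6,1,14,3,false,[.code,.edge 82 false,.code],[.code,.edge 93 false,.code,.edge 82 false]⟩,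
⟨910,7,30,0,false,[],[.eqn 99 true]⟩,
⟨878,7,30,0,false,[],[.eqn 87 false,.eqn 100 false]⟩,
⟨1317,7,30,0,false,[],[.eqn 100 false,.eqn 87 false]⟩,
⟨1269,7,30,0,false,[],[.eqn 100 false,.eqn 100 false]⟩,
⟨1301,7,30,0,false,[],[.eqn 101 false,.eqn 100 false]⟩,
⟨82,7,30,0,false,[],[.eqn 102 false,.eqn 100 false]⟩,
⟨2,7,30,0,false,[],[.eqn 103 false,.eqn 100 false]⟩,
⟨1721,7,30,0,false,[],[.eqn 104 false,.eqn 87 false]⟩,
⟨956,7,30,0,false,[],[.eqn 105 false,.eqn 100 false]⟩,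
⟨908,7,30,0,false,[],[.eqn 106 false,.eqn 100 false]⟩,
⟨1643,7,30,0,false,[],[.eqn 107 false,.eqn 100 false]⟩,
⟨1287,7,30,0,false,[],[.eqn 108 false,.eqn 87 false]⟩,
⟨1255,7,30,0,false,[],[.eqn 109 false,.eqn 100 false]⟩,
⟨546,7,32,0,true,[],[.eqn 111 true,.edge 60 false]⟩,
⟨482,7,32,0,true,[],[.eqn 88 true,.edge 113 false]⟩,
⟨514,7,32,0,true,[],[.eqn 88 true,.edge 114 false]⟩,
⟨2,7,32,0,true,[],[.eqn 110 true,.edge 114 false]⟩,
⟨0,2,1,3,true,[.code,.edge 98 false,.code],[.code]⟩,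
⟨2,2,31,0,true,[],[.edge 117 false]⟩,
⟨2,2,32,0,true,[],[.edge 118 false]⟩,
⟨0,3,4,4,false,[.edge 53 false,.edge 119 false,.edge 52 false,.code],[]⟩]

/-- Deductions. -/
def c3_1 : List Step := [
⟨320,3,30,0,false,[],[.eqn 120 true]⟩,
⟨224,3,30,0,false,[],[.eqn 121 false,.eqn 121 false]⟩,
⟨32,3,33,0,true,[],[.eqn 122 true,.edge 53 false]⟩,
⟨64,3,33,0,true,[],[.eqn 122 true,.edge 123 false]⟩,
⟨482,3,1,1,true,[.code],[.code,.edge 54 false,.code]⟩,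
⟨482,3,31,0,true,[],[.edge 125 false]⟩,
⟨2,4,32,0,true,[],[.edge 126 false]⟩,
⟨386,4,1,1,true,[.code],[.code,.edge 56 false,.code]⟩,
⟨386,4,31,0,true,[],[.edge 128 false]⟩,
⟨387,4,0,2,true,[.edge 129 false,.edge 59 false],[]⟩,
⟨0,7,31,0,true,[],[.edge 130 false]⟩,
⟨386,4,32,0,true,[],[.edge 131 false]⟩,
⟨546,7,31,0,true,[],[.eqn 111 true,.edge 131 false]⟩,
⟨482,7,31,0,true,[],[.eqn 88 true,.edge 133 false]⟩,
⟨514,7,31,0,true,[],[.eqn 88 true,.edge 134 false]⟩,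
⟨2,7,31,0,true,[],[.eqn 110 true,.edge 134 false]⟩,
⟨512,7,31,0,true,[],[.eqn 100 true,.edge 135 false]⟩,
⟨544,7,31,0,true,[],[.eqn 111 true,.edge 136 false]⟩,
⟨544,7,31,0,true,[],[.eqn 88 true,.edge 137 false]⟩,
⟨1561,4,32,0,false,[],[.edge 139 false,.edge 138 false]⟩,
⟨82,4,30,0,false,[],[.eqn 140 true]⟩,
⟨32,4,30,0,false,[],[.eqn 141 false,.eqn 141 false]⟩,
⟨18,4,30,0,false,[],[.eqn 142 false,.eqn 141 false]⟩,
⟨64,4,30,0,false,[],[.eqn 143 false,.eqn 141 false]⟩,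
⟨50,4,30,0,false,[],[.eqn 144 false,.eqn 141 false]⟩,
⟨2,4,31,0,true,[],[.eqn 141 true,.edge 55 false]⟩,
⟨0,4,32,0,true,[],[.eqn 141 true,.edge 127 false]⟩,
⟨390,4,1,1,false,[.code],[.code,.edge 132 false,.code,.edge 116 false]⟩,
⟨0,5,30,0,false,[],[.eqn 148 true]⟩,
⟨384,4,31,0,true,[],[.eqn 149 true,.edge 59 false]⟩,
⟨480,3,0,0,true,[],[.edge 54 false,.edge 147 false]⟩,
⟨480,3,31,0,true,[],[.edge 151 false]⟩,
⟨482,3,32,0,true,[],[.edge 152 false]⟩,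
⟨4,3,33,0,true,[],[.edge 7 false]⟩,
⟨8,8,33,0,true,[],[.edge 8 false]⟩,
⟨497,3,29,5,true,[.code,.edge 154 false,.code,.edge 155 false,.code],[.code,.edge 54 false,.code,.edge 56 false,.eqn 149 false,.code,.edge 147 false,.code,.edge 126 false,.code,.edge 150 false,.code,.edge 95 false,.code]⟩,
⟨2,9,33,0,true,[],[.edge 156 false]⟩,
⟨32,7,33,0,true,[],[.edge 157 true]⟩,
⟨64,7,33,0,true,[],[.eqn 88 true,.edge 158 false]⟩,
⟨622,7,33,0,true,[],[.eqn 112 true,.edge 158 false]⟩,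
⟨0,7,33,0,true,[],[.eqn 88 true,.edge 159 false]⟩,
⟨740,7,33,0,true,[],[.eqn 112 true,.edge 159 false]⟩,
⟨676,7,33,0,true,[],[.eqn 112 true,.edge 160 false]⟩,
⟨676,7,33,0,true,[],[.eqn 88 true,.edge 162 false]⟩,
⟨19,9,33,0,false,[],[.edge 164 true,.edge 163 false]⟩,
⟨488,7,33,0,true,[],[.eqn 112 true,.edge 162 false]⟩,
⟨34,7,33,0,true,[],[.eqn 112 true,.edge 163 false]⟩,
⟨102,9,30,0,false,[],[.eqn 165 true]⟩,
⟨66,7,33,0,true,[],[.eqn 112 true,.edge 166 false]⟩,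
⟨746,7,33,0,true,[],[.eqn 112 true,.edge 169 false]⟩,
⟨386,4,27,4,true,[.code,.edge 132 false,.code,.edge 159 false],[.code,.edge 132 false,.edge 158 false]⟩,
⟨2,9,31,0,true,[],[.edge 171 false]⟩,
⟨2,9,32,0,true,[],[.edge 172 false]⟩,
⟨386,4,28,8,true,[.code,.edge 132 false,.edge 161 false,.code,.edge 172 false,.code,.edge 172 false,.code],[.code]⟩,
⟨66,9,33,0,true,[],[.edge 174 false]⟩,
⟨386,4,33,0,true,[],[.edge 175 true]⟩,
⟨418,4,33,0,true,[],[.eqn 142 true,.edge 176 false]⟩,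
⟨450,4,33,0,true,[],[.eqn 142 true,.edge 177 false]⟩,
⟨0,4,33,0,true,[],[.edge 9 false]⟩,
⟨0,10,33,0,true,[],[.edge 179 true]⟩,
⟨66,4,33,0,true,[],[.eqn 145 true,.edge 179 false]⟩,
⟨32,4,33,0,true,[],[.eqn 145 true,.edge 181 false]⟩,
⟨2,4,33,0,true,[],[.eqn 145 true,.edge 182 false]⟩,
⟨386,4,29,3,true,[.code,.edge 179 false,.code],[.code,.edge 132 false,.code,.edge 69 false,.code,.edge 66 false,.code,.edge 62 false,.code,.edge 72 false,.code,.edge 136 false,.code,.edge 183 false,.code]⟩,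
⟨14,10,33,0,true,[],[.edge 184 false]⟩,
⟨392,4,16,6,true,[.code,.edge 178 false,.code,.edge 173 false,.edge 173 false,.code],[.code,.edge 132 false,.code,.edge 60 false,.eqn 149 false]⟩,
⟨34,9,33,0,true,[],[.edge 186 false]⟩,
⟨384,4,33,0,true,[],[.edge 187 true]⟩,
⟨402,4,29,3,true,[.code,.edge 179 false,.code],[.code,.edge 132 false,.code,.edge 96 false,.code,.edge 60 false,.eqn 149 false,.code,.edge 150 false,.code,.edge 62 false,.code,.edge 71 false,.code,.edge 167 false,.code]⟩,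
⟨8,10,33,0,true,[],[.edge 189 false]⟩,
⟨10,9,33,0,true,[],[.edge 190 true]⟩,
⟨12,9,33,0,true,[],[.eqn 168 true,.edge 191 false]⟩,
⟨776,4,29,1,false,[.code],[.code,.edge 132 false,.code,.edge 96 false,.code,.edge 115 false,.eqn 149 false,.code,.edge 150 false,.code,.edge 62 false,.code,.edge 74 false,.code,.edge 170 false,.code,.edge 192 false,.code,.edge 180 false]⟩,
⟨876,4,30,0,false,[],[.eqn 193 true]⟩,
⟨926,4,30,0,false,[],[.eqn 141 false,.eqn 194 false]⟩,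
⟨894,4,30,0,false,[],[.eqn 143 false,.eqn 194 false]⟩,
⟨480,4,32,0,true,[],[.eqn 195 true,.edge 147 false]⟩,
⟨482,4,32,0,true,[],[.eqn 195 true,.edge 127 false]⟩,
⟨492,4,33,0,true,[],[.eqn 196 true,.edge 179 false]⟩,
⟨488,4,33,0,true,[],[.eqn 196 true,.edge 183 false]⟩,
⟨676,4,33,0,true,[],[.eqn 196 true,.edge 181 false]⟩,
⟨394,4,33,0,true,[],[.eqn 194 true,.edge 188 false]⟩,
⟨398,4,33,0,true,[],[.eqn 194 true,.edge 176 false]⟩,
⟨544,4,32,0,true,[],[.eqn 145 true,.edge 198 false]⟩,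
⟨778,4,24,4,false,[.code,.edge 56 false,.eqn 149 false,.edge 132 false,.code],[.edge 202 false,.edge 173 false,.code,.edge 173 false,.code,.edge 157 false]⟩,
⟨23,7,30,0,false,[],[.eqn 205 true]⟩,
⟨750,7,33,0,true,[],[.eqn 206 true,.edge 170 false]⟩,
⟨482,7,33,0,true,[],[.eqn 112 true,.edge 207 false]⟩,
⟨490,4,33,0,true,[],[.edge 10 false]⟩,
⟨0,11,33,0,true,[],[.edge 209 true]⟩,
⟨558,4,33,0,true,[],[.eqn 145 true,.edge 209 false]⟩,
⟨640,4,33,0,true,[],[.eqn 196 true,.edge 211 false]⟩,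
⟨584,4,33,0,true,[],[.eqn 145 true,.edge 212 false]⟩,
⟨38,4,33,0,true,[],[.eqn 196 true,.edge 213 false]⟩,
⟨576,4,33,0,true,[],[.eqn 196 true,.edge 214 false]⟩,
⟨480,4,33,0,true,[],[.edge 11 false]⟩,
⟨482,4,33,0,true,[],[.edge 12 false]⟩,
⟨550,4,33,0,true,[],[.eqn 145 true,.edge 217 false]⟩,
⟨10,4,33,0,true,[],[.eqn 196 true,.edge 217 false]⟩,
⟨644,4,33,0,true,[],[.eqn 196 true,.edge 218 false]⟩]

/-- Deductions. -/
def c3_2 : List Step := [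
⟨72,4,33,0,true,[],[.eqn 145 true,.edge 219 false]⟩,
⟨588,4,33,0,true,[],[.eqn 145 true,.edge 220 false]⟩,
⟨686,4,33,0,true,[],[.eqn 196 true,.edge 221 false]⟩,
⟨74,4,33,0,true,[],[.eqn 196 true,.edge 223 false]⟩,
⟨672,4,33,0,true,[],[.eqn 196 true,.edge 224 false]⟩,
⟨864,4,4,1,true,[.edge 216 false],[.code,.edge 215 false]⟩,
⟨0,12,32,0,true,[],[.edge 226 false]⟩,
⟨0,11,31,0,true,[],[.edge 227 false]⟩,
⟨864,4,5,1,true,[.edge 216 false],[.code,.edge 225 false]⟩,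
⟨0,12,31,0,true,[],[.edge 229 false]⟩,
⟨0,13,32,0,true,[],[.edge 230 false]⟩,
⟨864,4,13,2,true,[.code,.edge 209 false],[.code,.edge 222 false]⟩,
⟨0,11,32,0,true,[],[.edge 232 false]⟩,
⟨864,4,15,2,true,[.code,.edge 197 false],[.code,.edge 216 false,.code,.edge 227 false,.edge 233 false,.code]⟩,
⟨676,3,33,0,true,[],[.edge 234 false]⟩,
⟨580,3,33,0,true,[],[.eqn 122 true,.edge 235 false]⟩,
⟨484,3,33,0,true,[],[.eqn 122 true,.edge 236 false]⟩,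
⟨865,4,3,2,true,[.edge 197 false,.code],[.edge 216 false,.edge 227 false,.code]⟩,
⟨590,3,33,0,true,[],[.edge 238 false]⟩,
⟨32,11,33,0,true,[],[.edge 239 true]⟩,
⟨494,3,33,0,true,[],[.eqn 122 true,.edge 239 false]⟩,
⟨865,4,27,5,true,[.code,.edge 197 false,.code,.edge 239 false,.edge 228 false],[.code,.edge 197 false]⟩,
⟨32,12,33,0,true,[],[.edge 242 false]⟩,
⟨488,3,33,0,true,[],[.edge 243 true]⟩,
⟨868,4,7,2,true,[.code,.edge 200 false],[.code,.edge 201 false]⟩,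
⟨0,10,31,0,true,[],[.edge 245 false]⟩,
⟨0,10,32,0,true,[],[.edge 246 false]⟩,
⟨876,4,3,2,true,[.edge 197 false,.code],[.edge 199 false,.edge 247 false,.code]⟩,
⟨578,3,33,0,true,[],[.edge 248 false]⟩,
⟨482,3,33,0,true,[],[.eqn 122 true,.edge 249 false]⟩,
⟨482,3,17,4,true,[.code,.edge 244 false,.edge 227 false,.code],[.code,.edge 250 false,.edge 247 false,.code,.edge 247 false,.code]⟩,
⟨42,11,33,0,true,[],[.edge 251 false]⟩,
⟨484,3,17,4,true,[.code,.edge 241 false,.edge 233 false,.code],[.code,.edge 237 false,.edge 231 false,.code,.edge 227 false,.code]⟩,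
⟨42,13,33,0,true,[],[.edge 253 false]⟩,
⟨484,3,21,6,true,[.code,.edge 249 false,.code,.edge 247 false,.code,.edge 246 false],[.edge 237 false,.code,.edge 254 false,.code]⟩,
⟨6,10,33,0,true,[],[.edge 255 false]⟩,
⟨6,11,33,0,true,[],[.edge 256 true]⟩,
⟨480,11,32,0,true,[],[.edge 13 false]⟩,
⟨384,14,32,0,true,[],[.edge 14 false]⟩,
⟨0,15,31,0,true,[],[.edge 259 false]⟩,
⟨384,15,32,0,true,[],[.edge 15 false]⟩,
⟨0,16,31,0,true,[],[.edge 261 false]⟩,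
⟨97,7,29,14,false,[.code,.edge 208 false,.code,.edge 191 false,.code,.edge 256 false,.code,.edge 258 false,.code,.edge 259 false,.code,.edge 261 false,.code,.edge 262 false],[.code,.edge 60 false,.eqn 149 false,.code,.edge 204 false,.code]⟩,
⟨0,15,30,0,false,[],[.eqn 263 false]⟩,
⟨480,3,31,0,true,[],[.eqn 264 true,.edge 260 false]⟩,
⟨1213,14,32,0,false,[],[.edge 265 false,.edge 152 false]⟩,
⟨512,3,32,0,true,[],[.eqn 264 true,.edge 261 false]⟩,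
⟨384,3,32,0,true,[],[.eqn 122 true,.edge 267 false]⟩,
⟨0,14,30,0,false,[],[.eqn 266 false]⟩,
⟨544,16,32,0,true,[],[.edge 16 false]⟩,
⟨0,17,31,0,true,[],[.edge 270 false]⟩,
⟨2,16,31,0,true,[],[.edge 17 false]⟩,
⟨407,11,29,17,true,[.code,.edge 257 false,.code,.edge 185 false,.code,.edge 180 false,.code,.edge 198 false,.code,.edge 268 false,.code,.edge 270 false,.code,.edge 271 false,.code,.edge 272 false,.code],[.code]⟩,
⟨384,18,31,0,true,[],[.edge 273 false]⟩,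
⟨384,11,32,0,true,[],[.edge 274 false]⟩,
⟨408,11,1,1,true,[.code],[.code,.edge 275 false,.code]⟩,
⟨386,11,31,0,true,[],[.edge 276 false]⟩,
⟨482,11,1,1,false,[.code],[.code,.edge 258 false,.eqn 269 false,.code,.edge 268 false]⟩,
⟨0,16,30,0,false,[],[.eqn 278 true]⟩,
⟨482,11,31,0,true,[],[.eqn 279 true,.edge 262 false,.eqn 264 false]⟩,
⟨480,11,31,0,true,[],[.eqn 279 true,.edge 272 false]⟩,
⟨384,11,32,0,true,[],[.eqn 279 true,.edge 270 false]⟩,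
⟨26,17,31,0,false,[],[.edge 282 false,.edge 275 false]⟩,
⟨0,18,30,0,false,[],[.eqn 283 true]⟩,
⟨486,11,0,1,true,[.edge 281 false,.eqn 284 false],[.edge 258 false,.eqn 269 false]⟩,
⟨544,17,31,0,true,[],[.edge 285 false]⟩,
⟨386,3,32,0,true,[],[.edge 286 false]⟩,
⟨546,3,32,0,true,[],[.eqn 122 true,.edge 287 false]⟩,
⟨514,3,32,0,true,[],[.eqn 122 true,.edge 288 false]⟩,
⟨486,11,1,3,true,[.code,.edge 281 false,.eqn 284 false,.code],[.code]⟩,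
⟨546,17,31,0,true,[],[.edge 290 false]⟩,
⟨482,11,32,0,true,[],[.edge 291 false]⟩,
⟨2,11,33,0,true,[],[.edge 18 false]⟩,
⟨0,19,33,0,true,[],[.edge 293 true]⟩,
⟨14,19,33,0,true,[],[.edge 19 false]⟩,
⟨2,20,33,0,true,[],[.edge 20 false]⟩,
⟨486,11,29,7,true,[.code,.edge 293 false,.code,.edge 295 false,.code,.edge 296 false,.code],[.code,.edge 258 false,.eqn 269 false,.code,.edge 54 false,.code,.edge 56 false,.eqn 149 false,.code,.edge 129 false,.eqn 149 false,.code,.edge 146 false,.code]⟩,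
⟨480,21,32,0,true,[],[.edge 297 false]⟩,
⟨544,3,31,0,true,[],[.edge 298 false]⟩,
⟨512,3,31,0,true,[],[.eqn 122 true,.edge 299 false]⟩,
⟨488,11,0,2,false,[.edge 280 false,.edge 300 false],[.edge 292 false]⟩,
⟨0,21,30,0,false,[],[.eqn 301 false]⟩,
⟨502,11,29,3,false,[.code,.edge 293 false,.code],[.code,.edge 258 false,.eqn 269 false,.code,.edge 153 false,.code,.edge 289 false,.code,.edge 286 false,.code,.edge 126 false,.code,.edge 129 false,.eqn 149 false,.code,.edge 211 false,.code,.edge 293 false]⟩,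
⟨104,19,30,0,false,[],[.eqn 303 true]⟩,
⟨23,19,30,0,false,[],[.eqn 304 false,.eqn 304 false]⟩,
⟨127,19,30,0,false,[],[.eqn 305 false,.eqn 304 false]⟩,
⟨14,19,33,0,true,[],[.eqn 306 true,.edge 294 false]⟩,
⟨281,11,33,0,false,[],[.edge 307 true,.edge 295 false]⟩,
⟨6,19,33,0,true,[],[.eqn 306 true,.edge 295 false]⟩,
⟨0,20,30,0,false,[],[.eqn 308 true]⟩,
⟨6,11,33,0,true,[],[.eqn 310 true,.edge 296 false,.eqn 302 false]⟩,
⟨436,17,33,0,false,[],[.edge 311 true,.edge 257 false]⟩,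
⟨8,19,33,0,true,[],[.eqn 306 true,.edge 309 false,.eqn 310 false]⟩,
⟨0,17,30,0,false,[],[.eqn 312 false]⟩,
⟨544,10,31,0,true,[],[.eqn 314 true,.edge 271 false,.eqn 279 false]⟩,
⟨514,10,31,0,true,[],[.eqn 314 true,.edge 286 false]⟩,
⟨0,19,33,0,true,[],[.eqn 306 true,.edge 313 false]⟩,
⟨101,11,33,0,false,[],[.edge 317 true,.edge 294 false]⟩,
⟨102,11,30,0,false,[],[.eqn 318 true]⟩,
⟨480,11,31,0,true,[],[.eqn 319 true,.edge 277 false,.eqn 284 false,.eqn 314 false]⟩]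

/-- Deductions. -/
def c3_3 : List Step := [
⟨1801,10,32,0,false,[],[.edge 320 false,.edge 281 false]⟩,
⟨6,11,33,0,true,[],[.eqn 319 true,.edge 210 false]⟩,
⟨890,4,33,0,false,[],[.edge 322 true,.edge 257 false]⟩,
⟨42,11,33,0,true,[],[.eqn 319 true,.edge 240 false]⟩,
⟨1268,3,33,0,false,[],[.edge 324 true,.edge 252 false]⟩,
⟨1801,10,30,0,false,[],[.eqn 321 false,.eqn 284 false,.eqn 314 false]⟩,
⟨104,10,30,0,false,[],[.eqn 326 true]⟩,
⟨23,10,30,0,false,[],[.eqn 327 false,.eqn 327 false]⟩,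
⟨127,10,30,0,false,[],[.eqn 328 false,.eqn 327 false]⟩,
⟨544,10,31,0,true,[],[.eqn 329 true,.edge 316 false]⟩,
⟨792,3,32,0,false,[],[.edge 330 false,.edge 315 false]⟩,
⟨8,10,33,0,true,[],[.eqn 329 true,.edge 256 false]⟩,
⟨119,11,33,0,false,[],[.edge 332 true,.edge 190 false]⟩,
⟨0,10,30,0,false,[],[.eqn 323 true]⟩,
⟨384,4,31,0,true,[],[.eqn 334 true,.edge 315 false]⟩,
⟨1542,11,32,0,false,[],[.edge 335 false,.edge 150 false]⟩,
⟨1268,3,30,0,false,[],[.eqn 325 false,.eqn 334 false]⟩,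
⟨0,4,30,0,false,[],[.eqn 337 true]⟩,
⟨64,3,33,0,true,[],[.eqn 338 true,.edge 203 false]⟩,
⟨83,9,33,0,false,[],[.edge 339 true,.edge 124 false]⟩,
⟨0,11,30,0,false,[],[.eqn 331 true]⟩,
⟨119,11,30,0,false,[.eqn 341 false],[.eqn 333 false]⟩,
⟨0,9,30,0,false,[],[.eqn 342 true]⟩,
⟨1542,11,30,0,false,[.eqn 341 false],[.eqn 336 false]⟩,
⟨0,7,30,0,false,[],[.eqn 344 true]⟩,
⟨480,3,31,0,true,[],[.eqn 345 true,.edge 62 false]⟩,
⟨29,0,32,0,false,[],[.edge 346 false,.edge 152 false]⟩,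
⟨83,9,30,0,false,[.eqn 343 false],[.eqn 340 false]⟩,
⟨0,3,30,0,false,[],[.eqn 348 false]⟩,
⟨29,0,30,0,false,[],[.eqn 347 false,.eqn 349 false]⟩,
⟨0,2,30,0,false,[],[.eqn 350 true]⟩]

/-- All deductions. -/
def c3_ : List Step :=
  List.flatten [c3_0,c3_1,c3_2,c3_3]

/-- A collapsing certificate. -/
def p3 : Proto := ⟨d3, c3_⟩

/-- Its last walk. -/
def m3 : List Mv := [.edge 68 false,.eqn 345 false,.eqn 349 false,.eqn 351 false]

/-- Node definitions. -/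
def d5 : List NDef := [⟨2,772,0⟩,⟨2,2,1⟩,⟨2,100,2⟩,⟨1,481,3⟩,⟨1,384,4⟩,⟨1,384,5⟩,⟨0,2,5⟩,⟨2,117,4⟩,⟨2,2,8⟩,⟨2,98,8⟩,⟨2,495,4⟩,⟨2,2,11⟩,
⟨2,485,4⟩,⟨2,2,13⟩,⟨2,486,4⟩,⟨2,2,15⟩,⟨2,98,11⟩,⟨2,98,13⟩,⟨2,98,15⟩,⟨2,266,10⟩,⟨1,756,11⟩,⟨1,384,21⟩,⟨1,384,22⟩,⟨1,745,23⟩,
⟨0,271,23⟩,⟨2,72,11⟩,⟨2,162,16⟩,⟨2,100,27⟩,⟨2,207,11⟩,⟨2,354,11⟩,⟨2,98,30⟩,⟨2,670,11⟩,⟨2,354,32⟩,⟨2,100,33⟩,⟨2,797,13⟩,⟨1,597,25⟩]

/-- Deductions. -/
def c5_0 : List Step := [
⟨386,0,33,0,true,[],[.edge 0 false]⟩,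
⟨0,1,33,0,true,[],[.edge 36 true]⟩,
⟨66,0,33,0,true,[],[.base 386,.edge 36 false]⟩,
⟨452,0,33,0,true,[],[.base 387,.edge 36 false]⟩,
⟨64,0,33,0,true,[],[.base 66,.edge 38 false]⟩,
⟨424,0,33,0,true,[],[.base 452,.edge 39 false]⟩,
⟨384,0,33,0,true,[],[.base 64,.edge 40 false]⟩,
⟨8,0,33,0,true,[],[.base 424,.edge 41 false]⟩,
⟨448,0,33,0,true,[],[.base 384,.edge 42 false]⟩,
⟨10,0,33,0,true,[],[.base 24,.edge 43 false]⟩,
⟨32,0,33,0,true,[],[.base 448,.edge 44 false]⟩,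
⟨416,0,33,0,true,[],[.base 448,.edge 44 false]⟩,
⟨426,0,33,0,true,[],[.base 10,.edge 45 false]⟩,
⟨0,0,33,0,true,[],[.base 416,.edge 47 false]⟩,
⟨394,0,33,0,true,[],[.base 426,.edge 48 false]⟩,
⟨458,0,33,0,true,[],[.base 394,.edge 50 false]⟩,
⟨42,0,33,0,true,[],[.base 458,.edge 51 false]⟩,
⟨2,1,33,0,true,[],[.edge 1 false]⟩,
⟨2,2,33,0,true,[],[.edge 2 false]⟩,
⟨0,3,33,0,true,[],[.edge 54 true]⟩,
⟨480,3,32,0,true,[],[.edge 3 false]⟩,
⟨0,4,31,0,true,[],[.edge 56 false]⟩,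
⟨384,4,32,0,true,[],[.edge 4 false]⟩,
⟨384,5,32,0,true,[],[.edge 5 false]⟩,
⟨0,6,31,0,true,[],[.edge 59 false]⟩,
⟨2,5,31,0,true,[],[.edge 6 false]⟩,
⟨0,7,32,0,true,[],[.edge 61 false]⟩,
⟨0,0,29,17,true,[.code,.edge 36 false,.code,.edge 53 false,.code,.edge 54 false,.code,.edge 56 false,.code,.edge 58 false,.code,.edge 59 false,.code,.edge 60 false,.code,.edge 61 false,.code],[.code]⟩,
⟨384,7,31,0,true,[],[.edge 63 false]⟩,
⟨0,0,32,0,true,[],[.edge 64 false]⟩,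
⟨2,0,32,0,true,[],[.base 0,.edge 65 false]⟩,
⟨386,0,32,0,true,[],[.base 2,.edge 66 false]⟩,
⟨0,0,1,1,true,[.code],[.code,.edge 66 false,.code]⟩,
⟨0,0,31,0,true,[],[.edge 68 false]⟩,
⟨386,7,32,0,true,[],[.edge 69 false]⟩,
⟨2,0,31,0,true,[],[.base 0,.edge 69 false]⟩,
⟨384,0,31,0,true,[],[.base 0,.edge 69 false]⟩,
⟨512,0,31,0,true,[],[.base 0,.edge 69 false]⟩,
⟨386,0,31,0,true,[],[.base 2,.edge 71 false]⟩,
⟨480,0,31,0,true,[],[.base 512,.edge 73 false]⟩,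
⟨0,0,4,1,true,[.edge 49 false],[.code,.edge 46 false]⟩,
⟨0,1,32,0,true,[],[.edge 76 false]⟩,
⟨0,1,31,0,true,[],[.edge 77 false]⟩,
⟨0,0,14,3,true,[.code,.edge 52 false,.code],[.code,.edge 45 false,.code]⟩,
⟨76,1,33,0,true,[],[.edge 79 false]⟩,
⟨0,0,15,2,true,[.code,.edge 65 false],[.code,.edge 49 false,.code,.edge 77 false,.edge 77 false,.code]⟩,
⟨448,7,33,0,true,[],[.edge 81 false]⟩,
⟨32,1,33,0,true,[],[.edge 82 true]⟩,
⟨0,1,1,3,true,[.code,.edge 78 false,.code],[.code]⟩,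
⟨2,1,31,0,true,[],[.edge 84 false]⟩,
⟨2,1,32,0,true,[],[.edge 85 false]⟩,
⟨0,1,4,2,false,[.edge 37 false,.edge 67 false],[.code,.edge 83 false]⟩,
⟨32,7,30,0,false,[],[.eqn 87 true]⟩,
⟨64,7,30,0,false,[],[.eqn 88 false,.eqn 88 false]⟩,
⟨0,1,5,2,true,[.edge 37 false,.edge 74 false],[.code]⟩,
⟨418,7,33,0,true,[],[.edge 90 false]⟩,
⟨64,1,33,0,true,[],[.edge 91 true]⟩,
⟨0,1,12,3,true,[.code,.edge 80 false,.edge 78 false],[.code]⟩,
⟨12,1,33,0,true,[],[.edge 93 false]⟩,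
⟨0,1,15,4,true,[.code,.edge 77 false,.edge 92 false,.code],[.code,.edge 37 false,.code,.edge 67 false]⟩,
⟨386,7,31,0,true,[],[.edge 95 false]⟩,
⟨384,7,32,0,true,[],[.edge 96 false]⟩,
⟨2,1,3,4,true,[.edge 86 false,.code,.edge 53 false,.code],[.edge 53 false]⟩,
⟨0,2,31,0,true,[],[.edge 98 false]⟩,
⟨6,1,14,3,false,[.code,.edge 83 false,.code],[.code,.edge 94 false,.code,.edge 83 false]⟩,
⟨926,7,30,0,false,[],[.eqn 100 true]⟩,
⟨894,7,30,0,false,[],[.eqn 88 false,.eqn 101 false]⟩,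
⟨1333,7,30,0,false,[],[.eqn 101 false,.eqn 88 false]⟩,
⟨1269,7,30,0,false,[],[.eqn 101 false,.eqn 101 false]⟩,
⟨1301,7,30,0,false,[],[.eqn 102 false,.eqn 101 false]⟩,
⟨82,7,30,0,false,[],[.eqn 103 false,.eqn 101 false]⟩,
⟨18,7,30,0,false,[],[.eqn 104 false,.eqn 101 false]⟩,
⟨1721,7,30,0,false,[],[.eqn 105 false,.eqn 88 false]⟩,
⟨940,7,30,0,false,[],[.eqn 106 false,.eqn 101 false]⟩,
⟨908,7,30,0,false,[],[.eqn 107 false,.eqn 101 false]⟩,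
⟨1659,7,30,0,false,[],[.eqn 108 false,.eqn 101 false]⟩,
⟨1303,7,30,0,false,[],[.eqn 109 false,.eqn 88 false]⟩,
⟨1271,7,30,0,false,[],[.eqn 110 false,.eqn 101 false]⟩,
⟨546,7,32,0,true,[],[.eqn 112 true,.edge 62 false]⟩,
⟨482,7,32,0,true,[],[.eqn 89 true,.edge 114 false]⟩,
⟨514,7,32,0,true,[],[.eqn 89 true,.edge 115 false]⟩,
⟨2,7,32,0,true,[],[.eqn 111 true,.edge 115 false]⟩,
⟨512,7,32,0,true,[],[.eqn 101 true,.edge 116 false]⟩,
⟨544,7,32,0,true,[],[.eqn 112 true,.edge 117 false]⟩,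
⟨480,7,32,0,true,[],[.eqn 89 true,.edge 119 false]⟩,
⟨0,2,1,3,true,[.code,.edge 99 false,.code],[.code]⟩,
⟨2,2,31,0,true,[],[.edge 121 false]⟩,
⟨2,2,32,0,true,[],[.edge 122 false]⟩,
⟨0,3,4,4,false,[.edge 55 false,.edge 123 false,.edge 54 false,.code],[]⟩,
⟨320,3,30,0,false,[],[.eqn 124 true]⟩,
⟨224,3,30,0,false,[],[.eqn 125 false,.eqn 125 false]⟩,
⟨32,3,33,0,true,[],[.eqn 126 true,.edge 55 false]⟩,
⟨482,3,1,1,true,[.code],[.code,.edge 56 false,.code]⟩,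
⟨482,3,31,0,true,[],[.edge 128 false]⟩,
⟨2,4,32,0,true,[],[.edge 129 false]⟩,
⟨386,4,1,1,true,[.code],[.code,.edge 58 false,.code]⟩,
⟨386,4,31,0,true,[],[.edge 131 false]⟩,
⟨387,4,0,2,true,[.edge 132 false,.edge 61 false],[]⟩,
⟨0,7,31,0,true,[],[.edge 133 false]⟩,
⟨386,4,32,0,true,[],[.edge 134 false]⟩]

/-- Deductions. -/
def c5_1 : List Step := [
⟨546,7,31,0,true,[],[.eqn 112 true,.edge 134 false]⟩,
⟨482,7,31,0,true,[],[.eqn 89 true,.edge 136 false]⟩,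
⟨514,7,31,0,true,[],[.eqn 89 true,.edge 137 false]⟩,
⟨2,7,31,0,true,[],[.eqn 111 true,.edge 137 false]⟩,
⟨512,7,31,0,true,[],[.eqn 101 true,.edge 138 false]⟩,
⟨544,7,31,0,true,[],[.eqn 112 true,.edge 139 false]⟩,
⟨544,7,31,0,true,[],[.eqn 89 true,.edge 140 false]⟩,
⟨1561,4,32,0,false,[],[.edge 142 false,.edge 141 false]⟩,
⟨480,7,31,0,true,[],[.eqn 89 true,.edge 141 false]⟩,
⟨64,4,30,0,false,[],[.eqn 143 true]⟩,
⟨32,4,30,0,false,[],[.eqn 145 false,.eqn 145 false]⟩,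
⟨390,4,1,1,false,[.code],[.code,.edge 135 false,.code,.edge 117 false]⟩,
⟨0,5,30,0,false,[],[.eqn 147 true]⟩,
⟨384,4,31,0,true,[],[.eqn 148 true,.edge 61 false]⟩,
⟨2,4,33,0,true,[],[.edge 7 false]⟩,
⟨0,8,33,0,true,[],[.edge 150 true]⟩,
⟨66,4,33,0,true,[],[.eqn 146 true,.edge 150 false]⟩,
⟨34,4,33,0,true,[],[.eqn 146 true,.edge 152 false]⟩,
⟨2,8,33,0,true,[],[.edge 8 false]⟩,
⟨386,4,29,5,true,[.code,.edge 150 false,.code,.edge 154 false,.code],[.code,.edge 135 false,.code,.edge 70 false,.code,.edge 67 false,.code,.edge 64 false,.code,.edge 74 false,.code,.edge 139 false,.code]⟩,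
⟨2,9,33,0,true,[],[.edge 155 false]⟩,
⟨0,4,33,0,true,[],[.edge 156 true]⟩,
⟨4,8,33,0,true,[],[.edge 9 false]⟩,
⟨0,10,33,0,true,[],[.edge 158 true]⟩,
⟨402,4,29,5,true,[.code,.edge 150 false,.code,.edge 158 false,.code],[.code,.edge 135 false,.code,.edge 97 false,.code,.edge 62 false,.eqn 148 false,.code,.edge 149 false,.code,.edge 64 false,.code,.edge 72 false,.code]⟩,
⟨2,10,33,0,true,[],[.edge 160 false]⟩,
⟨32,7,33,0,true,[],[.edge 161 true]⟩,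
⟨64,7,33,0,true,[],[.eqn 89 true,.edge 162 false]⟩,
⟨0,7,33,0,true,[],[.eqn 89 true,.edge 163 false]⟩,
⟨740,7,33,0,true,[],[.eqn 113 true,.edge 163 false]⟩,
⟨403,4,27,4,true,[.code,.edge 135 false,.code,.edge 163 false],[.code,.edge 135 false,.edge 162 false]⟩,
⟨2,10,31,0,true,[],[.edge 166 false]⟩,
⟨2,10,32,0,true,[],[.edge 167 false]⟩,
⟨403,4,28,8,true,[.code,.edge 135 false,.edge 164 false,.code,.edge 167 false,.code,.edge 167 false,.code],[.code]⟩,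
⟨66,10,33,0,true,[],[.edge 169 false]⟩,
⟨386,4,33,0,true,[],[.edge 170 true]⟩,
⟨418,4,33,0,true,[],[.eqn 146 true,.edge 171 false]⟩,
⟨450,4,33,0,true,[],[.eqn 146 true,.edge 172 false]⟩,
⟨403,4,29,3,false,[.code,.edge 157 false,.code],[.code,.edge 135 false,.code,.edge 97 false,.code,.edge 117 false,.eqn 148 false,.code,.edge 149 false,.code,.edge 64 false,.code,.edge 74 false,.code,.edge 162 false,.code,.edge 159 false]⟩,
⟨0,9,30,0,false,[],[.eqn 174 false]⟩,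
⟨0,8,33,0,true,[],[.eqn 175 true,.edge 156 false]⟩,
⟨97,4,33,0,false,[],[.edge 176 true,.edge 151 false]⟩,
⟨18,4,30,0,false,[],[.eqn 177 true]⟩,
⟨50,4,30,0,false,[],[.eqn 146 false,.eqn 178 false]⟩,
⟨2,4,31,0,true,[],[.eqn 178 true,.edge 57 false]⟩,
⟨0,4,32,0,true,[],[.eqn 178 true,.edge 130 false]⟩,
⟨408,4,16,6,true,[.code,.edge 173 false,.code,.edge 168 false,.edge 168 false,.code],[.code,.edge 135 false,.code,.edge 62 false,.eqn 148 false]⟩,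
⟨34,10,33,0,true,[],[.edge 182 false]⟩,
⟨384,4,33,0,true,[],[.edge 183 true]⟩,
⟨776,4,29,1,false,[.code],[.code,.edge 135 false,.code,.edge 97 false,.code,.edge 116 false,.eqn 148 false,.code,.edge 149 false,.code,.edge 64 false,.code,.edge 75 false,.code,.edge 165 false,.code,.edge 159 false,.code,.edge 151 false]⟩,
⟨876,4,30,0,false,[],[.eqn 185 true]⟩,
⟨894,4,30,0,false,[],[.eqn 178 false,.eqn 186 false]⟩,
⟨480,4,31,0,true,[],[.eqn 187 true,.edge 57 false]⟩,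
⟨480,4,32,0,true,[],[.eqn 187 true,.edge 181 false]⟩,
⟨482,4,32,0,true,[],[.eqn 187 true,.edge 130 false]⟩,
⟨492,4,33,0,true,[],[.eqn 187 true,.edge 157 false,.eqn 175 false]⟩,
⟨488,4,33,0,true,[],[.eqn 187 true,.edge 150 false]⟩,
⟨590,4,33,0,true,[],[.eqn 187 true,.edge 153 false]⟩,
⟨676,4,33,0,true,[],[.eqn 187 true,.edge 152 false]⟩,
⟨394,4,33,0,true,[],[.eqn 186 true,.edge 184 false]⟩,
⟨544,4,31,0,true,[],[.eqn 146 true,.edge 188 false]⟩,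
⟨544,4,32,0,true,[],[.eqn 146 true,.edge 189 false]⟩,
⟨426,4,33,0,true,[],[.eqn 146 true,.edge 195 false]⟩,
⟨384,4,33,0,true,[],[.eqn 186 true,.edge 195 false]⟩,
⟨50,10,33,0,false,[],[.edge 199 true,.edge 184 false]⟩,
⟨514,4,31,0,true,[],[.eqn 179 true,.edge 196 false]⟩,
⟨512,4,32,0,true,[],[.eqn 146 true,.edge 197 false]⟩,
⟨514,4,32,0,true,[],[.eqn 179 true,.edge 197 false]⟩,
⟨422,4,33,0,true,[],[.eqn 186 true,.edge 198 false]⟩,
⟨102,10,30,0,false,[],[.eqn 200 true]⟩,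
⟨6,10,33,0,true,[],[.eqn 205 true,.edge 159 false]⟩,
⟨778,4,14,3,true,[.code,.edge 204 false,.code],[.code,.edge 184 false,.code]⟩,
⟨14,10,33,0,true,[],[.edge 207 false]⟩,
⟨40,10,33,0,true,[],[.edge 208 true]⟩,
⟨778,4,24,4,false,[.code,.edge 58 false,.eqn 148 false,.edge 135 false,.code],[.edge 195 false,.edge 168 false,.code,.edge 168 false,.code,.edge 161 false]⟩,
⟨23,7,30,0,false,[],[.eqn 210 true]⟩,
⟨736,7,33,0,true,[],[.eqn 211 true,.edge 165 false]⟩,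
⟨482,7,33,0,true,[],[.eqn 104 true,.edge 212 false]⟩,
⟨494,4,33,0,true,[],[.edge 10 false]⟩,
⟨558,4,33,0,true,[],[.eqn 146 true,.edge 214 false]⟩,
⟨490,4,33,0,true,[],[.eqn 178 true,.edge 214 false]⟩,
⟨526,4,33,0,true,[],[.eqn 146 true,.edge 215 false]⟩,
⟨640,4,33,0,true,[],[.eqn 187 true,.edge 215 false]⟩,
⟨576,4,33,0,true,[],[.eqn 146 true,.edge 218 false]⟩,
⟨2,11,33,0,true,[],[.edge 11 false]⟩,
⟨782,4,29,5,true,[.code,.edge 214 false,.code,.edge 220 false,.code],[.code,.edge 135 false,.code,.edge 115 false,.eqn 148 false,.code,.edge 203 false,.code,.edge 129 false,.code,.edge 132 false,.eqn 148 false,.code,.edge 201 false,.code]⟩,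
⟨2,12,33,0,true,[],[.edge 221 false]⟩,
⟨718,3,33,0,true,[],[.edge 222 true]⟩,
⟨398,3,33,0,true,[],[.eqn 126 true,.edge 223 false]⟩,
⟨484,4,33,0,true,[],[.edge 12 false]⟩,
⟨0,13,33,0,true,[],[.edge 225 true]⟩,
⟨548,4,33,0,true,[],[.eqn 146 true,.edge 225 false]⟩,
⟨480,4,33,0,true,[],[.eqn 178 true,.edge 225 false]⟩,
⟨12,4,33,0,true,[],[.eqn 187 true,.edge 225 false]⟩,
⟨516,4,33,0,true,[],[.eqn 146 true,.edge 227 false]⟩,
⟨650,4,33,0,true,[],[.eqn 187 true,.edge 227 false]⟩,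
⟨76,4,33,0,true,[],[.eqn 146 true,.edge 229 false]⟩,
⟨744,4,33,0,true,[],[.eqn 187 true,.edge 230 false]⟩,
⟨586,4,33,0,true,[],[.eqn 146 true,.edge 231 false]⟩,
⟨678,4,33,0,true,[],[.eqn 187 true,.edge 232 false]⟩]

/-- Deductions. -/
def c5_2 : List Step := [
⟨712,4,33,0,true,[],[.eqn 146 true,.edge 233 false]⟩,
⟨2,13,33,0,true,[],[.edge 13 false]⟩,
⟨486,4,33,0,true,[],[.edge 14 false]⟩,
⟨550,4,33,0,true,[],[.eqn 146 true,.edge 238 false]⟩,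
⟨482,4,33,0,true,[],[.eqn 178 true,.edge 238 false]⟩,
⟨546,4,33,0,true,[],[.eqn 178 true,.edge 239 false]⟩,
⟨644,4,33,0,true,[],[.eqn 187 true,.edge 239 false]⟩,
⟨10,4,33,0,true,[],[.eqn 187 true,.edge 240 false]⟩,
⟨652,4,33,0,true,[],[.eqn 187 true,.edge 241 false]⟩,
⟨74,4,33,0,true,[],[.eqn 146 true,.edge 243 false]⟩,
⟨588,4,33,0,true,[],[.eqn 146 true,.edge 244 false]⟩,
⟨672,4,33,0,true,[],[.eqn 187 true,.edge 245 false]⟩,
⟨2,15,33,0,true,[],[.edge 15 false]⟩,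
⟨4,11,33,0,true,[],[.edge 16 false]⟩,
⟨798,4,29,5,true,[.code,.edge 214 false,.code,.edge 249 false,.code],[.code,.edge 135 false,.code,.edge 120 false,.eqn 148 false,.code,.edge 189 false,.code,.edge 129 false,.code,.edge 132 false,.eqn 148 false,.code,.edge 196 false,.code]⟩,
⟨2,17,33,0,true,[],[.edge 250 false]⟩,
⟨714,3,33,0,true,[],[.edge 251 true]⟩,
⟨864,4,0,1,true,[.edge 188 false],[.edge 189 false]⟩,
⟨480,3,31,0,true,[],[.edge 253 false]⟩,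
⟨482,3,32,0,true,[],[.edge 254 false]⟩,
⟨864,4,4,1,true,[.edge 228 false],[.code,.edge 219 false]⟩,
⟨0,13,32,0,true,[],[.edge 256 false]⟩,
⟨0,11,31,0,true,[],[.edge 257 false]⟩,
⟨864,4,5,1,true,[.edge 228 false],[.code,.edge 247 false]⟩,
⟨0,13,31,0,true,[],[.edge 259 false]⟩,
⟨0,15,32,0,true,[],[.edge 260 false]⟩,
⟨864,4,13,2,true,[.code,.edge 216 false],[.code,.edge 246 false]⟩,
⟨0,11,32,0,true,[],[.edge 262 false]⟩,
⟨864,4,14,3,true,[.code,.edge 234 false,.code],[.code,.edge 216 false,.code]⟩,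
⟨76,13,33,0,true,[],[.edge 264 false]⟩,
⟨10,11,33,0,true,[],[.edge 265 true]⟩,
⟨864,4,15,2,true,[.code,.edge 189 false],[.code,.edge 228 false,.code,.edge 257 false,.edge 263 false,.code]⟩,
⟨580,3,33,0,true,[],[.edge 267 false]⟩,
⟨484,3,33,0,true,[],[.eqn 126 true,.edge 268 false]⟩,
⟨864,4,16,6,true,[.code,.edge 235 false,.code,.edge 257 false,.edge 263 false,.code],[.code,.edge 189 false,.code,.edge 255 false]⟩,
⟨64,15,33,0,true,[],[.edge 270 false]⟩,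
⟨588,3,33,0,true,[],[.edge 271 true]⟩,
⟨492,3,33,0,true,[],[.eqn 126 true,.edge 272 false]⟩,
⟨684,3,33,0,true,[],[.eqn 126 true,.edge 273 false]⟩,
⟨865,4,3,2,true,[.edge 189 false,.code],[.edge 228 false,.edge 257 false,.code]⟩,
⟨494,3,33,0,true,[],[.edge 275 false]⟩,
⟨865,4,27,5,true,[.code,.edge 189 false,.code,.edge 276 false,.edge 258 false],[.code,.edge 189 false]⟩,
⟨32,13,33,0,true,[],[.edge 277 false]⟩,
⟨868,4,7,2,true,[.code,.edge 192 false],[.code,.edge 194 false]⟩,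
⟨0,8,31,0,true,[],[.edge 279 false]⟩,
⟨0,8,32,0,true,[],[.edge 280 false]⟩,
⟨868,4,25,3,true,[.edge 190 false,.edge 255 false,.code],[.edge 190 false,.code,.edge 255 false,.code,.edge 274 false,.edge 261 false,.code]⟩,
⟨486,3,33,0,true,[],[.edge 282 false]⟩,
⟨872,4,21,6,true,[.code,.edge 193 false,.code,.edge 281 false,.code,.edge 280 false],[.edge 214 false,.code,.edge 266 false,.code]⟩,
⟨70,8,33,0,true,[],[.edge 284 false]⟩,
⟨70,13,33,0,true,[],[.edge 285 true]⟩,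
⟨876,4,3,2,true,[.edge 189 false,.code],[.edge 191 false,.edge 281 false,.code]⟩,
⟨482,3,33,0,true,[],[.edge 287 false]⟩,
⟨674,3,33,0,true,[],[.eqn 126 true,.edge 288 false]⟩,
⟨578,3,33,0,true,[],[.eqn 126 true,.edge 289 false]⟩,
⟨4,13,33,0,true,[],[.edge 17 false]⟩,
⟨1156,4,29,5,true,[.code,.edge 235 false,.code,.edge 291 false,.code],[.code,.edge 135 false,.code,.edge 115 false,.eqn 148 false,.code,.edge 202 false,.code,.edge 129 false,.code,.edge 132 false,.eqn 148 false,.code,.edge 201 false,.code]⟩,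
⟨2,18,33,0,true,[],[.edge 292 false]⟩,
⟨4,15,33,0,true,[],[.edge 18 false]⟩,
⟨10,10,33,0,true,[],[.edge 19 false]⟩,
⟨484,3,17,4,true,[.code,.edge 276 false,.edge 263 false,.code],[.code,.edge 269 false,.edge 261 false,.code,.edge 257 false,.code]⟩,
⟨42,15,33,0,true,[],[.edge 296 false]⟩,
⟨484,3,21,6,true,[.code,.edge 290 false,.code,.edge 281 false,.code,.edge 280 false],[.edge 269 false,.code,.edge 297 false,.code]⟩,
⟨6,8,33,0,true,[],[.edge 298 false]⟩,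
⟨486,3,17,4,true,[.code,.edge 273 false,.edge 261 false,.code],[.code,.edge 283 false,.edge 257 false,.code,.edge 263 false,.code]⟩,
⟨74,13,33,0,true,[],[.edge 300 false]⟩,
⟨876,3,29,3,true,[.code,.edge 224 false,.code],[.code,.edge 56 false,.code,.edge 135 false,.code,.edge 118 false,.eqn 148 false,.code,.edge 149 false,.code,.edge 144 false,.code,.edge 196 false,.code,.edge 252 false,.code]⟩,
⟨6,12,33,0,true,[],[.edge 302 false]⟩,
⟨0,8,1,3,true,[.code,.edge 280 false,.code],[.code]⟩,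
⟨2,8,31,0,true,[],[.edge 304 false]⟩,
⟨2,8,32,0,true,[],[.edge 305 false]⟩,
⟨2,8,4,2,true,[.edge 154 false,.eqn 175 false,.edge 306 false],[.code]⟩,
⟨66,8,33,0,true,[],[.edge 307 false]⟩,
⟨34,8,33,0,true,[],[.edge 308 true]⟩,
⟨4,8,3,4,true,[.edge 306 false,.code,.edge 158 false,.code],[.edge 158 false]⟩,
⟨0,10,31,0,true,[],[.edge 310 false]⟩,
⟨0,10,32,0,true,[],[.edge 311 false]⟩,
⟨4,8,4,2,true,[.edge 158 false,.edge 312 false],[.code]⟩,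
⟨64,10,33,0,true,[],[.edge 313 false]⟩,
⟨40,8,33,0,true,[],[.edge 314 true]⟩,
⟨4,8,21,6,true,[.code,.edge 309 false,.code,.edge 306 false,.code,.edge 305 false],[.edge 158 false,.code,.edge 295 false,.code]⟩,
⟨36,8,33,0,true,[],[.edge 316 false]⟩,
⟨8,8,14,3,true,[.code,.edge 317 false,.code],[.code,.edge 154 false,.eqn 175 false,.code]⟩,
⟨74,20,33,0,true,[],[.edge 318 false]⟩,
⟨8,8,33,0,true,[],[.edge 319 true]⟩,
⟨9,8,3,4,true,[.edge 306 false,.code,.edge 320 false,.code],[.edge 320 false]⟩,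
⟨0,20,31,0,true,[],[.edge 321 false]⟩,
⟨0,20,32,0,true,[],[.edge 322 false]⟩,
⟨9,8,4,2,true,[.edge 320 false,.edge 323 false],[.code]⟩,
⟨38,20,33,0,true,[],[.edge 324 false]⟩,
⟨46,8,33,0,true,[],[.edge 325 true]⟩,
⟨0,11,1,3,true,[.code,.edge 258 false,.code],[.code]⟩,
⟨2,13,31,0,true,[],[.edge 327 false]⟩,
⟨2,11,32,0,true,[],[.edge 328 false]⟩,
⟨2,11,1,1,true,[.code],[.code,.edge 263 false,.code]⟩,
⟨2,11,31,0,true,[],[.edge 330 false]⟩,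
⟨2,15,32,0,true,[],[.edge 331 false]⟩,
⟨2,11,3,4,true,[.edge 329 false,.code,.edge 291 false,.code],[.edge 220 false]⟩,
⟨0,18,31,0,true,[],[.edge 333 false]⟩,
⟨0,12,32,0,true,[],[.edge 334 false]⟩]

/-- Deductions. -/
def c5_3 : List Step := [
⟨2,11,4,2,true,[.edge 220 false,.edge 335 false],[.code]⟩,
⟨64,18,33,0,true,[],[.edge 336 false]⟩,
⟨34,11,33,0,true,[],[.edge 337 true]⟩,
⟨2,11,27,5,true,[.code,.edge 329 false,.code,.edge 291 false,.edge 334 false],[.code,.edge 329 false]⟩,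
⟨32,12,33,0,true,[],[.edge 339 false]⟩,
⟨3,11,0,1,true,[.edge 331 false],[.edge 329 false]⟩,
⟨2,15,31,0,true,[],[.edge 341 false]⟩,
⟨2,13,32,0,true,[],[.edge 342 false]⟩,
⟨3,11,24,6,true,[.code,.edge 329 false,.edge 343 false,.code,.edge 248 false,.code],[.edge 220 false,.edge 335 false,.code]⟩,
⟨0,16,31,0,true,[],[.edge 344 false]⟩,
⟨0,18,32,0,true,[],[.edge 345 false]⟩,
⟨3,11,28,2,true,[.code,.edge 329 false],[.code,.edge 220 false,.code,.edge 335 false,.code,.edge 346 false,.code]⟩,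
⟨40,13,33,0,true,[],[.edge 347 false]⟩,
⟨4,11,3,4,true,[.edge 329 false,.code,.edge 237 false,.code],[.edge 249 false]⟩,
⟨0,14,31,0,true,[],[.edge 349 false]⟩,
⟨0,17,32,0,true,[],[.edge 350 false]⟩,
⟨4,11,12,1,true,[.code],[.code,.edge 338 false,.edge 346 false]⟩,
⟨66,11,33,0,true,[],[.edge 352 false]⟩,
⟨4,11,24,6,true,[.code,.edge 329 false,.edge 343 false,.code,.edge 294 false,.code],[.edge 249 false,.edge 351 false,.code]⟩,
⟨0,19,31,0,true,[],[.edge 354 false]⟩,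
⟨0,14,32,0,true,[],[.edge 355 false]⟩,
⟨4,11,28,2,true,[.code,.edge 329 false],[.code,.edge 249 false,.code,.edge 351 false,.code,.edge 356 false,.code]⟩,
⟨34,13,33,0,true,[],[.edge 357 false]⟩,
⟨8,11,7,2,true,[.code,.edge 220 false],[.code,.edge 353 false]⟩,
⟨0,12,31,0,true,[],[.edge 359 false]⟩,
⟨0,16,32,0,true,[],[.edge 360 false]⟩,
⟨20,11,25,3,true,[.edge 329 false,.edge 343 false,.code],[.edge 329 false,.code,.edge 343 false,.code,.edge 248 false,.edge 361 false,.code]⟩,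
⟨34,15,33,0,true,[],[.edge 362 false]⟩,
⟨64,12,33,0,true,[],[.edge 363 true]⟩,
⟨546,11,32,0,true,[],[.edge 20 false]⟩,
⟨384,21,32,0,true,[],[.edge 21 false]⟩,
⟨0,22,31,0,true,[],[.edge 366 false]⟩,
⟨384,22,32,0,true,[],[.edge 22 false]⟩,
⟨0,23,31,0,true,[],[.edge 368 false]⟩,
⟨96,7,29,14,false,[.code,.edge 213 false,.code,.edge 159 false,.code,.edge 299 false,.code,.edge 365 false,.code,.edge 366 false,.code,.edge 368 false,.code,.edge 369 false],[.code,.edge 62 false,.eqn 148 false,.code,.edge 197 false,.code]⟩,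
⟨0,22,30,0,false,[],[.eqn 370 false]⟩,
⟨480,3,31,0,true,[],[.eqn 371 true,.edge 367 false]⟩,
⟨842,21,32,0,false,[],[.edge 372 false,.edge 254 false]⟩,
⟨544,3,32,0,true,[],[.eqn 371 true,.edge 368 false]⟩,
⟨512,3,32,0,true,[],[.eqn 126 true,.edge 374 false]⟩,
⟨0,21,30,0,false,[],[.eqn 373 false]⟩,
⟨546,23,32,0,true,[],[.edge 23 false]⟩,
⟨0,24,31,0,true,[],[.edge 377 false]⟩,
⟨2,23,31,0,true,[],[.edge 24 false]⟩,
⟨539,10,29,17,true,[.code,.edge 209 false,.code,.edge 206 false,.code,.edge 151 false,.code,.edge 197 false,.code,.edge 375 false,.code,.edge 377 false,.code,.edge 378 false,.code,.edge 379 false,.code],[.code]⟩,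
⟨384,25,31,0,true,[],[.edge 380 false]⟩,
⟨512,10,32,0,true,[],[.edge 381 false]⟩,
⟨542,10,1,1,true,[.code],[.code,.edge 382 false,.code]⟩,
⟨514,10,31,0,true,[],[.edge 383 false]⟩,
⟨386,25,32,0,true,[],[.edge 384 false]⟩,
⟨544,11,1,1,false,[.code],[.code,.edge 365 false,.eqn 376 false,.code,.edge 374 false]⟩,
⟨0,23,30,0,false,[],[.eqn 386 true]⟩,
⟨544,11,31,0,true,[],[.eqn 387 true,.edge 369 false,.eqn 371 false]⟩,
⟨546,11,31,0,true,[],[.eqn 387 true,.edge 379 false]⟩,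
⟨546,11,0,1,true,[.edge 389 false],[.edge 365 false,.eqn 376 false]⟩,
⟨0,25,31,0,true,[],[.edge 390 false]⟩,
⟨546,3,32,0,true,[],[.edge 391 false]⟩,
⟨514,3,32,0,true,[],[.eqn 126 true,.edge 392 false]⟩,
⟨546,11,1,3,true,[.code,.edge 389 false,.code],[.code]⟩,
⟨2,25,31,0,true,[],[.edge 394 false]⟩,
⟨544,11,32,0,true,[],[.edge 395 false]⟩,
⟨550,11,0,1,true,[.edge 388 false],[.edge 396 false]⟩,
⟨544,3,31,0,true,[],[.edge 397 false]⟩,
⟨72,11,33,0,true,[],[.edge 25 false]⟩,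
⟨553,11,29,3,true,[.code,.edge 399 false,.code],[.code,.edge 365 false,.eqn 376 false,.code,.edge 255 false,.code,.edge 392 false,.code,.edge 391 false,.code,.edge 129 false,.code,.edge 132 false,.eqn 148 false,.code,.edge 236 false,.code]⟩,
⟨2,26,33,0,true,[],[.edge 400 false]⟩,
⟨8,13,33,0,true,[],[.edge 401 true]⟩,
⟨36,16,33,0,true,[],[.edge 26 false]⟩,
⟨2,27,33,0,true,[],[.edge 27 false]⟩,
⟨565,11,29,7,true,[.code,.edge 353 false,.code,.edge 403 false,.code,.edge 404 false,.code],[.code,.edge 365 false,.eqn 376 false,.code,.edge 393 false,.code,.edge 385 false,.code,.edge 384 false,.code,.edge 395 false,.code]⟩,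
⟨480,28,32,0,true,[],[.edge 405 false]⟩,
⟨482,11,31,0,true,[],[.edge 406 false]⟩,
⟨578,11,1,3,true,[.code,.edge 407 false,.code],[.code]⟩,
⟨482,28,31,0,true,[],[.edge 408 false]⟩,
⟨480,11,32,0,true,[],[.edge 409 false]⟩,
⟨36,11,33,0,true,[],[.edge 28 false]⟩,
⟨622,11,29,3,true,[.code,.edge 411 false,.code],[.code,.edge 365 false,.eqn 376 false,.code,.edge 255 false,.code,.edge 392 false,.code,.edge 391 false,.code,.edge 129 false,.code,.edge 132 false,.eqn 148 false,.code,.edge 242 false,.code]⟩,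
⟨2,29,33,0,true,[],[.edge 412 false]⟩,
⟨14,15,33,0,true,[],[.edge 413 true]⟩,
⟨14,11,33,0,true,[],[.edge 29 false]⟩,
⟨0,30,33,0,true,[],[.edge 415 true]⟩,
⟨741,11,29,3,false,[.code,.edge 415 false,.code],[.code,.edge 365 false,.eqn 376 false,.code,.edge 255 false,.code,.edge 392 false,.code,.edge 391 false,.code,.edge 129 false,.code,.edge 132 false,.eqn 148 false,.code,.edge 217 false,.code,.edge 415 false]⟩,
⟨2,30,30,0,false,[],[.eqn 417 true]⟩,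
⟨2,30,33,0,true,[],[.eqn 418 true,.edge 416 false]⟩,
⟨750,11,29,5,true,[.code,.edge 220 false,.code,.edge 222 false,.code],[.code,.edge 365 false,.eqn 376 false,.code,.edge 375 false,.eqn 387 false,.code,.edge 410 false,.code,.edge 409 false,.code,.edge 389 false,.code,.edge 381 false,.code]⟩,
⟨710,3,33,0,true,[],[.edge 420 false]⟩,
⟨390,3,33,0,true,[],[.eqn 126 true,.edge 421 false]⟩,
⟨614,3,33,0,true,[],[.eqn 126 true,.edge 422 false]⟩,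
⟨4,30,33,0,true,[],[.edge 30 false]⟩,
⟨6,30,33,0,true,[],[.eqn 418 true,.edge 424 false]⟩,
⟨654,11,33,0,true,[],[.edge 31 false]⟩,
⟨14,32,33,0,true,[],[.edge 32 false]⟩,
⟨2,33,33,0,true,[],[.edge 33 false]⟩,
⟨1054,11,29,7,true,[.code,.edge 426 false,.code,.edge 427 false,.code,.edge 428 false,.code],[.code,.edge 365 false,.eqn 376 false,.code,.edge 56 false,.code,.edge 203 false,.code,.edge 129 false,.code,.edge 188 false,.code]⟩,
⟨480,34,32,0,true,[],[.edge 429 false]⟩,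
⟨0,3,31,0,true,[],[.edge 430 false]⟩,
⟨38,12,14,5,true,[.code,.edge 364 false,.code,.edge 414 false,.code],[.code]⟩,
⟨8,29,33,0,true,[],[.edge 432 false]⟩,
⟨44,12,33,0,true,[],[.edge 433 true]⟩,
⟨108,12,14,3,true,[.code,.edge 434 false,.code],[.code,.edge 303 false,.code]⟩]

/-- Deductions. -/
def c5_4 : List Step := [
⟨72,29,33,0,true,[],[.edge 435 false]⟩,
⟨12,17,33,0,true,[],[.edge 436 true]⟩,
⟨118,12,21,6,true,[.code,.edge 340 false,.code,.edge 343 false,.code,.edge 342 false],[.edge 303 false,.code,.edge 437 false,.code]⟩,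
⟨46,13,33,0,true,[],[.edge 438 false]⟩,
⟨2,13,13,2,true,[.code,.edge 402 false],[.code,.edge 439 false]⟩,
⟨2,26,32,0,true,[],[.edge 440 false]⟩,
⟨8,13,24,6,true,[.code,.edge 343 false,.edge 332 false,.code,.edge 415 false,.code],[.edge 402 false,.edge 441 false,.code]⟩,
⟨0,30,31,0,true,[],[.edge 442 false]⟩,
⟨2,29,32,0,true,[],[.edge 443 false]⟩,
⟨9,13,17,4,true,[.code,.edge 237 false,.edge 356 false,.code],[.code,.edge 402 false,.edge 441 false,.code,.edge 444 false,.code]⟩,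
⟨74,19,33,0,true,[],[.edge 445 false]⟩,
⟨12,30,33,0,true,[],[.edge 446 true]⟩,
⟨14,30,33,0,true,[],[.eqn 418 true,.edge 447 false]⟩,
⟨396,13,33,0,true,[],[.edge 34 false]⟩,
⟨14,13,12,1,true,[.code],[.code,.edge 439 false,.edge 444 false]⟩,
⟨68,13,33,0,true,[],[.edge 450 false]⟩,
⟨14,13,14,3,true,[.code,.edge 439 false,.code],[.code,.edge 291 false,.code]⟩,
⟨46,29,33,0,true,[],[.edge 452 false]⟩,
⟨14,13,25,5,true,[.edge 343 false,.edge 332 false,.code,.edge 411 false,.code],[.edge 343 false,.code,.edge 332 false,.code,.edge 415 false]⟩,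
⟨0,29,31,0,true,[],[.edge 454 false]⟩,
⟨0,30,32,0,true,[],[.edge 455 false]⟩,
⟨18,13,7,2,false,[.code,.edge 402 false],[.code,.edge 451 false,.edge 456 false]⟩,
⟨0,29,30,0,false,[],[.eqn 457 true]⟩,
⟨2,26,31,0,true,[],[.eqn 458 true,.edge 455 false]⟩,
⟨12,26,33,0,true,[],[.eqn 458 true,.edge 453 false]⟩,
⟨40,13,21,8,true,[.code,.edge 451 false,.code,.edge 456 false,.eqn 458 false,.code,.edge 459 false,.edge 425 false,.code],[.edge 348 false,.code]⟩,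
⟨10,31,33,0,true,[],[.edge 461 false]⟩,
⟨74,16,33,0,true,[],[.edge 462 true]⟩,
⟨50,13,14,1,true,[.code],[.code,.edge 348 false,.code,.edge 463 false,.code]⟩,
⟨72,13,33,0,true,[],[.edge 464 false]⟩,
⟨482,25,32,0,true,[],[.edge 35 false]⟩,
⟨0,36,31,0,true,[],[.edge 466 false]⟩,
⟨412,13,29,18,false,[.code,.edge 402 false,.code,.edge 460 false,.code,.edge 293 false,.code,.edge 255 false,.code,.edge 393 false,.code,.edge 466 false,.code,.edge 467 false,.code,.edge 395 false,.code,.edge 258 false],[.code]⟩,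
⟨429,13,30,0,false,[],[.eqn 468 true]⟩,
⟨3,13,30,0,false,[],[.eqn 469 false,.eqn 469 false]⟩,
⟨446,13,30,0,false,[],[.eqn 470 false,.eqn 469 false]⟩,
⟨384,13,31,0,true,[],[.eqn 471 true,.edge 260 false]⟩,
⟨386,13,31,0,true,[],[.eqn 471 true,.edge 328 false]⟩,
⟨428,13,33,0,true,[],[.eqn 471 true,.edge 226 false]⟩,
⟨430,13,33,0,true,[],[.eqn 471 true,.edge 237 false]⟩,
⟨454,13,33,0,true,[],[.eqn 471 true,.edge 278 false]⟩,
⟨452,13,33,0,true,[],[.eqn 471 true,.edge 358 false]⟩,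
⟨396,13,33,0,true,[],[.eqn 471 true,.edge 286 false]⟩,
⟨151,8,33,0,false,[],[.edge 478 true,.edge 449 false]⟩,
⟨386,13,33,0,true,[],[.eqn 471 true,.edge 465 false]⟩,
⟨68,13,33,0,true,[],[.eqn 471 true,.edge 449 false]⟩,
⟨368,35,33,0,false,[],[.edge 481 true,.edge 451 false]⟩,
⟨2,13,31,0,true,[],[.eqn 471 true,.edge 472 false]⟩,
⟨96,15,32,0,false,[],[.edge 483 false,.edge 328 false]⟩,
⟨0,13,31,0,true,[],[.eqn 471 true,.edge 473 false]⟩,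
⟨210,11,32,0,false,[],[.edge 485 false,.edge 260 false]⟩,
⟨2,13,33,0,true,[],[.eqn 471 true,.edge 474 false]⟩,
⟨1833,4,33,0,false,[],[.edge 487 true,.edge 237 false]⟩,
⟨0,13,33,0,true,[],[.eqn 471 true,.edge 475 false]⟩,
⟨256,14,33,0,false,[],[.edge 489 true,.edge 226 false]⟩,
⟨34,13,33,0,true,[],[.eqn 471 true,.edge 476 false]⟩,
⟨1637,3,33,0,false,[],[.edge 491 true,.edge 358 false]⟩,
⟨32,13,33,0,true,[],[.eqn 471 true,.edge 477 false]⟩,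
⟨224,19,33,0,false,[],[.edge 493 true,.edge 278 false]⟩,
⟨0,35,30,0,false,[],[.eqn 479 true]⟩,
⟨74,13,33,0,true,[],[.eqn 471 true,.edge 480 false]⟩,
⟨170,31,33,0,false,[],[.edge 496 true,.edge 301 false]⟩,
⟨368,35,30,0,false,[.eqn 495 false],[.eqn 482 false]⟩,
⟨0,30,30,0,false,[],[.eqn 498 true]⟩,
⟨40,8,33,0,true,[],[.eqn 499 true,.edge 419 false]⟩,
⟨370,11,33,0,false,[],[.edge 500 true,.edge 315 false]⟩,
⟨46,8,33,0,true,[],[.eqn 499 true,.edge 424 false]⟩,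
⟨0,31,33,0,false,[],[.edge 502 true,.edge 326 false]⟩,
⟨36,8,33,0,true,[],[.eqn 499 true,.edge 448 false]⟩,
⟨314,19,33,0,false,[],[.edge 504 true,.edge 317 false]⟩,
⟨0,15,30,0,false,[],[.eqn 484 false]⟩,
⟨210,11,30,0,false,[],[.eqn 486 false,.eqn 506 false]⟩,
⟨17,11,30,0,false,[],[.eqn 507 true]⟩,
⟨546,11,31,0,true,[],[.eqn 508 true,.edge 388 false]⟩,
⟨630,3,32,0,false,[],[.edge 509 false,.edge 389 false]⟩,
⟨0,14,30,0,false,[],[.eqn 488 true]⟩,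
⟨256,14,30,0,false,[.eqn 511 false],[.eqn 490 false]⟩,
⟨403,4,30,0,false,[],[.eqn 512 true]⟩,
⟨384,4,31,0,true,[],[.eqn 513 true,.edge 180 false]⟩,
⟨497,3,32,0,false,[],[.edge 514 false,.edge 149 false]⟩,
⟨0,19,30,0,false,[],[.eqn 492 true]⟩,
⟨224,19,30,0,false,[.eqn 516 false],[.eqn 494 false]⟩,
⟨1517,3,30,0,false,[],[.eqn 517 true]⟩,
⟨544,3,31,0,true,[],[.eqn 518 true,.edge 431 false]⟩,
⟨490,34,32,0,false,[],[.edge 519 false,.edge 398 false]⟩,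
⟨614,3,33,0,true,[],[.eqn 518 true,.edge 127 false]⟩,
⟨367,2,33,0,false,[],[.edge 521 true,.edge 423 false]⟩,
⟨170,31,30,0,false,[],[.eqn 497 false,.eqn 506 false]⟩,
⟨0,31,30,0,false,[],[.eqn 523 false]⟩,
⟨0,11,30,0,false,[],[.eqn 501 false]⟩,
⟨0,31,30,0,false,[.eqn 524 false,.eqn 525 false],[.eqn 503 false]⟩,
⟨0,20,30,0,false,[],[.eqn 526 true]⟩,
⟨314,19,30,0,false,[.eqn 516 false],[.eqn 505 false,.eqn 527 false]⟩,
⟨0,10,30,0,false,[],[.eqn 528 true]⟩,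
⟨0,25,30,0,false,[],[.eqn 510 true]⟩,
⟨0,7,30,0,false,[],[.eqn 515 true]⟩,
⟨0,3,31,0,true,[],[.eqn 531 true,.edge 64 false]⟩,
⟨176,0,32,0,false,[],[.edge 532 false,.edge 431 false]⟩,
⟨490,34,30,0,false,[],[.eqn 520 false,.eqn 530 false]⟩,
⟨0,34,30,0,false,[],[.eqn 534 false]⟩]

/-- Deductions. -/
def c5_5 : List Step := [
⟨367,2,30,0,false,[],[.eqn 522 false,.eqn 529 false]⟩,
⟨0,3,30,0,false,[],[.eqn 536 true]⟩,
⟨176,0,30,0,false,[],[.eqn 533 false,.eqn 535 false,.eqn 537 false]⟩,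
⟨0,2,30,0,false,[],[.eqn 538 true]⟩]

/-- All deductions. -/
def c5_ : List Step :=
  List.flatten [c5_0,c5_1,c5_2,c5_3,c5_4,c5_5]

/-- A collapsing certificate. -/
def p5 : Proto := ⟨d5, c5_⟩

/-- Its last walk. -/
def m5 : List Mv := [.edge 69 false,.eqn 531 false,.eqn 537 false,.eqn 539 false]

/-- Node definitions. -/
def d6 : List NDef := [⟨2,772,0⟩,⟨2,258,1⟩,⟨2,367,2⟩,⟨1,481,3⟩,⟨1,384,4⟩,⟨1,384,5⟩,⟨0,2,5⟩,⟨2,117,4⟩,⟨2,258,8⟩,⟨2,354,8⟩,⟨2,495,4⟩,⟨2,485,4⟩,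
⟨2,486,4⟩,⟨1,406,11⟩,⟨1,384,14⟩,⟨1,384,15⟩,⟨0,271,16⟩,⟨2,99,11⟩]

/-- Deductions. -/
def c6_0 : List Step := [
⟨386,0,33,0,true,[],[.edge 0 false]⟩,
⟨0,1,33,0,true,[],[.edge 18 true]⟩,
⟨66,0,33,0,true,[],[.base 386,.edge 18 false]⟩,
⟨452,0,33,0,true,[],[.base 387,.edge 18 false]⟩,
⟨64,0,33,0,true,[],[.base 66,.edge 20 false]⟩,
⟨718,0,33,0,true,[],[.base 83,.edge 20 false]⟩,
⟨424,0,33,0,true,[],[.base 452,.edge 21 false]⟩,
⟨384,0,33,0,true,[],[.base 64,.edge 22 false]⟩,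
⟨584,0,33,0,true,[],[.base 719,.edge 23 false]⟩,
⟨8,0,33,0,true,[],[.base 424,.edge 24 false]⟩,
⟨448,0,33,0,true,[],[.base 384,.edge 25 false]⟩,
⟨66,0,33,0,true,[],[.base 585,.edge 26 false]⟩,
⟨272,1,33,0,false,[],[.edge 29 true,.edge 20 false]⟩,
⟨10,0,33,0,true,[],[.base 24,.edge 27 false]⟩,
⟨32,0,33,0,true,[],[.base 448,.edge 28 false]⟩,
⟨416,0,33,0,true,[],[.base 448,.edge 28 false]⟩,
⟨256,1,30,0,false,[],[.eqn 30 true]⟩,
⟨426,0,33,0,true,[],[.base 10,.edge 31 false]⟩,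
⟨0,0,33,0,true,[],[.base 416,.edge 33 false]⟩,
⟨394,0,33,0,true,[],[.base 426,.edge 35 false]⟩,
⟨458,0,33,0,true,[],[.base 394,.edge 37 false]⟩,
⟨42,0,33,0,true,[],[.base 458,.edge 38 false]⟩,
⟨8,1,33,0,true,[],[.edge 1 false]⟩,
⟨2,1,33,0,true,[],[.eqn 34 true,.edge 40 false]⟩,
⟨2,2,33,0,true,[],[.edge 2 false]⟩,
⟨0,3,33,0,true,[],[.edge 42 true]⟩,
⟨480,3,32,0,true,[],[.edge 3 false]⟩,
⟨0,4,31,0,true,[],[.edge 44 false]⟩,
⟨384,4,32,0,true,[],[.edge 4 false]⟩,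
⟨384,5,32,0,true,[],[.edge 5 false]⟩,
⟨0,6,31,0,true,[],[.edge 47 false]⟩,
⟨2,5,31,0,true,[],[.edge 6 false]⟩,
⟨0,7,32,0,true,[],[.edge 49 false]⟩,
⟨0,0,29,17,true,[.code,.edge 18 false,.code,.edge 40 false,.code,.edge 42 false,.code,.edge 44 false,.code,.edge 46 false,.code,.edge 47 false,.code,.edge 48 false,.code,.edge 49 false,.code],[.code]⟩,
⟨384,7,31,0,true,[],[.edge 51 false]⟩,
⟨0,0,32,0,true,[],[.edge 52 false]⟩,
⟨2,0,32,0,true,[],[.base 0,.edge 53 false]⟩,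
⟨386,0,32,0,true,[],[.base 2,.edge 54 false]⟩,
⟨0,0,1,1,true,[.code],[.code,.edge 54 false,.code]⟩,
⟨0,0,31,0,true,[],[.edge 56 false]⟩,
⟨386,7,32,0,true,[],[.edge 57 false]⟩,
⟨2,0,31,0,true,[],[.base 0,.edge 57 false]⟩,
⟨384,0,31,0,true,[],[.base 0,.edge 57 false]⟩,
⟨512,0,31,0,true,[],[.base 0,.edge 57 false]⟩,
⟨386,0,31,0,true,[],[.base 2,.edge 59 false]⟩,
⟨480,0,31,0,true,[],[.base 512,.edge 61 false]⟩,
⟨0,0,4,1,true,[.edge 36 false],[.code,.edge 32 false]⟩,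
⟨0,1,32,0,true,[],[.edge 64 false]⟩,
⟨0,1,31,0,true,[],[.edge 65 false]⟩,
⟨0,0,14,3,true,[.code,.edge 39 false,.code],[.code,.edge 31 false,.code]⟩,
⟨76,1,33,0,true,[],[.edge 67 false]⟩,
⟨0,0,15,2,true,[.code,.edge 53 false],[.code,.edge 36 false,.code,.edge 65 false,.edge 65 false,.code]⟩,
⟨448,7,33,0,true,[],[.edge 69 false]⟩,
⟨32,1,33,0,true,[],[.edge 70 true]⟩,
⟨0,1,1,3,true,[.code,.edge 66 false,.code],[.code]⟩,
⟨2,1,31,0,true,[],[.edge 72 false]⟩,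
⟨2,1,32,0,true,[],[.edge 73 false]⟩,
⟨0,1,4,2,false,[.edge 19 false,.edge 55 false],[.code,.edge 71 false]⟩,
⟨32,7,30,0,false,[],[.eqn 75 true]⟩,
⟨64,7,30,0,false,[],[.eqn 76 false,.eqn 76 false]⟩,
⟨0,1,5,2,true,[.edge 19 false,.edge 62 false],[.code]⟩,
⟨418,7,33,0,true,[],[.edge 78 false]⟩,
⟨64,1,33,0,true,[],[.edge 79 true]⟩,
⟨0,1,12,3,true,[.code,.edge 68 false,.edge 66 false],[.code]⟩,
⟨12,1,33,0,true,[],[.edge 81 false]⟩,
⟨0,1,15,4,true,[.code,.edge 65 false,.edge 80 false,.code],[.code,.edge 19 false,.code,.edge 55 false]⟩,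
⟨386,7,31,0,true,[],[.edge 83 false]⟩,
⟨384,7,32,0,true,[],[.edge 84 false]⟩,
⟨2,1,3,4,true,[.edge 74 false,.code,.edge 41 false,.code],[.edge 41 false]⟩,
⟨0,2,31,0,true,[],[.edge 86 false]⟩,
⟨2,1,5,2,true,[.edge 41 false,.edge 87 false],[.code]⟩,
⟨32,2,33,0,true,[],[.edge 88 false]⟩,
⟨6,1,14,3,false,[.code,.edge 71 false,.code],[.code,.edge 82 false,.code,.edge 71 false]⟩,
⟨926,7,30,0,false,[],[.eqn 90 true]⟩,
⟨894,7,30,0,false,[],[.eqn 76 false,.eqn 91 false]⟩,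
⟨1333,7,30,0,false,[],[.eqn 91 false,.eqn 76 false]⟩,
⟨1269,7,30,0,false,[],[.eqn 91 false,.eqn 91 false]⟩,
⟨1301,7,30,0,false,[],[.eqn 92 false,.eqn 91 false]⟩,
⟨82,7,30,0,false,[],[.eqn 93 false,.eqn 91 false]⟩,
⟨18,7,30,0,false,[],[.eqn 94 false,.eqn 91 false]⟩,
⟨1721,7,30,0,false,[],[.eqn 95 false,.eqn 76 false]⟩,
⟨940,7,30,0,false,[],[.eqn 96 false,.eqn 91 false]⟩,
⟨908,7,30,0,false,[],[.eqn 97 false,.eqn 91 false]⟩,
⟨1659,7,30,0,false,[],[.eqn 98 false,.eqn 91 false]⟩,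
⟨1303,7,30,0,false,[],[.eqn 99 false,.eqn 76 false]⟩,
⟨1271,7,30,0,false,[],[.eqn 100 false,.eqn 91 false]⟩,
⟨546,7,32,0,true,[],[.eqn 102 true,.edge 50 false]⟩,
⟨482,7,32,0,true,[],[.eqn 77 true,.edge 104 false]⟩,
⟨514,7,32,0,true,[],[.eqn 77 true,.edge 105 false]⟩,
⟨2,7,32,0,true,[],[.eqn 101 true,.edge 105 false]⟩,
⟨0,2,1,3,true,[.code,.edge 87 false,.code],[.code]⟩,
⟨2,2,31,0,true,[],[.edge 108 false]⟩,
⟨2,2,32,0,true,[],[.edge 109 false]⟩,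
⟨0,3,4,4,false,[.edge 43 false,.edge 110 false,.edge 42 false,.code],[]⟩,
⟨320,3,30,0,false,[],[.eqn 111 true]⟩,
⟨224,3,30,0,false,[],[.eqn 112 false,.eqn 112 false]⟩,
⟨482,3,1,1,true,[.code],[.code,.edge 44 false,.code]⟩,
⟨482,3,31,0,true,[],[.edge 114 false]⟩,
⟨2,4,32,0,true,[],[.edge 115 false]⟩,
⟨386,4,1,1,true,[.code],[.code,.edge 46 false,.code]⟩]

/-- Deductions. -/
def c6_1 : List Step := [
⟨386,4,31,0,true,[],[.edge 117 false]⟩,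
⟨387,4,0,2,true,[.edge 118 false,.edge 49 false],[]⟩,
⟨0,7,31,0,true,[],[.edge 119 false]⟩,
⟨386,4,32,0,true,[],[.edge 120 false]⟩,
⟨546,7,31,0,true,[],[.eqn 102 true,.edge 120 false]⟩,
⟨482,7,31,0,true,[],[.eqn 77 true,.edge 122 false]⟩,
⟨514,7,31,0,true,[],[.eqn 77 true,.edge 123 false]⟩,
⟨2,7,31,0,true,[],[.eqn 101 true,.edge 123 false]⟩,
⟨512,7,31,0,true,[],[.eqn 91 true,.edge 124 false]⟩,
⟨544,7,31,0,true,[],[.eqn 102 true,.edge 125 false]⟩,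
⟨544,7,31,0,true,[],[.eqn 77 true,.edge 126 false]⟩,
⟨1561,4,32,0,false,[],[.edge 128 false,.edge 127 false]⟩,
⟨64,4,30,0,false,[],[.eqn 129 true]⟩,
⟨32,4,30,0,false,[],[.eqn 130 false,.eqn 130 false]⟩,
⟨390,4,1,1,false,[.code],[.code,.edge 121 false,.code,.edge 107 false]⟩,
⟨0,5,30,0,false,[],[.eqn 132 true]⟩,
⟨384,4,31,0,true,[],[.eqn 133 true,.edge 49 false]⟩,
⟨2,4,33,0,true,[],[.edge 7 false]⟩,
⟨0,8,33,0,true,[],[.edge 135 true]⟩,
⟨66,4,33,0,true,[],[.eqn 131 true,.edge 135 false]⟩,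
⟨8,8,33,0,true,[],[.edge 8 false]⟩,
⟨386,4,29,5,true,[.code,.edge 135 false,.code,.edge 138 false,.code],[.code,.edge 121 false,.code,.edge 58 false,.code,.edge 55 false,.code,.edge 52 false,.code,.edge 62 false,.code,.edge 125 false,.code]⟩,
⟨2,9,33,0,true,[],[.edge 139 false]⟩,
⟨0,4,33,0,true,[],[.edge 140 true]⟩,
⟨14,8,33,0,true,[],[.edge 9 false]⟩,
⟨0,10,33,0,true,[],[.edge 142 true]⟩,
⟨402,4,29,5,true,[.code,.edge 135 false,.code,.edge 142 false,.code],[.code,.edge 121 false,.code,.edge 85 false,.code,.edge 50 false,.eqn 133 false,.code,.edge 134 false,.code,.edge 52 false,.code,.edge 60 false,.code]⟩,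
⟨2,10,33,0,true,[],[.edge 144 false]⟩,
⟨32,7,33,0,true,[],[.edge 145 true]⟩,
⟨64,7,33,0,true,[],[.eqn 77 true,.edge 146 false]⟩,
⟨0,7,33,0,true,[],[.eqn 77 true,.edge 147 false]⟩,
⟨740,7,33,0,true,[],[.eqn 103 true,.edge 147 false]⟩,
⟨403,4,27,4,true,[.code,.edge 121 false,.code,.edge 147 false],[.code,.edge 121 false,.edge 146 false]⟩,
⟨2,10,31,0,true,[],[.edge 150 false]⟩,
⟨2,10,32,0,true,[],[.edge 151 false]⟩,
⟨403,4,28,8,true,[.code,.edge 121 false,.edge 148 false,.code,.edge 151 false,.code,.edge 151 false,.code],[.code]⟩,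
⟨66,10,33,0,true,[],[.edge 153 false]⟩,
⟨386,4,33,0,true,[],[.edge 154 true]⟩,
⟨418,4,33,0,true,[],[.eqn 131 true,.edge 155 false]⟩,
⟨450,4,33,0,true,[],[.eqn 131 true,.edge 156 false]⟩,
⟨403,4,29,3,false,[.code,.edge 141 false,.code],[.code,.edge 121 false,.code,.edge 85 false,.code,.edge 107 false,.eqn 133 false,.code,.edge 134 false,.code,.edge 52 false,.code,.edge 62 false,.code,.edge 146 false,.code,.edge 143 false]⟩,
⟨0,9,30,0,false,[],[.eqn 158 false]⟩,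
⟨0,8,33,0,true,[],[.eqn 159 true,.edge 140 false]⟩,
⟨97,4,33,0,false,[],[.edge 160 true,.edge 136 false]⟩,
⟨18,4,30,0,false,[],[.eqn 161 true]⟩,
⟨0,4,32,0,true,[],[.eqn 162 true,.edge 116 false]⟩,
⟨408,4,16,6,true,[.code,.edge 157 false,.code,.edge 152 false,.edge 152 false,.code],[.code,.edge 121 false,.code,.edge 50 false,.eqn 133 false]⟩,
⟨34,10,33,0,true,[],[.edge 164 false]⟩,
⟨384,4,33,0,true,[],[.edge 165 true]⟩,
⟨776,4,29,1,false,[.code],[.code,.edge 121 false,.code,.edge 85 false,.code,.edge 106 false,.eqn 133 false,.code,.edge 134 false,.code,.edge 52 false,.code,.edge 63 false,.code,.edge 149 false,.code,.edge 143 false,.code,.edge 136 false]⟩,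
⟨876,4,30,0,false,[],[.eqn 167 true]⟩,
⟨894,4,30,0,false,[],[.eqn 162 false,.eqn 168 false]⟩,
⟨480,4,31,0,true,[],[.eqn 169 true,.edge 45 false]⟩,
⟨480,4,32,0,true,[],[.eqn 169 true,.edge 163 false]⟩,
⟨492,4,33,0,true,[],[.eqn 169 true,.edge 141 false,.eqn 159 false]⟩,
⟨488,4,33,0,true,[],[.eqn 169 true,.edge 135 false]⟩,
⟨676,4,33,0,true,[],[.eqn 169 true,.edge 137 false]⟩,
⟨394,4,33,0,true,[],[.eqn 168 true,.edge 166 false]⟩,
⟨398,4,33,0,true,[],[.eqn 168 true,.edge 155 false]⟩,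
⟨544,4,32,0,true,[],[.eqn 131 true,.edge 171 false]⟩,
⟨778,4,24,4,false,[.code,.edge 46 false,.eqn 133 false,.edge 121 false,.code],[.edge 175 false,.edge 152 false,.code,.edge 152 false,.code,.edge 145 false]⟩,
⟨23,7,30,0,false,[],[.eqn 178 true]⟩,
⟨736,7,33,0,true,[],[.eqn 179 true,.edge 149 false]⟩,
⟨482,7,33,0,true,[],[.eqn 94 true,.edge 180 false]⟩,
⟨494,4,33,0,true,[],[.edge 10 false]⟩,
⟨0,11,33,0,true,[],[.edge 182 true]⟩,
⟨558,4,33,0,true,[],[.eqn 131 true,.edge 182 false]⟩,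
⟨490,4,33,0,true,[],[.eqn 162 true,.edge 182 false]⟩,
⟨526,4,33,0,true,[],[.eqn 131 true,.edge 184 false]⟩,
⟨640,4,33,0,true,[],[.eqn 169 true,.edge 184 false]⟩,
⟨576,4,33,0,true,[],[.eqn 131 true,.edge 187 false]⟩,
⟨484,4,33,0,true,[],[.edge 11 false]⟩,
⟨480,4,33,0,true,[],[.eqn 162 true,.edge 189 false]⟩,
⟨486,4,33,0,true,[],[.edge 12 false]⟩,
⟨550,4,33,0,true,[],[.eqn 131 true,.edge 191 false]⟩,
⟨482,4,33,0,true,[],[.eqn 162 true,.edge 191 false]⟩,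
⟨546,4,33,0,true,[],[.eqn 162 true,.edge 192 false]⟩,
⟨10,4,33,0,true,[],[.eqn 169 true,.edge 193 false]⟩,
⟨652,4,33,0,true,[],[.eqn 169 true,.edge 194 false]⟩,
⟨74,4,33,0,true,[],[.eqn 131 true,.edge 195 false]⟩,
⟨588,4,33,0,true,[],[.eqn 131 true,.edge 196 false]⟩,
⟨672,4,33,0,true,[],[.eqn 169 true,.edge 197 false]⟩,
⟨864,4,0,1,true,[.edge 170 false],[.edge 171 false]⟩,
⟨480,3,31,0,true,[],[.edge 200 false]⟩,
⟨482,3,32,0,true,[],[.edge 201 false]⟩,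
⟨864,4,4,1,true,[.edge 190 false],[.code,.edge 188 false]⟩,
⟨0,12,32,0,true,[],[.edge 203 false]⟩,
⟨0,11,31,0,true,[],[.edge 204 false]⟩,
⟨864,4,5,1,true,[.edge 190 false],[.code,.edge 199 false]⟩,
⟨0,12,31,0,true,[],[.edge 206 false]⟩,
⟨0,13,32,0,true,[],[.edge 207 false]⟩,
⟨864,4,13,2,true,[.code,.edge 185 false],[.code,.edge 198 false]⟩,
⟨0,11,32,0,true,[],[.edge 209 false]⟩,
⟨864,4,15,2,true,[.code,.edge 171 false],[.code,.edge 190 false,.code,.edge 204 false,.edge 210 false,.code]⟩,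
⟨580,3,33,0,true,[],[.edge 211 false]⟩,
⟨484,3,33,0,true,[],[.eqn 113 true,.edge 212 false]⟩,
⟨865,4,3,2,true,[.edge 171 false,.code],[.edge 190 false,.edge 204 false,.code]⟩,
⟨494,3,33,0,true,[],[.edge 214 false]⟩,
⟨32,11,33,0,true,[],[.edge 215 true]⟩,
⟨865,4,27,5,true,[.code,.edge 171 false,.code,.edge 215 false,.edge 205 false],[.code,.edge 171 false]⟩]

/-- Deductions. -/
def c6_2 : List Step := [
⟨32,12,33,0,true,[],[.edge 217 false]⟩,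
⟨680,3,33,0,true,[],[.edge 218 true]⟩,
⟨584,3,33,0,true,[],[.eqn 113 true,.edge 219 false]⟩,
⟨488,3,33,0,true,[],[.eqn 113 true,.edge 220 false]⟩,
⟨868,4,7,2,true,[.code,.edge 173 false],[.code,.edge 174 false]⟩,
⟨0,8,31,0,true,[],[.edge 222 false]⟩,
⟨0,8,32,0,true,[],[.edge 223 false]⟩,
⟨876,4,3,2,true,[.edge 171 false,.code],[.edge 172 false,.edge 224 false,.code]⟩,
⟨482,3,33,0,true,[],[.edge 225 false]⟩,
⟨674,3,33,0,true,[],[.eqn 113 true,.edge 226 false]⟩,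
⟨578,3,33,0,true,[],[.eqn 113 true,.edge 227 false]⟩,
⟨482,3,17,4,true,[.code,.edge 221 false,.edge 204 false,.code],[.code,.edge 226 false,.edge 224 false,.code,.edge 224 false,.code]⟩,
⟨42,11,33,0,true,[],[.edge 229 false]⟩,
⟨484,3,17,4,true,[.code,.edge 215 false,.edge 210 false,.code],[.code,.edge 213 false,.edge 208 false,.code,.edge 204 false,.code]⟩,
⟨42,13,33,0,true,[],[.edge 231 false]⟩,
⟨484,3,21,6,true,[.code,.edge 228 false,.code,.edge 224 false,.code,.edge 223 false],[.edge 213 false,.code,.edge 232 false,.code]⟩,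
⟨6,8,33,0,true,[],[.edge 233 false]⟩,
⟨6,11,33,0,true,[],[.edge 234 true]⟩,
⟨384,11,32,0,true,[],[.edge 13 false]⟩,
⟨384,14,32,0,true,[],[.edge 14 false]⟩,
⟨0,15,31,0,true,[],[.edge 237 false]⟩,
⟨384,15,32,0,true,[],[.edge 15 false]⟩,
⟨0,16,31,0,true,[],[.edge 239 false]⟩,
⟨96,7,29,14,false,[.code,.edge 181 false,.code,.edge 143 false,.code,.edge 234 false,.code,.edge 236 false,.code,.edge 237 false,.code,.edge 239 false,.code,.edge 240 false],[.code,.edge 50 false,.eqn 133 false,.code,.edge 177 false,.code]⟩,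
⟨0,15,30,0,false,[],[.eqn 241 false]⟩,
⟨480,3,31,0,true,[],[.eqn 242 true,.edge 238 false]⟩,
⟨842,14,32,0,false,[],[.edge 243 false,.edge 201 false]⟩,
⟨544,3,32,0,true,[],[.eqn 242 true,.edge 239 false]⟩,
⟨0,14,30,0,false,[],[.eqn 244 false]⟩,
⟨2,16,31,0,true,[],[.edge 16 false]⟩,
⟨386,11,1,1,false,[.code],[.code,.edge 236 false,.eqn 246 false,.code,.edge 245 false]⟩,
⟨0,16,30,0,false,[],[.eqn 248 true]⟩,
⟨386,11,31,0,true,[],[.eqn 249 true,.edge 240 false,.eqn 242 false]⟩,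
⟨384,11,31,0,true,[],[.eqn 249 true,.edge 247 false]⟩,
⟨390,11,0,1,true,[.edge 251 false],[.edge 236 false,.eqn 246 false]⟩,
⟨0,17,31,0,true,[],[.edge 252 false]⟩,
⟨546,3,32,0,true,[],[.edge 253 false]⟩,
⟨4,11,33,0,true,[],[.edge 17 false]⟩,
⟨0,18,33,0,true,[],[.edge 255 true]⟩,
⟨391,11,29,3,false,[.code,.edge 255 false,.code],[.code,.edge 236 false,.eqn 246 false,.code,.edge 202 false,.code,.edge 254 false,.code,.edge 253 false,.code,.edge 115 false,.code,.edge 118 false,.eqn 133 false,.code,.edge 186 false,.code,.edge 255 false]⟩,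
⟨104,18,30,0,false,[],[.eqn 257 true]⟩,
⟨23,18,30,0,false,[],[.eqn 258 false,.eqn 258 false]⟩,
⟨127,18,30,0,false,[],[.eqn 259 false,.eqn 258 false]⟩,
⟨14,18,33,0,true,[],[.eqn 260 true,.edge 256 false]⟩,
⟨6,18,33,0,true,[],[.eqn 260 true,.edge 261 false]⟩,
⟨8,18,33,0,true,[],[.eqn 260 true,.edge 262 false]⟩,
⟨0,18,33,0,true,[],[.eqn 260 true,.edge 263 false]⟩,
⟨5,11,33,0,false,[],[.edge 264 true,.edge 256 false]⟩,
⟨118,11,30,0,false,[],[.eqn 265 true]⟩,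
⟨6,11,33,0,true,[],[.eqn 266 true,.edge 183 false]⟩,
⟨511,4,33,0,false,[],[.edge 267 true,.edge 235 false]⟩,
⟨42,11,33,0,true,[],[.eqn 266 true,.edge 216 false]⟩,
⟨1827,3,33,0,false,[],[.edge 269 true,.edge 230 false]⟩,
⟨0,8,30,0,false,[],[.eqn 268 true]⟩,
⟨490,4,33,0,true,[],[.eqn 271 true,.edge 138 false,.eqn 159 false,.eqn 271 false]⟩,
⟨1451,4,33,0,false,[],[.edge 272 true,.edge 185 false]⟩,
⟨492,4,33,0,true,[],[.eqn 271 true,.edge 142 false]⟩,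
⟨272,10,33,0,false,[],[.edge 274 true,.edge 172 false]⟩,
⟨1827,3,30,0,false,[],[.eqn 270 false,.eqn 271 false]⟩,
⟨0,4,30,0,false,[],[.eqn 276 true]⟩,
⟨2,3,31,0,true,[],[.eqn 277 true,.edge 134 false]⟩,
⟨0,3,33,0,true,[],[.eqn 277 true,.edge 176 false]⟩,
⟨303,10,33,0,false,[],[.edge 279 true,.edge 43 false]⟩,
⟨1451,4,30,0,false,[.eqn 277 false],[.eqn 273 false]⟩,
⟨0,11,30,0,false,[],[.eqn 281 true]⟩,
⟨2,3,31,0,true,[],[.eqn 282 true,.edge 250 false]⟩,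
⟨908,3,32,0,false,[],[.edge 283 false,.edge 278 false]⟩,
⟨272,10,30,0,false,[],[.eqn 275 false,.eqn 271 false,.eqn 277 false]⟩,
⟨0,10,30,0,false,[],[.eqn 285 false]⟩,
⟨303,10,30,0,false,[.eqn 286 false],[.eqn 280 false]⟩,
⟨0,3,30,0,false,[],[.eqn 287 false]⟩,
⟨32,2,33,0,true,[],[.eqn 288 true,.edge 226 false,.eqn 271 false,.eqn 277 false,.eqn 288 false]⟩,
⟨64,2,33,0,false,[],[.edge 289 true,.edge 89 false]⟩,
⟨908,3,30,0,false,[.eqn 288 false],[.eqn 284 false]⟩,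
⟨0,7,30,0,false,[],[.eqn 291 true]⟩,
⟨0,2,31,0,true,[],[.eqn 292 true,.edge 52 false]⟩,
⟨374,0,32,0,false,[],[.edge 293 false,.edge 87 false]⟩,
⟨0,2,30,0,false,[],[.eqn 290 false]⟩,
⟨374,0,30,0,false,[],[.eqn 294 false,.eqn 295 false]⟩,
⟨0,1,30,0,false,[],[.eqn 296 true]⟩]

/-- All deductions. -/
def c6_ : List Step :=
  List.flatten [c6_0,c6_1,c6_2]

/-- A collapsing certificate. -/
def p6 : Proto := ⟨d6, c6_⟩

/-- Its last walk. -/
def m6 : List Mv := [.edge 57 false,.eqn 292 false,.eqn 295 false,.eqn 297 false]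

/-- Node definitions. -/
def d7 : List NDef := [⟨2,772,0⟩,⟨2,354,1⟩,⟨2,264,2⟩,⟨1,481,3⟩,⟨1,384,4⟩,⟨1,384,5⟩,⟨0,2,5⟩,⟨2,117,4⟩,⟨2,354,8⟩,⟨2,258,8⟩,⟨2,495,4⟩,⟨2,485,4⟩,
⟨2,486,4⟩,⟨1,486,11⟩,⟨1,384,14⟩,⟨1,384,15⟩,⟨1,745,16⟩,⟨0,271,16⟩,⟨2,3,11⟩,⟨2,354,19⟩,⟨2,264,20⟩]

/-- Deductions. -/
def c7_0 : List Step := [
⟨386,0,33,0,true,[],[.edge 0 false]⟩,
⟨0,1,33,0,true,[],[.edge 21 true]⟩,
⟨66,0,33,0,true,[],[.base 386,.edge 21 false]⟩,
⟨452,0,33,0,true,[],[.base 387,.edge 21 false]⟩,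
⟨64,0,33,0,true,[],[.base 66,.edge 23 false]⟩,
⟨718,0,33,0,true,[],[.base 83,.edge 23 false]⟩,
⟨424,0,33,0,true,[],[.base 452,.edge 24 false]⟩,
⟨384,0,33,0,true,[],[.base 64,.edge 25 false]⟩,
⟨704,0,33,0,true,[],[.base 64,.edge 25 false]⟩,
⟨704,0,33,0,true,[],[.base 719,.edge 26 false]⟩,
⟨112,1,33,0,false,[],[.edge 30 true,.edge 29 false]⟩,
⟨584,0,33,0,true,[],[.base 719,.edge 26 false]⟩,
⟨8,0,33,0,true,[],[.base 424,.edge 27 false]⟩,
⟨448,0,33,0,true,[],[.base 384,.edge 28 false]⟩,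
⟨96,1,30,0,false,[],[.eqn 31 true]⟩,
⟨66,0,33,0,true,[],[.base 585,.edge 32 false]⟩,
⟨272,1,33,0,false,[],[.edge 36 true,.edge 23 false]⟩,
⟨10,0,33,0,true,[],[.base 24,.edge 33 false]⟩,
⟨32,0,33,0,true,[],[.base 448,.edge 34 false]⟩,
⟨416,0,33,0,true,[],[.base 448,.edge 34 false]⟩,
⟨256,1,30,0,false,[],[.eqn 37 true]⟩,
⟨426,0,33,0,true,[],[.base 10,.edge 38 false]⟩,
⟨0,0,33,0,true,[],[.base 416,.edge 40 false]⟩,
⟨394,0,33,0,true,[],[.base 426,.edge 42 false]⟩,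
⟨458,0,33,0,true,[],[.base 394,.edge 44 false]⟩,
⟨42,0,33,0,true,[],[.base 458,.edge 45 false]⟩,
⟨14,1,33,0,true,[],[.edge 1 false]⟩,
⟨8,1,33,0,true,[],[.eqn 35 true,.edge 47 false]⟩,
⟨2,1,33,0,true,[],[.eqn 41 true,.edge 48 false]⟩,
⟨2,2,33,0,true,[],[.edge 2 false]⟩,
⟨0,3,33,0,true,[],[.edge 50 true]⟩,
⟨480,3,32,0,true,[],[.edge 3 false]⟩,
⟨0,4,31,0,true,[],[.edge 52 false]⟩,
⟨384,4,32,0,true,[],[.edge 4 false]⟩,
⟨384,5,32,0,true,[],[.edge 5 false]⟩,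
⟨0,6,31,0,true,[],[.edge 55 false]⟩,
⟨2,5,31,0,true,[],[.edge 6 false]⟩,
⟨0,7,32,0,true,[],[.edge 57 false]⟩,
⟨0,0,29,17,true,[.code,.edge 21 false,.code,.edge 47 false,.code,.edge 50 false,.code,.edge 52 false,.code,.edge 54 false,.code,.edge 55 false,.code,.edge 56 false,.code,.edge 57 false,.code],[.code]⟩,
⟨384,7,31,0,true,[],[.edge 59 false]⟩,
⟨0,0,32,0,true,[],[.edge 60 false]⟩,
⟨2,0,32,0,true,[],[.base 0,.edge 61 false]⟩,
⟨386,0,32,0,true,[],[.base 2,.edge 62 false]⟩,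
⟨0,0,1,1,true,[.code],[.code,.edge 62 false,.code]⟩,
⟨0,0,31,0,true,[],[.edge 64 false]⟩,
⟨386,7,32,0,true,[],[.edge 65 false]⟩,
⟨2,0,31,0,true,[],[.base 0,.edge 65 false]⟩,
⟨384,0,31,0,true,[],[.base 0,.edge 65 false]⟩,
⟨512,0,31,0,true,[],[.base 0,.edge 65 false]⟩,
⟨386,0,31,0,true,[],[.base 2,.edge 67 false]⟩,
⟨480,0,31,0,true,[],[.base 512,.edge 69 false]⟩,
⟨0,0,4,1,true,[.edge 43 false],[.code,.edge 39 false]⟩,
⟨0,1,32,0,true,[],[.edge 72 false]⟩,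
⟨0,1,31,0,true,[],[.edge 73 false]⟩,
⟨0,0,14,3,true,[.code,.edge 46 false,.code],[.code,.edge 38 false,.code]⟩,
⟨76,1,33,0,true,[],[.edge 75 false]⟩,
⟨0,0,15,2,true,[.code,.edge 61 false],[.code,.edge 43 false,.code,.edge 73 false,.edge 73 false,.code]⟩,
⟨448,7,33,0,true,[],[.edge 77 false]⟩,
⟨32,1,33,0,true,[],[.edge 78 true]⟩,
⟨0,1,1,3,true,[.code,.edge 74 false,.code],[.code]⟩,
⟨2,1,31,0,true,[],[.edge 80 false]⟩,
⟨2,1,32,0,true,[],[.edge 81 false]⟩,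
⟨0,1,4,2,false,[.edge 22 false,.edge 63 false],[.code,.edge 79 false]⟩,
⟨32,7,30,0,false,[],[.eqn 83 true]⟩,
⟨64,7,30,0,false,[],[.eqn 84 false,.eqn 84 false]⟩,
⟨0,1,5,2,true,[.edge 22 false,.edge 70 false],[.code]⟩,
⟨418,7,33,0,true,[],[.edge 86 false]⟩,
⟨64,1,33,0,true,[],[.edge 87 true]⟩,
⟨0,1,12,3,true,[.code,.edge 76 false,.edge 74 false],[.code]⟩,
⟨12,1,33,0,true,[],[.edge 89 false]⟩,
⟨0,1,15,4,true,[.code,.edge 73 false,.edge 88 false,.code],[.code,.edge 22 false,.code,.edge 63 false]⟩,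
⟨386,7,31,0,true,[],[.edge 91 false]⟩,
⟨384,7,32,0,true,[],[.edge 92 false]⟩,
⟨2,1,3,4,true,[.edge 82 false,.code,.edge 49 false,.code],[.edge 49 false]⟩,
⟨0,2,31,0,true,[],[.edge 94 false]⟩,
⟨6,1,14,3,false,[.code,.edge 79 false,.code],[.code,.edge 90 false,.code,.edge 79 false]⟩,
⟨926,7,30,0,false,[],[.eqn 96 true]⟩,
⟨894,7,30,0,false,[],[.eqn 84 false,.eqn 97 false]⟩,
⟨1333,7,30,0,false,[],[.eqn 97 false,.eqn 84 false]⟩,
⟨1269,7,30,0,false,[],[.eqn 97 false,.eqn 97 false]⟩,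
⟨1301,7,30,0,false,[],[.eqn 98 false,.eqn 97 false]⟩,
⟨82,7,30,0,false,[],[.eqn 99 false,.eqn 97 false]⟩,
⟨18,7,30,0,false,[],[.eqn 100 false,.eqn 97 false]⟩,
⟨1721,7,30,0,false,[],[.eqn 101 false,.eqn 84 false]⟩,
⟨940,7,30,0,false,[],[.eqn 102 false,.eqn 97 false]⟩,
⟨908,7,30,0,false,[],[.eqn 103 false,.eqn 97 false]⟩,
⟨1659,7,30,0,false,[],[.eqn 104 false,.eqn 97 false]⟩,
⟨1303,7,30,0,false,[],[.eqn 105 false,.eqn 84 false]⟩,
⟨1271,7,30,0,false,[],[.eqn 106 false,.eqn 97 false]⟩,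
⟨546,7,32,0,true,[],[.eqn 108 true,.edge 58 false]⟩,
⟨482,7,32,0,true,[],[.eqn 85 true,.edge 110 false]⟩,
⟨514,7,32,0,true,[],[.eqn 85 true,.edge 111 false]⟩,
⟨2,7,32,0,true,[],[.eqn 107 true,.edge 111 false]⟩,
⟨0,2,1,3,true,[.code,.edge 95 false,.code],[.code]⟩,
⟨2,2,31,0,true,[],[.edge 114 false]⟩,
⟨2,2,32,0,true,[],[.edge 115 false]⟩,
⟨0,3,4,4,false,[.edge 51 false,.edge 116 false,.edge 50 false,.code],[]⟩,
⟨320,3,30,0,false,[],[.eqn 117 true]⟩,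
⟨224,3,30,0,false,[],[.eqn 118 false,.eqn 118 false]⟩,
⟨482,3,1,1,true,[.code],[.code,.edge 52 false,.code]⟩]

/-- Deductions. -/
def c7_1 : List Step := [
⟨482,3,31,0,true,[],[.edge 120 false]⟩,
⟨2,4,32,0,true,[],[.edge 121 false]⟩,
⟨386,4,1,1,true,[.code],[.code,.edge 54 false,.code]⟩,
⟨386,4,31,0,true,[],[.edge 123 false]⟩,
⟨387,4,0,2,true,[.edge 124 false,.edge 57 false],[]⟩,
⟨0,7,31,0,true,[],[.edge 125 false]⟩,
⟨386,4,32,0,true,[],[.edge 126 false]⟩,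
⟨546,7,31,0,true,[],[.eqn 108 true,.edge 126 false]⟩,
⟨482,7,31,0,true,[],[.eqn 85 true,.edge 128 false]⟩,
⟨514,7,31,0,true,[],[.eqn 85 true,.edge 129 false]⟩,
⟨2,7,31,0,true,[],[.eqn 107 true,.edge 129 false]⟩,
⟨512,7,31,0,true,[],[.eqn 97 true,.edge 130 false]⟩,
⟨544,7,31,0,true,[],[.eqn 108 true,.edge 131 false]⟩,
⟨544,7,31,0,true,[],[.eqn 85 true,.edge 132 false]⟩,
⟨1561,4,32,0,false,[],[.edge 134 false,.edge 133 false]⟩,
⟨64,4,30,0,false,[],[.eqn 135 true]⟩,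
⟨32,4,30,0,false,[],[.eqn 136 false,.eqn 136 false]⟩,
⟨390,4,1,1,false,[.code],[.code,.edge 127 false,.code,.edge 113 false]⟩,
⟨0,5,30,0,false,[],[.eqn 138 true]⟩,
⟨384,4,31,0,true,[],[.eqn 139 true,.edge 57 false]⟩,
⟨2,4,33,0,true,[],[.edge 7 false]⟩,
⟨0,8,33,0,true,[],[.edge 141 true]⟩,
⟨66,4,33,0,true,[],[.eqn 137 true,.edge 141 false]⟩,
⟨14,8,33,0,true,[],[.edge 8 false]⟩,
⟨386,4,29,5,true,[.code,.edge 141 false,.code,.edge 144 false,.code],[.code,.edge 127 false,.code,.edge 66 false,.code,.edge 63 false,.code,.edge 60 false,.code,.edge 70 false,.code,.edge 131 false,.code]⟩,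
⟨2,9,33,0,true,[],[.edge 145 false]⟩,
⟨0,4,33,0,true,[],[.edge 146 true]⟩,
⟨8,8,33,0,true,[],[.edge 9 false]⟩,
⟨0,10,33,0,true,[],[.edge 148 true]⟩,
⟨402,4,29,5,true,[.code,.edge 141 false,.code,.edge 148 false,.code],[.code,.edge 127 false,.code,.edge 93 false,.code,.edge 58 false,.eqn 139 false,.code,.edge 140 false,.code,.edge 60 false,.code,.edge 68 false,.code]⟩,
⟨2,10,33,0,true,[],[.edge 150 false]⟩,
⟨32,7,33,0,true,[],[.edge 151 true]⟩,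
⟨64,7,33,0,true,[],[.eqn 85 true,.edge 152 false]⟩,
⟨0,7,33,0,true,[],[.eqn 85 true,.edge 153 false]⟩,
⟨740,7,33,0,true,[],[.eqn 109 true,.edge 153 false]⟩,
⟨403,4,27,4,true,[.code,.edge 127 false,.code,.edge 153 false],[.code,.edge 127 false,.edge 152 false]⟩,
⟨2,10,31,0,true,[],[.edge 156 false]⟩,
⟨2,10,32,0,true,[],[.edge 157 false]⟩,
⟨403,4,28,8,true,[.code,.edge 127 false,.edge 154 false,.code,.edge 157 false,.code,.edge 157 false,.code],[.code]⟩,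
⟨66,10,33,0,true,[],[.edge 159 false]⟩,
⟨386,4,33,0,true,[],[.edge 160 true]⟩,
⟨418,4,33,0,true,[],[.eqn 137 true,.edge 161 false]⟩,
⟨450,4,33,0,true,[],[.eqn 137 true,.edge 162 false]⟩,
⟨403,4,29,3,false,[.code,.edge 147 false,.code],[.code,.edge 127 false,.code,.edge 93 false,.code,.edge 113 false,.eqn 139 false,.code,.edge 140 false,.code,.edge 60 false,.code,.edge 70 false,.code,.edge 152 false,.code,.edge 149 false]⟩,
⟨0,9,30,0,false,[],[.eqn 164 false]⟩,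
⟨0,8,33,0,true,[],[.eqn 165 true,.edge 146 false]⟩,
⟨97,4,33,0,false,[],[.edge 166 true,.edge 142 false]⟩,
⟨18,4,30,0,false,[],[.eqn 167 true]⟩,
⟨2,4,31,0,true,[],[.eqn 168 true,.edge 53 false]⟩,
⟨0,4,32,0,true,[],[.eqn 168 true,.edge 122 false]⟩,
⟨408,4,16,6,true,[.code,.edge 163 false,.code,.edge 158 false,.edge 158 false,.code],[.code,.edge 127 false,.code,.edge 58 false,.eqn 139 false]⟩,
⟨34,10,33,0,true,[],[.edge 171 false]⟩,
⟨384,4,33,0,true,[],[.edge 172 true]⟩,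
⟨776,4,29,1,false,[.code],[.code,.edge 127 false,.code,.edge 93 false,.code,.edge 112 false,.eqn 139 false,.code,.edge 140 false,.code,.edge 60 false,.code,.edge 71 false,.code,.edge 155 false,.code,.edge 149 false,.code,.edge 142 false]⟩,
⟨876,4,30,0,false,[],[.eqn 174 true]⟩,
⟨894,4,30,0,false,[],[.eqn 168 false,.eqn 175 false]⟩,
⟨480,4,31,0,true,[],[.eqn 176 true,.edge 53 false]⟩,
⟨480,4,32,0,true,[],[.eqn 176 true,.edge 170 false]⟩,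
⟨492,4,33,0,true,[],[.eqn 176 true,.edge 147 false,.eqn 165 false]⟩,
⟨488,4,33,0,true,[],[.eqn 176 true,.edge 141 false]⟩,
⟨676,4,33,0,true,[],[.eqn 176 true,.edge 143 false]⟩,
⟨394,4,33,0,true,[],[.eqn 175 true,.edge 173 false]⟩,
⟨544,4,32,0,true,[],[.eqn 137 true,.edge 178 false]⟩,
⟨426,4,33,0,true,[],[.eqn 137 true,.edge 182 false]⟩,
⟨384,4,33,0,true,[],[.eqn 175 true,.edge 182 false]⟩,
⟨180,10,33,0,false,[],[.edge 185 true,.edge 173 false]⟩,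
⟨422,4,33,0,true,[],[.eqn 175 true,.edge 184 false]⟩,
⟨102,10,30,0,false,[],[.eqn 186 true]⟩,
⟨6,10,33,0,true,[],[.eqn 188 true,.edge 149 false]⟩,
⟨778,4,14,3,true,[.code,.edge 187 false,.code],[.code,.edge 173 false,.code]⟩,
⟨14,10,33,0,true,[],[.edge 190 false]⟩,
⟨40,10,33,0,true,[],[.edge 191 true]⟩,
⟨778,4,24,4,false,[.code,.edge 54 false,.eqn 139 false,.edge 127 false,.code],[.edge 182 false,.edge 158 false,.code,.edge 158 false,.code,.edge 151 false]⟩,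
⟨23,7,30,0,false,[],[.eqn 193 true]⟩,
⟨736,7,33,0,true,[],[.eqn 194 true,.edge 155 false]⟩,
⟨482,7,33,0,true,[],[.eqn 100 true,.edge 195 false]⟩,
⟨494,4,33,0,true,[],[.edge 10 false]⟩,
⟨0,11,33,0,true,[],[.edge 197 true]⟩,
⟨558,4,33,0,true,[],[.eqn 137 true,.edge 197 false]⟩,
⟨490,4,33,0,true,[],[.eqn 168 true,.edge 197 false]⟩,
⟨526,4,33,0,true,[],[.eqn 137 true,.edge 199 false]⟩,
⟨640,4,33,0,true,[],[.eqn 176 true,.edge 199 false]⟩,
⟨576,4,33,0,true,[],[.eqn 137 true,.edge 202 false]⟩,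
⟨484,4,33,0,true,[],[.edge 11 false]⟩,
⟨480,4,33,0,true,[],[.eqn 168 true,.edge 204 false]⟩,
⟨486,4,33,0,true,[],[.edge 12 false]⟩,
⟨550,4,33,0,true,[],[.eqn 137 true,.edge 206 false]⟩,
⟨482,4,33,0,true,[],[.eqn 168 true,.edge 206 false]⟩,
⟨546,4,33,0,true,[],[.eqn 168 true,.edge 207 false]⟩,
⟨10,4,33,0,true,[],[.eqn 176 true,.edge 208 false]⟩,
⟨652,4,33,0,true,[],[.eqn 176 true,.edge 209 false]⟩,
⟨74,4,33,0,true,[],[.eqn 137 true,.edge 210 false]⟩,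
⟨588,4,33,0,true,[],[.eqn 137 true,.edge 211 false]⟩,
⟨672,4,33,0,true,[],[.eqn 176 true,.edge 212 false]⟩,
⟨864,4,0,1,true,[.edge 177 false],[.edge 178 false]⟩,
⟨480,3,31,0,true,[],[.edge 215 false]⟩,
⟨482,3,32,0,true,[],[.edge 216 false]⟩,
⟨864,4,4,1,true,[.edge 205 false],[.code,.edge 203 false]⟩,
⟨0,12,32,0,true,[],[.edge 218 false]⟩,
⟨0,11,31,0,true,[],[.edge 219 false]⟩]

/-- Deductions. -/
def c7_2 : List Step := [
⟨864,4,5,1,true,[.edge 205 false],[.code,.edge 214 false]⟩,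
⟨0,12,31,0,true,[],[.edge 221 false]⟩,
⟨0,13,32,0,true,[],[.edge 222 false]⟩,
⟨864,4,13,2,true,[.code,.edge 200 false],[.code,.edge 213 false]⟩,
⟨0,11,32,0,true,[],[.edge 224 false]⟩,
⟨864,4,15,2,true,[.code,.edge 178 false],[.code,.edge 205 false,.code,.edge 219 false,.edge 225 false,.code]⟩,
⟨580,3,33,0,true,[],[.edge 226 false]⟩,
⟨484,3,33,0,true,[],[.eqn 119 true,.edge 227 false]⟩,
⟨865,4,3,2,true,[.edge 178 false,.code],[.edge 205 false,.edge 219 false,.code]⟩,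
⟨494,3,33,0,true,[],[.edge 229 false]⟩,
⟨32,11,33,0,true,[],[.edge 230 true]⟩,
⟨865,4,27,5,true,[.code,.edge 178 false,.code,.edge 230 false,.edge 220 false],[.code,.edge 178 false]⟩,
⟨32,12,33,0,true,[],[.edge 232 false]⟩,
⟨680,3,33,0,true,[],[.edge 233 true]⟩,
⟨584,3,33,0,true,[],[.eqn 119 true,.edge 234 false]⟩,
⟨488,3,33,0,true,[],[.eqn 119 true,.edge 235 false]⟩,
⟨868,4,7,2,true,[.code,.edge 180 false],[.code,.edge 181 false]⟩,
⟨0,8,31,0,true,[],[.edge 237 false]⟩,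
⟨0,8,32,0,true,[],[.edge 238 false]⟩,
⟨876,4,3,2,true,[.edge 178 false,.code],[.edge 179 false,.edge 239 false,.code]⟩,
⟨482,3,33,0,true,[],[.edge 240 false]⟩,
⟨674,3,33,0,true,[],[.eqn 119 true,.edge 241 false]⟩,
⟨578,3,33,0,true,[],[.eqn 119 true,.edge 242 false]⟩,
⟨482,3,17,4,true,[.code,.edge 236 false,.edge 219 false,.code],[.code,.edge 241 false,.edge 239 false,.code,.edge 239 false,.code]⟩,
⟨42,11,33,0,true,[],[.edge 244 false]⟩,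
⟨484,3,17,4,true,[.code,.edge 230 false,.edge 225 false,.code],[.code,.edge 228 false,.edge 223 false,.code,.edge 219 false,.code]⟩,
⟨42,13,33,0,true,[],[.edge 246 false]⟩,
⟨484,3,21,6,true,[.code,.edge 243 false,.code,.edge 239 false,.code,.edge 238 false],[.edge 228 false,.code,.edge 247 false,.code]⟩,
⟨6,8,33,0,true,[],[.edge 248 false]⟩,
⟨6,11,33,0,true,[],[.edge 249 true]⟩,
⟨480,11,32,0,true,[],[.edge 13 false]⟩,
⟨384,14,32,0,true,[],[.edge 14 false]⟩,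
⟨0,15,31,0,true,[],[.edge 252 false]⟩,
⟨384,15,32,0,true,[],[.edge 15 false]⟩,
⟨0,16,31,0,true,[],[.edge 254 false]⟩,
⟨96,7,29,14,false,[.code,.edge 196 false,.code,.edge 149 false,.code,.edge 249 false,.code,.edge 251 false,.code,.edge 252 false,.code,.edge 254 false,.code,.edge 255 false],[.code,.edge 58 false,.eqn 139 false,.code,.edge 183 false,.code]⟩,
⟨0,15,30,0,false,[],[.eqn 256 false]⟩,
⟨480,3,31,0,true,[],[.eqn 257 true,.edge 253 false]⟩,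
⟨842,14,32,0,false,[],[.edge 258 false,.edge 216 false]⟩,
⟨544,3,32,0,true,[],[.eqn 257 true,.edge 254 false]⟩,
⟨512,3,32,0,true,[],[.eqn 119 true,.edge 260 false]⟩,
⟨0,14,30,0,false,[],[.eqn 259 false]⟩,
⟨546,16,32,0,true,[],[.edge 16 false]⟩,
⟨0,17,31,0,true,[],[.edge 263 false]⟩,
⟨2,16,31,0,true,[],[.edge 17 false]⟩,
⟨537,10,29,17,true,[.code,.edge 192 false,.code,.edge 189 false,.code,.edge 142 false,.code,.edge 183 false,.code,.edge 261 false,.code,.edge 263 false,.code,.edge 264 false,.code,.edge 265 false,.code],[.code]⟩,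
⟨384,18,31,0,true,[],[.edge 266 false]⟩,
⟨514,10,32,0,true,[],[.edge 267 false]⟩,
⟨538,10,1,1,true,[.code],[.code,.edge 268 false,.code]⟩,
⟨512,10,31,0,true,[],[.edge 269 false]⟩,
⟨544,10,31,0,true,[],[.eqn 188 true,.edge 270 false]⟩,
⟨482,11,1,1,false,[.code],[.code,.edge 251 false,.eqn 262 false,.code,.edge 260 false]⟩,
⟨0,16,30,0,false,[],[.eqn 272 true]⟩,
⟨482,11,31,0,true,[],[.eqn 273 true,.edge 255 false,.eqn 257 false]⟩,
⟨480,11,31,0,true,[],[.eqn 273 true,.edge 265 false]⟩,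
⟨486,11,0,1,true,[.edge 275 false],[.edge 251 false,.eqn 262 false]⟩,
⟨0,18,31,0,true,[],[.edge 276 false]⟩,
⟨546,3,32,0,true,[],[.edge 277 false]⟩,
⟨486,11,1,3,true,[.code,.edge 275 false,.code],[.code]⟩,
⟨2,18,31,0,true,[],[.edge 279 false]⟩,
⟨482,11,32,0,true,[],[.edge 280 false]⟩,
⟨2,11,33,0,true,[],[.edge 18 false]⟩,
⟨0,19,33,0,true,[],[.edge 282 true]⟩,
⟨14,19,33,0,true,[],[.edge 19 false]⟩,
⟨2,20,33,0,true,[],[.edge 20 false]⟩,
⟨487,11,29,7,true,[.code,.edge 282 false,.code,.edge 284 false,.code,.edge 285 false,.code],[.code,.edge 251 false,.eqn 262 false,.code,.edge 52 false,.code,.edge 54 false,.eqn 139 false,.code,.edge 124 false,.eqn 139 false,.code,.edge 169 false,.code]⟩,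
⟨480,21,32,0,true,[],[.edge 286 false]⟩,
⟨544,3,31,0,true,[],[.edge 287 false]⟩,
⟨488,11,0,2,false,[.edge 274 false,.edge 288 false],[.edge 281 false]⟩,
⟨0,21,30,0,false,[],[.eqn 289 false]⟩,
⟨503,11,29,3,false,[.code,.edge 282 false,.code],[.code,.edge 251 false,.eqn 262 false,.code,.edge 217 false,.code,.edge 278 false,.code,.edge 277 false,.code,.edge 121 false,.code,.edge 124 false,.eqn 139 false,.code,.edge 201 false,.code,.edge 282 false]⟩,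
⟨104,19,30,0,false,[],[.eqn 291 true]⟩,
⟨23,19,30,0,false,[],[.eqn 292 false,.eqn 292 false]⟩,
⟨127,19,30,0,false,[],[.eqn 293 false,.eqn 292 false]⟩,
⟨14,19,33,0,true,[],[.eqn 294 true,.edge 283 false]⟩,
⟨281,11,33,0,false,[],[.edge 295 true,.edge 284 false]⟩,
⟨6,19,33,0,true,[],[.eqn 294 true,.edge 284 false]⟩,
⟨0,20,30,0,false,[],[.eqn 296 true]⟩,
⟨6,11,33,0,true,[],[.eqn 298 true,.edge 285 false,.eqn 290 false]⟩,
⟨877,18,33,0,false,[],[.edge 299 true,.edge 250 false]⟩,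
⟨8,19,33,0,true,[],[.eqn 294 true,.edge 297 false,.eqn 298 false]⟩,
⟨0,18,30,0,false,[],[.eqn 300 false]⟩,
⟨544,8,31,0,true,[],[.eqn 302 true,.edge 267 false]⟩,
⟨0,19,33,0,true,[],[.eqn 294 true,.edge 301 false]⟩,
⟨101,11,33,0,false,[],[.edge 304 true,.edge 283 false]⟩,
⟨102,11,30,0,false,[],[.eqn 305 true]⟩,
⟨6,11,33,0,true,[],[.eqn 306 true,.edge 198 false]⟩,
⟨888,4,33,0,false,[],[.edge 307 true,.edge 250 false]⟩,
⟨42,11,33,0,true,[],[.eqn 306 true,.edge 231 false]⟩,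
⟨1445,3,33,0,false,[],[.edge 309 true,.edge 245 false]⟩,
⟨0,8,30,0,false,[],[.eqn 308 true]⟩,
⟨384,4,31,0,true,[],[.eqn 311 true,.edge 303 false]⟩,
⟨1919,10,32,0,false,[],[.edge 312 false,.edge 140 false]⟩,
⟨492,4,33,0,true,[],[.eqn 311 true,.edge 148 false]⟩,
⟨368,10,33,0,false,[],[.edge 314 true,.edge 179 false]⟩,
⟨1445,3,30,0,false,[],[.eqn 310 false,.eqn 311 false]⟩,
⟨0,4,30,0,false,[],[.eqn 316 true]⟩,
⟨0,3,33,0,true,[],[.eqn 317 true,.edge 182 false]⟩,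
⟨34,10,33,0,false,[],[.edge 318 true,.edge 51 false]⟩,
⟨0,10,30,0,false,[],[.eqn 313 false]⟩]

/-- Deductions. -/
def c7_3 : List Step := [
⟨384,7,31,0,true,[],[.eqn 320 true,.edge 271 false,.eqn 302 false,.eqn 311 false,.eqn 317 false]⟩,
⟨290,3,32,0,false,[],[.edge 321 false,.edge 60 false]⟩,
⟨368,10,30,0,false,[.eqn 320 false],[.eqn 315 false,.eqn 311 false,.eqn 317 false]⟩,
⟨0,7,30,0,false,[],[.eqn 323 false]⟩,
⟨34,10,30,0,false,[.eqn 320 false,.eqn 324 false],[.eqn 319 false]⟩,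
⟨0,3,30,0,false,[],[.eqn 325 false]⟩,
⟨290,3,30,0,false,[.eqn 326 false],[.eqn 322 false]⟩,
⟨0,2,30,0,false,[],[.eqn 327 false]⟩]

/-- All deductions. -/
def c7_ : List Step :=
  List.flatten [c7_0,c7_1,c7_2,c7_3]

/-- A collapsing certificate. -/
def p7 : Proto := ⟨d7, c7_⟩

/-- Its last walk. -/
def m7 : List Mv := [.edge 65 false,.eqn 324 false,.eqn 326 false,.eqn 328 false]

end Cfsg.Agent.J3Glue.CertData
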