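import Mathlib
import Cfsg.Agent.Lib.J3Glue.CertRels
import Cfsg.Agent.Lib.J3Glue.CertSmall
import Cfsg.Agent.Lib.J3Glue.CertMain
import Cfsg.Agent.Lib.J3Glue.CertRows

/-!
The certificates are valid.
-/

set_option autoImplicit false
set_option maxRecDepth 100000
set_option maxHeartbeats 4000000

namespace Cfsg.Agent.J3Glue.CertData

theorem ne_ok : neRels.all neOkW = true := by decide +kernel

theorem collapse0 : p0.collapse (relsFor (candRels.getD 0 [])) m0 = true := by decide +kernel

theorem collapse1 : p1.collapse (relsFor (candRels.getD 1 [])) m1 = true := by decide +kernel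

theorem collapse2 : p2.collapse (relsFor (candRels.getD 2 [])) m2 = true := by decide +kernel

theorem collapse3 : p3.collapse (relsFor (candRels.getD 3 [])) m3 = true := by decide +kernel

theorem collapse5 : p5.collapse (relsFor (candRels.getD 5 [])) m5 = true := by decide +kernel

theorem collapse6 : p6.collapse (relsFor (candRels.getD 6 [])) m6 = true := by decide +kernel

theorem collapse7 : p7.collapse (relsFor (candRels.getD 7 [])) m7 = true := by decide +kernel

theorem table4 : p4.table (relsFor (candRels.getD 4 [])) reps rows word rWalk wordWalk 26163 = true := by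
  decide +kernel

theorem reps_ok : ∀ x < 1920, ∃ k < reps.length,
    J2Uniq.inCU (J2Uniq.mul x (J2Uniq.inv (reps.getD k 0))) = true := by decide +kernel

end Cfsg.Agent.J3Glue.CertData
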