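import Mathlib

/-!
A configuration of involutions in the alternating group of degree six.
-/

set_option autoImplicit false
set_option linter.all false
set_option maxRecDepth 100000

namespace Cfsg.Agent.J3Glue.AltSix

/-- The digit of a coded permutation. -/
def dg (a i : ℕ) : ℕ := a / 8 ^ i % 8

/-- A composition of coded permutations. -/
def cp (a b : ℕ) : ℕ :=
  dg a (dg b 0) + 8 * dg a (dg b 1) + 64 * dg a (dg b 2) + 512 * dg a (dg b 3) + 4096 * dg a (dg b 4) +
    32768 * dg a (dg b 5)

/-- The code of a permutation. -/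
def pc (p : Equiv.Perm (Fin 6)) : ℕ :=
  (p 0).val + 8 * (p 1).val + 64 * (p 2).val + 512 * (p 3).val + 4096 * (p 4).val + 32768 * (p 5).val

theorem dg_pc (p : Equiv.Perm (Fin 6)) (i : Fin 6) : dg (pc p) i.val = (p i).val := by
  have h0 := (p 0).isLt
  have h1 := (p 1).isLt
  have h2 := (p 2).isLt
  have h3 := (p 3).isLt
  have h4 := (p 4).isLt
  have h5 := (p 5).isLt
  fin_cases i <;> simp [dg, pc] <;> omega

theorem pc_inj {p q : Equiv.Perm (Fin 6)} (h : pc p = pc q) : p = q :=
  Equiv.ext fun i => Fin.ext (by rw [← dg_pc, ← dg_pc, h])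

theorem pc_mul (p q : Equiv.Perm (Fin 6)) : pc (p * q) = cp (pc p) (pc q) := by
  have e : ∀ i : Fin 6, dg (pc p) (dg (pc q) i.val) = ((p * q) i).val := fun i => by
    rw [dg_pc, dg_pc, Equiv.Perm.mul_apply]
  rw [cp, show dg (pc p) (dg (pc q) 0) = _ from e 0, show dg (pc p) (dg (pc q) 1) = _ from e 1,
    show dg (pc p) (dg (pc q) 2) = _ from e 2, show dg (pc p) (dg (pc q) 3) = _ from e 3,
    show dg (pc p) (dg (pc q) 4) = _ from e 4, show dg (pc p) (dg (pc q) 5) = _ from e 5]
  rfl

/-- The code of the identity. -/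
def one : ℕ := 181896

theorem pc_one : pc 1 = one := by decide +kernel

/-- The involutions. -/
def invs : List ℕ := [152776,109320,80200,153168,178256,117328,152216,172824,82776,105120,169184,71520,47272,50408,42792,153217,178305,117377,181441,173825,83777,153098,178186,117258,180762,169506,50730,151691,172299,82251,180307,168099,49323,101004,165068,67404,165460,164508,34476,14477,17613,9997,18005,17053,5797]

theorem invs_ok : ∀ p : alternatingGroup (Fin 6), p * p = 1 → p ≠ 1 → pc p ∈ invs := by decide +kernel

/-- A power. -/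
def pw (a : ℕ) : ℕ → ℕ
  | 0 => one
  | n + 1 => cp a (pw a n)

theorem pc_pow (p : Equiv.Perm (Fin 6)) : ∀ n : ℕ, pc (p ^ n) = pw (pc p) n
  | 0 => by rw [pow_zero, pc_one]; rfl
  | n + 1 => by rw [pow_succ', pc_mul, pc_pow p n]; rfl

/-- Equality of commutation. -/
def cm (a b : ℕ) : Bool := Nat.beq (cp a b) (cp b a)

/-- The eight possible products. -/
def eight (z v R u : ℕ) : List ℕ :=
  let l := [cp z R, cp R z, cp (cp v R) (cp z v), cp (cp (cp z v) R) v]
  l ++ l.map fun x => cp (cp u x) u

/-- The check. -/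
def check : Bool :=
  invs.all fun z => invs.all fun v => !cm z v || (one :: invs).all fun R =>
    !(Nat.beq (pw (cp z R) 3) one && Nat.beq (pw (cp v R) 5) one && Nat.beq (pw (cp (cp z v) R) 5) one) ||
      invs.all fun u => !(cm z u && !Nat.beq z u && !cm u v) ||
        invs.all fun y => !(cm u y && !cm z y) ||
          invs.all fun x => !(cm y x && !Nat.beq x y && !cm u x) ||
            (eight z v R u).any fun l => Nat.beq l (cp z x)

theorem check_eq : check = true := by decide +kernel

end Cfsg.Agent.J3Glue.AltSix
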