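import Mathlib.Init

/-!
The elementary abelian group of order sixteen: coordinates, the action of the exchanging involution,
and witnesses against the other actions.
-/

set_option autoImplicit false

namespace Cfsg.Agent.J3Glue.EData

/-- A basis. -/
def basis : List Nat := [16,96,1,256]

/-- Coordinates. -/
def coords : List (Nat × List Nat) := [(0,[]),(16,[0]),(96,[1]),(112,[0,1]),(1,[2]),(17,[0,2]),(97,[1,2]),(113,[0,1,2]),(256,[3]),(272,[0,3]),(352,[1,3]),(368,[0,1,3]),(257,[2,3]),(273,[0,2,3]),(353,[1,2,3]),(369,[0,1,2,3])]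

/-- The action. -/
def act : List (Nat × Nat) := [(0,0),(16,96),(96,16),(112,112),(1,352),(17,256),(97,368),(113,272),(256,17),(272,113),(352,1),(368,97),(257,369),(273,273),(353,353),(369,257)]

/-- The other candidates with words of forbidden action. -/
def bad : List (Nat × Nat × List Nat) := [
  (1,256,[1921,1920,1921]),
  (1,257,[1921,1920,1921]),
  (1,368,[1921,1920,1921]),
  (1,369,[1921,1920,1921]),
  (113,256,[1921,1920,1921]),
  (113,273,[1921,1920,1921]),
  (113,353,[1921,1920,1921]),
  (113,368,[1921,1920,1921]),
  (256,1,[1921,379,1921,346,1921]),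
  (257,256,[1921,1920,1921]),
  (272,97,[1921,1920,1921]),
  (273,368,[1921,1920,1921]),
  (353,368,[1921,1920,1921]),
  (368,113,[1921,1920,1921]),
  (369,256,[1921,1920,1921])]

end Cfsg.Agent.J3Glue.EData
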