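import Mathlib.Init

/-!
Conjugators to the two representatives of the noncentral involutions of `2^{1+4}.A₅`, and the
centralizer of the representative outside the extraspecial group.
-/

set_option autoImplicit false
set_option maxRecDepth 100000

namespace Cfsg.Agent.J3Glue.ClassData

/-- Conjugators. -/
def moves : List (Nat × Nat) := [
  (1,0),(2,384),(4,768),(8,1152),(15,1536),(17,2),(18,385),(20,769),(24,1153),(31,1537),
  (96,0),(97,10),(102,2),(103,14),(112,6),(113,12),(118,4),(119,8),(256,32),(257,44),
  (266,34),(267,36),(272,42),(273,38),(282,40),(283,46),(352,64),(353,70),(364,68),(365,78),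
  (368,76),(369,74),(380,72),(381,66),(384,768),(387,769),(388,777),(391,779),(400,771),(403,770),
  (404,778),(407,776),(416,1536),(419,1537),(428,1540),(431,1541),(432,1539),(435,1538),(444,1543),(447,1542),
  (448,1152),(451,1153),(456,1158),(459,1156),(464,1155),(467,1154),(472,1157),(475,1159),(864,384),(866,396),
  (869,385),(871,397),(880,389),(882,393),(885,388),(887,392),(960,1568),(965,1569),(970,1570),(975,1574),
  (976,1573),(981,1572),(986,1575),(991,1571),(1056,1184),(1061,1185),(1064,1187),(1069,1191),(1072,1189),(1077,1188),
  (1080,1190),(1085,1186),(1312,416),(1314,421),(1321,417),(1323,420),(1328,425),(1330,428),(1337,424),(1339,429),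
  (1376,1600),(1382,1602),(1385,1601),(1391,1603),(1392,1606),(1398,1604),(1401,1607),(1407,1605),(1504,800),(1508,810),
  (1513,801),(1517,811),(1520,809),(1524,803),(1529,808),(1533,802),(1696,448),(1698,457),(1708,452),(1710,449),
  (1712,460),(1714,453),(1724,456),(1726,461),(1760,1216),(1766,1218),(1768,1221),(1774,1217),(1776,1222),(1782,1220),
  (1784,1219),(1790,1223),(1888,832),(1892,835),(1898,834),(1902,833),(1904,842),(1908,841),(1914,840),(1918,843)]

/-- The centralizer of the outer involution. -/
def four : List Nat := [0,1,16,17,96,97,112,113,256,257,272,273,352,353,368,369]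

end Cfsg.Agent.J3Glue.ClassData
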