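import Mathlib
import Cfsg.Agent.Lib.J2Uniq.Frame
import Cfsg.Agent.Lib.J3Glue.ClassData

/-!
The codes of a centralizer `2^{1+4}.A₅`.
-/

set_option autoImplicit false
set_option linter.all false
set_option maxRecDepth 100000

namespace Cfsg.Agent.J3Glue

open Subgroup hiding inv
open J2Uniq

universe v

/-- The centralizer of `z` by codes. -/
structure Codes {G : Type v} [Group G] (z : G) (ρ : ℕ → G) : Prop where
  mul_eq : ∀ a b, ρ (mul a b) = ρ a * ρ b
  zero : ρ 0 = 1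
  mod_eq : ∀ a, ρ (a % 1920) = ρ a
  zc_eq : ρ zc = z
  inj : ∀ a < 1920, ρ a = 1 → a = 0
  mem : ∀ a, ρ a ∈ Subgroup.centralizer ({z} : Set G)
  surj : ∀ g ∈ Subgroup.centralizer ({z} : Set G), ∃ a < 1920, ρ a = g

theorem cj_mul (a : ℕ) (ha : a < 1920) : mul a 0 = a ∧ mul 0 a = a := by
  revert a ha
  decide +kernel

theorem moves_ok : ∀ a < 1920, mul a a = 0 → a = 0 ∨ a = zc ∨
    ∃ p ∈ ClassData.moves, p.2 < 1920 ∧ (cj p.2 1 = a ∨ cj p.2 tc = a) := by
  have h1 : ∀ a ∈ Data.invs, a = zc ∨ ∃ p ∈ ClassData.moves, p.2 < 1920 ∧ (cj p.2 1 = a ∨ cj p.2 tc = a) := by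
    decide +kernel
  intro a ha h
  rcases invs_ok a ha h with e | e
  · exact Or.inl e
  · exact Or.inr (h1 a e)

theorem four_ok : ∀ a < 1920, mul a tc = mul tc a → a ∈ ClassData.four := by decide +kernel

namespace Codes

variable {G : Type v} [Group G] {z : G} {ρ : ℕ → G} (F : Codes z ρ)

include F

theorem inv_eq (a : ℕ) : ρ (inv a) = (ρ a)⁻¹ := by
  have h : inv a = inv (a % 1920) := by
    unfold inv
    rw [show qp (a % 1920) = qp a by unfold qp; omega, show pp (a % 1920) = pp a by unfold pp; omega]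
  rw [h, ← F.mod_eq a]
  exact (inv_eq_of_mul_eq_one_right (by rw [← F.mul_eq, inv_ok _ (Nat.mod_lt a (by norm_num)), F.zero])).symm

theorem cj_eq (g a : ℕ) : ρ (cj g a) = ρ g * ρ a * (ρ g)⁻¹ := by rw [cj, F.mul_eq, F.mul_eq, F.inv_eq]

theorem inj' {a b : ℕ} (ha : a < 1920) (hb : b < 1920) (e : ρ a = ρ b) : a = b :=
  inv_unique a ha b hb (F.inj _ (mul_lt _ _) (by rw [F.mul_eq, e, F.inv_eq, mul_inv_cancel]))

theorem ev_map (im : ℕ → ℕ) : ∀ w : List ℕ, ρ (ev im w) = (w.map fun k => ρ (im k)).prod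
  | [] => by simp [ev, F.zero]
  | k :: w => by rw [List.map_cons, List.prod_cons, ← ev_map im w, ← F.mul_eq]; rfl

theorem zcomm (a : ℕ) : ρ a * z = z * ρ a := mem_centralizer_singleton_iff.1 (F.mem a)

theorem comm_of {a b : ℕ} (h : mul a b = mul b a) : ρ a * ρ b = ρ b * ρ a := by rw [← F.mul_eq, h, F.mul_eq]

theorem of_comm {a b : ℕ} (h : ρ a * ρ b = ρ b * ρ a) : mul a b = mul b a :=
  F.inj' (mul_lt _ _) (mul_lt _ _) (by rw [F.mul_eq, F.mul_eq, h])

theorem inCU_iff {a : ℕ} : inCU a = true ↔ ρ a * ρ 1 = ρ 1 * ρ a := by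
  constructor
  · intro h; exact F.comm_of (Nat.eq_of_beq_eq_true h)
  · intro h; rw [inCU, F.of_comm h]; exact Nat.beq_refl _

/-- An element commuting with `z` and with the outer representative is one of sixteen codes. -/
theorem exists_four {g : G} (hz : g * z = z * g) (ht : g * ρ tc = ρ tc * g) : ∃ a ∈ ClassData.four, ρ a = g := by
  obtain ⟨a, ha, rfl⟩ := F.surj g (mem_centralizer_singleton_iff.2 hz)
  exact ⟨a, four_ok a ha (F.of_comm ht), rfl⟩

theorem card [Finite G] : Nat.card (Subgroup.centralizer ({z} : Set G)) = 1920 := by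
  have hb : Function.Bijective fun a : Fin 1920 =>
      (⟨ρ a, F.mem a⟩ : Subgroup.centralizer ({z} : Set G)) := by
    refine ⟨fun a b e => Fin.ext (F.inj' a.2 b.2 (congrArg Subtype.val e)), fun g => ?_⟩
    obtain ⟨a, ha, e⟩ := F.surj g g.2
    exact ⟨⟨a, ha⟩, Subtype.ext e⟩
  rw [← Nat.card_eq_of_bijective _ hb, Nat.card_eq_fintype_card, Fintype.card_fin]

end Codes

end Cfsg.Agent.J3Glue
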