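import Mathlib.Init

/-!
Generators of the subgroup of index ten in `2^{1+4}.A₅`, relations between them and words.
-/

set_option autoImplicit false
set_option maxRecDepth 100000

namespace Cfsg.Agent.J3Glue.StartData

/-- The five generators. -/
def gens : List Nat := [16,1,96,358,208]

/-- Relations in the first 3 generators. -/
def rel2 : List (List Nat × List Nat) := [([2,2],[])]

/-- Relations in the first 4 generators. -/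
def rel3 : List (List Nat × List Nat) := [([3,3],[0,1]),([0,2,3],[3,2])]

/-- Relations in the first 5 generators. -/
def rel4 : List (List Nat × List Nat) := [([2,4,2,4],[4,4,2]),([4,4,4],[0]),([3,4,4,3],[4,3,4]),([3,4,2,3,4],[4,2,4,3])]

/-- Words for the 192 elements. -/
def words : List (Nat × List Nat) := [
  (0,[]),(1,[1]),(6,[0,3,4,4,2,4]),(7,[0,4,4,2,4,3]),(10,[4,3,4,4,2]),(11,[2,4,3,4,4]),
  (12,[4,4,2,3,4,2]),(13,[0,4,2,4,3,4]),(16,[0]),(17,[0,1]),(22,[3,4,4,2,4]),(23,[4,4,2,4,3]),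
  (26,[0,4,3,4,4,2]),(27,[0,2,4,3,4,4]),(28,[1,4,2,4,3,4]),(29,[4,2,4,3,4]),(32,[0,4,2]),(33,[0,1,4,2]),
  (38,[2,3,4]),(39,[1,2,3,4]),(42,[1,2,4,3,2]),(43,[2,4,3,2]),(44,[1,3,4,3]),(45,[3,4,3]),
  (48,[4,2]),(49,[1,4,2]),(54,[3,2,4]),(55,[1,3,2,4]),(58,[1,2,4,2,3]),(59,[2,4,2,3]),
  (60,[0,1,3,4,3]),(61,[0,3,4,3]),(64,[2,4,4]),(65,[1,2,4,4]),(70,[3,4,2,4]),(71,[1,3,4,2,4]),
  (74,[0,4,3,4]),(75,[0,1,4,3,4]),(76,[4,4,3,2]),(77,[1,4,4,3,2]),(80,[0,2,4,4]),(81,[0,1,2,4,4]),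
  (86,[0,3,4,2,4]),(87,[0,1,3,4,2,4]),(90,[4,3,4]),(91,[1,4,3,4]),(92,[4,4,2,3]),(93,[1,4,4,2,3]),
  (96,[2]),(97,[1,2]),(102,[0,3,4,2,4,4]),(103,[4,2,4,4,3]),(106,[4,3,4,4]),(107,[1,4,3,4,4]),
  (108,[4,4,2,3,4]),(109,[1,4,4,2,3,4]),(112,[0,2]),(113,[0,1,2]),(118,[3,4,2,4,4]),(119,[0,4,2,4,4,3]),
  (122,[0,4,3,4,4]),(123,[4,4,3,4,3]),(124,[4,4,3,2,4]),(125,[1,4,4,3,2,4]),(128,[4,4]),(129,[1,4,4]),
  (134,[3,4,4,2]),(135,[1,3,4,4,2]),(138,[4,2,3,4,2]),(139,[0,2,4,3,4]),(140,[1,4,2,4,3]),(141,[4,2,4,3]),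
  (144,[0,4,4]),(145,[0,1,4,4]),(150,[0,3,4,4,2]),(151,[4,3,4,3,2]),(154,[1,2,4,3,4]),(155,[2,4,3,4]),
  (156,[0,1,4,2,4,3]),(157,[0,4,2,4,3]),(160,[0,2,4,2]),(161,[0,1,2,4,2]),(166,[0,3,4]),(167,[0,1,3,4]),
  (170,[4,3,2]),(171,[1,4,3,2]),(172,[3,2,4,3]),(173,[1,3,2,4,3]),(176,[2,4,2]),(177,[1,2,4,2]),
  (182,[3,4]),(183,[1,3,4]),(186,[4,2,3]),(187,[1,4,2,3]),(188,[2,3,4,3]),(189,[1,2,3,4,3]),
  (192,[0,4]),(193,[0,1,4]),(198,[2,3,4,2]),(199,[1,2,3,4,2]),(202,[1,2,4,3]),(203,[2,4,3]),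
  (204,[1,3,4,3,2]),(205,[3,4,3,2]),(208,[4]),(209,[1,4]),(214,[3,2,4,2]),(215,[1,3,2,4,2]),
  (218,[0,1,2,4,3]),(219,[0,2,4,3]),(220,[1,3,4,2,3]),(221,[3,4,2,3]),(224,[4,4,2]),(225,[1,4,4,2]),
  (230,[3,4,4]),(231,[1,3,4,4]),(234,[4,2,3,4]),(235,[1,4,2,3,4]),(236,[2,3,4,3,4]),(237,[0,2,4,4,3]),
  (240,[0,4,4,2]),(241,[0,1,4,4,2]),(246,[0,3,4,4]),(247,[4,3,4,3]),(250,[4,3,2,4]),(251,[1,4,3,2,4]),
  (252,[1,2,4,4,3]),(253,[2,4,4,3]),(256,[0,4,2,4,4]),(257,[0,1,4,2,4,4]),(262,[3,2]),(263,[1,3,2]),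
  (266,[4,3,4,2,4]),(267,[1,4,3,4,2,4]),(268,[0,4,4,3,4]),(269,[3,4,3,4,4]),(272,[4,2,4,4]),(273,[1,4,2,4,4]),
  (278,[2,3]),(279,[1,2,3]),(282,[0,4,3,4,2,4]),(283,[2,4,2,3,4,4]),(284,[4,4,3,4]),(285,[1,4,4,3,4]),
  (288,[4,2,4]),(289,[1,4,2,4]),(294,[3,2,4,4]),(295,[1,3,2,4,4]),(298,[0,4,3,4,2]),(299,[2,4,2,3,4]),
  (300,[4,4,3]),(301,[1,4,4,3]),(304,[0,4,2,4]),(305,[0,1,4,2,4]),(310,[2,3,4,4]),(311,[1,2,3,4,4]),
  (314,[4,3,4,2]),(315,[1,4,3,4,2]),(316,[0,4,4,3]),(317,[3,4,3,4]),(320,[0,2,4]),(321,[0,1,2,4]),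
  (326,[0,3,4,2]),(327,[0,1,3,4,2]),(330,[4,3]),(331,[1,4,3]),(332,[2,3,4,2,3]),(333,[1,2,3,4,2,3]),
  (336,[2,4]),(337,[1,2,4]),(342,[3,4,2]),(343,[1,3,4,2]),(346,[0,4,3]),(347,[0,1,4,3]),
  (348,[2,3,4,3,2]),(349,[1,2,3,4,3,2]),(352,[0,4,4,2,4]),(353,[0,1,4,4,2,4]),(358,[3]),(359,[1,3]),
  (362,[4,3,2,4,4]),(363,[1,4,3,2,4,4]),(364,[0,4,4,3,4,2]),(365,[2,4,4,3,4]),(368,[4,4,2,4]),(369,[1,4,4,2,4]),
  (374,[0,3]),(375,[0,1,3]),(378,[4,2,3,4,4]),(379,[1,4,2,3,4,4]),(380,[4,4,3,4,2]),(381,[0,2,4,4,3,4])]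

/-- The elements. -/
def elts : List Nat := [
  0,1,6,7,10,11,12,13,16,17,22,23,26,27,28,29,
  32,33,38,39,42,43,44,45,48,49,54,55,58,59,60,61,
  64,65,70,71,74,75,76,77,80,81,86,87,90,91,92,93,
  96,97,102,103,106,107,108,109,112,113,118,119,122,123,124,125,
  128,129,134,135,138,139,140,141,144,145,150,151,154,155,156,157,
  160,161,166,167,170,171,172,173,176,177,182,183,186,187,188,189,
  192,193,198,199,202,203,204,205,208,209,214,215,218,219,220,221,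
  224,225,230,231,234,235,236,237,240,241,246,247,250,251,252,253,
  256,257,262,263,266,267,268,269,272,273,278,279,282,283,284,285,
  288,289,294,295,298,299,300,301,304,305,310,311,314,315,316,317,
  320,321,326,327,330,331,332,333,336,337,342,343,346,347,348,349,
  352,353,358,359,362,363,364,365,368,369,374,375,378,379,380,381]

/-- The elements of order dividing three. -/
def threes : List Nat := [0,32,44,55,59,64,71,75,92,128,134,140,154,160,166,171,173,192,202,214,220,224,234,237,247,288,310,315,317,320,327,346,349]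

end Cfsg.Agent.J3Glue.StartData
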