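import Mathlib
import Cfsg.Agent.Lib.J3Glue.Codes
import Cfsg.Agent.Lib.J3Glue.StartData

/-!
Finite checks for the choice of the element of order three.
-/

set_option autoImplicit false
set_option linter.all false
set_option maxRecDepth 100000

namespace Cfsg.Agent.J3Glue

open J2Uniq

/-- The generators. -/
def gen (k : ℕ) : ℕ := StartData.gens.getD k 0

/-- The word of an element of the subgroup of index ten. -/
def gWord (r : ℕ) : List ℕ := ((StartData.words.find? fun x => Nat.beq x.1 r).map Prod.snd).getD []

/-- An image list as a function. -/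
def imList (l : List ℕ) (k : ℕ) : ℕ := l.getD k 0

/-- The relations hold for the images. -/
def relsOk (R : List (List ℕ × List ℕ)) (im : ℕ → ℕ) : Bool :=
  R.all fun p => Nat.beq (ev im p.1) (ev im p.2)

/-- The map on codes given by images of the generators. -/
def autA (im : ℕ → ℕ) (r : ℕ) : ℕ := ev im (gWord r)

/-- A cube with the right properties has a good translate. -/
def cubeOk (im : ℕ → ℕ) (r : ℕ) : Bool :=
  !(Nat.beq (autA im r) r && (List.range 5).all fun k =>
      Nat.beq (cj r (gen k)) (autA im (autA im (autA im (gen k))))) ||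
    StartData.elts.any fun c => Nat.beq (autA im (cj c tc)) tc &&
      Nat.beq (mul (mul (autA im c) (autA im (autA im c))) (mul r c)) 0

/-- The search over all candidates. -/
def startOk : Bool :=
  StartData.elts.all fun d2 => !relsOk StartData.rel2 (imList [1, 17, d2]) ||
    StartData.elts.all fun d3 => !relsOk StartData.rel3 (imList [1, 17, d2, d3]) ||
      StartData.elts.all fun d4 => !relsOk StartData.rel4 (imList [1, 17, d2, d3, d4]) ||
        StartData.threes.all fun r => cubeOk (imList [1, 17, d2, d3, d4]) r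

theorem startOk_eq : startOk = true := by decide +kernel

theorem elts_ok : ∀ a < 1920, inCU a = true → a ∈ StartData.elts := by decide +kernel

theorem gens_ok : (∀ k < 5, gen k < 1920 ∧ inCU (gen k) = true) ∧ gen 0 = zc ∧ gen 1 = 1 ∧ gen 2 = tc := by
  decide +kernel

theorem gWord_ok : ∀ a ∈ StartData.elts, a < 1920 ∧ inCU a = true ∧ ev gen (gWord a) = a ∧
    ∀ k ∈ gWord a, k < 5 := by decide +kernel

/-- A sixteenth power. -/
def pow16 (a : ℕ) : ℕ := (mul a)^[16] 0

theorem threes_ok : ∀ a ∈ StartData.elts, pow16 a ∈ StartData.threes := by decide +kernel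

theorem rel2_ok : relsOk StartData.rel2 gen = true ∧ (∀ p ∈ StartData.rel2, ∀ k ∈ p.1 ++ p.2, k < 5 ∧ k < 3) := by
  decide +kernel

theorem rel3_ok : relsOk StartData.rel3 gen = true ∧ (∀ p ∈ StartData.rel3, ∀ k ∈ p.1 ++ p.2, k < 5 ∧ k < 4) := by
  decide +kernel

theorem rel4_ok : relsOk StartData.rel4 gen = true ∧ (∀ p ∈ StartData.rel4, ∀ k ∈ p.1 ++ p.2, k < 5) := by
  decide +kernel

end Cfsg.Agent.J3Glue
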