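import Mathlib
import Cfsg.Agent.Lib.J3Glue.StartChecks
import Cfsg.Agent.Lib.J3Glue.EData

/-!
Finite checks on the normalizer of the elementary abelian group of order sixteen.
-/

set_option autoImplicit false
set_option linter.all false
set_option maxRecDepth 100000

namespace Cfsg.Agent.J3Glue

open J2Uniq

/-- The letter of the element of order three. -/
def lS : ℕ := 1920

/-- The letter of the exchanging involution. -/
def lR : ℕ := 1921

/-- The translation making the element of order three scalar. -/
def xc : ℕ := 64

/-- Membership in the elementary abelian group. -/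
def inE (e : ℕ) : Bool := ClassData.four.any fun b => Nat.beq b e

/-- Coordinates. -/
def eWord (e : ℕ) : List ℕ := ((EData.coords.find? fun x => Nat.beq x.1 e).map Prod.snd).getD []

/-- The linear map with given images of the last two basis vectors. -/
def linE (b3 b4 e : ℕ) : ℕ := ev (imList [tc, zc, b3, b4]) (eWord e)

/-- The action of the exchanging involution. -/
def actA (e : ℕ) : ℕ := ((EData.act.find? fun x => Nat.beq x.1 e).map Prod.snd).getD 0

/-- Admissible letters. -/
def letterOk (l : ℕ) : Bool := (Nat.blt l 1920 && inCU l) || Nat.beq l lS || Nat.beq l lR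

/-- The action of a letter. -/
def actL (f : ℕ → ℕ) (l d : ℕ) : Option ℕ :=
  if Nat.blt l 1920 then some (cj l d)
  else if Nat.beq l lS then (if inCU d then some (phi d) else none)
  else if Nat.beq l lR then (if inE d then some (f d) else none)
  else none

/-- The action of a word. -/
def actW (f : ℕ → ℕ) : List ℕ → ℕ → Option ℕ
  | [], d => some d
  | l :: w, d => (actW f w d).bind (actL f l)

/-- The scalar element acting on the subgroup of index ten. -/
def bigPhi (y : ℕ) : ℕ := phi (cj xc y)

/-- The commutator of a letter with the scalar element. -/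
def dL (l : ℕ) : ℕ :=
  if Nat.blt l 1920 then mul l (inv (bigPhi l))
  else if Nat.beq l lS then phi (mul (phi xc) (inv xc))
  else 0

/-- The commutator of a word with the scalar element. -/
def dW : List ℕ → Option ℕ
  | [] => some 0
  | l :: w => ((dW w).bind (actL actA l)).map fun d => mul d (dL l)

/-- The test for trivial words. -/
def neOk (w : List ℕ) : Bool :=
  w.all letterOk && (match actW actA w zc with | some a => Nat.beq a zc | none => false) &&
    (match actW actA w tc with | some a => Nat.beq a tc | none => false) &&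
    (match dW w with | some a => Nat.beq a 0 | none => false)

/-- The test for a forbidden action. -/
def badOk (p : ℕ × ℕ × List ℕ) : Bool :=
  (p.2.2.all fun l => (Nat.blt l 1920 && inCU l) || Nat.beq l lS || Nat.beq l lR) &&
    match EData.basis.map (actW (linE p.1 p.2.1) p.2.2) with
    | [some a, some b, some c, some d] => Nat.beq a zc && (List.range 1920).all fun n =>
        !(Nat.beq (cj n (EData.basis.getD 0 0)) a && Nat.beq (cj n (EData.basis.getD 1 0)) b &&
          Nat.beq (cj n (EData.basis.getD 2 0)) c && Nat.beq (cj n (EData.basis.getD 3 0)) d)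
    | _ => false

theorem bad_ok : ∀ p ∈ EData.bad, badOk p = true := by decide +kernel

theorem invol_cases : ∀ b3 ∈ ClassData.four, ∀ b4 ∈ ClassData.four,
    (∀ e ∈ ClassData.four, linE b3 b4 (linE b3 b4 e) = e) →
      (∀ e ∈ ClassData.four, linE b3 b4 e = actA e) ∨ ∃ p ∈ EData.bad, p.1 = b3 ∧ p.2.1 = b4 := by
  decide +kernel

theorem four_facts : (∀ e ∈ ClassData.four, e < 1920 ∧ inCU e = true ∧ mul e tc = mul tc e) ∧
    (∀ e ∈ ClassData.four, ev (imList EData.basis) (eWord e) = e ∧ ∀ k ∈ eWord e, k < 4) ∧
    (∀ e ∈ ClassData.four, actA e ∈ ClassData.four ∧ actA (actA e) = e) ∧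
    (∀ b ∈ EData.basis, b ∈ ClassData.four) ∧ actA zc = tc ∧ actA tc = zc ∧
    (∀ e ∈ ClassData.four, cj xc e ∈ ClassData.four ∧ inCU (cj xc e) = true ∧ bigPhi e ∈ ClassData.four) ∧
    inCU xc = true ∧ inCU (mul (phi xc) (inv xc)) = true := by
  decide +kernel

theorem scalar_facts : (∀ e ∈ ClassData.four, ∃ e' ∈ ClassData.four, mul e' (mul e (inv (bigPhi e'))) = 0) ∧
    (∀ e ∈ ClassData.four, bigPhi e = e → e = 0) ∧
    (∀ e ∈ ClassData.four, bigPhi (actA e) = actA (bigPhi e)) := by
  decide +kernel

theorem elts_norm : ∀ y ∈ StartData.elts, ∀ e ∈ ClassData.four, cj y e ∈ ClassData.four ∧ inCU (cj xc y) = true := by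
  decide +kernel

end Cfsg.Agent.J3Glue
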