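import Mathlib
import Cfsg.Agent.Lib.J2Uniq.Frame
import Cfsg.Agent.Lib.J3Glue.EChecks

/-!
An involution exchanging `z` and the outer involution, commuting with the scalar element, and the
criterion for trivial words in the normalizer of the elementary abelian group of order sixteen.
-/

set_option autoImplicit false
set_option linter.all false
set_option maxRecDepth 100000

namespace Cfsg.Agent.J3Glue

open Subgroup hiding inv
open J2Uniq

universe v

variable {G : Type v} [Group G] {z : G} {ρ : ℕ → G} {s : G}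

/-- The scalar element. -/
def sc (ρ : ℕ → G) (s : G) : G := s * ρ xc

/-- The frame extended by the exchanging involution. -/
structure Ext (z : G) (ρ : ℕ → G) (s r : G) : Prop where
  frame : Frame z ρ s
  r2 : r * r = 1
  rc : r * sc ρ s = sc ρ s * r
  ract : ∀ e ∈ ClassData.four, r * ρ e * r⁻¹ = ρ (actA e)

theorem Codes.of_frame (F : Frame z ρ s) : Codes z ρ :=
  ⟨F.mul_eq, F.zero, F.mod_eq, F.zc_eq, F.inj, F.mem, F.surj⟩

/-- The value of a letter. -/
def lval (ρ : ℕ → G) (s r : G) (l : ℕ) : G :=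
  if Nat.blt l 1920 then ρ l else if Nat.beq l lS then s else r

/-- The value of a word. -/
def wval (ρ : ℕ → G) (s r : G) (w : List ℕ) : G := (w.map (lval ρ s r)).prod

theorem inE_iff {e : ℕ} : inE e = true ↔ e ∈ ClassData.four := by
  rw [inE, List.any_eq_true]
  exact ⟨fun ⟨b, hb, h⟩ => Nat.eq_of_beq_eq_true h ▸ hb, fun h => ⟨e, h, Nat.beq_refl _⟩⟩

section sound

variable (F : Frame z ρ s)

include F

theorem conj_s {d : ℕ} (h : inCU d = true) : s * ρ d * s⁻¹ = ρ (phi d) := by
  rw [F.sconj d h, mul_inv_cancel_right]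

theorem actL_sound {f : ℕ → ℕ} {r : G} (hr : ∀ e ∈ ClassData.four, r * ρ e * r⁻¹ = ρ (f e)) {l d d' : ℕ}
    (h : actL f l d = some d') : lval ρ s r l * ρ d * (lval ρ s r l)⁻¹ = ρ d' := by
  unfold actL at h
  unfold lval
  split at h
  · simp only [Option.some.injEq] at h
    subst h
    rename_i hl
    rw [if_pos hl, (Codes.of_frame F).cj_eq]
  · rename_i hl
    rw [if_neg hl]
    split at h
    · rename_i hls
      rw [if_pos hls]
      split at h
      · rename_i hd
        simp only [Option.some.injEq] at h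
        subst h
        exact conj_s F hd
      · exact absurd h (by simp)
    · rename_i hls
      rw [if_neg hls]
      split at h
      · split at h
        · rename_i hd
          simp only [Option.some.injEq] at h
          subst h
          exact hr d (inE_iff.1 hd)
        · exact absurd h (by simp)
      · exact absurd h (by simp)

theorem actW_sound {f : ℕ → ℕ} {r : G} (hr : ∀ e ∈ ClassData.four, r * ρ e * r⁻¹ = ρ (f e)) :
    ∀ (w : List ℕ) (d d' : ℕ), actW f w d = some d' → wval ρ s r w * ρ d * (wval ρ s r w)⁻¹ = ρ d'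
  | [], d, d', h => by
    simp only [actW, Option.some.injEq] at h
    subst h
    simp [wval]
  | l :: w, d, d', h => by
    rw [actW, Option.bind_eq_some_iff] at h
    obtain ⟨m, hm, hl⟩ := h
    rw [← actL_sound F hr hl, ← actW_sound hr w d m hm]
    simp only [wval, List.map_cons, List.prod_cons]
    group

end sound

theorem exists_swap [Finite G] (F : Frame z ρ s) (hz : orderOf z = 2)
    (hone : ∀ x y : G, orderOf x = 2 → orderOf y = 2 → IsConj x y) :
    ∃ g : G, g * z * g⁻¹ = ρ tc ∧ g * ρ tc * g⁻¹ = z := by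
  classical
  have C := Codes.of_frame F
  have hzz : z * z = 1 := by rw [← pow_two, ← hz, pow_orderOf_eq_one]
  have h96 : ρ tc * ρ tc = 1 := by rw [← F.mul_eq, show mul tc tc = 0 by decide +kernel, F.zero]
  have h961 : ρ tc ≠ 1 := fun e => absurd (F.inj tc (by norm_num [tc]) e) (by norm_num [tc])
  have hne : ρ tc ≠ z := fun e => absurd (C.inj' (by norm_num [tc]) (by norm_num [zc]) (e.trans F.zc_eq.symm))
    (by norm_num [tc, zc])
  obtain ⟨g, hg⟩ := isConj_iff.1 (hone z (ρ tc) hz (orderOf_eq_prime (by rw [sq, h96]) h961))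
  have hcomm : ρ tc * z = z * ρ tc := C.zcomm tc
  have hw : g⁻¹ * z * g ∈ centralizer ({z} : Set G) := by
    refine mem_centralizer_singleton_iff.2 ?_
    calc g⁻¹ * z * g * z = g⁻¹ * (z * (g * z * g⁻¹)) * g := by group
      _ = g⁻¹ * (g * z * g⁻¹ * z) * g := by rw [hg, hcomm]
      _ = _ := by group
  obtain ⟨a, ha, hae⟩ := F.surj _ hw
  have ha2 : mul a a = 0 := F.inj _ (mul_lt _ _) (by
    rw [F.mul_eq, hae, show g⁻¹ * z * g * (g⁻¹ * z * g) = g⁻¹ * (z * z) * g by group, hzz, mul_one, inv_mul_cancel])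
  rcases moves_ok a ha ha2 with rfl | rfl | ⟨p, -, hp, hp'⟩
  · rw [F.zero] at hae
    exact absurd (show z = 1 by
      calc z = g * (g⁻¹ * z * g) * g⁻¹ := by group
        _ = 1 := by rw [← hae, mul_one, mul_inv_cancel]) (fun e => by rw [e, orderOf_one] at hz; omega)
  · rw [F.zc_eq] at hae
    refine absurd (show ρ tc = z from ?_) hne
    rw [← hg]
    conv_lhs => rw [hae]
    group
  rcases hp' with e | e
  · exfalso
    -- the centralizer of a noncentral involution of `Q` is too large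
    set q := p.2
    have h1 : ρ 1 = (ρ q)⁻¹ * (g⁻¹ * z * g) * ρ q := by rw [← hae, ← e, C.cj_eq]; group
    have key : ∀ c : {c : ℕ // c ∈ StartData.elts}, ∃ b ∈ ClassData.four,
        ρ b = g * ρ q * ρ c.1 * (ρ q)⁻¹ * g⁻¹ := by
      intro c
      have hcu := (C.inCU_iff).1 (gWord_ok c.1 c.2).2.1
      refine C.exists_four ?_ ?_
      · calc g * ρ q * ρ c.1 * (ρ q)⁻¹ * g⁻¹ * z
            = g * ρ q * (ρ c.1 * ((ρ q)⁻¹ * (g⁻¹ * z * g) * ρ q)) * (ρ q)⁻¹ * g⁻¹ := by group
          _ = g * ρ q * (((ρ q)⁻¹ * (g⁻¹ * z * g) * ρ q) * ρ c.1) * (ρ q)⁻¹ * g⁻¹ := by rw [← h1, hcu]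
          _ = _ := by group
      · have hq : ρ q * ρ c.1 * (ρ q)⁻¹ * z = z * (ρ q * ρ c.1 * (ρ q)⁻¹) := by
          rw [← C.cj_eq]; exact C.zcomm _
        rw [← hg]
        calc g * ρ q * ρ c.1 * (ρ q)⁻¹ * g⁻¹ * (g * z * g⁻¹) = g * (ρ q * ρ c.1 * (ρ q)⁻¹ * z) * g⁻¹ := by group
          _ = g * (z * (ρ q * ρ c.1 * (ρ q)⁻¹)) * g⁻¹ := by rw [hq]
          _ = _ := by group
    choose f hf hf' using key
    have hinj : Function.Injective (fun c => (⟨f c, hf c⟩ : {b : ℕ // b ∈ ClassData.four})) := by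
      intro c d e0
      have e1 : f c = f d := congrArg Subtype.val e0
      have e2 := congrArg ρ e1
      rw [hf', hf', mul_left_inj, mul_left_inj, mul_right_inj] at e2
      exact Subtype.ext (C.inj' (gWord_ok c.1 c.2).1 (gWord_ok d.1 d.2).1 e2)
    haveI : Finite {b : ℕ // b ∈ ClassData.four} := Finite.of_fintype _
    have hle := Nat.card_le_card_of_injective _ hinj
    rw [Nat.card_eq_fintype_card, Nat.card_eq_fintype_card] at hle
    revert hle
    decide +kernel
  refine ⟨g * ρ p.2, ?_, ?_⟩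
  · rw [show g * ρ p.2 * z * (g * ρ p.2)⁻¹ = g * (ρ p.2 * z * (ρ p.2)⁻¹) * g⁻¹ by group, C.zcomm,
      mul_inv_cancel_right, hg]
  · rw [show g * ρ p.2 * ρ tc * (g * ρ p.2)⁻¹ = g * (ρ p.2 * ρ tc * (ρ p.2)⁻¹) * g⁻¹ by group, ← C.cj_eq, e, hae]
    group

/-- The exchanging involution. -/
theorem exists_ext [Finite G] (F : Frame z ρ s) (hz : orderOf z = 2)
    (hone : ∀ x y : G, orderOf x = 2 → orderOf y = 2 → IsConj x y) : ∃ r, Ext z ρ s r := by
  classical
  have C := Codes.of_frame F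
  obtain ⟨g, hgz, hgt⟩ := exists_swap F hz hone
  obtain ⟨hf1, hfw, hfA, hfB, hAz, hAt, hfX, hxc, hxs⟩ := four_facts
  obtain ⟨hsol, hfix, hAphi⟩ := scalar_facts
  -- the action of `g`
  have hex : ∀ e : {e : ℕ // e ∈ ClassData.four}, ∃ d ∈ ClassData.four, ρ d = g * ρ e.1 * g⁻¹ := by
    intro e
    have h1 := C.comm_of (hf1 e.1 e.2).2.2
    have h2 := C.zcomm e.1
    refine C.exists_four ?_ ?_
    · rw [← hgt, show g * ρ e.1 * g⁻¹ * (g * ρ tc * g⁻¹) = g * (ρ e.1 * ρ tc) * g⁻¹ by group, h1]; group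
    · rw [← hgz, show g * ρ e.1 * g⁻¹ * (g * z * g⁻¹) = g * (ρ e.1 * z) * g⁻¹ by group, h2]; group
  choose act hact hact' using hex
  let act' : ℕ → ℕ := fun e => if h : e ∈ ClassData.four then act ⟨e, h⟩ else 0
  have hact4 : ∀ e ∈ ClassData.four, act' e ∈ ClassData.four ∧ g * ρ e * g⁻¹ = ρ (act' e) := fun e he => by
    simp only [act', dif_pos he]
    exact ⟨hact ⟨e, he⟩, (hact' ⟨e, he⟩).symm⟩
  set b3 := act' 1 with hb3
  set b4 := act' 256 with hb4
  have h4 : (1 : ℕ) ∈ ClassData.four ∧ 256 ∈ ClassData.four := by decide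
  have him : ∀ k < 4, g * ρ (imList EData.basis k) * g⁻¹ = ρ (imList [tc, zc, b3, b4] k) := by
    intro k hk
    interval_cases k
    · show g * ρ zc * g⁻¹ = ρ tc; rw [F.zc_eq, hgz]
    · show g * ρ tc * g⁻¹ = ρ zc; rw [F.zc_eq, hgt]
    · exact (hact4 1 h4.1).2
    · exact (hact4 256 h4.2).2
  have hev : ∀ w : List ℕ, (∀ k ∈ w, k < 4) →
      g * ρ (ev (imList EData.basis) w) * g⁻¹ = ρ (ev (imList [tc, zc, b3, b4]) w) := by
    intro w
    induction w with
    | nil => intro _; simp [ev, F.zero]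
    | cons k w ih =>
      intro hw
      rw [ev, ev, F.mul_eq, F.mul_eq, ← him k (hw k List.mem_cons_self),
        ← ih fun j hj => hw j (List.mem_cons_of_mem _ hj)]
      group
  have hlin : ∀ e ∈ ClassData.four, g * ρ e * g⁻¹ = ρ (linE b3 b4 e) := fun e he => by
    have := hev _ (hfw e he).2
    rwa [(hfw e he).1] at this
  have hmem : ∀ e ∈ ClassData.four, linE b3 b4 e ∈ ClassData.four := fun e he => by
    have : linE b3 b4 e = act' e := C.inj' (J2Uniq.ev_lt _ _) (hf1 _ (hact4 e he).1).1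
      ((hlin e he).symm.trans (hact4 e he).2)
    exact this ▸ (hact4 e he).1
  have hinvol : ∀ e ∈ ClassData.four, linE b3 b4 (linE b3 b4 e) = e := by
    intro e he
    refine C.inj' (J2Uniq.ev_lt _ _) (hf1 e he).1 ?_
    rw [← hlin _ (hmem e he), ← hlin e he]
    obtain ⟨d, hd, hdg⟩ := C.exists_four (g := g * g)
      (mul_inv_eq_iff_eq_mul.1 (by
        rw [show g * g * z * (g * g)⁻¹ = g * (g * z * g⁻¹) * g⁻¹ by group, hgz, hgt]))
      (mul_inv_eq_iff_eq_mul.1 (by
        rw [show g * g * ρ tc * (g * g)⁻¹ = g * (g * ρ tc * g⁻¹) * g⁻¹ by group, hgt, hgz]))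
    rw [show g * (g * ρ e * g⁻¹) * g⁻¹ = g * g * ρ e * (g * g)⁻¹ by group, ← hdg, C.comm_of
      ((by decide +kernel : ∀ a ∈ ClassData.four, ∀ b ∈ ClassData.four, mul a b = mul b a) d hd e he),
      mul_inv_cancel_right]
  have hA : ∀ e ∈ ClassData.four, linE b3 b4 e = actA e := by
    rcases invol_cases b3 (hact4 1 h4.1).1 b4 (hact4 256 h4.2).1 hinvol with h | ⟨p, hp, hp1, hp2⟩
    · exact h
    · exfalso
      have hok := bad_ok p hp
      simp only [badOk, hp1, hp2, Bool.and_eq_true] at hok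
      obtain ⟨-, hm⟩ := hok
      have hlists : ∀ (l : List ℕ) (o : List (Option ℕ)), l.map (actW (linE b3 b4) p.2.2) = o →
          ∀ k < l.length, o.getD k none = actW (linE b3 b4) p.2.2 (l.getD k 0) := by
        intro l o ho k hk
        subst ho
        simp [List.getD_eq_getElem?_getD, List.getElem?_map, List.getElem?_eq_getElem hk]
      split at hm
      swap
      · exact absurd hm (by simp)
      rename_i a b c d heq
      simp only [Bool.and_eq_true, List.all_eq_true, List.mem_range] at hm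
      obtain ⟨haz, hn⟩ := hm
      set h0 := wval ρ s g p.2.2
      have hk : ∀ k < 4, ∀ v, ([some a, some b, some c, some d] : List (Option ℕ)).getD k none = some v →
          h0 * ρ (EData.basis.getD k 0) * h0⁻¹ = ρ v := fun k hk v hv =>
        actW_sound F hlin _ _ _ ((hlists _ _ heq k (by simpa [EData.basis] using hk)).symm.trans hv)
      have e0 := hk 0 (by norm_num) a rfl
      rw [Nat.eq_of_beq_eq_true haz, show EData.basis.getD 0 0 = zc from rfl, F.zc_eq] at e0
      obtain ⟨n, hn', hne⟩ := C.surj h0 (mem_centralizer_singleton_iff.2 (mul_inv_eq_iff_eq_mul.1 e0))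
      have hlt : ∀ v, ∀ k < 4, ([some a, some b, some c, some d] : List (Option ℕ)).getD k none = some v →
          cj n (EData.basis.getD k 0) = v % 1920 := fun v k hk' hv =>
        C.inj' (mul_lt _ _) (Nat.mod_lt _ (by norm_num)) (by rw [C.cj_eq, hne, hk k hk' v hv, F.mod_eq])
      have hb : ∀ (l : ℕ) (w : List ℕ) (x y : ℕ), x < 1920 → actW (linE b3 b4) (l :: w) x = some y → y < 1920 := by
        intro l w x y _ hy
        rw [actW, Option.bind_eq_some_iff] at hy
        obtain ⟨m, -, hl⟩ := hy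
        unfold actL at hl
        split at hl
        · simp only [Option.some.injEq] at hl; subst hl; exact mul_lt _ _
        split at hl
        · split at hl
          · rename_i hd
            simp only [Option.some.injEq] at hl; subst hl
            have := cu_ok (m % 1920) (Nat.mod_lt _ (by norm_num)) (by rw [J2Uniq.inCU_mod]; exact hd)
            rw [phi_mod] at this
            rw [← this.2.1]; exact J2Uniq.ev_lt _ _
          · exact absurd hl (by simp)
        split at hl
        · split at hl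
          · simp only [Option.some.injEq] at hl; subst hl; exact J2Uniq.ev_lt _ _
          · exact absurd hl (by simp)
        · exact absurd hl (by simp)
      have hpw : p.2.2 ≠ [] := (by decide : ∀ q ∈ EData.bad, q.2.2 ≠ []) p hp
      obtain ⟨l, w, hlw⟩ := List.exists_cons_of_ne_nil hpw
      have hv : ∀ v k, k < 4 → ([some a, some b, some c, some d] : List (Option ℕ)).getD k none = some v → v < 1920 := by
        intro v k hk' hv'
        have hx : EData.basis.getD k 0 < 1920 := by interval_cases k <;> decide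
        have := (hlists _ _ heq k (by simpa [EData.basis] using hk')).symm.trans hv'
        rw [hlw] at this
        exact hb l w _ v hx this
      have hq : ∀ v k, k < 4 → ([some a, some b, some c, some d] : List (Option ℕ)).getD k none = some v →
          cj n (EData.basis.getD k 0) = v := fun v k hk' hv' => by
        rw [hlt v k hk' hv', Nat.mod_eq_of_lt (hv v k hk' hv')]
      have := hn n hn'
      rw [hq a 0 (by norm_num) rfl, hq b 1 (by norm_num) rfl, hq c 2 (by norm_num) rfl, hq d 3 (by norm_num) rfl] at this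
      simp at this
  -- normalization
  set c0 := sc ρ s with hc0
  have hcact : ∀ e ∈ ClassData.four, c0 * ρ e * c0⁻¹ = ρ (bigPhi e) := fun e he => by
    rw [hc0, sc, show s * ρ xc * ρ e * (s * ρ xc)⁻¹ = s * (ρ xc * ρ e * (ρ xc)⁻¹) * s⁻¹ by group, ← C.cj_eq,
      conj_s F (hfX e he).2.1]
    rfl
  have hgact : ∀ e ∈ ClassData.four, g * ρ e * g⁻¹ = ρ (actA e) := fun e he => by rw [hlin e he, hA e he]
  have hginv : ∀ e ∈ ClassData.four, g⁻¹ * ρ e * g = ρ (actA e) := fun e he => by
    have := hgact _ (hfA e he).1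
    rw [(hfA e he).2] at this
    rw [← this]; group
  obtain ⟨e, he, hee⟩ : ∃ e ∈ ClassData.four, ρ e = g * c0 * g⁻¹ * c0⁻¹ := by
    have key : ∀ e ∈ ClassData.four, g * c0 * g⁻¹ * c0⁻¹ * ρ e = ρ e * (g * c0 * g⁻¹ * c0⁻¹) := by
      intro e he
      have h1 : ∃ e1 ∈ ClassData.four, bigPhi e1 = e :=
        (by decide +kernel : ∀ e ∈ ClassData.four, ∃ e1 ∈ ClassData.four, bigPhi e1 = e) e he
      obtain ⟨e1, he1, rfl⟩ := h1
      refine mul_inv_eq_iff_eq_mul.1 ?_
      conv_lhs => rw [← hcact e1 he1]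
      rw [show g * c0 * g⁻¹ * c0⁻¹ * (c0 * ρ e1 * c0⁻¹) * (g * c0 * g⁻¹ * c0⁻¹)⁻¹ =
        g * (c0 * (g⁻¹ * ρ e1 * g) * c0⁻¹) * g⁻¹ by group, hginv e1 he1, hcact _ (hfA e1 he1).1,
        hgact _ (hfX _ (hfA e1 he1).1).2.2, ← hAphi _ (hfA e1 he1).1, (hfA e1 he1).2]
    have k1 := key zc (by decide)
    rw [F.zc_eq] at k1
    exact C.exists_four k1 (key tc (by decide))
  obtain ⟨e', he', hsol'⟩ := hsol e he
  set r := ρ e' * g with hr
  have hrc : r * c0 = c0 * r := by
    have e1 := congrArg ρ hsol'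
    rw [F.mul_eq, F.mul_eq, C.inv_eq, ← hcact e' he', F.zero, hee] at e1
    have e2 : ρ e' * g * c0 * g⁻¹ * (ρ e')⁻¹ * c0⁻¹ = 1 := by rw [← e1]; group
    calc r * c0 = (ρ e' * g * c0 * g⁻¹ * (ρ e')⁻¹ * c0⁻¹) * (c0 * r) := by rw [hr]; group
      _ = c0 * r := by rw [e2, one_mul]
  have hract : ∀ e ∈ ClassData.four, r * ρ e * r⁻¹ = ρ (actA e) := fun e he => by
    rw [hr, show ρ e' * g * ρ e * (ρ e' * g)⁻¹ = ρ e' * (g * ρ e * g⁻¹) * (ρ e')⁻¹ by group, hgact e he,
      C.comm_of ((by decide +kernel : ∀ a ∈ ClassData.four, ∀ b ∈ ClassData.four, mul a b = mul b a) e' he' _ (hfA e he).1),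
      mul_inv_cancel_right]
  refine ⟨r, F, ?_, hrc, hract⟩
  have hrz := hract zc (by decide)
  have hrt := hract tc (by decide)
  rw [hAz, F.zc_eq] at hrz
  rw [hAt, F.zc_eq] at hrt
  obtain ⟨d, hd, hdr⟩ := C.exists_four (g := r * r)
    (mul_inv_eq_iff_eq_mul.1 (by rw [show r * r * z * (r * r)⁻¹ = r * (r * z * r⁻¹) * r⁻¹ by group, hrz, hrt]))
    (mul_inv_eq_iff_eq_mul.1 (by rw [show r * r * ρ tc * (r * r)⁻¹ = r * (r * ρ tc * r⁻¹) * r⁻¹ by group, hrt, hrz]))
  have hd0 : d = 0 := hfix d hd (C.inj' (hf1 _ (hfX d hd).2.2).1 (hf1 d hd).1 (by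
    rw [← hcact d hd, hdr, show c0 * (r * r) * c0⁻¹ = (c0 * r) * r * c0⁻¹ by group, ← hrc,
      show r * c0 * r * c0⁻¹ = r * (c0 * r) * c0⁻¹ by group, ← hrc]
    group))
  rw [← hdr, hd0, F.zero]

namespace Ext

variable {r : G} (X : Ext z ρ s r)

include X

theorem dL_sound {l : ℕ} (hl : letterOk l = true) :
    lval ρ s r l * sc ρ s * (lval ρ s r l)⁻¹ = ρ (dL l) * sc ρ s := by
  have C := Codes.of_frame X.frame
  obtain ⟨-, -, -, -, -, -, -, hxc, hxs⟩ := four_facts
  simp only [letterOk, Bool.or_eq_true, Bool.and_eq_true] at hl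
  rcases hl with (⟨hlt, hcu⟩ | hls) | hlr
  · unfold lval dL
    rw [if_pos hlt, if_pos hlt]
    have hm : l % 1920 = l := Nat.mod_eq_of_lt (by simpa using hlt)
    have hy := elts_ok l (by simpa using hlt) hcu
    have hcy : inCU (cj xc l) = true := (elts_norm l hy tc (by decide)).2
    rw [X.frame.mul_eq, C.inv_eq, bigPhi, ← conj_s X.frame hcy, C.cj_eq, sc]
    group
  · have e := Nat.eq_of_beq_eq_true hls
    subst e
    show s * sc ρ s * s⁻¹ = ρ (phi (mul (phi xc) (inv xc))) * sc ρ s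
    rw [← conj_s X.frame hxs, X.frame.mul_eq, C.inv_eq, ← conj_s X.frame hxc, sc]
    group
  · have e := Nat.eq_of_beq_eq_true hlr
    subst e
    show r * sc ρ s * r⁻¹ = ρ 0 * sc ρ s
    rw [X.frame.zero, one_mul, X.rc, mul_inv_cancel_right]

theorem dW_sound : ∀ (w : List ℕ) (d : ℕ), w.all letterOk = true → dW w = some d →
    wval ρ s r w * sc ρ s * (wval ρ s r w)⁻¹ = ρ d * sc ρ s
  | [], d, _, h => by
    simp only [dW, Option.some.injEq] at h
    subst h
    simp [wval, X.frame.zero]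
  | l :: w, d, hw, h => by
    simp only [dW, Option.map_eq_some_iff, Option.bind_eq_some_iff] at h
    obtain ⟨m, ⟨d', hd', hm⟩, rfl⟩ := h
    simp only [List.all_cons, Bool.and_eq_true] at hw
    have ih := dW_sound w d' hw.2 hd'
    have hl := X.dL_sound hw.1
    have ha := actL_sound X.frame X.ract hm
    rw [X.frame.mul_eq, mul_assoc (ρ m), ← hl, ← ha]
    simp only [wval, List.map_cons, List.prod_cons] at ih ⊢
    calc lval ρ s r l * (w.map (lval ρ s r)).prod * sc ρ s * (lval ρ s r l * (w.map (lval ρ s r)).prod)⁻¹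
        = lval ρ s r l * ((w.map (lval ρ s r)).prod * sc ρ s * (w.map (lval ρ s r)).prod⁻¹) * (lval ρ s r l)⁻¹ := by group
      _ = lval ρ s r l * (ρ d' * sc ρ s) * (lval ρ s r l)⁻¹ := by rw [ih]
      _ = _ := by group

/-- A word passing the test is trivial. -/
theorem neOk_sound {w : List ℕ} (h : neOk w = true) : wval ρ s r w = 1 := by
  have C := Codes.of_frame X.frame
  obtain ⟨hf1, -, -, -, -, -, hfX, -, -⟩ := four_facts
  simp only [neOk, Bool.and_eq_true] at h
  obtain ⟨⟨⟨hw, h1⟩, h2⟩, h3⟩ := h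
  split at h1
  swap
  · exact absurd h1 (by simp)
  rename_i a ha
  split at h2
  swap
  · exact absurd h2 (by simp)
  rename_i b hb
  split at h3
  swap
  · exact absurd h3 (by simp)
  rename_i d hd
  have e1 := actW_sound X.frame X.ract _ _ _ ha
  have e2 := actW_sound X.frame X.ract _ _ _ hb
  have e3 := X.dW_sound w d hw hd
  rw [Nat.eq_of_beq_eq_true h1, X.frame.zc_eq] at e1
  rw [Nat.eq_of_beq_eq_true h2] at e2
  rw [Nat.eq_of_beq_eq_true h3, X.frame.zero, one_mul] at e3
  obtain ⟨e, he, hee⟩ := C.exists_four (mul_inv_eq_iff_eq_mul.1 e1) (mul_inv_eq_iff_eq_mul.1 e2)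
  have e0 : e = 0 := scalar_facts.2.1 e he (C.inj' (hf1 _ (hfX e he).2.2).1 (hf1 e he).1 (by
    rw [bigPhi, ← conj_s X.frame (hfX e he).2.1, C.cj_eq, hee]
    have e3' := mul_inv_eq_iff_eq_mul.1 e3
    unfold sc at e3'
    calc s * (ρ xc * wval ρ s r w * (ρ xc)⁻¹) * s⁻¹ = s * ρ xc * wval ρ s r w * (s * ρ xc)⁻¹ := by group
      _ = wval ρ s r w * (s * ρ xc) * (s * ρ xc)⁻¹ := by rw [← e3']
      _ = _ := mul_inv_cancel_right _ _))
  rw [← hee, e0, X.frame.zero]

end Ext

end Cfsg.Agent.J3Glue
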