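import Mathlib
import Cfsg.Agent.Lib.J3Glue.EChecks

/-!
Finite checks for the gluing relation.
-/

set_option autoImplicit false
set_option linter.all false
set_option maxRecDepth 100000

namespace Cfsg.Agent.J3Glue

open J2Uniq

/-- The centralizer of the element of order three in a dihedral group, by codes. -/
def dcode : DihedralGroup 4 → ℕ
  | .r i => [0, 3, 16, 19].getD i.val 0
  | .sr i => mul 1 ([0, 3, 16, 19].getD i.val 0)

/-- The element conjugating the scalar element into the centralizer. -/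
def gl : List ℕ := [96, lR, 2]

theorem dcode_mul : ∀ x y : DihedralGroup 4, dcode (x * y) = mul (dcode x) (dcode y) := by decide +kernel

theorem dcode_facts : (∀ x : DihedralGroup 4, dcode x < 1920 ∧ mul (dcode x) 32 = mul 32 (dcode x) ∧
      (dcode x = 0 → x = 1) ∧ (dcode x = 32 → False) ∧ (dcode x = 64 → False)) ∧
    ∀ n < 1920, mul n 32 = mul 32 n → ∃ x : DihedralGroup 4, ∃ i ∈ [0, 32, 64], n = mul (dcode x) i := by
  decide +kernel

theorem three_cent : ∀ n < 1920, n ≠ 0 → mul n (mul n n) = 0 →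
    ((List.range 1920).filter fun m => Nat.beq (mul m n) (mul n m)).length = 24 := by decide +kernel

theorem glue_words : neOk [lR, 33, lS, lS, cj 2 xc, lR, inv 320] = true ∧ neOk [102, lR, 102, lR, 102, lR] = true ∧
    neOk [266, lR, 266, lR, 266, lR, 266, lR, 266, lR] = true ∧
      neOk [381, lR, 381, lR, 381, lR, 381, lR, 381, lR] = true := by decide +kernel

theorem glue_codes : cj 96 320 = 32 ∧ cj 2 96 = 102 ∧ cj 2 102 = 96 ∧ cj 96 16 = 16 ∧ cj 2 266 = 256 ∧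
    cj 96 (actA (cj 2 266)) = 17 ∧ (cj 2 266) ∈ ClassData.four ∧ mul 102 266 = 381 ∧ bigPhi 102 = 102 ∧
    bigPhi 266 = 266 ∧ inCU 102 = true ∧ inCU 266 = true ∧ mul 16 17 = 1 ∧ mul 16 16 = 0 ∧ mul 2 2 = 0 := by
  decide +kernel

theorem glue_cent : mul 32 (mul 32 32) = 0 ∧ mul 32 32 = 64 ∧ mul 16 32 = mul 32 16 ∧ mul 1 32 = mul 32 1 ∧
    mul 2 32 = mul 32 2 ∧ mul 18 32 = mul 32 18 ∧ mul 64 2 = mul 2 64 ∧ cj 384 32 = 64 ∧ cj 385 32 = 64 ∧
    cj (inv 384) 32 = 64 ∧ phi 64 = 64 ∧ inCU 64 = true ∧ phi 32 = 32 ∧ inCU 32 = true := by decide +kernel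

theorem glue_conj : cj 384 16 = 16 ∧ cj 384 17 = 18 ∧ cj 384 1 = 2 ∧ mul 16 18 = 2 ∧ mul 1 384 = 385 ∧
    cj (inv 384) 16 = 16 ∧ mul 2 1 = mul 1 18 ∧ mul 2 17 ≠ mul 17 2 ∧ mul 1 18 ≠ mul 18 1 ∧ mul 1 1 = 0 ∧
      mul 18 18 = 0 := by decide +kernel

end Cfsg.Agent.J3Glue
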