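import Mathlib
import Cfsg.Agent.Techniques.DihedralEight.Main
import Cfsg.Agent.Lib.ZStar.Main
import Cfsg.Agent.Lib.Cores.Basic
import Cfsg.Agent.Lib.J3Glue.AltSix
import Cfsg.Agent.Lib.J3Glue.EGroup
import Cfsg.Agent.Lib.J3Glue.GlueChecks

/-!
The centralizer of an element of order three modulo that element is `A₆`; this ties the normalizer of
the elementary abelian group to the element of order three.
-/

set_option autoImplicit false
set_option linter.all false
set_option maxRecDepth 100000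

namespace Cfsg.Agent.J3Glue

open Subgroup hiding inv
open J2Uniq

universe v

variable {G : Type v} [Group G] {z : G} {ρ : ℕ → G} {s r : G}

/-- The conjugating element. -/
def g0 (ρ : ℕ → G) (r : G) : G := ρ 96 * r * ρ 2

/-- The involution at the end of the chain. -/
def x3 (ρ : ℕ → G) (s : G) : G := s * ρ 384 * s * ρ 2 * (s * ρ 384 * s)⁻¹

/-- The four candidates. -/
def ll (ρ : ℕ → G) (r : G) : List G := [ρ 102 * r, r * ρ 102, ρ 266 * r * ρ 381, ρ 381 * r * ρ 266]

theorem lval_code {l : ℕ} (h : Nat.blt l 1920 = true) : lval ρ s r l = ρ l := if_pos h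

theorem lval_S : lval ρ s r lS = s := rfl

theorem lval_R : lval ρ s r lR = r := rfl

theorem list_count {p : ℕ → Bool} : Nat.card {m : Fin 1920 // p m = true} = ((List.range 1920).filter p).length := by
  rw [Nat.card_eq_fintype_card, Fintype.card_subtype, ← List.toFinset_card_of_nodup (List.nodup_range.filter _),
    ← Finset.card_map Fin.valEmbedding]
  congr 1
  ext m
  simp only [Finset.mem_map, Finset.mem_filter, Finset.mem_univ, true_and, List.mem_toFinset, List.mem_filter,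
    List.mem_range]
  constructor
  · rintro ⟨a, ha, rfl⟩; exact ⟨a.2, ha⟩
  · rintro ⟨hm, hp⟩; exact ⟨⟨m, hm⟩, hp, rfl⟩

theorem perm5_trans : ∃ t : Equiv.Perm (Fin 5), t * t = 1 ∧ t ≠ 1 ∧
    (Finset.univ.filter fun g : Equiv.Perm (Fin 5) => g * t = t * g).card = 12 :=
  ⟨Equiv.swap 0 1, by decide +kernel, by decide +kernel, by decide +kernel⟩

theorem exists_glue [Finite G] (X : Ext z ρ s r) (hz : orderOf z = 2)
    (hone : ∀ x y : G, orderOf x = 2 → orderOf y = 2 → IsConj x y) :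
    ∃ d ∈ [384, 385], ∃ l ∈ ll ρ r, z * x3 ρ s = ρ d * g0 ρ r * l * (ρ d * g0 ρ r)⁻¹ := by
  classical
  have F := X.frame
  have C := Codes.of_frame F
  obtain ⟨w1, w2, w3, w4⟩ := glue_words
  obtain ⟨c96, c2k, c2k', c9616, c2266, c17, c266m, m381, p102, p266, i102, i266, m1617, m1616, m22⟩ := glue_codes
  obtain ⟨a3, a64, az, au, a2, a18, q64, d4, d5, d4i, f64, i64, f32, i32⟩ := glue_cent
  obtain ⟨e16, e17, e1, m1618, m385, e16i, -, n217, n118, m11, m1818⟩ := glue_conj
  have hr2 := X.r2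
  have hri : r⁻¹ = r := inv_eq_of_mul_eq_one_right hr2
  have h22 : ρ 2 * ρ 2 = 1 := by rw [← F.mul_eq, m22, F.zero]
  have h2i : (ρ 2)⁻¹ = ρ 2 := inv_eq_of_mul_eq_one_right h22
  have hzc : ρ 16 = z := F.zc_eq
  have hzz : z * z = 1 := by rw [← hzc, ← F.mul_eq, m1616, F.zero]
  -- the image of the scalar element
  set c0 := sc ρ s with hc0
  set a := ρ 32 with ha
  have hh : r * ρ 2 * c0 * ρ 2 * r = ρ 320 := by
    have e := X.neOk_sound w1
    simp only [wval, List.map_cons, List.map_nil, List.prod_cons, List.prod_nil, mul_one, lval_S, lval_R] at e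
    rw [lval_code (show Nat.blt 33 1920 = true by decide +kernel),
      lval_code (show Nat.blt (cj 2 xc) 1920 = true by decide +kernel),
      lval_code (show Nat.blt (inv 320) 1920 = true by decide +kernel), C.inv_eq, C.cj_eq, h2i] at e
    have ht : ρ 2 * s = ρ 33 * s⁻¹ * ρ 2 := by
      have := F.twist
      rw [show ρ cc = ρ 33 from rfl, show ρ ec = ρ 2 from rfl] at this
      rw [← this]
      simp only [mul_assoc, mul_inv_cancel_left, h22, mul_one]
    rw [hc0, sc, show r * ρ 2 * (s * ρ xc) * ρ 2 * r = r * (ρ 2 * s) * ρ xc * ρ 2 * r by group, ht]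
    have hs : s⁻¹ = s * s := inv_eq_of_mul_eq_one_right (by rw [← mul_assoc, F.s3])
    rw [hs]
    refine mul_inv_eq_one.1 ?_
    calc r * (ρ 33 * (s * s) * ρ 2) * ρ xc * ρ 2 * r * (ρ 320)⁻¹
        = r * (ρ 33 * (s * (s * (ρ 2 * ρ xc * ρ 2 * (r * (ρ 320)⁻¹))))) := by group
      _ = 1 := e
  set γ := g0 ρ r with hγ
  have hγi : γ⁻¹ = ρ 2 * r * (ρ 96)⁻¹ := by rw [hγ, g0, mul_inv_rev, mul_inv_rev, hri, h2i, ← mul_assoc]
  have hγc : γ * c0 * γ⁻¹ = a := by
    rw [hγi, hγ, g0, show ρ 96 * r * ρ 2 * c0 * (ρ 2 * r * (ρ 96)⁻¹) = ρ 96 * (r * ρ 2 * c0 * ρ 2 * r) * (ρ 96)⁻¹ by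
      group, hh, ← C.cj_eq, c96]
  have hγv : ∀ e ∈ ClassData.four, γ * ρ (cj 2 e) * γ⁻¹ = ρ (cj 96 (actA e)) := fun e he => by
    rw [hγi, hγ, g0, C.cj_eq, C.cj_eq, h2i, ← X.ract e he, hri]
    simp only [← mul_assoc]
    simp only [mul_assoc, show ∀ x, ρ 2 * (ρ 2 * x) = x from fun x => by rw [← mul_assoc, h22, one_mul]]
  have hAf := four_facts
  have hγk : γ * ρ 102 * γ⁻¹ = z := by
    have h := hγv tc (by decide)
    rw [show cj 2 tc = 102 from c2k, hAf.2.2.2.2.2.1, show cj 96 zc = 16 from c9616, hzc] at h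
    exact h
  have hγ266 : γ * ρ 266 * γ⁻¹ = ρ 17 := by
    have h := hγv (cj 2 266) c266m
    rw [c17, show cj 2 (cj 2 266) = 266 by decide +kernel] at h
    exact h
  have hγ381 : γ * ρ 381 * γ⁻¹ = ρ 1 := by
    rw [← m381, F.mul_eq, show γ * (ρ 102 * ρ 266) * γ⁻¹ = γ * ρ 102 * γ⁻¹ * (γ * ρ 266 * γ⁻¹) by group, hγk, hγ266,
      ← hzc, ← F.mul_eq, m1617]
  -- commutation with the scalar element
  have hcphi : ∀ y, inCU y = true → inCU (cj xc y) = true → c0 * ρ y * c0⁻¹ = ρ (bigPhi y) := fun y _ hy => by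
    rw [hc0, sc, show s * ρ xc * ρ y * (s * ρ xc)⁻¹ = s * (ρ xc * ρ y * (ρ xc)⁻¹) * s⁻¹ by group, ← C.cj_eq,
      conj_s F hy]
    rfl
  have k102 : Commute (ρ 102) c0 := by
    have h := hcphi 102 i102 (by decide +kernel)
    rw [p102] at h
    exact (mul_inv_eq_iff_eq_mul.1 h).symm
  have k266 : Commute (ρ 266) c0 := by
    have h := hcphi 266 i266 (by decide +kernel)
    rw [p266] at h
    exact (mul_inv_eq_iff_eq_mul.1 h).symm
  have kr : Commute r c0 := X.rc
  -- the centralizer of `a`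
  set H := centralizer ({a} : Set G) with hH
  have memH : ∀ x : G, Commute x a → x ∈ H := fun x hx => mem_centralizer_singleton_iff.2 hx.eq
  have Hmem : ∀ x : H, Commute (x : G) a := fun x => mem_centralizer_singleton_iff.1 x.2
  have hci : ∀ n, mul n 32 = mul 32 n → Commute (ρ n) a := fun n hn => C.comm_of hn
  have a3' : a * a * a = 1 := by rw [ha, ← F.mul_eq, ← F.mul_eq, show mul (mul 32 32) 32 = 0 by decide +kernel, F.zero]
  have a1 : a ≠ 1 := fun e => absurd (F.inj 32 (by norm_num) e) (by norm_num)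
  have hd4 : ∀ x, Commute x c0 → Commute (ρ 384 * γ * x * (ρ 384 * γ)⁻¹) a := by
    intro x hx
    have h1 : Commute (γ * x * γ⁻¹) a := by
      rw [← hγc]
      show γ * x * γ⁻¹ * (γ * c0 * γ⁻¹) = γ * c0 * γ⁻¹ * (γ * x * γ⁻¹)
      rw [show γ * x * γ⁻¹ * (γ * c0 * γ⁻¹) = γ * (x * c0) * γ⁻¹ by group, hx.eq]; group
    have h2 : ρ 384 * (a * a) * (ρ 384)⁻¹ = a := by
      rw [ha, ← F.mul_eq, ← C.cj_eq, a64, show cj 384 64 = 32 by decide +kernel]
    have h3 := h1.mul_right h1
    show _ * a = a * _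
    rw [← h2, show ρ 384 * γ * x * (ρ 384 * γ)⁻¹ * (ρ 384 * (a * a) * (ρ 384)⁻¹) =
      ρ 384 * ((γ * x * γ⁻¹) * (a * a)) * (ρ 384)⁻¹ by group, h3.eq]
    group
  set R0 := ρ 384 * γ * r * (ρ 384 * γ)⁻¹ with hR0
  have kR0 : Commute R0 a := hd4 r kr
  have cz : Commute z a := by rw [← hzc]; exact hci 16 az
  have cu : Commute (ρ 1) a := hci 1 au
  have csa : Commute s a := by
    show s * a = a * s
    rw [ha, F.sconj 32 i32, f32]
  set y := s * ρ 2 * s⁻¹ with hy
  have cy : Commute y a := ((csa.mul_left (hci 2 a2)).mul_left csa.inv_left)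
  set gx := s * ρ 384 * s with hgx
  have hx3 : x3 ρ s = gx * ρ 2 * gx⁻¹ := rfl
  have hgxa : gx⁻¹ * a * gx = ρ 64 := by
    rw [hgx, show (s * ρ 384 * s)⁻¹ * a * (s * ρ 384 * s) = s⁻¹ * ((ρ 384)⁻¹ * (s⁻¹ * (a * s)) * ρ 384) * s by group,
      ← csa.eq, inv_mul_cancel_left,
      show (ρ 384)⁻¹ * a * ρ 384 = ρ (cj (inv 384) 32) by rw [C.cj_eq, C.inv_eq, inv_inv], d4i]
    have := conj_s F i64
    rw [f64] at this
    conv_lhs => rw [← this]
    group
  have cx3 : Commute (x3 ρ s) a := by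
    show x3 ρ s * a = a * x3 ρ s
    have h : ρ 2 * ρ 64 = ρ 64 * ρ 2 := C.comm_of q64.symm
    rw [hx3, show a = gx * (gx⁻¹ * a * gx) * gx⁻¹ by group, hgxa,
      show gx * ρ 2 * gx⁻¹ * (gx * ρ 64 * gx⁻¹) = gx * (ρ 2 * ρ 64) * gx⁻¹ by group, h]
    group
  have hgxz : gx * z * gx⁻¹ = y := by
    have hsz : s * z * s⁻¹ = ρ 1 := by rw [← hzc, conj_s F (by decide +kernel), show phi 16 = 1 by decide +kernel]
    rw [hgx, show s * ρ 384 * s * z * (s * ρ 384 * s)⁻¹ = s * (ρ 384 * (s * z * s⁻¹) * (ρ 384)⁻¹) * s⁻¹ by group, hsz,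
      ← C.cj_eq, e1]
  -- the quotient
  let aH : H := ⟨a, memH a (Commute.refl a)⟩
  have haH : ∀ x : H, Commute x aH := fun x => Subtype.ext (Hmem x).eq
  set N := zpowers aH with hNdef
  haveI hN : N.Normal := ⟨fun n hn g => by
    obtain ⟨k, rfl⟩ := hn
    exact ⟨k, by rw [((haH g).zpow_right k).eq, mul_inv_cancel_right]⟩⟩
  have hNmem : ∀ x ∈ N, x = 1 ∨ x = aH ∨ x = aH * aH := by
    rintro _ ⟨k, rfl⟩
    have h3 : aH ^ (3 : ℤ) = 1 := by
      rw [show (3 : ℤ) = 1 + 1 + 1 from rfl, zpow_add, zpow_add, zpow_one]; exact Subtype.ext a3'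
    show aH ^ k = 1 ∨ aH ^ k = aH ∨ aH ^ k = aH * aH
    rw [← Int.emod_add_mul_ediv k 3, zpow_add, zpow_mul, h3, one_zpow, mul_one]
    have := Int.emod_nonneg k (show (3 : ℤ) ≠ 0 by norm_num)
    have := Int.emod_lt_of_pos k (show (0 : ℤ) < 3 by norm_num)
    interval_cases (k % 3)
    · left; simp
    · right; left; simp
    · right; right; rw [show (2 : ℤ) = 1 + 1 from rfl, zpow_add, zpow_one]
  have hNcard : Nat.card N = 3 := by
    rw [hNdef, Nat.card_zpowers]
    haveI : Fact (Nat.Prime 3) := ⟨by norm_num⟩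
    exact orderOf_eq_prime (Subtype.ext (by rw [pow_succ, pow_two]; exact a3')) fun e => a1 (congrArg Subtype.val e)
  set π := QuotientGroup.mk' N with hπdef
  have hπ1 : ∀ x : H, π x = 1 ↔ x ∈ N := fun x => QuotientGroup.eq_one_iff x
  -- distinct involutions stay distinct
  have hsep : ∀ x y : H, x * x = 1 → y * y = 1 → π x = π y → x = y := by
    intro x y hx hy he
    have hm : x⁻¹ * y ∈ N := QuotientGroup.eq.1 he
    rcases hNmem _ hm with e | e | e
    · exact inv_mul_eq_one.1 e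
    all_goals
      exfalso
      have ey : y = x * (x⁻¹ * y) := (mul_inv_cancel_left x y).symm
      have h2 : (x⁻¹ * y) * (x⁻¹ * y) = 1 := by
        have hc : Commute x (x⁻¹ * y) := by rw [e]; first | exact haH x | exact (haH x).mul_right (haH x)
        calc x⁻¹ * y * (x⁻¹ * y) = x * x * (x⁻¹ * y * (x⁻¹ * y)) := by rw [hx, one_mul]
          _ = x * (x⁻¹ * y) * (x * (x⁻¹ * y)) := by
            exact (hc.symm.mul_mul_mul_comm x (x⁻¹ * y)).symm
          _ = 1 := by rw [mul_inv_cancel_left, hy]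
      rw [e] at h2
      have h2' := congrArg Subtype.val h2
      simp only [Subgroup.coe_mul, Subgroup.coe_one, aH] at h2'
      refine a1 ?_
      first
        | (calc a = a * (a * a) := by rw [h2', mul_one]
            _ = 1 := by rw [← mul_assoc, a3'])
        | (calc a = a * a * a * a := by rw [a3', one_mul]
            _ = 1 := by rw [mul_assoc (a * a)]; exact h2')
  let mz : H := ⟨z, memH _ cz⟩
  have hmz2 : mz * mz = 1 := Subtype.ext hzz
  have hcomm_lift : ∀ x w : H, w * w = 1 → π x * π w = π w * π x → x * w = w * x := by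
    intro x w hw he
    refine mul_inv_eq_iff_eq_mul.1 (hsep _ _ ?_ hw ?_)
    · rw [show x * w * x⁻¹ * (x * w * x⁻¹) = x * (w * w) * x⁻¹ by group, hw, mul_one, mul_inv_cancel]
    · rw [map_mul, map_mul, he, map_inv, mul_inv_cancel_right]
  -- the centralizer of the image of `z`
  have hD : ∀ x : DihedralGroup 4, dcode x < 1920 ∧ Commute (ρ (dcode x)) a := fun x =>
    ⟨(dcode_facts.1 x).1, hci _ (dcode_facts.1 x).2.1⟩
  let fd : DihedralGroup 4 →* centralizer ({π mz} : Set (H ⧸ N)) := MonoidHom.mk'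
    (fun x => ⟨π ⟨ρ (dcode x), memH _ (hD x).2⟩, mem_centralizer_singleton_iff.2 (by
      rw [← map_mul, ← map_mul]; exact congrArg π (Subtype.ext (C.zcomm _)))⟩)
    (fun x y => Subtype.ext (by
      show π _ = π _ * π _
      rw [← map_mul]
      exact congrArg π (Subtype.ext (by show ρ (dcode (x * y)) = _; rw [dcode_mul, F.mul_eq]; rfl))))
  have hfd : Function.Bijective fd := by
    refine ⟨(injective_iff_map_eq_one fd).2 fun x hx => ?_, fun w => ?_⟩
    · have hx' := (hπ1 _).1 (congrArg Subtype.val hx)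
      obtain ⟨hlt, -, h0, h32, h64⟩ := dcode_facts.1 x
      rcases hNmem _ hx' with e | e | e
      · exact h0 (F.inj _ hlt (congrArg Subtype.val e))
      · exact absurd (C.inj' hlt (by norm_num) (congrArg Subtype.val e)) h32
      · refine absurd (C.inj' hlt (by norm_num) ?_) h64
        rw [← a64, F.mul_eq]
        exact congrArg Subtype.val e
    · obtain ⟨x, hx⟩ := QuotientGroup.mk'_surjective N (w : H ⧸ N)
      have hc := hcomm_lift x mz hmz2 (by rw [hx]; exact mem_centralizer_singleton_iff.1 w.2)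
      obtain ⟨n, hn, hne⟩ := F.surj (x : G) (mem_centralizer_singleton_iff.2 (congrArg Subtype.val hc))
      obtain ⟨d, i, hi, hni⟩ := dcode_facts.2 n hn (C.of_comm (by rw [hne]; exact (Hmem x).eq))
      refine ⟨d, Subtype.ext ?_⟩
      show π _ = (w : H ⧸ N)
      rw [← hx]
      refine QuotientGroup.eq.2 ?_
      have hv : (⟨ρ (dcode d), memH _ (hD d).2⟩ : H)⁻¹ * x ∈ ({1, aH, aH * aH} : Set H) := by
        have hval : ((⟨ρ (dcode d), memH _ (hD d).2⟩ : H)⁻¹ * x : H).val = ρ i := by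
          show (ρ (dcode d))⁻¹ * (x : G) = ρ i
          rw [← hne, hni, F.mul_eq, inv_mul_cancel_left]
        simp only [List.mem_cons, List.not_mem_nil, or_false] at hi
        rcases hi with rfl | rfl | rfl
        · left; exact Subtype.ext (hval.trans F.zero)
        · right; left; exact Subtype.ext hval
        · right; right; refine Subtype.ext (hval.trans ?_); rw [← a64, F.mul_eq]; rfl
      rcases hv with e | e | e <;> rw [e]
      · exact one_mem _
      · exact mem_zpowers _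
      · exact mul_mem (mem_zpowers _) (mem_zpowers _)
  have hzπ : π mz ≠ 1 := fun e => by
    have := congrArg Subtype.val (hsep mz 1 hmz2 (one_mul 1) (by rw [e, map_one]))
    change z = 1 at this
    rw [this, orderOf_one] at hz
    omega
  have hzπ2 : orderOf (π mz) = 2 := orderOf_eq_prime (by rw [sq, ← map_mul, hmz2, map_one]) hzπ
  -- an element of order five
  let k5 : H := ⟨ρ 384 * γ * (ρ 266 * r) * (ρ 384 * γ)⁻¹, memH _ (hd4 _ (k266.mul_left kr))⟩
  have hw3 : (ρ 266 * r) ^ 5 = 1 := by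
    have e := X.neOk_sound w3
    simp only [wval, List.map_cons, List.map_nil, List.prod_cons, List.prod_nil, mul_one, lval_R,
      lval_code (show Nat.blt 266 1920 = true by decide +kernel)] at e
    simp only [pow_succ, pow_zero, one_mul, mul_assoc]
    exact e
  have hk5 : orderOf (π k5) = 5 := by
    haveI : Fact (Nat.Prime 5) := ⟨by norm_num⟩
    refine orderOf_eq_prime ?_ fun e => ?_
    · rw [← map_pow, show k5 ^ 5 = 1 from Subtype.ext (by
        rw [SubmonoidClass.coe_pow]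
        show (ρ 384 * γ * (ρ 266 * r) * (ρ 384 * γ)⁻¹) ^ 5 = 1
        rw [conj_pow, hw3, mul_one, mul_inv_cancel]), map_one]
    · have h5 : k5 ^ 5 = 1 := Subtype.ext (by
        rw [SubmonoidClass.coe_pow]
        show (ρ 384 * γ * (ρ 266 * r) * (ρ 384 * γ)⁻¹) ^ 5 = 1
        rw [conj_pow, hw3, mul_one, mul_inv_cancel])
      have h3 : k5 ^ 3 = 1 := orderOf_dvd_iff_pow_eq_one.1 (hNcard ▸ N.orderOf_dvd_natCard ((hπ1 _).1 e))
      have h1 : k5 = 1 := by
        calc k5 = (k5 ^ 3) ^ 2 * (k5 ^ 5)⁻¹ := by group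
          _ = 1 := by rw [h3, h5, one_pow, inv_one, mul_one]
      have h1' := congrArg Subtype.val h1
      change ρ 384 * γ * (ρ 266 * r) * (ρ 384 * γ)⁻¹ = 1 at h1'
      rw [conj_eq_one_iff] at h1'
      have hr266 : r = (ρ 266)⁻¹ := eq_inv_of_mul_eq_one_right h1'
      have := X.ract zc (by decide)
      rw [hAf.2.2.2.2.1, F.zc_eq, hr266, inv_inv, show (ρ 266)⁻¹ * z * ρ 266 = (ρ 266)⁻¹ * (z * ρ 266) by group,
        ← C.zcomm, inv_mul_cancel_left] at this
      exact absurd (C.inj' (by norm_num [zc]) (by norm_num [tc]) (F.zc_eq.trans this)) (by norm_num [zc, tc])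
  -- identify the quotient
  obtain ⟨eA⟩ : Nonempty (H ⧸ N ≃* alternatingGroup (Fin 6)) := by
    have h5 : 5 ∣ Nat.card (H ⧸ N) := hk5 ▸ orderOf_dvd_natCard _
    rcases Techniques.DihedralEight.Main.main (π mz) hzπ2 ⟨(MulEquiv.ofBijective fd hfd).symm⟩ with
      h | h | h | h | h
    · exfalso
      set O := Cfsg.oddCore (H ⧸ N)
      let ms : H := ⟨s, memH _ csa⟩
      let mu : H := ⟨ρ 1, memH _ cu⟩
      obtain ⟨c, hc, o, ho, hco⟩ := Subgroup.mem_sup_of_normal_right.1 (h ▸ mem_top (π ms) :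
        π ms ∈ centralizer ({π mz} : Set (H ⧸ N)) ⊔ O)
      have hsz : π ms * π mz * (π ms)⁻¹ = π mu := by
        rw [← map_mul, ← map_inv, ← map_mul]
        refine congrArg π (Subtype.ext ?_)
        show s * z * s⁻¹ = ρ 1
        rw [← hzc, conj_s F (by decide +kernel), show phi 16 = 1 by decide +kernel]
      have hcz := mem_centralizer_singleton_iff.1 hc
      have hmem : π mu * (π mz)⁻¹ ∈ O := by
        rw [← hsz, ← hco, show c * o * π mz * (c * o)⁻¹ * (π mz)⁻¹ =
          c * o * (π mz * o⁻¹ * (π mz)⁻¹) * (π mz * c⁻¹ * (π mz)⁻¹) by group,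
          show π mz * c⁻¹ * (π mz)⁻¹ = c⁻¹ by
            rw [(show Commute c (π mz) from hcz).inv_left.symm.eq, mul_inv_cancel_right]]
        rw [show c * o * (π mz * o⁻¹ * (π mz)⁻¹) * c⁻¹ = c * (o * (π mz * o⁻¹ * (π mz)⁻¹)) * c⁻¹ by group]
        exact Subgroup.Normal.conj_mem inferInstance _
          (mul_mem ho (Subgroup.Normal.conj_mem inferInstance _ (inv_mem ho) _)) _
      have hmu2 : mu * mu = 1 := Subtype.ext (by show ρ 1 * ρ 1 = 1; rw [← F.mul_eq, m11, F.zero])
      have hne : π mu * (π mz)⁻¹ ≠ 1 := fun e => by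
        have := congrArg Subtype.val (hsep mu mz hmu2 hmz2 (mul_inv_eq_one.1 e))
        exact absurd (C.inj' (by norm_num) (by norm_num) (this.trans hzc.symm)) (by norm_num)
      have h2 : (π mu * (π mz)⁻¹) ^ 2 = 1 := by
        rw [← map_inv, ← map_mul, ← map_pow, inv_eq_of_mul_eq_one_right hmz2]
        refine (congrArg π (Subtype.ext ?_ : (mu * mz) ^ 2 = 1)).trans (map_one π)
        rw [SubmonoidClass.coe_pow]
        show (ρ 1 * z) ^ 2 = 1
        rw [← hzc, ← F.mul_eq, pow_two, ← F.mul_eq, show mul (mul 1 16) (mul 1 16) = 0 by decide +kernel, F.zero]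
      have hd := O.orderOf_dvd_natCard hmem
      rw [orderOf_eq_prime h2 hne] at hd
      exact (Nat.not_even_iff_odd.2 (Cores.oddCore_odd (G := H ⧸ N))) (even_iff_two_dvd.2 hd)
    · exfalso
      obtain ⟨e⟩ := h
      rw [Nat.card_congr e.toEquiv, Nat.card_perm, Nat.card_fin] at h5
      revert h5; decide
    · exfalso
      obtain ⟨e⟩ := h
      obtain ⟨t, ht2, ht1, htc⟩ := perm5_trans
      set tb := e.symm t
      obtain ⟨w, hw⟩ := QuotientGroup.mk'_surjective N tb
      set w' := w ^ 3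
      have hπw : π w' = tb := by
        rw [map_pow, hw, pow_succ, pow_two, ← map_mul, ht2, map_one, one_mul]
      have hw2 : w' * w' = 1 := by
        have hm : w * w ∈ N := (hπ1 _).1 (by rw [map_mul, hw, ← map_mul, ht2, map_one])
        rw [show w' * w' = (w * w) ^ 3 by simp only [w', pow_succ, pow_zero, one_mul, mul_assoc]]
        exact orderOf_dvd_iff_pow_eq_one.1 (hNcard ▸ N.orderOf_dvd_natCard hm)
      have hw1 : (w' : G) ≠ 1 := fun h1 => ht1 (e.symm.injective (by
        rw [map_one]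
        show tb = 1
        rw [← hπw, show w' = 1 from Subtype.ext h1, map_one]))
      have hw2' : (w' : G) * w' = 1 := congrArg Subtype.val hw2
      obtain ⟨g, hg⟩ := isConj_iff.1 (hone w' z (orderOf_eq_prime (by rw [sq, hw2']) hw1) hz)
      obtain ⟨n, hn, hne⟩ := F.surj (g * a * g⁻¹) (mem_centralizer_singleton_iff.2 (by
        rw [← hg, show g * a * g⁻¹ * (g * (w' : G) * g⁻¹) = g * (a * w') * g⁻¹ by group, ← (Hmem w').eq]; group))
      have hn0 : n ≠ 0 := fun h0 => a1 (by rw [h0, F.zero] at hne; exact conj_eq_one_iff.1 hne.symm)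
      have hn3 : mul n (mul n n) = 0 := F.inj _ (mul_lt _ _) (by
        rw [F.mul_eq, F.mul_eq, hne, show g * a * g⁻¹ * (g * a * g⁻¹ * (g * a * g⁻¹)) = g * (a * a * a) * g⁻¹ by group,
          a3', mul_one, mul_inv_cancel])
      set K := (centralizer ({tb} : Set (H ⧸ N))).comap π
      have hK : Nat.card K = 36 := by
        have h1 : Nat.card (centralizer ({tb} : Set (H ⧸ N))) = 12 := by
          rw [← htc, ← Fintype.card_subtype, ← Nat.card_eq_fintype_card]
          refine Nat.card_congr (e.toEquiv.subtypeEquiv fun q => ?_)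
          rw [mem_centralizer_singleton_iff]
          show q * tb = tb * q ↔ e q * t = t * e q
          constructor
          · intro h1
            have := congrArg e h1
            rwa [map_mul, map_mul, show e tb = t from e.apply_symm_apply t] at this
          · intro h1
            refine e.injective ?_
            rwa [map_mul, map_mul, show e tb = t from e.apply_symm_apply t]
        have hi : K.index = (centralizer ({tb} : Set (H ⧸ N))).index :=
          index_comap_of_surjective _ (QuotientGroup.mk'_surjective N)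
        have i1 := K.card_mul_index
        have i2 := (centralizer ({tb} : Set (H ⧸ N))).card_mul_index
        have i3 := N.card_mul_index
        rw [N.index_eq_card, hNcard] at i3
        rw [hi] at i1
        rw [h1] at i2
        have hpos : 0 < (centralizer ({tb} : Set (H ⧸ N))).index := Nat.pos_of_ne_zero index_ne_zero_of_finite
        refine Nat.eq_of_mul_eq_mul_right hpos ?_
        rw [i1, ← i3, ← i2]; ring
      have key : ∀ k : K, ∃ m : {m : Fin 1920 // Nat.beq (mul m n) (mul n m) = true},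
          ρ m.1 = g * ((k : H) : G) * g⁻¹ := by
        intro k
        have hk : π (k : H) * π w' = π w' * π (k : H) := by
          rw [hπw]; exact mem_centralizer_singleton_iff.1 k.2
        have hc := congrArg Subtype.val (hcomm_lift _ _ hw2 hk)
        obtain ⟨m, hm, hme⟩ := F.surj (g * ((k : H) : G) * g⁻¹) (mem_centralizer_singleton_iff.2 (by
          rw [← hg, show g * ((k : H) : G) * g⁻¹ * (g * (w' : G) * g⁻¹) = g * (((k : H) : G) * w') * g⁻¹ by group]
          change ((k : H) : G) * (w' : G) = (w' : G) * ((k : H) : G) at hc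
          rw [hc]; group))
        refine ⟨⟨⟨m, hm⟩, ?_⟩, hme⟩
        show Nat.beq (mul m n) (mul n m) = true
        rw [C.of_comm (show ρ m * ρ n = ρ n * ρ m by
          rw [hme, hne, show g * ((k : H) : G) * g⁻¹ * (g * a * g⁻¹) = g * (((k : H) : G) * a) * g⁻¹ by group,
            (Hmem _).eq]
          group)]
        exact Nat.beq_refl _
      choose f hf using key
      have hinj : Function.Injective f := fun k k' he => by
        have h1 := hf k
        rw [he, hf k', mul_left_inj, mul_right_inj] at h1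
        exact (Subtype.ext (Subtype.ext h1)).symm
      have := Nat.card_le_card_of_injective f hinj
      rw [hK, list_count (p := fun m => Nat.beq (mul m n) (mul n m)), three_cent n hn hn0 hn3] at this
      omega
    · exfalso
      obtain ⟨e⟩ := h
      have h168 : Nat.card (Matrix.SpecialLinearGroup (Fin 3) (ZMod 2)) = 168 := by
        have h := Classical.Linear.mul_natCard_SL_fin (F := ZMod 2) (k := 3) (by norm_num)
        rw [ZMod.card, Fin.prod_univ_three] at h
        norm_num [-Nat.card_eq_fintype_card] at h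
        exact h
      rw [Nat.card_congr e.toEquiv, h168] at h5
      omega
    · exact h
  -- the map into the alternating group
  let φ : H →* alternatingGroup (Fin 6) := eA.toMonoidHom.comp π
  let P : H → ℕ := fun x => AltSix.pc (φ x).1
  have hPmul : ∀ x w : H, P (x * w) = AltSix.cp (P x) (P w) := fun x w => by
    simp only [P, map_mul, Subgroup.coe_mul, AltSix.pc_mul]
  have hP1 : P 1 = AltSix.one := by simp only [P, map_one, Subgroup.coe_one, AltSix.pc_one]
  have hPinj : ∀ x w : H, P x = P w → π x = π w := fun x w h => eA.injective (Subtype.ext (AltSix.pc_inj h))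
  have hPinv : ∀ x : H, x * x = 1 → x ≠ 1 → P x ∈ AltSix.invs := fun x hx hx1 =>
    AltSix.invs_ok _ (by rw [← map_mul, hx, map_one]) fun e => hx1 (hsep x 1 hx (one_mul 1) (eA.injective (by
      rw [map_one, map_one]; exact e)))
  have hcm : ∀ x w : H, x * w = w * x → AltSix.cm (P x) (P w) = true := fun x w h => by
    rw [AltSix.cm, ← hPmul, ← hPmul, h]; exact Nat.beq_refl _
  have hncm : ∀ x w : H, x * x = 1 → w * w = 1 → (x : G) * w ≠ (w : G) * x → AltSix.cm (P x) (P w) = false := by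
    intro x w hx hw hne
    rw [← Bool.not_eq_true]
    intro h
    rw [AltSix.cm, ← hPmul, ← hPmul] at h
    have h' := hPinj _ _ (Nat.eq_of_beq_eq_true h)
    rw [map_mul, map_mul] at h'
    exact hne (congrArg Subtype.val (hcomm_lift x w hw h'))
  let mu : H := ⟨ρ 1, memH _ cu⟩
  let my : H := ⟨y, memH _ cy⟩
  let mx : H := ⟨x3 ρ s, memH _ cx3⟩
  let mv : H := ⟨ρ 18, memH _ (hci 18 a18)⟩
  let mR : H := ⟨R0, memH _ kR0⟩
  have hmu2 : mu * mu = 1 := Subtype.ext (by show ρ 1 * ρ 1 = 1; rw [← F.mul_eq, m11, F.zero])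
  have hmy2 : my * my = 1 := Subtype.ext (by
    show s * ρ 2 * s⁻¹ * (s * ρ 2 * s⁻¹) = 1
    rw [show s * ρ 2 * s⁻¹ * (s * ρ 2 * s⁻¹) = s * (ρ 2 * ρ 2) * s⁻¹ by group, h22, mul_one, mul_inv_cancel])
  have hmx2' : x3 ρ s * x3 ρ s = 1 := by
    rw [hx3, show gx * ρ 2 * gx⁻¹ * (gx * ρ 2 * gx⁻¹) = gx * (ρ 2 * ρ 2) * gx⁻¹ by group, h22, mul_one, mul_inv_cancel]
  have hmx2 : mx * mx = 1 := Subtype.ext hmx2'
  have hmv2 : mv * mv = 1 := Subtype.ext (by show ρ 18 * ρ 18 = 1; rw [← F.mul_eq, m1818, F.zero])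
  have hne : ∀ x : H, (x : G) ≠ 1 → x ≠ 1 := fun x h e => h (congrArg Subtype.val e)
  have hρ1 : ∀ n, n < 1920 → n ≠ 0 → ρ n ≠ 1 := fun n hn h0 e => h0 (F.inj n hn e)
  have n2 : ρ 2 ≠ 1 := hρ1 2 (by norm_num) (by norm_num)
  have hz1 : z ≠ 1 := fun e => by rw [e, orderOf_one] at hz; omega
  have hδk : ρ 384 * γ * ρ 102 * (ρ 384 * γ)⁻¹ = z := by
    rw [show ρ 384 * γ * ρ 102 * (ρ 384 * γ)⁻¹ = ρ 384 * (γ * ρ 102 * γ⁻¹) * (ρ 384)⁻¹ by group, hγk, C.zcomm,
      mul_inv_cancel_right]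
  have hδ266 : ρ 384 * γ * ρ 266 * (ρ 384 * γ)⁻¹ = ρ 18 := by
    rw [show ρ 384 * γ * ρ 266 * (ρ 384 * γ)⁻¹ = ρ 384 * (γ * ρ 266 * γ⁻¹) * (ρ 384)⁻¹ by group, hγ266, ← C.cj_eq, e17]
  have hδ381 : ρ 384 * γ * ρ 381 * (ρ 384 * γ)⁻¹ = z * ρ 18 := by
    rw [show ρ 384 * γ * ρ 381 * (ρ 384 * γ)⁻¹ = ρ 384 * (γ * ρ 381 * γ⁻¹) * (ρ 384)⁻¹ by group, hγ381, ← C.cj_eq, e1,
      ← hzc, ← F.mul_eq, m1618]
  set δ := ρ 384 * γ with hδ
  have hR2 : mR * mR = 1 := Subtype.ext (by
    show δ * r * δ⁻¹ * (δ * r * δ⁻¹) = 1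
    rw [show δ * r * δ⁻¹ * (δ * r * δ⁻¹) = δ * (r * r) * δ⁻¹ by group, hr2, mul_one, mul_inv_cancel])
  have hpow : ∀ (A : H) (g : G) (n : ℕ), (A : G) = δ * g * δ⁻¹ → g ^ n = 1 →
      Nat.beq (AltSix.pw (P A) n) AltSix.one = true := by
    intro A g n hA hg
    have : A ^ n = 1 := Subtype.ext (by rw [SubmonoidClass.coe_pow, hA, conj_pow, hg, mul_one, mul_inv_cancel]; rfl)
    simp only [P]
    rw [← AltSix.pc_pow, ← SubmonoidClass.coe_pow, ← map_pow, this, map_one, Subgroup.coe_one, AltSix.pc_one]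
    exact Nat.beq_refl _
  have hw2' : (ρ 102 * r) ^ 3 = 1 := by
    have e := X.neOk_sound w2
    simp only [wval, List.map_cons, List.map_nil, List.prod_cons, List.prod_nil, mul_one, lval_R,
      lval_code (show Nat.blt 102 1920 = true by decide +kernel)] at e
    simp only [pow_succ, pow_zero, one_mul, mul_assoc]
    exact e
  have hw4' : (ρ 381 * r) ^ 5 = 1 := by
    have e := X.neOk_sound w4
    simp only [wval, List.map_cons, List.map_nil, List.prod_cons, List.prod_nil, mul_one, lval_R,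
      lval_code (show Nat.blt 381 1920 = true by decide +kernel)] at e
    simp only [pow_succ, pow_zero, one_mul, mul_assoc]
    exact e
  have p1 := hpow (mz * mR) (ρ 102 * r) 3 (by
    show z * (δ * r * δ⁻¹) = δ * (ρ 102 * r) * δ⁻¹
    rw [← hδk]; group) hw2'
  have p2 := hpow (mv * mR) (ρ 266 * r) 5 (by
    show ρ 18 * (δ * r * δ⁻¹) = δ * (ρ 266 * r) * δ⁻¹
    rw [← hδ266]; group) hw3
  have p3 := hpow (mz * mv * mR) (ρ 381 * r) 5 (by
    show z * ρ 18 * (δ * r * δ⁻¹) = δ * (ρ 381 * r) * δ⁻¹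
    rw [← hδ381]; group) hw4'
  rw [hPmul] at p1 p2
  rw [hPmul, hPmul] at p3
  have hRin : P mR ∈ AltSix.one :: AltSix.invs := by
    by_cases h1 : mR = 1
    · rw [h1, hP1]; exact List.mem_cons_self
    · exact List.mem_cons_of_mem _ (hPinv _ hR2 h1)
  have nzy : (mz : G) * my ≠ (my : G) * mz := fun h => n217 (C.of_comm (by
    change z * y = y * z at h
    have hs : s⁻¹ * z * s = ρ 17 := by
      have := conj_s F (show inCU 17 = true by decide +kernel)
      rw [show phi 17 = 16 by decide +kernel, hzc] at this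
      rw [← this]; group
    calc ρ 2 * ρ 17 = s⁻¹ * (y * z) * s := by rw [hy, ← hs]; group
      _ = s⁻¹ * (z * y) * s := by rw [h]
      _ = ρ 17 * ρ 2 := by rw [hy, ← hs]; group))
  have hgu : gx⁻¹ * ρ 1 * gx = ρ 17 := by
    have h1 : s⁻¹ * ρ 1 * s = z := by
      have := conj_s F (show inCU 16 = true by decide +kernel)
      rw [show phi 16 = 1 by decide +kernel, hzc] at this
      rw [← this]; group
    have h2 : s⁻¹ * z * s = ρ 17 := by
      have := conj_s F (show inCU 17 = true by decide +kernel)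
      rw [show phi 17 = 16 by decide +kernel, hzc] at this
      rw [← this]; group
    rw [hgx, show (s * ρ 384 * s)⁻¹ * ρ 1 * (s * ρ 384 * s) = s⁻¹ * ((ρ 384)⁻¹ * (s⁻¹ * ρ 1 * s) * ρ 384) * s by group,
      h1, show (ρ 384)⁻¹ * z * ρ 384 = (ρ 384)⁻¹ * (z * ρ 384) by group, ← C.zcomm, inv_mul_cancel_left, h2]
  have nux : (mu : G) * mx ≠ (mx : G) * mu := fun h => n217 (C.of_comm (by
    change ρ 1 * x3 ρ s = x3 ρ s * ρ 1 at h
    calc ρ 2 * ρ 17 = gx⁻¹ * (x3 ρ s * ρ 1) * gx := by rw [hx3, ← hgu]; group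
      _ = gx⁻¹ * (ρ 1 * x3 ρ s) * gx := by rw [h]
      _ = ρ 17 * ρ 2 := by rw [hx3, ← hgu]; group))
  have nuv : (mu : G) * mv ≠ (mv : G) * mu := fun h => n118 (C.of_comm h)
  have nyz : mx ≠ my := fun h => by
    have h' : x3 ρ s = y := congrArg Subtype.val h
    rw [hx3, ← hgxz, mul_left_inj, mul_right_inj, ← hzc] at h'
    exact absurd (C.inj' (by norm_num) (by norm_num) h') (by norm_num)
  have nuz : mu ≠ mz := fun h =>
    absurd (C.inj' (by norm_num) (by norm_num) ((congrArg Subtype.val h : ρ 1 = z).trans hzc.symm)) (by norm_num)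
  have hck := AltSix.check_eq
  simp only [AltSix.check, List.all_eq_true, Bool.or_eq_true, Bool.not_eq_true', List.any_eq_true] at hck
  have hck1 := ((hck (P mz) (hPinv _ hmz2 (hne _ hz1)) (P mv)
    (hPinv _ hmv2 (hne _ (hρ1 18 (by norm_num) (by norm_num))))).resolve_left
    (by rw [hcm mz mv (Subtype.ext (C.zcomm 18).symm)]; simp) (P mR) hRin).resolve_left
    (by rw [p1, p2, p3]; simp) (P mu) (hPinv _ hmu2 (hne _ (hρ1 1 (by norm_num) (by norm_num))))
  have hyz : AltSix.cm (P mu) (P my) = true := hcm mu my (Subtype.ext (by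
    show ρ 1 * y = y * ρ 1
    have hsz : s * z * s⁻¹ = ρ 1 := by rw [← hzc, conj_s F (by decide +kernel), show phi 16 = 1 by decide +kernel]
    rw [← hsz, hy, show s * z * s⁻¹ * (s * ρ 2 * s⁻¹) = s * (z * ρ 2) * s⁻¹ by group, ← C.zcomm]
    group))
  have hxy : AltSix.cm (P my) (P mx) = true := hcm my mx (Subtype.ext (by
    show y * x3 ρ s = x3 ρ s * y
    rw [hx3, ← hgxz, show gx * z * gx⁻¹ * (gx * ρ 2 * gx⁻¹) = gx * (z * ρ 2) * gx⁻¹ by group, ← C.zcomm]
    group))
  have hPne : ∀ x w : H, x * x = 1 → w * w = 1 → x ≠ w → Nat.beq (P x) (P w) = false := fun x w hx hw hxw => by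
    rw [← Bool.not_eq_true]
    exact fun h => hxw (hsep x w hx hw (hPinj _ _ (Nat.eq_of_beq_eq_true h)))
  have hck2 := (hck1.resolve_left
    (by rw [hcm mz mu (Subtype.ext (C.zcomm 1).symm), hncm mu mv hmu2 hmv2 nuv, hPne mz mu hmz2 hmu2 nuz.symm]; simp)
    (P my) (hPinv _ hmy2 (hne _ (fun e => n2 (conj_eq_one_iff.1 e))))).resolve_left
    (by rw [hyz, hncm mz my hmz2 hmy2 nzy]; simp) (P mx) (hPinv _ hmx2 (hne _ (fun e => n2 (conj_eq_one_iff.1 e))))
  obtain ⟨m, hm, hme⟩ := hck2.resolve_left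
    (by rw [hxy, hncm mu mx hmu2 hmx2 nux, hPne mx my hmx2 hmy2 nyz]; simp)
  have hme' : m = P (mz * mx) := by rw [hPmul]; exact Nat.eq_of_beq_eq_true hme
  -- lift a relation
  have hlift : ∀ L : H, mz * L * mz = L⁻¹ → P (mz * mx) = P L → z * x3 ρ s = (L : G) := by
    intro L hL hp
    have hm := hPinj _ _ hp
    have hmem : (mz * mx)⁻¹ * L ∈ N := QuotientGroup.eq.1 hm
    set t := (mz * mx)⁻¹ * L with ht
    have hL' : L = mz * mx * t := by rw [ht, mul_inv_cancel_left]
    have htc : ∀ h : H, Commute h t := fun h => by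
      rcases hNmem _ hmem with e | e | e <;> rw [e]
      exacts [Commute.one_right h, haH h, (haH h).mul_right (haH h)]
    have hone' : t * t = 1 := by
      have h1 : mz * L * mz * L = 1 := by rw [hL, inv_mul_cancel]
      rw [hL'] at h1
      calc t * t = mz * (mz * mx * t) * mz * (mz * mx * t) := by
            symm
            calc mz * (mz * mx * t) * mz * (mz * mx * t) = mz * mz * mx * (t * mz) * mz * mx * t := by group
              _ = mz * mz * mx * (mz * t) * mz * mx * t := by rw [(htc mz).eq]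
              _ = mz * mz * mx * mz * (t * (mz * mx)) * t := by group
              _ = mz * mz * mx * mz * (mz * mx * t) * t := by rw [← (htc (mz * mx)).eq]
              _ = mz * mz * (mx * (mz * mz) * mx) * (t * t) := by group
              _ = t * t := by rw [hmz2, mul_one, hmx2, one_mul, one_mul]
        _ = 1 := h1
    have ht1 : t = 1 := hsep t 1 hone' (one_mul 1) (by rw [map_one]; exact (hπ1 t).2 hmem)
    rw [hL', ht1, mul_one]
    rfl
  let L0 : H := mz * mR
  let L1 : H := mR * mz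
  let L2 : H := mv * mR * (mz * mv)
  let L3 : H := mz * mv * mR * mv
  have hzv : mz * mv = mv * mz := Subtype.ext (C.zcomm 18).symm
  have hzu : mz * mu = mu * mz := Subtype.ext (C.zcomm 1).symm
  have hinv : ∀ L ∈ [L0, L1, L2, L3], mz * L * mz = L⁻¹ := by
    intro L hL
    simp only [List.mem_cons, List.not_mem_nil, or_false] at hL
    have iz : mz⁻¹ = mz := inv_eq_of_mul_eq_one_right hmz2
    have iv : mv⁻¹ = mv := inv_eq_of_mul_eq_one_right hmv2
    have iR : mR⁻¹ = mR := inv_eq_of_mul_eq_one_right hR2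
    have zz' : ∀ x, mz * (mz * x) = x := fun x => by rw [← mul_assoc, hmz2, one_mul]
    have vv' : ∀ x, mv * (mv * x) = x := fun x => by rw [← mul_assoc, hmv2, one_mul]
    have zv' : ∀ x, mv * (mz * x) = mz * (mv * x) := fun x => by rw [← mul_assoc, ← hzv, mul_assoc]
    rcases hL with rfl | rfl | rfl | rfl <;>
      simp only [L0, L1, L2, L3, mul_inv_rev, iz, iv, iR, mul_assoc, zz', vv', zv', hmz2, hmv2, mul_one, ← hzv]
  have hll : ∀ (L : H), L ∈ [L0, L1, L2, L3] → ∃ l ∈ ll ρ r, (L : G) = δ * l * δ⁻¹ := by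
    intro L hL
    simp only [List.mem_cons, List.not_mem_nil, or_false] at hL
    rcases hL with rfl | rfl | rfl | rfl
    · refine ⟨ρ 102 * r, by simp [ll], ?_⟩
      show z * (δ * r * δ⁻¹) = _
      rw [← hδk]; group
    · refine ⟨r * ρ 102, by simp [ll], ?_⟩
      show δ * r * δ⁻¹ * z = _
      rw [← hδk]; group
    · refine ⟨ρ 266 * r * ρ 381, by simp [ll], ?_⟩
      show ρ 18 * (δ * r * δ⁻¹) * (z * ρ 18) = _
      rw [← hδ381, ← hδ266]; group
    · refine ⟨ρ 381 * r * ρ 266, by simp [ll], ?_⟩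
      show z * ρ 18 * (δ * r * δ⁻¹) * ρ 18 = _
      rw [← hδ381, ← hδ266]; group
  have h385 : ρ 385 = ρ 1 * ρ 384 := by rw [← F.mul_eq, m385]
  simp only [AltSix.eight, ← hPmul, List.map_cons, List.map_nil, List.cons_append, List.nil_append] at hm
  have hcases : (∃ L ∈ [L0, L1, L2, L3], m = P L) ∨ ∃ L ∈ [L0, L1, L2, L3], m = P (mu * L * mu) := by
    simp only [List.mem_cons, List.not_mem_nil, or_false] at hm ⊢
    rcases hm with e | e | e | e | e | e | e | e
    exacts [Or.inl ⟨L0, by simp, e⟩, Or.inl ⟨L1, by simp, e⟩, Or.inl ⟨L2, by simp, e⟩, Or.inl ⟨L3, by simp, e⟩,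
      Or.inr ⟨L0, by simp, e⟩, Or.inr ⟨L1, by simp, e⟩, Or.inr ⟨L2, by simp, e⟩, Or.inr ⟨L3, by simp, e⟩]
  rcases hcases with ⟨L, hL, e⟩ | ⟨L, hL, e⟩
  · obtain ⟨l, hl, hle⟩ := hll L hL
    exact ⟨384, by simp, l, hl, (hlift L (hinv L hL) (hme'.symm.trans e)).trans hle⟩
  · obtain ⟨l, hl, hle⟩ := hll L hL
    refine ⟨385, by simp, l, hl, (hlift (mu * L * mu) ?_ (hme'.symm.trans e)).trans ?_⟩
    · rw [show mz * (mu * L * mu) * mz = (mz * mu) * L * (mu * mz) by group, ← hzu,
        show mz * mu * L * (mz * mu) = mz * mu * L * (mu * mz) by rw [hzu], hzu,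
        show mu * mz * L * (mu * mz) = mu * (mz * L * (mz * mu)) by rw [hzu]; group,
        show mz * L * (mz * mu) = mz * L * mz * mu by group, hinv L hL, mul_inv_rev, mul_inv_rev,
        inv_eq_of_mul_eq_one_right hmu2, ← mul_assoc]
    · show ρ 1 * (L : G) * ρ 1 = _
      rw [hle, h385]
      have h1i : (ρ 1)⁻¹ = ρ 1 := inv_eq_of_mul_eq_one_right (by rw [← F.mul_eq, m11, F.zero])
      rw [hδ]
      conv_lhs => arg 2; rw [← h1i]
      group

end Cfsg.Agent.J3Glue
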