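import Mathlib
import Cfsg.Agent.Lib.J3Glue.EChecks

/-!
A checker for deductions on the points of an action of a group containing the group of order 1920, the
element `s` of order three and the involution `r`. A term `(x, i)` is the image of the point `i` under
the code `x`.
-/

set_option autoImplicit false
set_option maxRecDepth 100000

namespace Cfsg.Agent.J3Glue

open J2Uniq (mul inv inCU phi phinv)

/-- A code, `s`, its inverse, or `r`. -/
inductive Ltr where
  | code (g : ℕ)
  | s
  | si
  | r

/-- The inverse letter. -/
def Ltr.flip : Ltr → Ltr
  | .code g => .code (inv g)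
  | .s => .si
  | .si => .s
  | .r => .r

/-- The inverse word. -/
def flipW (L : List Ltr) : List Ltr := (L.map Ltr.flip).reverse

/-- The numbers of a letter, for the test of trivial words. -/
def Ltr.toNums : Ltr → List ℕ
  | .code g => [g]
  | .s => [lS]
  | .si => [lS, lS]
  | .r => [lR]

/-- The test for trivial words, the first letter acting first. -/
def neOkW (L : List Ltr) : Bool :=
  (L.all fun l => match l with | .code g => Nat.blt g 1920 | _ => true) && neOk (L.reverse.flatMap Ltr.toNums)

/-- Kind `0`: the two terms are equal; kind `1`: `s` maps the first to the second; kind `2`: `r` does. -/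
structure Eqn where
  kind : ℕ
  a : ℕ
  i : ℕ
  b : ℕ
  j : ℕ

/-- The trivial equation. -/
def Eqn.triv : Eqn := ⟨0, 0, 0, 0, 0⟩

/-- A store of equations. -/
inductive Store where
  | leaf
  | node (f : Eqn) (l r : Store)

/-- Look up. -/
def Store.get : Store → ℕ → Eqn
  | .leaf, _ => .triv
  | .node f l r, k =>
    if Nat.beq k 0 then f else if Nat.beq ((k - 1) % 2) 0 then l.get ((k - 1) / 2) else r.get ((k - 1) / 2)

/-- The parts of a store. -/
def Store.parts : Store → Eqn × Store × Store
  | .leaf => (.triv, .leaf, .leaf)
  | .node f l r => (f, l, r)

/-- Insert, with fuel. -/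
def Store.put : ℕ → Store → ℕ → Eqn → Store
  | 0, t, _, _ => t
  | fuel + 1, t, k, g =>
    if Nat.beq k 0 then .node g t.parts.2.1 t.parts.2.2
    else if Nat.beq ((k - 1) % 2) 0 then .node t.parts.1 (Store.put fuel t.parts.2.1 ((k - 1) / 2) g) t.parts.2.2
    else .node t.parts.1 t.parts.2.1 (Store.put fuel t.parts.2.2 ((k - 1) / 2) g)

/-- A move: apply a code letter, rewrite by an equation, follow an edge, or rename the base point. -/
inductive Mv where
  | code
  | eqn (k : ℕ) (back : Bool)
  | edge (k : ℕ) (back : Bool)
  | base (y : ℕ)

/-- Rewriting by an equation. -/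
def eqMove (f : Eqn) (back : Bool) (x i : ℕ) : Option (ℕ × ℕ) :=
  if !Nat.beq f.kind 0 then none
  else if back then (if Nat.beq f.j i then some (mul (mul x (inv f.b)) f.a, f.i) else none)
  else (if Nat.beq f.i i then some (mul (mul x (inv f.a)) f.b, f.j) else none)

/-- Applying `s` by an edge. -/
def sMove (f : Eqn) (x i : ℕ) : Option (ℕ × ℕ) :=
  if Nat.beq f.kind 1 && Nat.beq f.i i && inCU (mul x (inv f.a)) then some (mul (phi (mul x (inv f.a))) f.b, f.j)
  else none

/-- Applying the inverse of `s` by an edge. -/
def siMove (f : Eqn) (x i : ℕ) : Option (ℕ × ℕ) :=
  if Nat.beq f.kind 1 && Nat.beq f.j i && inCU (mul x (inv f.b)) then some (mul (phinv (mul x (inv f.b))) f.a, f.i)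
  else none

/-- Applying `r` by an edge. -/
def rMove (f : Eqn) (back : Bool) (x i : ℕ) : Option (ℕ × ℕ) :=
  if !Nat.beq f.kind 2 then none
  else if back then
    (if Nat.beq f.j i && inE (mul x (inv f.b)) then some (mul (actA (mul x (inv f.b))) f.a, f.i) else none)
  else (if Nat.beq f.i i && inE (mul x (inv f.a)) then some (mul (actA (mul x (inv f.a))) f.b, f.j) else none)

/-- Following a word by moves. -/
def follow (F : Store) : List Mv → List Ltr → ℕ → ℕ → Option (ℕ × ℕ)
  | [], [], x, i => some (x, i)
  | [], _ :: _, _, _ => none
  | .code :: ms, .code g :: L, x, i => follow F ms L (mul g x) i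
  | .base y :: ms, L, _, i => if Nat.beq i 0 then follow F ms L y i else none
  | .eqn k back :: ms, L, x, i =>
    match eqMove (F.get k) back x i with
    | none => none
    | some p => follow F ms L p.1 p.2
  | .edge k _ :: ms, .s :: L, x, i =>
    match sMove (F.get k) x i with
    | none => none
    | some p => follow F ms L p.1 p.2
  | .edge k _ :: ms, .si :: L, x, i =>
    match siMove (F.get k) x i with
    | none => none
    | some p => follow F ms L p.1 p.2
  | .edge k back :: ms, .r :: L, x, i =>
    match rMove (F.get k) back x i with
    | none => none
    | some p => follow F ms L p.1 p.2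
  | _ :: _, _, _, _ => none

/-- A deduction. -/
structure Step where
  x : ℕ
  i : ℕ
  rel : ℕ
  pos : ℕ
  gap : Bool
  fwd : List Mv
  bwd : List Mv

/-- One deduction; `rels` are the words acting trivially, `n` the number of nodes. -/
def deduce (rels : List (List Ltr)) (n : ℕ) (F : Store) (c : Step) : Option Eqn :=
  if !decide (c.i < n) then none else
    let L := rels.getD c.rel []
    match follow F c.fwd (L.take c.pos) c.x c.i with
    | none => none
    | some A =>
      if c.gap then
        match follow F c.bwd (flipW (L.drop (c.pos + 1))) c.x c.i with
        | none => none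
        | some B =>
          match L.drop c.pos with
          | .s :: _ => some ⟨1, A.1, A.2, B.1, B.2⟩
          | .si :: _ => some ⟨1, B.1, B.2, A.1, A.2⟩
          | .r :: _ => some ⟨2, A.1, A.2, B.1, B.2⟩
          | _ => none
      else
        match follow F c.bwd (flipW (L.drop c.pos)) c.x c.i with
        | none => none
        | some B => some ⟨0, A.1, A.2, B.1, B.2⟩

/-- All deductions; `k` is the number of the next equation. -/
def deduceAll (rels : List (List Ltr)) (n : ℕ) : List Step → ℕ → Store → Option Store
  | [], _, F => some F
  | c :: cs, k, F =>
    match deduce rels n F c with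
    | none => none
    | some f => deduceAll rels n cs (k + 1) (Store.put 32 F k f)

/-- The definition of a node: the image of a term of an earlier node under `s` (`0`), its inverse (`1`) or `r` (`2`). -/
structure NDef where
  ty : ℕ
  x : ℕ
  i : ℕ

/-- The equations defining the nodes. -/
def defStore : List NDef → ℕ → Store → Option Store
  | [], _, F => some F
  | d :: ds, n, F =>
    if decide (d.i < n) then
      defStore ds (n + 1) (Store.put 32 F (n - 1)
        (if Nat.beq d.ty 1 then ⟨1, 0, n, d.x, d.i⟩
        else if Nat.beq d.ty 0 then ⟨1, d.x, d.i, 0, n⟩ else ⟨2, d.x, d.i, 0, n⟩))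
    else none

/-- A certificate. -/
structure Proto where
  defs : List NDef
  steps : List Step

/-- The store of a certificate for a list of relations. -/
def Proto.store (rels : List (List Ltr)) (c : Proto) : Option Store :=
  match defStore c.defs 1 .leaf with
  | none => none
  | some D => deduceAll rels (c.defs.length + 1) c.steps c.defs.length D

/-- The certificate shows that `s` fixes the base point. -/
def Proto.collapse (rels : List (List Ltr)) (c : Proto) (ms : List Mv) : Bool :=
  match c.store rels with
  | none => false
  | some F =>
    match follow F ms [.s] 0 0 with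
    | none => false
    | some w => Nat.beq w.2 0

/-- Strictly increasing. -/
def incr : List ℕ → Bool
  | [] => true
  | [_] => true
  | a :: b :: l => Nat.blt a b && incr (b :: l)

/-- A live node: its number, elements of its stabilizer, and the ten images under `s`. -/
structure Row where
  node : ℕ
  stab : List (ℕ × List Mv)
  images : List (List Mv)

/-- The checks on one row; `T` are coset representatives, `live` the live nodes. -/
def Row.ok (F : Store) (T live : List ℕ) (R : Row) : Bool :=
  Nat.blt 0 R.stab.length && incr (R.stab.map Prod.fst) &&
  (R.stab.all fun p => Nat.blt p.1 1920 &&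
    match follow F p.2 [] p.1 R.node with
    | none => false
    | some w => Nat.beq w.1 0 && Nat.beq w.2 R.node) &&
  Nat.beq R.images.length T.length && (List.range T.length).all fun k =>
    match follow F (R.images.getD k []) [.s] (T.getD k 0) R.node with
    | none => false
    | some w => live.any fun j => Nat.beq j w.2

/-- The certificate closes the enumeration with at most `N` points, `r` agreeing with a word in codes and `s` on
the base point. -/
def Proto.table (rels : List (List Ltr)) (c : Proto) (T : List ℕ) (rows : List Row) (rw_ : List Ltr)
    (mr mw : List Mv) (N : ℕ) : Bool :=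
  match c.store rels with
  | none => false
  | some F =>
    let live := rows.map Row.node
    (live.any fun j => Nat.beq j 0) && rows.all (Row.ok F T live) &&
    Nat.ble ((rows.map fun R => 1920 / R.stab.length).sum) N &&
    (rw_.all fun l => match l with
      | .code _ => true
      | .s => true
      | _ => false) &&
    match follow F mr [.r] 0 0, follow F mw rw_ 0 0 with
    | some a, some b => Nat.beq a.1 b.1 && Nat.beq a.2 b.2
    | _, _ => false

end Cfsg.Agent.J3Glue
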