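import Mathlib
import Cfsg.Agent.Lib.J3Glue.Cert
import Cfsg.Agent.Lib.J3Glue.EGroup

/-!
Soundness of the checker.
-/

set_option autoImplicit false
set_option linter.all false
set_option maxRecDepth 100000

namespace Cfsg.Agent.J3Glue

open Subgroup hiding inv
open J2Uniq (mul inv inCU phi phinv ec cc inv_ok qp pp cu_ok inCU_mod mul_lt)

universe v

variable {W : Type v} [Group W]

/-- The value of a letter. -/
def ltrG (ρ : ℕ → W) (s r : W) : Ltr → W
  | .code g => ρ g
  | .s => s
  | .si => s⁻¹
  | .r => r

/-- The value of a word, whose first letter acts first. -/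
def wG (ρ : ℕ → W) (s r : W) : List Ltr → W
  | [] => 1
  | l :: L => wG ρ s r L * ltrG ρ s r l

/-- The equations used by the checker. -/
structure Sys (ρ : ℕ → W) (s r : W) : Prop where
  mul_eq : ∀ a b, ρ (mul a b) = ρ a * ρ b
  zero : ρ 0 = 1
  mod_eq : ∀ a, ρ (a % 1920) = ρ a
  s3 : s * s * s = 1
  twist : ρ ec * s * ρ ec * s = ρ cc
  r2 : r * r = 1
  sconj : ∀ y, inCU y = true → s * ρ y = ρ (phi y) * s
  rconj : ∀ e ∈ ClassData.four, r * ρ e = ρ (actA e) * r

theorem wG_append (ρ : ℕ → W) (s r : W) : ∀ L M : List Ltr, wG ρ s r (L ++ M) = wG ρ s r M * wG ρ s r L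
  | [], M => by simp [wG]
  | l :: L, M => by rw [List.cons_append, wG, wG_append ρ s r L M, wG, mul_assoc]

namespace Sys

variable {ρ : ℕ → W} {s r : W} (F : Sys ρ s r)

include F

theorem inv_eq (a : ℕ) : ρ (inv a) = (ρ a)⁻¹ := by
  have h : inv a = inv (a % 1920) := by
    unfold J2Uniq.inv
    rw [show qp (a % 1920) = qp a by unfold J2Uniq.qp; omega, show pp (a % 1920) = pp a by unfold J2Uniq.pp; omega]
  rw [h, ← F.mod_eq a]
  exact (inv_eq_of_mul_eq_one_right (by rw [← F.mul_eq, inv_ok _ (Nat.mod_lt a (by norm_num)), F.zero])).symm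

/-- The image of the codes. -/
def codes : Subgroup W where
  carrier := Set.range ρ
  mul_mem' := by rintro _ _ ⟨a, rfl⟩ ⟨b, rfl⟩; exact ⟨mul a b, F.mul_eq a b⟩
  one_mem' := ⟨0, F.zero⟩
  inv_mem' := by rintro _ ⟨a, rfl⟩; exact ⟨inv a, F.inv_eq a⟩

theorem sconj_inv {y : ℕ} (hy : inCU y = true) : s⁻¹ * ρ y = ρ (phinv y) * s⁻¹ := by
  rw [← inCU_mod] at hy
  obtain ⟨-, -, -, h1, h2, -⟩ := cu_ok _ (Nat.mod_lt y (by norm_num)) hy
  have e := F.sconj _ h1
  rw [h2, F.mod_eq, show phinv (y % 1920) = phinv y by unfold J2Uniq.phinv; rw [Nat.mod_mod]] at e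
  rw [inv_mul_eq_iff_eq_mul, ← mul_assoc, e, mul_inv_cancel_right]

theorem flip_eq : ∀ l : Ltr, ltrG ρ s r l.flip = (ltrG ρ s r l)⁻¹
  | .code g => F.inv_eq g
  | .s => rfl
  | .si => (inv_inv s).symm
  | .r => (inv_eq_of_mul_eq_one_right F.r2).symm

theorem flipW_eq : ∀ L : List Ltr, wG ρ s r (flipW L) = (wG ρ s r L)⁻¹
  | [] => by simp [flipW, wG]
  | l :: L => by
    rw [show flipW (l :: L) = flipW L ++ [l.flip] by simp [flipW], wG_append, flipW_eq L]
    simp only [wG, one_mul]
    rw [F.flip_eq, mul_inv_rev]

/-- The points. -/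
abbrev Pts := W ⧸ F.codes

/-- The point of a term. -/
def term (P : ℕ → F.Pts) (x i : ℕ) : F.Pts := ρ x • P i

/-- An equation holds. -/
def True_ (P : ℕ → F.Pts) (f : Eqn) : Prop :=
  (f.kind = 0 → F.term P f.a f.i = F.term P f.b f.j) ∧
  (f.kind = 1 → s • F.term P f.a f.i = F.term P f.b f.j) ∧
  (f.kind = 2 → r • F.term P f.a f.i = F.term P f.b f.j)

/-- All equations of a store hold. -/
def AllTrue (P : ℕ → F.Pts) : Store → Prop
  | .leaf => True
  | .node f l rt => F.True_ P f ∧ AllTrue P l ∧ AllTrue P rt

theorem triv_true (P : ℕ → F.Pts) : F.True_ P .triv :=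
  ⟨fun _ => rfl, fun h => absurd h (by decide), fun h => absurd h (by decide)⟩

theorem get_true (P : ℕ → F.Pts) : ∀ (T : Store), F.AllTrue P T → ∀ k, F.True_ P (T.get k)
  | .leaf, _, k => F.triv_true P
  | .node f l rt, ⟨hf, hl, hr⟩, k => by
    rw [Store.get]
    split
    · exact hf
    split
    · exact get_true P l hl _
    · exact get_true P rt hr _

theorem parts_true (P : ℕ → F.Pts) : ∀ (T : Store), F.AllTrue P T →
    F.True_ P T.parts.1 ∧ F.AllTrue P T.parts.2.1 ∧ F.AllTrue P T.parts.2.2
  | .leaf, _ => ⟨F.triv_true P, trivial, trivial⟩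
  | .node _ _ _, h => h

theorem put_true (P : ℕ → F.Pts) : ∀ (fuel : ℕ) (T : Store) (k : ℕ) (g : Eqn), F.AllTrue P T → F.True_ P g →
    F.AllTrue P (Store.put fuel T k g)
  | 0, _, _, _, h, _ => h
  | fuel + 1, T, k, g, h, hg => by
    obtain ⟨h1, h2, h3⟩ := F.parts_true P T h
    rw [Store.put]
    split
    · exact ⟨hg, h2, h3⟩
    split
    · exact ⟨h1, put_true P fuel _ _ g h2 hg, h3⟩
    · exact ⟨h1, h2, put_true P fuel _ _ g h3 hg⟩

theorem term_mul (P : ℕ → F.Pts) (x a i : ℕ) : F.term P (mul x a) i = ρ x • F.term P a i := by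
  rw [term, term, F.mul_eq, mul_smul]

theorem term_div (P : ℕ → F.Pts) (x a i : ℕ) : F.term P x i = ρ (mul x (inv a)) • F.term P a i := by
  rw [term, term, F.mul_eq, F.inv_eq, smul_smul, inv_mul_cancel_right]

theorem eqMove_sound (P : ℕ → F.Pts) {f : Eqn} (hf : F.True_ P f) {back : Bool} {x i : ℕ} {p : ℕ × ℕ}
    (h : eqMove f back x i = some p) : F.term P p.1 p.2 = F.term P x i := by
  unfold eqMove at h
  split at h
  · exact absurd h (by simp)
  rename_i hk
  have hf' := hf.1 (Nat.eq_of_beq_eq_true (by simpa using hk))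
  split at h
  · split at h
    · rename_i hij
      cases h
      rw [← Nat.eq_of_beq_eq_true hij, F.term_mul, hf', ← F.term_div]
    · exact absurd h (by simp)
  · split at h
    · rename_i hij
      cases h
      rw [← Nat.eq_of_beq_eq_true hij, F.term_mul, ← hf', ← F.term_div]
    · exact absurd h (by simp)

theorem sMove_sound (P : ℕ → F.Pts) {f : Eqn} (hf : F.True_ P f) {x i : ℕ} {p : ℕ × ℕ}
    (h : sMove f x i = some p) : F.term P p.1 p.2 = s • F.term P x i := by
  unfold sMove at h
  split at h
  · rename_i hc
    simp only [Bool.and_eq_true] at hc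
    obtain ⟨⟨he, hij⟩, hr⟩ := hc
    cases h
    rw [← Nat.eq_of_beq_eq_true hij, F.term_mul, ← hf.2.1 (Nat.eq_of_beq_eq_true he), F.term_div P x f.a, smul_smul,
      smul_smul, ← F.sconj _ hr]
  · exact absurd h (by simp)

theorem siMove_sound (P : ℕ → F.Pts) {f : Eqn} (hf : F.True_ P f) {x i : ℕ} {p : ℕ × ℕ}
    (h : siMove f x i = some p) : F.term P p.1 p.2 = s⁻¹ • F.term P x i := by
  unfold siMove at h
  split at h
  · rename_i hc
    simp only [Bool.and_eq_true] at hc
    obtain ⟨⟨he, hij⟩, hr⟩ := hc
    cases h
    rw [← Nat.eq_of_beq_eq_true hij, F.term_mul, F.term_div P x f.b, smul_smul, F.sconj_inv hr, mul_smul,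
      ← hf.2.1 (Nat.eq_of_beq_eq_true he), inv_smul_smul]
  · exact absurd h (by simp)

theorem rMove_sound (P : ℕ → F.Pts) {f : Eqn} (hf : F.True_ P f) {back : Bool} {x i : ℕ} {p : ℕ × ℕ}
    (h : rMove f back x i = some p) : F.term P p.1 p.2 = r • F.term P x i := by
  unfold rMove at h
  split at h
  · exact absurd h (by simp)
  rename_i hk
  have hf' := hf.2.2 (Nat.eq_of_beq_eq_true (by simpa using hk))
  split at h
  · split at h
    · rename_i hc
      simp only [Bool.and_eq_true] at hc
      cases h
      rw [← Nat.eq_of_beq_eq_true hc.1, F.term_mul, F.term_div P x f.b, smul_smul, F.rconj _ (inE_iff.1 hc.2),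
        mul_smul, ← hf', smul_smul r r, F.r2, one_smul]
    · exact absurd h (by simp)
  · split at h
    · rename_i hc
      simp only [Bool.and_eq_true] at hc
      cases h
      rw [← Nat.eq_of_beq_eq_true hc.1, F.term_mul, ← hf', F.term_div P x f.a, smul_smul, smul_smul,
        ← F.rconj _ (inE_iff.1 hc.2)]
    · exact absurd h (by simp)

theorem base_term {P : ℕ → F.Pts} (hP : P 0 = QuotientGroup.mk (1 : W)) (x : ℕ) :
    F.term P x 0 = QuotientGroup.mk (1 : W) := by
  rw [term, hP]
  show QuotientGroup.mk (ρ x * 1) = _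
  refine QuotientGroup.eq.2 ?_
  rw [mul_one, mul_one]
  exact inv_mem (show ρ x ∈ F.codes from ⟨x, rfl⟩)

theorem follow_sound {P : ℕ → F.Pts} (hP : P 0 = QuotientGroup.mk (1 : W)) {T : Store} (hT : F.AllTrue P T) :
    ∀ (ms : List Mv) (L : List Ltr) (x i : ℕ) {p : ℕ × ℕ}, follow T ms L x i = some p →
      F.term P p.1 p.2 = wG ρ s r L • F.term P x i := by
  intro ms
  induction ms with
  | nil =>
    intro L x i p h
    cases L with
    | nil => simp [follow] at h; subst h; simp [wG]
    | cons l L => simp [follow] at h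
  | cons m ms ih =>
    intro L x i p h
    cases m with
    | code =>
      cases L with
      | nil => simp [follow] at h
      | cons l L =>
        cases l with
        | code g =>
          simp only [follow] at h
          rw [ih L _ i h, F.term_mul, wG, mul_smul]
          rfl
        | s => simp [follow] at h
        | si => simp [follow] at h
        | r => simp [follow] at h
    | base y =>
      simp only [follow] at h
      split at h
      · rename_i hi
        rw [ih L y i h, Nat.eq_of_beq_eq_true hi, F.base_term hP, F.base_term hP]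
      · exact absurd h (by simp)
    | eqn k back =>
      simp only [follow] at h
      cases hq : eqMove (T.get k) back x i with
      | none => rw [hq] at h; simp at h
      | some q =>
        rw [hq] at h
        rw [ih L q.1 q.2 h, F.eqMove_sound P (F.get_true P T hT k) hq]
    | edge k back =>
      cases L with
      | nil => simp [follow] at h
      | cons l L =>
        cases l with
        | code g => simp [follow] at h
        | s =>
          simp only [follow] at h
          cases hq : sMove (T.get k) x i with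
          | none => rw [hq] at h; simp at h
          | some q =>
            rw [hq] at h
            rw [ih L q.1 q.2 h, F.sMove_sound P (F.get_true P T hT k) hq, wG, mul_smul]
            rfl
        | si =>
          simp only [follow] at h
          cases hq : siMove (T.get k) x i with
          | none => rw [hq] at h; simp at h
          | some q =>
            rw [hq] at h
            rw [ih L q.1 q.2 h, F.siMove_sound P (F.get_true P T hT k) hq, wG, mul_smul]
            rfl
        | r =>
          simp only [follow] at h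
          cases hq : rMove (T.get k) back x i with
          | none => rw [hq] at h; simp at h
          | some q =>
            rw [hq] at h
            rw [ih L q.1 q.2 h, F.rMove_sound P (F.get_true P T hT k) hq, wG, mul_smul]
            rfl

theorem deduce_sound {P : ℕ → F.Pts} (hP : P 0 = QuotientGroup.mk (1 : W)) {rels : List (List Ltr)}
    (hrels : ∀ L ∈ rels, wG ρ s r L = 1) {n : ℕ} {T : Store} (hT : F.AllTrue P T) {c : Step} {f : Eqn}
    (h : deduce rels n T c = some f) : F.True_ P f := by
  unfold deduce at h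
  split at h
  · simp at h
  have hL : wG ρ s r (rels.getD c.rel []) = 1 := by
    by_cases hk : c.rel < rels.length
    · rw [List.getD_eq_getElem _ _ hk]; exact hrels _ (List.getElem_mem _)
    · rw [List.getD_eq_default _ _ (by omega)]; rfl
  set L := rels.getD c.rel [] with hLdef
  clear_value L
  simp only at h
  cases hA : follow T c.fwd (L.take c.pos) c.x c.i with
  | none => rw [hA] at h; simp at h
  | some A =>
    rw [hA] at h
    have eA := F.follow_sound hP hT _ _ _ _ hA
    have hsplit : wG ρ s r (L.drop c.pos) * wG ρ s r (L.take c.pos) = 1 := by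
      rw [← wG_append, List.take_append_drop, hL]
    simp only at h
    split at h
    · cases hB : follow T c.bwd (flipW (L.drop (c.pos + 1))) c.x c.i with
      | none => rw [hB] at h; simp at h
      | some B =>
        rw [hB] at h
        have eB := F.follow_sound hP hT _ _ _ _ hB
        rw [F.flipW_eq] at eB
        simp only at h
        cases hD : L.drop c.pos with
        | nil => rw [hD] at h; simp at h
        | cons l rest =>
          have hrest : L.drop (c.pos + 1) = rest := by rw [← List.tail_drop, hD]; rfl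
          rw [hrest] at eB
          rw [hD, wG, mul_assoc] at hsplit
          have e1 : F.term P B.1 B.2 = ltrG ρ s r l • F.term P A.1 A.2 := by
            rw [eB, eA, smul_smul, inv_eq_of_mul_eq_one_right hsplit]
          rw [hD] at h
          cases l with
          | code g => simp at h
          | s =>
            simp only [Option.some.injEq] at h
            subst h
            exact ⟨fun h => absurd h (by simp), fun _ => e1.symm, fun h => absurd h (by simp)⟩
          | si =>
            simp only [Option.some.injEq] at h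
            subst h
            refine ⟨fun h => absurd h (by simp), fun _ => ?_, fun h => absurd h (by simp)⟩
            show s • F.term P B.1 B.2 = _
            rw [e1]
            exact smul_inv_smul s _
          | r =>
            simp only [Option.some.injEq] at h
            subst h
            exact ⟨fun h => absurd h (by simp), fun h => absurd h (by simp), fun _ => e1.symm⟩
    · cases hB : follow T c.bwd (flipW (L.drop c.pos)) c.x c.i with
      | none => rw [hB] at h; simp at h
      | some B =>
        rw [hB] at h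
        have eB := F.follow_sound hP hT _ _ _ _ hB
        rw [F.flipW_eq, inv_eq_of_mul_eq_one_right hsplit] at eB
        simp only [Option.some.injEq] at h
        subst h
        refine ⟨fun _ => ?_, fun h => absurd h (by simp), fun h => absurd h (by simp)⟩
        show F.term P A.1 A.2 = F.term P B.1 B.2
        rw [eA, eB]

theorem deduceAll_sound {P : ℕ → F.Pts} (hP : P 0 = QuotientGroup.mk (1 : W)) {rels : List (List Ltr)}
    (hrels : ∀ L ∈ rels, wG ρ s r L = 1) {n : ℕ} :
    ∀ (cs : List Step) (k : ℕ) (T : Store), F.AllTrue P T → ∀ {R : Store}, deduceAll rels n cs k T = some R →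
      F.AllTrue P R := by
  intro cs
  induction cs with
  | nil => intro k T hT R h; simp [deduceAll] at h; subst h; exact hT
  | cons c cs ih =>
    intro k T hT R h
    simp only [deduceAll] at h
    cases hd : deduce rels n T c with
    | none => rw [hd] at h; simp at h
    | some g =>
      rw [hd] at h
      exact ih _ _ (F.put_true P _ _ _ _ hT (F.deduce_sound hP hrels hT hd)) h

/-- The nodes of a list of definitions. -/
theorem defStore_sound : ∀ (ds : List NDef) (n : ℕ) (T : Store) (P : ℕ → F.Pts) {R : Store},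
    (∀ P' : ℕ → F.Pts, (∀ i < n, P' i = P i) → F.AllTrue P' T) → defStore ds n T = some R →
      ∃ P' : ℕ → F.Pts, (∀ i < n, P' i = P i) ∧ F.AllTrue P' R := by
  intro ds
  induction ds with
  | nil => intro n T P R hT h; simp [defStore] at h; subst h; exact ⟨P, fun _ _ => rfl, hT P fun _ _ => rfl⟩
  | cons d ds ih =>
    intro n T P R hT h
    simp only [defStore] at h
    split at h
    · rename_i hlt
      have hlt' : d.i < n := of_decide_eq_true hlt
      let v : F.Pts := (if d.ty = 1 then s⁻¹ else if d.ty = 0 then s else r) • F.term P d.x d.i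
      obtain ⟨P', hP', hR⟩ := ih (n + 1) _ (Function.update P n v) (fun P' hP' => by
        refine F.put_true P' _ _ _ _ (hT P' fun i hi => ?_) ?_
        · rw [hP' i (by omega), Function.update_of_ne (by omega)]
        have e1 : P' n = v := by rw [hP' n (by omega), Function.update_self]
        have ea : F.term P' d.x d.i = F.term P d.x d.i := by
          rw [term, term, hP' d.i (by omega), Function.update_of_ne (by omega)]
        have eb : F.term P' 0 n = v := by rw [term, e1, F.zero, one_smul]
        split
        · rename_i ht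
          refine ⟨fun h => absurd h (by simp), fun _ => ?_, fun h => absurd h (by simp)⟩
          show s • F.term P' 0 n = F.term P' d.x d.i
          rw [ea, eb]; simp [v, Nat.eq_of_beq_eq_true ht]
        split
        · rename_i ht
          refine ⟨fun h => absurd h (by simp), fun _ => ?_, fun h => absurd h (by simp)⟩
          show s • F.term P' d.x d.i = F.term P' 0 n
          rw [ea, eb]; simp [v, Nat.eq_of_beq_eq_true ht]
        · rename_i h1 h0
          refine ⟨fun h => absurd h (by simp), fun h => absurd h (by simp), fun _ => ?_⟩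
          show r • F.term P' d.x d.i = F.term P' 0 n
          have h1' : d.ty ≠ 1 := fun e => h1 (by rw [e]; rfl)
          have h0' : d.ty ≠ 0 := fun e => h0 (by rw [e]; rfl)
          rw [ea, eb]; simp [v, h1', h0']) h
      exact ⟨P', fun i hi => by rw [hP' i (by omega), Function.update_of_ne (by omega)], hR⟩
    · simp at h

theorem store_sound {rels : List (List Ltr)} (hrels : ∀ L ∈ rels, wG ρ s r L = 1) {c : Proto} {T : Store}
    (h : c.store rels = some T) : ∃ P : ℕ → F.Pts, P 0 = QuotientGroup.mk (1 : W) ∧ F.AllTrue P T := by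
  unfold Proto.store at h
  cases hD : defStore c.defs 1 .leaf with
  | none => rw [hD] at h; simp at h
  | some D =>
    rw [hD] at h
    obtain ⟨P, hP, hT⟩ := F.defStore_sound c.defs 1 .leaf (fun _ => QuotientGroup.mk (1 : W)) (fun _ _ => trivial) hD
    exact ⟨P, hP 0 Nat.one_pos, F.deduceAll_sound (hP 0 Nat.one_pos) hrels _ _ _ hT h⟩

/-- A collapsing certificate puts `s` among the codes. -/
theorem collapse_sound {rels : List (List Ltr)} (hrels : ∀ L ∈ rels, wG ρ s r L = 1) {c : Proto} {ms : List Mv}
    (h : c.collapse rels ms = true) : ∃ a, ρ a = s := by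
  unfold Proto.collapse at h
  split at h
  · exact absurd h (by simp)
  rename_i T hT
  split at h
  · exact absurd h (by simp)
  rename_i w hw
  obtain ⟨P, hP, hT'⟩ := F.store_sound hrels hT
  have e := F.follow_sound hP hT' _ _ _ _ hw
  rw [Nat.eq_of_beq_eq_true h, F.base_term hP, F.base_term hP, wG, wG, one_mul] at e
  have e' : (s⁻¹ : W) ∈ F.codes := by
    have := QuotientGroup.eq.1 e.symm
    simpa [ltrG] using this
  exact inv_mem_iff.1 e'

theorem incr_head : ∀ (l : List ℕ) (a : ℕ), incr (a :: l) = true → ∀ b ∈ l, a < b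
  | [], _, _, b, hb => absurd hb (List.not_mem_nil)
  | c :: l, a, h, b, hb => by
    simp only [incr, Bool.and_eq_true] at h
    have h1 : a < c := by simpa using h.1
    rcases List.mem_cons.1 hb with rfl | hb
    · exact h1
    · exact h1.trans (incr_head l c h.2 b hb)

theorem incr_nodup : ∀ l : List ℕ, incr l = true → l.Nodup
  | [], _ => List.nodup_nil
  | [a], _ => List.nodup_singleton a
  | a :: b :: l, h => by
    refine List.nodup_cons.2 ⟨fun hm => lt_irrefl a (incr_head F _ a h a hm), incr_nodup (b :: l) ?_⟩
    simp only [incr, Bool.and_eq_true] at h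
    exact h.2

/-- A closing certificate bounds the generated group. -/
theorem table_sound [Finite W] {rels : List (List Ltr)} (hrels : ∀ L ∈ rels, wG ρ s r L = 1) {c : Proto}
    {T : List ℕ} {rows : List Row} {w : List Ltr} {mr mw : List Mv} {N : ℕ}
    (hcancel : ∀ x a b, a < 1920 → b < 1920 → mul x a = mul x b → a = b)
    (hT : ∀ x < 1920, ∃ k < T.length, inCU (mul x (inv (T.getD k 0))) = true)
    (h : c.table rels T rows w mr mw N = true) :
    Nat.card (Subgroup.closure (Set.range ρ ∪ {s, r})) ≤ N * 1920 := by
  classical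
  unfold Proto.table at h
  split at h
  · exact absurd h (by simp)
  rename_i D hD
  obtain ⟨P, hP, hD'⟩ := F.store_sound hrels hD
  simp only [Bool.and_eq_true, List.any_eq_true, List.all_eq_true] at h
  obtain ⟨⟨⟨⟨⟨j0, hj0, hj00⟩, hrows⟩, hsum⟩, hw⟩, hwalk⟩ := h
  set live := rows.map Row.node
  let S : Set F.Pts := {p | ∃ i ∈ live, ∃ x, p = F.term P x i}
  have hP0 : P 0 = QuotientGroup.mk (1 : W) := hP
  have hbase : (QuotientGroup.mk (1 : W) : F.Pts) ∈ S :=
    ⟨0, Nat.eq_of_beq_eq_true hj00 ▸ hj0, 0, (F.base_term hP0 0).symm⟩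
  have hρS : ∀ a, ∀ p ∈ S, ρ a • p ∈ S := by
    rintro a p ⟨i, hi, x, rfl⟩
    exact ⟨i, hi, mul a x, (F.term_mul P a x i).symm⟩
  have hrow : ∀ R ∈ rows, (∀ p ∈ R.stab, p.1 < 1920 ∧ F.term P p.1 R.node = P R.node) ∧
      (R.stab.map Prod.fst).Nodup ∧ 0 < R.stab.length ∧
      ∀ k < T.length, ∃ q : ℕ × ℕ, q.2 ∈ live ∧ F.term P q.1 q.2 = s • F.term P (T.getD k 0) R.node := by
    intro R hR
    have h := hrows R hR
    simp only [Row.ok, Bool.and_eq_true, List.all_eq_true, List.mem_range] at h
    obtain ⟨⟨⟨⟨h0, hincr⟩, hst⟩, -⟩, him⟩ := h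
    refine ⟨fun p hp => ?_, incr_nodup F _ hincr, by simpa using h0, fun k hk => ?_⟩
    · obtain ⟨hlt, hm⟩ := hst p hp
      refine ⟨by simpa using hlt, ?_⟩
      split at hm
      · exact absurd hm (by simp)
      rename_i q hq
      simp only [Bool.and_eq_true] at hm
      have e := F.follow_sound hP0 hD' _ _ _ _ hq
      rw [Nat.eq_of_beq_eq_true hm.1, Nat.eq_of_beq_eq_true hm.2, wG, one_smul] at e
      rw [← e, term, F.zero, one_smul]
    · have hm := him k hk
      split at hm
      · exact absurd hm (by simp)
      rename_i q hq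
      rw [List.any_eq_true] at hm
      obtain ⟨j, hj, hjq⟩ := hm
      refine ⟨q, Nat.eq_of_beq_eq_true hjq ▸ hj, ?_⟩
      rw [F.follow_sound hP0 hD' _ _ _ _ hq, wG, wG, one_mul]
      rfl
  have hsS : ∀ p ∈ S, s • p ∈ S := by
    rintro p ⟨i, hi, x, rfl⟩
    obtain ⟨R, hR, rfl⟩ := List.mem_map.1 hi
    rw [show F.term P x R.node = F.term P (x % 1920) R.node by rw [term, term, F.mod_eq]]
    obtain ⟨k, hk, hc⟩ := hT (x % 1920) (Nat.mod_lt _ (by norm_num))
    obtain ⟨q, hq, hq'⟩ := (hrow R hR).2.2.2 k hk
    rw [F.term_div P _ (T.getD k 0), smul_smul, F.sconj _ hc, mul_smul, ← hq']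
    exact hρS _ _ ⟨q.2, hq, q.1, rfl⟩
  have hwS : ∀ L : List Ltr, (∀ l ∈ L, (match l with | .code _ => true | .s => true | _ => false) = true) →
      ∀ p ∈ S, wG ρ s r L • p ∈ S := by
    intro L
    induction L with
    | nil => intro _ p hp; rw [wG, one_smul]; exact hp
    | cons l L ih =>
      intro hl p hp
      rw [wG, mul_smul]
      refine ih (fun m hm => hl m (List.mem_cons_of_mem _ hm)) _ ?_
      have := hl l List.mem_cons_self
      cases l with
      | code g => exact hρS g p hp
      | s => exact hsS p hp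
      | si => simp at this
      | r => simp at this
  obtain ⟨c0, hc0⟩ : ∃ a, ρ a = (wG ρ s r w)⁻¹ * r := by
    split at hwalk
    · rename_i a b ha hb
      simp only [Bool.and_eq_true] at hwalk
      have e1 := F.follow_sound hP0 hD' _ _ _ _ ha
      have e2 := F.follow_sound hP0 hD' _ _ _ _ hb
      rw [Nat.eq_of_beq_eq_true hwalk.1, Nat.eq_of_beq_eq_true hwalk.2, e2, F.base_term hP0, wG, wG, one_mul] at e1
      have e3 : (QuotientGroup.mk (wG ρ s r w * 1) : F.Pts) = QuotientGroup.mk (r * 1) := e1
      rw [mul_one, mul_one] at e3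
      exact QuotientGroup.eq.1 e3
    · exact absurd hwalk (by simp)
  have hrS : ∀ p ∈ S, r • p ∈ S := by
    intro p hp
    have e : wG ρ s r w * ρ c0 = r := by rw [hc0, mul_inv_cancel_left]
    have h1 := hwS w hw _ (hρS c0 p hp)
    rw [smul_smul] at h1
    exact (congrArg (fun g : W => g • p) e) ▸ h1
  set H := Subgroup.closure (Set.range ρ ∪ {s, r})
  have hHS : ∀ g ∈ H, ∀ p ∈ S, g • p ∈ S := by
    intro g hg
    refine Subgroup.closure_induction (p := fun g _ => ∀ p ∈ S, g • p ∈ S) ?_ ?_ ?_ ?_ hg
    · rintro g (⟨a, rfl⟩ | rfl | rfl)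
      exacts [hρS a, hsS, hrS]
    · intro p hp; rw [one_smul]; exact hp
    · intro a b _ _ ha hb p hp; rw [mul_smul]; exact ha _ (hb p hp)
    · intro a _ ha p hp
      have hsub : (fun q => a • q) '' S ⊆ S := by rintro _ ⟨q, hq, rfl⟩; exact ha q hq
      have heq : (fun q => a • q) '' S = S := Set.eq_of_subset_of_ncard_le hsub
        (le_of_eq (Set.ncard_image_of_injective S (MulAction.injective a)).symm) (Set.toFinite S)
      obtain ⟨q, hq, hqp⟩ := heq.symm ▸ hp
      rw [← hqp, inv_smul_smul]
      exact hq
  -- the size of the orbit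
  haveI : Fintype F.Pts := Fintype.ofFinite _
  have hSN : S.ncard ≤ N := by
    have hcov : S.toFinset ⊆ rows.toFinset.biUnion fun R => (Finset.range 1920).image fun x => F.term P x R.node := by
      intro p hp
      obtain ⟨i, hi, x, rfl⟩ := Set.mem_toFinset.1 hp
      obtain ⟨R, hR, rfl⟩ := List.mem_map.1 hi
      refine Finset.mem_biUnion.2 ⟨R, List.mem_toFinset.2 hR, Finset.mem_image.2 ⟨x % 1920,
        Finset.mem_range.2 (Nat.mod_lt _ (by norm_num)), ?_⟩⟩
      rw [term, term, F.mod_eq]
    rw [Set.ncard_eq_toFinset_card']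
    refine (Finset.card_le_card hcov).trans (Finset.card_biUnion_le.trans ?_)
    refine le_trans ?_ (Nat.le_of_ble_eq_true hsum)
    refine (Finset.sum_le_sum (g := fun R : Row => 1920 / R.stab.length) fun R hR => ?_).trans ?_
    · obtain ⟨hst, hnd, hpos, -⟩ := hrow R (List.mem_toFinset.1 hR)
      rw [Nat.le_div_iff_mul_le hpos, mul_comm]
      refine (Finset.mul_card_image_le_card (f := fun x => F.term P x R.node) (s := Finset.range 1920) R.stab.length
        fun y hy => ?_).trans (le_of_eq (Finset.card_range _))
      obtain ⟨x, -, rfl⟩ := Finset.mem_image.1 hy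
      refine le_of_eq_of_le ?_ (Finset.card_le_card (s := (R.stab.map Prod.fst).toFinset.image (mul x)) ?_)
      · rw [Finset.card_image_of_injOn, List.toFinset_card_of_nodup hnd, List.length_map]
        intro a ha b hb hab
        simp only [Finset.mem_coe, List.mem_toFinset, List.mem_map] at ha hb
        obtain ⟨pa, hpa, rfl⟩ := ha
        obtain ⟨pb, hpb, rfl⟩ := hb
        exact hcancel x _ _ (hst pa hpa).1 (hst pb hpb).1 hab
      · intro q hq
        obtain ⟨a, ha, rfl⟩ := Finset.mem_image.1 hq
        obtain ⟨pa, hpa, rfl⟩ := List.mem_map.1 (List.mem_toFinset.1 ha)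
        refine Finset.mem_filter.2 ⟨Finset.mem_range.2 (mul_lt _ _), ?_⟩
        rw [F.term_mul, (hst pa hpa).2]
        rfl
    · exact ((List.dedup_sublist rows).map _).sum_le_sum fun _ _ => Nat.zero_le _
  have hquot : Nat.card (H ⧸ F.codes.subgroupOf H) ≤ N := by
    refine le_trans ?_ hSN
    rw [← Nat.card_coe_set_eq]
    refine Nat.card_le_card_of_injective (Quotient.lift (fun g : H => (⟨(g : W) • (QuotientGroup.mk (1 : W) : F.Pts),
      hHS g g.2 _ hbase⟩ : S)) ?_) ?_
    · intro a b hab
      refine Subtype.ext ?_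
      show (QuotientGroup.mk ((a : W) * 1) : F.Pts) = QuotientGroup.mk ((b : W) * 1)
      rw [mul_one, mul_one]
      exact QuotientGroup.eq.2 (QuotientGroup.leftRel_apply.1 hab : a⁻¹ * b ∈ F.codes.subgroupOf H)
    · intro a b
      induction a using QuotientGroup.induction_on with
      | H a =>
        induction b using QuotientGroup.induction_on with
        | H b =>
          intro e
          have e' : (QuotientGroup.mk ((a : W) * 1) : F.Pts) = QuotientGroup.mk ((b : W) * 1) := congrArg Subtype.val e
          rw [mul_one, mul_one] at e'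
          exact QuotientGroup.eq.2 (QuotientGroup.eq.1 e' : ((a : W))⁻¹ * b ∈ F.codes)
  have hcodes : Nat.card (F.codes.subgroupOf H) ≤ 1920 := by
    refine (Nat.card_le_card_of_injective (fun g : F.codes.subgroupOf H => (⟨((g : H) : W), g.2⟩ : F.codes)) fun a b e =>
      Subtype.ext (Subtype.ext (congrArg (fun q : F.codes => (q : W)) e))).trans ?_
    refine (Nat.card_le_card_of_surjective (fun a : Fin 1920 => (⟨ρ a, a, rfl⟩ : F.codes)) ?_).trans (by simp)
    rintro ⟨_, a, rfl⟩
    exact ⟨⟨a % 1920, Nat.mod_lt _ (by norm_num)⟩, Subtype.ext (F.mod_eq a)⟩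
  rw [← Subgroup.card_mul_index (F.codes.subgroupOf H), mul_comm, index_eq_card]
  exact Nat.mul_le_mul hquot hcodes

end Sys

end Cfsg.Agent.J3Glue
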