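import Mathlib
import Cfsg.Agent.Lib.J3Glue.Glue
import Cfsg.Agent.Lib.J3Glue.Sound
import Cfsg.Agent.Lib.J3Glue.CertChecks

/-!
A group with one class of involutions satisfies one of the eight systems of relations.
-/

set_option autoImplicit false
set_option linter.all false
set_option maxRecDepth 100000

namespace Cfsg.Agent.J3Glue

open Subgroup hiding inv
open J2Uniq (mul inv cj)

universe v

variable {W : Type v} [Group W] {ρ : ℕ → W} {s r : W}

/-- Joining adjacent codes. -/
def joinW : List Ltr → List Ltr
  | [] => []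
  | .code a :: L =>
    match joinW L with
    | .code b :: M => if Nat.beq (mul a b) 0 then M else .code (mul a b) :: M
    | M => .code a :: M
  | l :: L => l :: joinW L

/-- Equal words. -/
def sameW : List Ltr → List Ltr → Bool
  | [], [] => true
  | .code a :: L, .code b :: M => Nat.beq a b && sameW L M
  | .s :: L, .s :: M => sameW L M
  | .si :: L, .si :: M => sameW L M
  | .r :: L, .r :: M => sameW L M
  | _, _ => false

theorem sameW_eq : ∀ L M : List Ltr, sameW L M = true → L = M := by
  intro L
  induction L with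
  | nil => intro M h; cases M with
    | nil => rfl
    | cons m M => simp [sameW] at h
  | cons l L ih =>
    intro M h
    cases M with
    | nil => cases l <;> simp [sameW] at h
    | cons m M =>
      cases l <;> cases m <;> simp [sameW] at h
      · obtain ⟨rfl, h⟩ := h
        rw [ih M h]
      all_goals rw [ih M h]

/-- The product of a word, the last letter acting first. -/
def prodW (ρ : ℕ → W) (s r : W) (L : List Ltr) : W := (L.map (ltrG ρ s r)).prod

theorem wG_reverse (ρ : ℕ → W) (s r : W) : ∀ L : List Ltr, wG ρ s r L.reverse = prodW ρ s r L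
  | [] => by simp [wG, prodW]
  | l :: L => by
    rw [List.reverse_cons, wG_append, wG_reverse ρ s r L]
    simp [wG, prodW]

theorem joinW_prod (F : Sys ρ s r) : ∀ L : List Ltr, prodW ρ s r (joinW L) = prodW ρ s r L := by
  intro L
  induction L with
  | nil => rfl
  | cons l L ih =>
    have hc : prodW ρ s r (l :: L) = ltrG ρ s r l * prodW ρ s r L := by simp [prodW]
    rw [hc, ← ih]
    cases l with
    | code a =>
      rw [joinW]
      split
      · rename_i b M hM
        rw [hM]
        split
        · rename_i h0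
          have e := congrArg ρ (Nat.eq_of_beq_eq_true h0)
          rw [F.mul_eq, F.zero] at e
          simp [prodW, ltrG, ← mul_assoc, e]
        · simp [prodW, ltrG, F.mul_eq, mul_assoc]
      · simp [prodW]
    | s => simp [joinW, prodW]
    | si => simp [joinW, prodW]
    | r => simp [joinW, prodW]

/-- The inverses of the four candidates. -/
def llInv : List (List Ltr) :=
  [[.r, .code 102], [.code 102, .r], [.code 381, .r, .code 266], [.code 266, .r, .code 381]]

/-- The gluing relation in product order. -/
def glueWord (d : ℕ) (m : List Ltr) : List Ltr :=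
  [.code 16, .s, .code 384, .s, .code 384, .s, .code 16, .si, .code (inv 384), .si, .code (inv 384), .si,
    .code d, .code 96, .r, .code 2] ++ m ++ [.code (inv 2), .r, .code (inv 96), .code (inv d)]

theorem glue_words_ok :
    (List.range 8).all (fun b => sameW (joinW (glueWord (if b < 4 then 384 else 385) (llInv.getD (b % 4) [])))
      (CertData.candRels.getD b []).reverse) = true := by decide +kernel

theorem glue_invols : mul 102 102 = 0 ∧ mul 266 266 = 0 ∧ mul 381 381 = 0 ∧ mul 96 96 = 0 := by decide +kernel

/-- The equations of the checker hold in the group. -/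
theorem Ext.sys {G : Type v} [Group G] {z : G} {ρ : ℕ → G} {s r : G} (X : Ext z ρ s r) : Sys ρ s r :=
  ⟨X.frame.mul_eq, X.frame.zero, X.frame.mod_eq, X.frame.s3, X.frame.twist, X.r2, X.frame.sconj,
    fun e he => mul_inv_eq_iff_eq_mul.1 (X.ract e he)⟩

theorem exists_branch {G : Type v} [Group G] [Finite G] {z : G} {ρ : ℕ → G} {s r : G} (X : Ext z ρ s r)
    (hz : orderOf z = 2) (hone : ∀ x y : G, orderOf x = 2 → orderOf y = 2 → IsConj x y) :
    ∃ b < 8, wG ρ s r (CertData.candRels.getD b []) = 1 := by
  classical
  have F := X.sys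
  have C := Codes.of_frame X.frame
  obtain ⟨d, hd, l, hl, he⟩ := exists_glue X hz hone
  obtain ⟨i, hi, hil⟩ := List.getElem_of_mem hl
  have hi4 : i < 4 := by simpa [ll] using hi
  obtain ⟨b, hb, hbd, hbi⟩ : ∃ b < 8, (if b < 4 then 384 else 385) = d ∧ b % 4 = i := by
    simp only [List.mem_cons, List.not_mem_nil, or_false] at hd
    rcases hd with rfl | rfl
    · exact ⟨i, by omega, if_pos hi4, Nat.mod_eq_of_lt hi4⟩
    · exact ⟨i + 4, by omega, if_neg (by omega), by omega⟩
  refine ⟨b, hb, ?_⟩
  have hok := glue_words_ok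
  rw [List.all_eq_true] at hok
  have e := sameW_eq _ _ (hok b (List.mem_range.2 hb))
  rw [hbd, hbi] at e
  have e2 := congrArg (prodW ρ s r) e
  rw [joinW_prod F, ← wG_reverse ρ s r (CertData.candRels.getD b []).reverse, List.reverse_reverse] at e2
  rw [← e2]
  obtain ⟨i1, i2, i3, i96⟩ := glue_invols
  have hri : r⁻¹ = r := inv_eq_of_mul_eq_one_right X.r2
  have hv : ∀ n, mul n n = 0 → (ρ n)⁻¹ = ρ n := fun n hn =>
    inv_eq_of_mul_eq_one_right (by rw [← F.mul_eq, hn, F.zero])
  have hlinv : prodW ρ s r (llInv.getD i []) = l⁻¹ := by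
    rw [← hil]
    interval_cases i <;>
      simp [llInv, ll, prodW, ltrG, hri, hv 102 i1, hv 266 i2, hv 381 i3, mul_assoc]
  have hgx : s * ρ 384 * s * ρ 384 * s * z * (s * ρ 384 * s * ρ 384 * s)⁻¹ = x3 ρ s := by
    have hsz : s * z * s⁻¹ = ρ 1 := by
      rw [← X.frame.zc_eq, conj_s X.frame (by decide +kernel), show J2Uniq.phi J2Uniq.zc = 1 by decide +kernel]
    rw [x3, show ρ 2 = ρ (cj 384 1) by rw [glue_conj.2.2.1], C.cj_eq, ← hsz]
    group
  have hmain : prodW ρ s r (glueWord d (llInv.getD i [])) =
      z * x3 ρ s * (ρ d * g0 ρ r * l * (ρ d * g0 ρ r)⁻¹)⁻¹ := by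
    rw [← hgx]
    have h16 : ρ 16 = z := X.frame.zc_eq
    have happ : ∀ L M : List Ltr, prodW ρ s r (L ++ M) = prodW ρ s r L * prodW ρ s r M := fun L M => by
      simp [prodW]
    rw [glueWord, happ, happ, hlinv]
    simp only [prodW, ltrG, g0, List.map_cons, List.map_nil, List.prod_cons, List.prod_nil, mul_one, C.inv_eq, h16,
      mul_inv_rev, inv_inv, hri, mul_assoc]
  rw [hmain, ← he, mul_inv_cancel]

end Cfsg.Agent.J3Glue
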