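import Mathlib
import Cfsg.Agent.Lib.JankoTwo.Split
import Cfsg.Agent.Lib.ZStar.Consequences

/-!
Extraspecial groups of order 32: noncommuting pairs in a centralizer, and the isolated-involution
argument in a simple group.
-/

set_option autoImplicit false
set_option linter.all false

namespace Cfsg.Agent.J3Glue

open Subgroup InvChar.JankoTwoCount

universe v

/-- The facts about an extraspecial subgroup of order 32 with centre generated by `z`. -/
structure Ext32 {C : Type v} [Group C] (Q : Subgroup C) (z : C) : Prop where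
  card32 : Nat.card Q = 32
  zQ : z ∈ Q
  zz : z * z = 1
  z1 : z ≠ 1
  zc : ∀ c : C, z * c = c * z
  sq : ∀ q ∈ Q, q * q = 1 ∨ q * q = z
  comm : ∀ p ∈ Q, ∀ q ∈ Q, p * q = q * p ∨ p * q = z * (q * p)
  center : ∀ c ∈ Q, (∀ q ∈ Q, q * c = c * q) → c = 1 ∨ c = z

namespace Ext32

variable {C : Type v} [Group C] [Finite C] {Q : Subgroup C} {z : C} (h : Ext32 Q z)

include h

/-- The product with a further element commutes when both factors fail to commute. -/
theorem mul_comm_of_both {a x y : C} (ha : a ∈ Q) (hx : x ∈ Q) (hy : y ∈ Q) (hxy : x * y ≠ y * x)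
    (hay : a * y ≠ y * a) : x * a * y = y * (x * a) := by
  have e1 := (h.comm x hx y hy).resolve_left hxy
  have e2 := (h.comm a ha y hy).resolve_left hay
  calc x * a * y = x * (z * (y * a)) := by rw [mul_assoc, e2]
    _ = z * (x * y) * a := by rw [← mul_assoc x z, ← h.zc x]; group
    _ = z * z * (y * x) * a := by rw [e1]; group
    _ = y * (x * a) := by rw [h.zz, one_mul, mul_assoc]

/-- The centralizer in `Q` of an element of `Q` is not abelian. -/
theorem exists_noncomm {q0 : C} (hq0 : q0 ∈ Q) :
    ∃ a ∈ Q, ∃ b ∈ Q, a * q0 = q0 * a ∧ b * q0 = q0 * b ∧ a * b ≠ b * a := by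
  classical
  by_cases hz : ∀ q ∈ Q, q * q0 = q0 * q
  · by_contra hno
    push Not at hno
    have hall : ∀ c ∈ Q, c = 1 ∨ c = z := fun c hc =>
      h.center c hc fun q hq => hno q hq c hc (hz q hq) (hz c hc)
    have hsub : (Q : Set C) ⊆ {1, z} := fun c hc => by
      rcases hall c hc with e | e <;> simp [e]
    have := (Set.ncard_le_ncard hsub).trans (Set.ncard_insert_le _ _)
    rw [← Nat.card_coe_set_eq, SetLike.coe_sort_coe, h.card32, Set.ncard_singleton] at this
    omega
  push Not at hz
  obtain ⟨a, ha, hane⟩ := hz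
  by_contra hno
  push Not at hno
  let key : Q → Prop × Prop := fun x => ((x : C) * a = a * x, (x : C) * q0 = q0 * x)
  have hfib : ∀ x y : Q, key x = key y → (x : C)⁻¹ * y = 1 ∨ (x : C)⁻¹ * y = z := by
    intro x y hk
    simp only [key, Prod.mk.injEq, eq_iff_iff] at hk
    set d := (x : C)⁻¹ * y with hd
    have hdQ : d ∈ Q := mul_mem (inv_mem x.2) y.2
    have hcomm : ∀ w ∈ Q, ((x : C) * w = w * x ↔ (y : C) * w = w * y) → d * w = w * d := by
      intro w hw hiff
      by_cases hxw : (x : C) * w = w * x
      · have hyw := hiff.1 hxw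
        exact ((show Commute (x : C) w from hxw).inv_left.mul_left (show Commute (y : C) w from hyw)).eq
      · have hyw := fun e => hxw (hiff.2 e)
        have hxi : (x : C)⁻¹ * w ≠ w * (x : C)⁻¹ := fun e => hxw (by
          have := (show Commute (x : C)⁻¹ w from e).inv_left
          rw [inv_inv] at this
          exact this)
        exact h.mul_comm_of_both y.2 (inv_mem x.2) hw hxi hyw
    have hda := hcomm a ha hk.1
    have hdq := hcomm q0 hq0 hk.2
    refine h.center d hdQ fun w hw => ?_
    by_cases hwq : w * q0 = q0 * w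
    · exact hno w hw d hdQ hwq hdq
    · have h1 : w * a * q0 = q0 * (w * a) := h.mul_comm_of_both ha hw hq0 hwq hane
      have h2 := hno (w * a) (mul_mem hw ha) d hdQ h1 hdq
      refine mul_right_cancel (b := a) ?_
      calc w * d * a = w * (a * d) := by rw [mul_assoc, hda]
        _ = w * a * d := (mul_assoc w a d).symm
        _ = d * (w * a) := h2
        _ = d * w * a := (mul_assoc d w a).symm
  haveI := Fintype.ofFinite Q
  have hle : ∀ k ∈ (Finset.univ : Finset Q).image key,
      (Finset.univ.filter fun y : Q => key y = k).card ≤ 2 := by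
    intro k hk
    obtain ⟨x, -, rfl⟩ := Finset.mem_image.1 hk
    refine le_trans (Finset.card_le_card (t := {x, x * ⟨z, h.zQ⟩}) fun y hy => ?_) Finset.card_le_two
    rcases hfib x y (Finset.mem_filter.1 hy).2.symm with e | e
    · rw [inv_mul_eq_one] at e
      simp [Subtype.ext e.symm]
    · rw [inv_mul_eq_iff_eq_mul] at e
      have : y = x * ⟨z, h.zQ⟩ := Subtype.ext e
      simp [this]
  have h1 := Finset.card_le_mul_card_image (Finset.univ : Finset Q) 2 hle
  have h2 : ((Finset.univ : Finset Q).image key).card ≤ 4 :=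
    (Finset.card_le_univ _).trans (le_of_eq (by simp [Fintype.card_prop]))
  rw [Finset.card_univ, ← Nat.card_eq_fintype_card, h.card32] at h1
  omega

end Ext32

/-- In a simple group the involution `z` is not isolated. -/
theorem exists_conj_ne {G : Type v} [Group G] [Finite G] [IsSimpleGroup G] {z : G} (hz : orderOf z = 2)
    (Q : Subgroup (Subgroup.centralizer ({z} : Set G))) [Q.Normal] (hcard : Nat.card Q = 32)
    (e : (Subgroup.centralizer ({z} : Set G)) ⧸ Q ≃* alternatingGroup (Fin 5)) :
    ∃ g : G, g * z * g⁻¹ ≠ z ∧ g * z * g⁻¹ * z = z * (g * z * g⁻¹) := by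
  by_contra hh
  push Not at hh
  have hI : Cfsg.IsIsolatedInvolution z := by
    refine ⟨hz, fun g hg => ?_⟩
    by_contra hne
    exact hh g hne hg.eq.symm
  have h2G : 2 ∣ Nat.card G := hz ▸ orderOf_dvd_natCard z
  have hO : Cfsg.oddCore G = ⊥ := ZStar.Consequences.oddCore_eq_bot fun N hN hodd => by
    rcases hN.eq_bot_or_eq_top with hb | htop
    · exact hb
    · exfalso
      rw [htop, card_top] at hodd
      exact (Nat.not_even_iff_odd.2 hodd) (even_iff_two_dvd.2 h2G)
  have hzcen := ZStar.Main.mem_center_of_isolated hO hI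
  have hCtop : (Subgroup.centralizer ({z} : Set G)) = ⊤ := eq_top_iff.2 fun g _ =>
    mem_centralizer_singleton_iff.2 (mem_center_iff.1 hzcen g)
  haveI hQn : (Q.map (Subgroup.centralizer ({z} : Set G)).subtype).Normal := ⟨fun a ha g => by
    obtain ⟨q, hq, rfl⟩ := ha
    exact ⟨(⟨g, hCtop ▸ mem_top g⟩ : (Subgroup.centralizer ({z} : Set G))) * q * (⟨g, hCtop ▸ mem_top g⟩ : (Subgroup.centralizer ({z} : Set G)))⁻¹,
      Subgroup.Normal.conj_mem inferInstance q hq _, rfl⟩⟩
  have hQc : Nat.card (Q.map (Subgroup.centralizer ({z} : Set G)).subtype) = 32 := by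
    rw [card_map_of_injective (Subgroup.centralizer ({z} : Set G)).subtype_injective, hcard]
  rcases hQn.eq_bot_or_eq_top with hb | ht
  · rw [hb, card_bot] at hQc; omega
  · rw [ht, card_top] at hQc
    have h1 := Q.card_mul_index
    rw [hcard, Subgroup.index_eq_card, Nat.card_congr e.toEquiv] at h1
    have h60 : Nat.card (alternatingGroup (Fin 5)) = 60 := by rw [Nat.card_eq_fintype_card]; decide +kernel
    rw [h60, hCtop, card_top, hQc] at h1
    omega

end Cfsg.Agent.J3Glue
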