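import Mathlib
import Cfsg.Agent.Lib.J3Glue.Extra
import Cfsg.Agent.Lib.JankoTwo.Local

/-!
In a simple group an extraspecial normal subgroup of order 32 of an involution centralizer with
quotient `A₅` contains its centralizer.
-/

set_option autoImplicit false
set_option linter.all false

namespace Cfsg.Agent.J3Glue

open Subgroup

universe v

theorem alt_two_group : ∀ a b : alternatingGroup (Fin 5), a ^ 4 = 1 → b ^ 4 = 1 → (a * b) ^ 4 = 1 →
    a * b = b * a := by decide +kernel

theorem four_pow_of_two_group {C : Type v} [Group C] [Finite C] (π : C →* alternatingGroup (Fin 5))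
    {P : Subgroup C} (hP : IsPGroup 2 P) {p : C} (hp : p ∈ P) : π p ^ 4 = 1 := by
  obtain ⟨k, hk⟩ := hP ⟨p, hp⟩
  have hk' : π p ^ 2 ^ k = 1 := by rw [← map_pow, show p ^ 2 ^ k = 1 from congrArg Subtype.val hk, map_one]
  have hd : orderOf (π p) ∣ 2 ^ k := orderOf_dvd_of_pow_eq_one hk'
  have h60 : Nat.card (alternatingGroup (Fin 5)) = 60 := by rw [Nat.card_eq_fintype_card]; decide +kernel
  obtain ⟨i, hi, hi'⟩ := (Nat.dvd_prime_pow Nat.prime_two).1 hd
  have h2 : 2 ^ i ∣ 60 := hi' ▸ h60 ▸ orderOf_dvd_natCard (π p)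
  have : i ≤ 2 := by
    by_contra hlt
    have : (2 : ℕ) ^ 3 ∣ 60 := (pow_dvd_pow 2 (by omega)).trans h2
    norm_num at this
  exact orderOf_dvd_iff_pow_eq_one.1 (hi' ▸ (pow_dvd_pow 2 this))

/-- In a group with a normal extraspecial `Q` and quotient `A₅`: either `Q` contains its centralizer, or
every commutator inside a subgroup of exponent dividing a power of two is a power of `z`. -/
theorem selfc_or_commutators {C : Type v} [Group C] [Finite C] {Q : Subgroup C} [Q.Normal] {z : C}
    (h : Ext32 Q z) (e : C ⧸ Q ≃* alternatingGroup (Fin 5)) :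
    centralizer (Q : Set C) ≤ Q ∨
      ∀ P : Subgroup C, IsPGroup 2 P → ∀ p ∈ P, ∀ p' ∈ P, p * p' = p' * p ∨ p * p' = z * (p' * p) := by
  obtain ⟨π, hπ⟩ : ∃ π : C →* alternatingGroup (Fin 5), π = e.toMonoidHom.comp (QuotientGroup.mk' Q) := ⟨_, rfl⟩
  have hπs : Function.Surjective π := by
    rw [hπ]; exact e.surjective.comp (QuotientGroup.mk'_surjective Q)
  have hker : ∀ x, π x = 1 ↔ x ∈ Q := fun x => by
    rw [hπ]
    show e (QuotientGroup.mk' Q x) = 1 ↔ x ∈ Q
    rw [MulEquiv.map_eq_one_iff]
    exact QuotientGroup.eq_one_iff x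
  haveI : ((centralizer (Q : Set C)).map π).Normal := Subgroup.Normal.map inferInstance π hπs
  haveI := alternatingGroup.isSimpleGroup_five
  rcases IsSimpleGroup.eq_bot_or_eq_top_of_normal ((centralizer (Q : Set C)).map π) inferInstance with h0 | h1
  · left
    intro x hx
    exact (hker x).1 (mem_bot.1 (h0 ▸ mem_map_of_mem π hx))
  right
  -- every element is a product from the two subgroups
  have hfac : ∀ c : C, ∃ q ∈ Q, ∃ m ∈ centralizer (Q : Set C), c = q * m := by
    intro c
    obtain ⟨m, hm, hmc⟩ := (h1.symm ▸ mem_top (π c) : π c ∈ (centralizer (Q : Set C)).map π)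
    exact ⟨c * m⁻¹, (hker _).1 (by rw [map_mul, map_inv, hmc, mul_inv_cancel]), m, hm, by group⟩
  intro P hP p hp p' hp'
  obtain ⟨q, hq, m, hm, hpe⟩ := hfac p
  obtain ⟨q', hq', m', hm', hpe'⟩ := hfac p'
  have hc : ∀ x ∈ Q, ∀ y ∈ centralizer (Q : Set C), x * y = y * x := fun x hx y hy =>
    mem_centralizer_iff.1 hy x hx
  -- the commutator of the second factors
  have hπc : π p * π p' = π p' * π p := alt_two_group _ _ (four_pow_of_two_group π hP hp)
    (four_pow_of_two_group π hP hp') (by rw [← map_mul]; exact four_pow_of_two_group π hP (mul_mem hp hp'))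
  rw [hpe, hpe', map_mul, map_mul, (hker q).2 hq, (hker q').2 hq', one_mul, one_mul] at hπc
  obtain ⟨d, hd⟩ : ∃ d, d = m * m' * (m' * m)⁻¹ := ⟨_, rfl⟩
  have hdQ : d ∈ Q := (hker d).1 (by rw [hd, map_mul, map_inv, map_mul, map_mul, hπc, mul_inv_cancel])
  have hdc : d ∈ centralizer (Q : Set C) := hd ▸ mul_mem (mul_mem hm hm') (inv_mem (mul_mem hm' hm))
  have hd' : d = 1 ∨ d = z := h.center d hdQ fun x hx => hc x hx d hdc
  have hmm : m * m' = d * (m' * m) := by rw [hd]; group
  have e1 : p * p' = q * q' * (m * m') := by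
    rw [hpe, hpe', show q * m * (q' * m') = q * (m * q') * m' by group, ← hc q' hq' m hm]
    group
  have e2 : p' * p = q' * q * (m' * m) := by
    rw [hpe, hpe', show q' * m' * (q * m) = q' * (m' * q) * m by group, ← hc q hq m' hm']
    group
  rcases h.comm q hq q' hq' with eq1 | eq1 <;> rcases hd' with e0 | e0 <;> rw [e0] at hmm
  · left; rw [e1, e2, hmm, eq1, one_mul]
  · right; rw [e1, e2, hmm, eq1, ← mul_assoc (q' * q), ← h.zc]; group
  · right; rw [e1, e2, hmm, eq1, one_mul]; group
  · left
    rw [e1, e2, hmm, eq1, ← mul_assoc (z * (q' * q)), ← h.zc (z * (q' * q)), ← mul_assoc z z, h.zz]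
    group

/-- In a simple group, `Q` contains its centralizer. -/
theorem selfcentralizing {G : Type v} [Group G] [Finite G] [IsSimpleGroup G] {z : G} (hz : orderOf z = 2)
    (Q : Subgroup (centralizer ({z} : Set G))) [Q.Normal] (hQ : Cfsg.IsExtraspecial 2 Q) (hcard : Nat.card Q = 32)
    (e : (centralizer ({z} : Set G)) ⧸ Q ≃* alternatingGroup (Fin 5)) :
    centralizer (Q : Set (centralizer ({z} : Set G))) ≤ Q ∧
      ∃ h : Ext32 Q (JankoTwo.zed z), True := by
  classical
  have hzz : z * z = 1 := by rw [← pow_two, ← hz, pow_orderOf_eq_one]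
  have hz1 : z ≠ 1 := fun e0 => by rw [e0, orderOf_one] at hz; omega
  set ζ : centralizer ({z} : Set G) := JankoTwo.zed z with hζ
  have hzc : ∀ c : (centralizer ({z} : Set G)), ζ * c = c * ζ := fun c =>
    Subtype.ext (mem_centralizer_singleton_iff.1 c.2).symm
  have hzQ : ζ ∈ Q := by
    haveI := alternatingGroup.isSimpleGroup_five
    have hcen : e (QuotientGroup.mk' Q ζ) ∈ center (alternatingGroup (Fin 5)) := by
      rw [mem_center_iff]
      intro g
      obtain ⟨x, rfl⟩ := (e.surjective.comp (QuotientGroup.mk'_surjective Q)) g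
      show e (QuotientGroup.mk' Q x) * e (QuotientGroup.mk' Q ζ) = e (QuotientGroup.mk' Q ζ) * e (QuotientGroup.mk' Q x)
      rw [← map_mul, ← map_mul, ← map_mul, ← map_mul, hzc x]
    have hbot : center (alternatingGroup (Fin 5)) = ⊥ := by
      rcases IsSimpleGroup.eq_bot_or_eq_top_of_normal (center (alternatingGroup (Fin 5))) inferInstance with h0 | h0
      · exact h0
      · exfalso
        obtain ⟨a, b, hab⟩ : ∃ a b : alternatingGroup (Fin 5), a * b ≠ b * a := by decide +kernel
        exact hab (mem_center_iff.1 (h0.symm ▸ mem_top b) a)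
    rw [hbot, mem_bot, MulEquiv.map_eq_one_iff] at hcen
    exact (QuotientGroup.eq_one_iff ζ).1 hcen
  have hzin : (⟨ζ, hzQ⟩ : Q) ∈ center Q := mem_center_iff.2 fun q => Subtype.ext (hzc q).symm
  have hz1' : (⟨ζ, hzQ⟩ : Q) ≠ 1 := fun e0 => hz1 (congrArg (fun x : Q => ((x : centralizer ({z} : Set G)) : G)) e0)
  obtain ⟨hall, hzz', hcomm, hsq⟩ := InvChar.Extraspecial.facts hQ hzin hz1'
  have hE : Ext32 Q ζ := by
    refine ⟨hcard, hzQ, Subtype.ext hzz, fun e0 => hz1' (Subtype.ext e0), hzc, fun q hq => ?_, fun p hp q hq => ?_,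
      fun c hc hcc => ?_⟩
    · rcases hall _ (hsq ⟨q, hq⟩) with e | e
      · exact Or.inl (congrArg Subtype.val e)
      · exact Or.inr (congrArg Subtype.val e)
    · rcases hcomm ⟨p, hp⟩ ⟨q, hq⟩ with e | e
      · exact Or.inl (congrArg Subtype.val e)
      · exact Or.inr (congrArg Subtype.val e)
    · rcases hall ⟨c, hc⟩ (mem_center_iff.2 fun q => Subtype.ext (hcc q q.2)) with e | e
      · exact Or.inl (congrArg Subtype.val e)
      · exact Or.inr (congrArg Subtype.val e)
  refine ⟨(selfc_or_commutators hE e).resolve_right fun hP2 => ?_, hE, trivial⟩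
  haveI : _root_.Fact (Nat.Prime 2) := ⟨Nat.prime_two⟩
  obtain ⟨g, hgne, hgc⟩ := exists_conj_ne hz Q hcard e
  set w : centralizer ({z} : Set G) := ⟨g * z * g⁻¹, mem_centralizer_singleton_iff.2 hgc⟩ with hw
  -- split `w`
  obtain ⟨a, ha, b, hb, hab, haw, hbw⟩ : ∃ a ∈ Q, ∃ b ∈ Q, a * b ≠ b * a ∧ a * w = w * a ∧ b * w = w * b := by
    have hw2 : w * w = 1 := Subtype.ext (by
      show g * z * g⁻¹ * (g * z * g⁻¹) = 1
      calc g * z * g⁻¹ * (g * z * g⁻¹) = g * (z * z) * g⁻¹ := by group
        _ = 1 := by rw [hzz, mul_one, mul_inv_cancel])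
    let P : Subgroup (centralizer ({z} : Set G)) := Q ⊔ zpowers w
    have hP : IsPGroup 2 P :=
      IsPGroup.to_sup_of_normal_left (IsPGroup.of_card (n := 5) (by rw [hcard]; norm_num))
        (IsPGroup.of_card (n := (if w = 1 then 0 else 1)) (by
          by_cases hw1 : w = 1
          · simp [hw1]
          · rw [Nat.card_zpowers, orderOf_eq_prime (by rw [sq, hw2]) hw1]; simp [hw1]))
    have hcw : ∀ q ∈ Q, q * w = w * q ∨ q * w = ζ * (w * q) := fun q hq =>
      hP2 P hP q (le_sup_left (b := zpowers w) hq) w (le_sup_right (a := Q) (mem_zpowers w))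
    by_cases hall' : ∀ q ∈ Q, q * w = w * q
    · obtain ⟨a, ha, b, hb, -, -, hab⟩ := hE.exists_noncomm hE.zQ
      exact ⟨a, ha, b, hb, hab, hall' a ha, hall' b hb⟩
    · push Not at hall'
      obtain ⟨d, hd, hdw⟩ := hall'
      have hadj : ∀ q ∈ Q, q * w ≠ w * q → q * d * w = w * (q * d) := fun q hq hqw => by
        have e1 := (hcw q hq).resolve_left hqw
        have e2 := (hcw d hd).resolve_left hdw
        calc q * d * w = q * (ζ * (w * d)) := by rw [mul_assoc, e2]
          _ = ζ * (q * w) * d := by rw [← mul_assoc q ζ, ← hzc q]; group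
          _ = ζ * ζ * (w * q) * d := by rw [e1]; group
          _ = w * (q * d) := by rw [hE.zz, one_mul, mul_assoc]
      by_contra hno
      push Not at hno
      obtain ⟨a, ha, b, hb, had, hbd, hab⟩ := hE.exists_noncomm hd
      have key : ∀ q ∈ Q, q * d = d * q → ∃ q' ∈ Q, q' * w = w * q' ∧ (q' = q ∨ q' = q * d) := fun q hq hqd => by
        by_cases hqw : q * w = w * q
        · exact ⟨q, hq, hqw, Or.inl rfl⟩
        · exact ⟨q * d, mul_mem hq hd, hadj q hq hqw, Or.inr rfl⟩
      obtain ⟨a', ha', haw, ea⟩ := key a ha had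
      obtain ⟨b', hb', hbw, eb⟩ := key b hb hbd
      have hC : Commute a' b' := by
        by_contra hne
        exact hno a' ha' b' hb' hne haw hbw
      have hdd : Commute d d := Commute.refl d
      apply hab
      rcases ea with rfl | rfl <;> rcases eb with rfl | rfl
      · exact hC.eq
      · have := hC.mul_right (show Commute a' d from had).inv_right
        rw [mul_inv_cancel_right] at this
        exact this.eq
      · have := hC.mul_left (show Commute b' d from hbd).symm.inv_left
        rw [mul_inv_cancel_right] at this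
        exact this.eq
      · have h1 := hC.mul_right ((show Commute a d from had).mul_left hdd).inv_right
        rw [mul_inv_cancel_right] at h1
        have h2 := h1.mul_left (show Commute b d from hbd).symm.inv_left
        rw [mul_inv_cancel_right] at h2
        exact h2.eq
  have hab' : a * b = ζ * (b * a) := (hE.comm a ha b hb).resolve_left hab
  -- transport by `g`
  have hmem : ∀ x : centralizer ({z} : Set G), x * w = w * x → g⁻¹ * (x : G) * g ∈ centralizer ({z} : Set G) :=
    fun x hx => mem_centralizer_singleton_iff.2 (by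
      have hx' : (x : G) * (g * z * g⁻¹) = g * z * g⁻¹ * (x : G) := congrArg Subtype.val hx
      calc g⁻¹ * (x : G) * g * z = g⁻¹ * ((x : G) * (g * z * g⁻¹)) * g := by group
        _ = _ := by rw [hx']; group)
  let H : Subgroup (centralizer ({z} : Set G)) := Q ⊓ centralizer {w}
  let f : H →* centralizer ({z} : Set G) :=
    { toFun := fun x => ⟨_, hmem x (mem_centralizer_singleton_iff.1 x.2.2)⟩
      map_one' := Subtype.ext (by simp)
      map_mul' := fun x y => Subtype.ext (by simp [mul_assoc]) }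
  have hfP : IsPGroup 2 f.range := by
    have : IsPGroup 2 H :=
      (IsPGroup.of_card (n := 5) (by rw [hcard]; norm_num) : IsPGroup 2 Q).to_le inf_le_left
    exact this.of_surjective f.rangeRestrict f.rangeRestrict_surjective
  rcases hP2 f.range hfP _ ⟨⟨a, ha, mem_centralizer_singleton_iff.2 haw⟩, rfl⟩
      _ ⟨⟨b, hb, mem_centralizer_singleton_iff.2 hbw⟩, rfl⟩ with e1 | e1
  · rw [← map_mul, ← map_mul] at e1
    have e2 : g⁻¹ * ((a : G) * b) * g = g⁻¹ * ((b : G) * a) * g := congrArg Subtype.val e1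
    exact hab (Subtype.ext (mul_left_cancel (mul_right_cancel e2)))
  · rw [← map_mul, ← map_mul] at e1
    have e2 : g⁻¹ * ((a : G) * b) * g = z * (g⁻¹ * ((b : G) * a) * g) := congrArg Subtype.val e1
    have e3 : (a : G) * b = z * ((b : G) * a) := congrArg Subtype.val hab'
    rw [e3] at e2
    have e4 : g⁻¹ * z = z * g⁻¹ := by
      apply mul_right_cancel (b := (b : G) * a * g)
      calc g⁻¹ * z * ((b : G) * a * g) = g⁻¹ * (z * ((b : G) * a)) * g := by group
        _ = z * (g⁻¹ * ((b : G) * a) * g) := e2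
        _ = z * g⁻¹ * ((b : G) * a * g) := by group
    apply hgne
    calc g * z * g⁻¹ = g * (z * g⁻¹) := by group
      _ = z := by rw [← e4, mul_inv_cancel_left]

end Cfsg.Agent.J3Glue
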