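import Mathlib
import Cfsg.Agent.Lib.J3Glue.SelfCentral

/-!
In a simple group with one class of involutions and centralizer `2^{1+4}.A₅`, some involution of the
centralizer lies outside the extraspecial subgroup, so that subgroup has a complement.
-/

set_option autoImplicit false
set_option linter.all false

namespace Cfsg.Agent.J3Glue

open Subgroup InvChar.JankoTwoCount

universe v

/-- The commutator. -/
def kom {G : Type v} [Group G] (a b : G) : G := a * b * a⁻¹ * b⁻¹

theorem kom_mul_left {G : Type v} [Group G] {a a' b : G} (h : Commute a (kom a' b)) :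
    kom (a * a') b = kom a' b * kom a b := by
  rw [kom, show a * a' * b * (a * a')⁻¹ * b⁻¹ = a * kom a' b * (b * a⁻¹ * b⁻¹) by simp [kom, mul_assoc],
    h.eq]
  simp [kom, mul_assoc]

theorem kom_mul_right {G : Type v} [Group G] {a b b' : G} (h : Commute b (kom a b')) :
    kom a (b * b') = kom a b * kom a b' := by
  rw [kom, show a * (b * b') * a⁻¹ * (b * b')⁻¹ = a * b * a⁻¹ * (kom a b' * b⁻¹) by simp [kom, mul_assoc],
    ← h.inv_left.eq]
  simp [kom, mul_assoc]

theorem kom_conj {G : Type v} [Group G] (x a b : G) : x * kom a b * x⁻¹ = kom (x * a * x⁻¹) (x * b * x⁻¹) := by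
  simp [kom, mul_assoc]

set_option synthInstance.maxSize 4000 in
set_option synthInstance.maxHeartbeats 400000 in
theorem alt_normalize_four : ∀ p : alternatingGroup (Fin 5), (p * p = 1 ∧ p ≠ 1) →
    ∀ q : alternatingGroup (Fin 5), (q * q = 1 ∧ q ≠ 1 ∧ p ≠ q ∧ p * q = q * p) →
    ∀ r : alternatingGroup (Fin 5), (r * r = 1 ∧ (r * p * r = p ∨ r * p * r = q ∨ r * p * r = p * q)) →
      (r * q * r = p ∨ r * q * r = q ∨ r * q * r = p * q) → r = 1 ∨ r = p ∨ r = q ∨ r = p * q := by decide +kernel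

section

variable {C : Type v} [Group C] [Finite C] {Q : Subgroup C} {z : C} {π : C →* alternatingGroup (Fin 5)}

theorem ext_of_pre (h : JankoTwo.Pre Q z π) : Ext32 Q z :=
  ⟨h.card32, h.zQ, h.zz, h.z1, h.zc, h.facts.1, h.facts.2.1, h.facts.2.2⟩

/-- An element over an element of order five gives all ten involutions from one. -/
theorem ten_eq (h : JankoTwo.Pre Q z π) {u : C} (hu : Inv10 Q z u) :
    ∃ g : C, g ^ 5 = 1 ∧ ∀ w, Inv10 Q z w → ∃ i : Fin 5, w = g ^ (i : ℕ) * u * (g ^ (i : ℕ))⁻¹ ∨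
      w = g ^ (i : ℕ) * u * (g ^ (i : ℕ))⁻¹ * z := by
  classical
  haveI := Fintype.ofFinite C
  haveI : _root_.Fact (Nat.Prime 5) := ⟨Nat.prime_five⟩
  obtain ⟨φ, hφ5, hφ1⟩ : ∃ f : alternatingGroup (Fin 5), f ^ 5 = 1 ∧ f ≠ 1 := by decide +kernel
  obtain ⟨c0, hc0⟩ := h.surj φ
  have hQ5 : c0 ^ 5 ∈ Q := by rw [h.mem, map_pow, hc0, hφ5]
  obtain ⟨c, hcdef⟩ : ∃ c, c = c0 ^ 16 := ⟨_, rfl⟩
  have hc : π c = φ := by
    rw [hcdef, map_pow, hc0, show (16 : ℕ) = 5 * 3 + 1 from rfl, pow_succ, pow_mul, hφ5, one_pow, one_mul]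
  have hc5 : c ^ 5 = 1 := by
    have h4 : (c0 ^ 5) ^ 4 = 1 := by
      rw [show (c0 ^ 5) ^ 4 = (c0 ^ 5 * c0 ^ 5) * (c0 ^ 5 * c0 ^ 5) by group]
      rcases h.facts.1 _ hQ5 with e | e <;> rw [e]
      · rw [one_mul]
      · exact h.zz
    rw [hcdef, ← pow_mul, show 16 * 5 = 5 * 4 * 4 from rfl, pow_mul, pow_mul c0 5 4, h4, one_pow]
  refine ⟨c, hc5, ?_⟩
  let o : Fin 5 → C := fun i => c ^ (i : ℕ) * u * (c ^ (i : ℕ))⁻¹
  have ho : ∀ i, Inv10 Q z (o i) := fun i => by
    refine ⟨h.normal.conj_mem u hu.1 _, ?_, fun e0 => hu.2.2.1 (conj_eq_one_iff.1 e0), fun e0 => hu.2.2.2 ?_⟩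
    · show c ^ (i : ℕ) * u * (c ^ (i : ℕ))⁻¹ * (c ^ (i : ℕ) * u * (c ^ (i : ℕ))⁻¹) = 1
      rw [show c ^ (i : ℕ) * u * (c ^ (i : ℕ))⁻¹ * (c ^ (i : ℕ) * u * (c ^ (i : ℕ))⁻¹) =
        c ^ (i : ℕ) * (u * u) * (c ^ (i : ℕ))⁻¹ by group, hu.2.1, mul_one, mul_inv_cancel]
    · have e1 : c ^ (i : ℕ) * u * (c ^ (i : ℕ))⁻¹ = z := e0
      rw [show u = (c ^ (i : ℕ))⁻¹ * (c ^ (i : ℕ) * u * (c ^ (i : ℕ))⁻¹) * c ^ (i : ℕ) by group, e1, mul_assoc, h.zc,
        inv_mul_cancel_left]
  have key : ∀ i j : Fin 5, o i = o j ∨ o i = o j * z → i = j := by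
    intro i j hij
    by_contra hne
    obtain ⟨d, hd⟩ : ∃ d, d = (c ^ (j : ℕ))⁻¹ * c ^ (i : ℕ) := ⟨_, rfl⟩
    have hπd : π d = (φ ^ (j : ℕ))⁻¹ * φ ^ (i : ℕ) := by rw [hd, map_mul, map_inv, map_pow, map_pow, hc]
    have hπ5 : π d ^ 5 = 1 := by
      rw [hπd, (((Commute.refl φ).pow_pow _ _).inv_left).mul_pow, inv_pow, ← pow_mul, ← pow_mul, mul_comm _ 5,
        mul_comm (i : ℕ) 5, pow_mul, pow_mul, hφ5, one_pow, one_pow, inv_one, one_mul]
    have hπ1 : π d ≠ 1 := by
      rw [hπd, ne_eq, inv_mul_eq_one]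
      intro e0
      have := pow_injOn_Iio_orderOf (x := φ) (by rw [orderOf_eq_prime hφ5 hφ1]; exact j.2)
        (by rw [orderOf_eq_prime hφ5 hφ1]; exact i.2) e0
      exact hne (Fin.ext this.symm)
    rcases h.fix_five hπ5 hπ1 hu.1 (by
      rcases hij with e0 | e0
      · left
        calc d * u * d⁻¹ = (c ^ (j : ℕ))⁻¹ * o i * c ^ (j : ℕ) := by simp only [hd, o]; group
          _ = u := by rw [e0]; simp only [o]; group
      · right
        calc d * u * d⁻¹ = (c ^ (j : ℕ))⁻¹ * o i * c ^ (j : ℕ) := by simp only [hd, o]; group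
          _ = (c ^ (j : ℕ))⁻¹ * (c ^ (j : ℕ) * u * (c ^ (j : ℕ))⁻¹) * (z * c ^ (j : ℕ)) := by rw [e0]; simp only [o]; group
          _ = u * z := by rw [h.zc (c ^ (j : ℕ))]; group
          _ = z * u := (h.zc u).symm) with e1 | e1
    · exact hu.2.2.1 e1
    · exact hu.2.2.2 e1
  let F : Fin 5 × Bool → {w : C // Inv10 Q z w} := fun p => if p.2 then ⟨o p.1 * z, by
      obtain ⟨h1, h2, h3, h4⟩ := ho p.1
      refine ⟨mul_mem h1 h.zQ, ?_, fun e0 => h4 ?_, fun e0 => h3 (mul_eq_right.1 e0)⟩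
      · rw [show o p.1 * z * (o p.1 * z) = o p.1 * (z * o p.1) * z by group, h.zc, ← mul_assoc, h2, one_mul, h.zz]
      · rw [eq_comm]; exact (inv_eq_of_mul_eq_one_right (by rw [h.zz])).symm.trans (eq_inv_of_mul_eq_one_left e0).symm⟩
    else ⟨o p.1, ho p.1⟩
  have hF : Function.Injective F := by
    rintro ⟨i, b⟩ ⟨j, b'⟩ e0
    have e1 := congrArg Subtype.val e0
    have hz1' : ∀ k, o k ≠ o k * z := fun k e2 => h.z1 (mul_eq_left.1 e2.symm)
    cases b <;> cases b' <;> simp only [F, if_true, Bool.false_eq_true, if_false] at e1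
    · rw [key i j (Or.inl e1)]
    · exact absurd (key i j (Or.inr e1) ▸ e1) (hz1' j)
    · exact absurd (key j i (Or.inr e1.symm) ▸ e1.symm) (hz1' i)
    · rw [key i j (Or.inl (mul_right_cancel e1))]
  have hcard : Nat.card (Fin 5 × Bool) = Nat.card {w : C // Inv10 Q z w} := by
    rw [h.card_inv10, Nat.card_eq_fintype_card]; rfl
  intro w hw
  obtain ⟨⟨i, b⟩, e0⟩ := ((Nat.bijective_iff_injective_and_card F).2 ⟨hF, hcard⟩).2 ⟨w, hw⟩
  refine ⟨i, ?_⟩
  cases b
  · exact Or.inl (congrArg Subtype.val e0).symm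
  · exact Or.inr (congrArg Subtype.val e0).symm

end

/-- The subgroup `Q` in `G`. -/
def QG {G : Type v} [Group G] {z : G} (Q : Subgroup (centralizer ({z} : Set G))) : Subgroup G :=
  Q.map (centralizer ({z} : Set G)).subtype

theorem mem_QG {G : Type v} [Group G] {z a : G} {Q : Subgroup (centralizer ({z} : Set G))} :
    a ∈ QG Q ↔ ∃ h : a ∈ centralizer ({z} : Set G), (⟨a, h⟩ : centralizer ({z} : Set G)) ∈ Q := by
  constructor
  · rintro ⟨b, hb, rfl⟩; exact ⟨b.2, hb⟩
  · rintro ⟨h, hb⟩; exact ⟨_, hb, rfl⟩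


/-- A triangle of commuting involutions with a cyclic permutation, no involution lying outside `P`. -/
structure Tri {G : Type v} [Group G] (z u v x : G) (P : Subgroup G)
    (π : centralizer ({z} : Set G) →* alternatingGroup (Fin 5)) : Prop where
  hzz : z * z = 1
  hz1 : z ≠ 1
  huu : u * u = 1
  hu1 : u ≠ 1
  huz : u ≠ z
  huv : u ≠ v
  hv0 : v ≠ 1
  hvne : v ≠ z
  hzu : u * z = z * u
  hvz : v * z = z * v
  hzv' : z * v = u
  hv : v = u * z
  hxz : x * z * x⁻¹ = v
  hxv : x * v * x⁻¹ = u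
  hxu : x * u * x⁻¹ = z
  hin : ∀ a : G, a * a = 1 → a * z = z * a → a ∈ P
  hQz : ∀ a ∈ P, a * z = z * a
  hQsq : ∀ a ∈ P, a * a = 1 ∨ a * a = z
  hQcomm : ∀ a ∈ P, ∀ b ∈ P, kom a b = 1 ∨ kom a b = z
  hQn : ∀ c, c * z = z * c → ∀ a ∈ P, c * a * c⁻¹ ∈ P
  uP : u ∈ P
  vP : v ∈ P
  helem : ∀ a ∈ P, x⁻¹ * a * x ∈ P → a * a = 1
  hA2 : ∀ a, a ∈ P → a * v = v * a → a * a = 1 → a = 1 ∨ a = z ∨ a = v ∨ a = u
  pair : ∃ p ∈ P, ∃ p' ∈ P, p * v = v * p ∧ p' * v = v * p' ∧ kom p p' = z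
  hker : ∀ c : centralizer ({z} : Set G), π c = 1 ↔ (c : G) ∈ P

/-- The first group. -/
def InA {G : Type v} [Group G] (P : Subgroup G) (v a : G) : Prop := a ∈ P ∧ a * v = v * a

/-- The second group. -/
def InB {G : Type v} [Group G] (P : Subgroup G) (v x b : G) : Prop := InA P v (x⁻¹ * b * x)

/-- The third group. -/
def InD {G : Type v} [Group G] (P : Subgroup G) (v x d : G) : Prop := InB P v x (x⁻¹ * d * x)

namespace Tri

variable {G : Type v} [Group G] {z u v x : G} {P : Subgroup G}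
  {π : centralizer ({z} : Set G) →* alternatingGroup (Fin 5)} (T : Tri z u v x P π)

include T

theorem xconj : ∀ a p q : G, x * p * x⁻¹ = q → a * p = p * a → x * a * x⁻¹ * q = q * (x * a * x⁻¹) := by
  have hzz := T.hzz
  have hz1 := T.hz1
  have huu := T.huu
  have hu1 := T.hu1
  have huz := T.huz
  have huv := T.huv
  have hv0 := T.hv0
  have hvne := T.hvne
  have hzu := T.hzu
  have hvz := T.hvz
  have hzv' := T.hzv'
  have hv := T.hv
  have hxz := T.hxz
  have hxv := T.hxv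
  have hxu := T.hxu
  have hin := T.hin
  have hQz := T.hQz
  have hQsq := T.hQsq
  have hQcomm := T.hQcomm
  have hQn := T.hQn
  have uP := T.uP
  have vP := T.vP
  have helem := T.helem
  have hA2 := T.hA2
  have pair := T.pair
  have hker := T.hker
  exact (show ∀ a p q : G, x * p * x⁻¹ = q → a * p = p * a → x * a * x⁻¹ * q = q * (x * a * x⁻¹) from by
    intro a p q hq h
    rw [← hq, show x * a * x⁻¹ * (x * p * x⁻¹) = x * (a * p) * x⁻¹ by group, h]; group)

theorem amul : ∀ a a', InA P v a → InA P v a' → InA P v (a * a') := by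
  have hzz := T.hzz
  have hz1 := T.hz1
  have huu := T.huu
  have hu1 := T.hu1
  have huz := T.huz
  have huv := T.huv
  have hv0 := T.hv0
  have hvne := T.hvne
  have hzu := T.hzu
  have hvz := T.hvz
  have hzv' := T.hzv'
  have hv := T.hv
  have hxz := T.hxz
  have hxv := T.hxv
  have hxu := T.hxu
  have hin := T.hin
  have hQz := T.hQz
  have hQsq := T.hQsq
  have hQcomm := T.hQcomm
  have hQn := T.hQn
  have uP := T.uP
  have vP := T.vP
  have helem := T.helem
  have hA2 := T.hA2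
  have pair := T.pair
  have hker := T.hker
  exact (show ∀ a a', InA P v a → InA P v a' → InA P v (a * a') from fun a a' h h' =>
    ⟨mul_mem h.1 h'.1, (show Commute a v from h.2).mul_left (show Commute a' v from h'.2) |>.eq⟩)

theorem aC : ∀ a, InA P v a → a * z = z * a ∧ a * v = v * a := by
  have hzz := T.hzz
  have hz1 := T.hz1
  have huu := T.huu
  have hu1 := T.hu1
  have huz := T.huz
  have huv := T.huv
  have hv0 := T.hv0
  have hvne := T.hvne
  have hzu := T.hzu
  have hvz := T.hvz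
  have hzv' := T.hzv'
  have hv := T.hv
  have hxz := T.hxz
  have hxv := T.hxv
  have hxu := T.hxu
  have hin := T.hin
  have hQz := T.hQz
  have hQsq := T.hQsq
  have hQcomm := T.hQcomm
  have hQn := T.hQn
  have uP := T.uP
  have vP := T.vP
  have helem := T.helem
  have hA2 := T.hA2
  have pair := T.pair
  have hker := T.hker
  exact (show ∀ a, InA P v a → a * z = z * a ∧ a * v = v * a from fun a ha => ⟨hQz a ha.1, ha.2⟩)

theorem back : ∀ p, x * (x⁻¹ * p * x) * x⁻¹ = p := by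
  have hzz := T.hzz
  have hz1 := T.hz1
  have huu := T.huu
  have hu1 := T.hu1
  have huz := T.huz
  have huv := T.huv
  have hv0 := T.hv0
  have hvne := T.hvne
  have hzu := T.hzu
  have hvz := T.hvz
  have hzv' := T.hzv'
  have hv := T.hv
  have hxz := T.hxz
  have hxv := T.hxv
  have hxu := T.hxu
  have hin := T.hin
  have hQz := T.hQz
  have hQsq := T.hQsq
  have hQcomm := T.hQcomm
  have hQn := T.hQn
  have uP := T.uP
  have vP := T.vP
  have helem := T.helem
  have hA2 := T.hA2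
  have pair := T.pair
  have hker := T.hker
  exact (show ∀ p, x * (x⁻¹ * p * x) * x⁻¹ = p from fun p => by group)

theorem bC : ∀ b, InB P v x b → b * z = z * b ∧ b * v = v * b := by
  have hzz := T.hzz
  have hz1 := T.hz1
  have huu := T.huu
  have hu1 := T.hu1
  have huz := T.huz
  have huv := T.huv
  have hv0 := T.hv0
  have hvne := T.hvne
  have hzu := T.hzu
  have hvz := T.hvz
  have hzv' := T.hzv'
  have hv := T.hv
  have hxz := T.hxz
  have hxv := T.hxv
  have hxu := T.hxu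
  have hin := T.hin
  have hQz := T.hQz
  have hQsq := T.hQsq
  have hQcomm := T.hQcomm
  have hQn := T.hQn
  have uP := T.uP
  have vP := T.vP
  have helem := T.helem
  have hA2 := T.hA2
  have pair := T.pair
  have hker := T.hker
  have hxconj := T.xconj
  have hback := T.back
  exact (show ∀ b, InB P v x b → b * z = z * b ∧ b * v = v * b from by
    intro b hb
    have h1 := hxconj _ _ _ hxz (hQz _ hb.1)
    have h2 := hxconj _ _ _ hxv hb.2
    rw [hback] at h1 h2
    refine ⟨?_, h1⟩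
    have e : z = u * v := by rw [hv, ← mul_assoc, huu, one_mul]
    rw [e]
    exact ((show Commute b u from h2).mul_right (show Commute b v from h1)).eq)

theorem dC : ∀ d, InD P v x d → d * z = z * d ∧ d * v = v * d := by
  have hzz := T.hzz
  have hz1 := T.hz1
  have huu := T.huu
  have hu1 := T.hu1
  have huz := T.huz
  have huv := T.huv
  have hv0 := T.hv0
  have hvne := T.hvne
  have hzu := T.hzu
  have hvz := T.hvz
  have hzv' := T.hzv'
  have hv := T.hv
  have hxz := T.hxz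
  have hxv := T.hxv
  have hxu := T.hxu
  have hin := T.hin
  have hQz := T.hQz
  have hQsq := T.hQsq
  have hQcomm := T.hQcomm
  have hQn := T.hQn
  have uP := T.uP
  have vP := T.vP
  have helem := T.helem
  have hA2 := T.hA2
  have pair := T.pair
  have hker := T.hker
  have hxconj := T.xconj
  have hback := T.back
  have hBC := T.bC
  exact (show ∀ d, InD P v x d → d * z = z * d ∧ d * v = v * d from by
    intro d hd
    obtain ⟨h1, h2⟩ := hBC _ hd
    have h1' := hxconj _ _ _ hxz h1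
    have h2' := hxconj _ _ _ hxv h2
    rw [hback] at h1' h2'
    refine ⟨?_, h1'⟩
    have e : z = u * v := by rw [hv, ← mul_assoc, huu, one_mul]
    rw [e]
    exact ((show Commute d u from h2').mul_right (show Commute d v from h1')).eq)

theorem anorm : ∀ c a, c * z = z * c → c * v = v * c → InA P v a → InA P v (c * a * c⁻¹) := by
  have hzz := T.hzz
  have hz1 := T.hz1
  have huu := T.huu
  have hu1 := T.hu1
  have huz := T.huz
  have huv := T.huv
  have hv0 := T.hv0
  have hvne := T.hvne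
  have hzu := T.hzu
  have hvz := T.hvz
  have hzv' := T.hzv'
  have hv := T.hv
  have hxz := T.hxz
  have hxv := T.hxv
  have hxu := T.hxu
  have hin := T.hin
  have hQz := T.hQz
  have hQsq := T.hQsq
  have hQcomm := T.hQcomm
  have hQn := T.hQn
  have uP := T.uP
  have vP := T.vP
  have helem := T.helem
  have hA2 := T.hA2
  have pair := T.pair
  have hker := T.hker
  exact (show ∀ c a, c * z = z * c → c * v = v * c → InA P v a → InA P v (c * a * c⁻¹) from by
    intro c a hc hcv ha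
    refine ⟨hQn c hc a ha.1, ?_⟩
    exact (((show Commute c v from hcv).mul_left (show Commute a v from ha.2)).mul_left
      (show Commute c v from hcv).inv_left).eq)

theorem cu : ∀ c, c * z = z * c → c * v = v * c → c * u = u * c := by
  have hzz := T.hzz
  have hz1 := T.hz1
  have huu := T.huu
  have hu1 := T.hu1
  have huz := T.huz
  have huv := T.huv
  have hv0 := T.hv0
  have hvne := T.hvne
  have hzu := T.hzu
  have hvz := T.hvz
  have hzv' := T.hzv'
  have hv := T.hv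
  have hxz := T.hxz
  have hxv := T.hxv
  have hxu := T.hxu
  have hin := T.hin
  have hQz := T.hQz
  have hQsq := T.hQsq
  have hQcomm := T.hQcomm
  have hQn := T.hQn
  have uP := T.uP
  have vP := T.vP
  have helem := T.helem
  have hA2 := T.hA2
  have pair := T.pair
  have hker := T.hker
  exact (show ∀ c, c * z = z * c → c * v = v * c → c * u = u * c from fun c h1 h2 => by
    rw [← hzv']
    exact ((show Commute c z from h1).mul_right (show Commute c v from h2)).eq)

theorem bnorm : ∀ c b, c * z = z * c → c * v = v * c → InB P v x b → InB P v x (c * b * c⁻¹) := by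
  have hzz := T.hzz
  have hz1 := T.hz1
  have huu := T.huu
  have hu1 := T.hu1
  have huz := T.huz
  have huv := T.huv
  have hv0 := T.hv0
  have hvne := T.hvne
  have hzu := T.hzu
  have hvz := T.hvz
  have hzv' := T.hzv'
  have hv := T.hv
  have hxz := T.hxz
  have hxv := T.hxv
  have hxu := T.hxu
  have hin := T.hin
  have hQz := T.hQz
  have hQsq := T.hQsq
  have hQcomm := T.hQcomm
  have hQn := T.hQn
  have uP := T.uP
  have vP := T.vP
  have helem := T.helem
  have hA2 := T.hA2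
  have pair := T.pair
  have hker := T.hker
  have hAnorm := T.anorm
  have hcu' := T.cu
  exact (show ∀ c b, c * z = z * c → c * v = v * c → InB P v x b → InB P v x (c * b * c⁻¹) from by
    intro c b hc hcv hb
    show InA P v (x⁻¹ * (c * b * c⁻¹) * x)
    rw [show x⁻¹ * (c * b * c⁻¹) * x = (x⁻¹ * c * x) * (x⁻¹ * b * x) * (x⁻¹ * c * x)⁻¹ by group]
    refine hAnorm _ _ ?_ ?_ hb
    · rw [show x⁻¹ * c * x * z = x⁻¹ * (c * (x * z * x⁻¹)) * x by group, hxz, hcv, ← hxz]; group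
    · rw [show x⁻¹ * c * x * v = x⁻¹ * (c * (x * v * x⁻¹)) * x by group, hxv, hcu' c hc hcv, ← hxv]; group)

theorem vc : ∀ t, t = 1 ∨ t = z ∨ t = v ∨ t = u → ∀ c, c * z = z * c → c * v = v * c → Commute c t := by
  have hzz := T.hzz
  have hz1 := T.hz1
  have huu := T.huu
  have hu1 := T.hu1
  have huz := T.huz
  have huv := T.huv
  have hv0 := T.hv0
  have hvne := T.hvne
  have hzu := T.hzu
  have hvz := T.hvz
  have hzv' := T.hzv'
  have hv := T.hv
  have hxz := T.hxz
  have hxv := T.hxv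
  have hxu := T.hxu
  have hin := T.hin
  have hQz := T.hQz
  have hQsq := T.hQsq
  have hQcomm := T.hQcomm
  have hQn := T.hQn
  have uP := T.uP
  have vP := T.vP
  have helem := T.helem
  have hA2 := T.hA2
  have pair := T.pair
  have hker := T.hker
  have hcu' := T.cu
  exact (show ∀ t, t = 1 ∨ t = z ∨ t = v ∨ t = u → ∀ c, c * z = z * c → c * v = v * c → Commute c t from by
    rintro t (rfl | rfl | rfl | rfl) c h1 h2
    · exact Commute.one_right c
    · exact h1
    · exact h2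
    · exact hcu' c h1 h2)

theorem ab : ∀ a, InA P v a → InB P v x a → a = 1 ∨ a = z ∨ a = v ∨ a = u :=
  fun a ha hb => T.hA2 a ha.1 ha.2 (T.helem a ha.1 hb.1)

theorem kab : ∀ a b, InA P v a → InB P v x b → kom a b = 1 ∨ kom a b = z ∨ kom a b = v := by
  have hzz := T.hzz
  have hz1 := T.hz1
  have huu := T.huu
  have hu1 := T.hu1
  have huz := T.huz
  have huv := T.huv
  have hv0 := T.hv0
  have hvne := T.hvne
  have hzu := T.hzu
  have hvz := T.hvz
  have hzv' := T.hzv'
  have hv := T.hv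
  have hxz := T.hxz
  have hxv := T.hxv
  have hxu := T.hxu
  have hin := T.hin
  have hQz := T.hQz
  have hQsq := T.hQsq
  have hQcomm := T.hQcomm
  have hQn := T.hQn
  have uP := T.uP
  have vP := T.vP
  have helem := T.helem
  have hA2 := T.hA2
  have pair := T.pair
  have hker := T.hker
  have hxconj := T.xconj
  have hAmul := T.amul
  have hAC := T.aC
  have hback := T.back
  have hBC := T.bC
  have hDC := T.dC
  have hcu' := T.cu
  have hAnorm := T.anorm
  have hBnorm := T.bnorm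
  have hAB := T.ab
  have hVc := T.vc
  have hA2' := hA2
  have hA2 : ∀ a, InA P v a → a * a = 1 → a = 1 ∨ a = z ∨ a = v ∨ a = u := fun a ha => hA2' a ha.1 ha.2

  intro a b ha hb
  obtain ⟨hbz, hbv⟩ := hBC b hb
  have h1 : InA P v (kom a b) := by
    rw [show kom a b = a * (b * a⁻¹ * b⁻¹) by simp [kom, mul_assoc]]
    exact hAmul _ _ ha (hAnorm b _ hbz hbv ⟨inv_mem ha.1, (show Commute a v from ha.2).inv_left.eq⟩)
  have h2 : InB P v x (kom a b) := by
    rw [show kom a b = (a * b * a⁻¹) * b⁻¹ by simp [kom]]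
    show InA P v (x⁻¹ * (a * b * a⁻¹ * b⁻¹) * x)
    rw [show x⁻¹ * (a * b * a⁻¹ * b⁻¹) * x = (x⁻¹ * (a * b * a⁻¹) * x) * (x⁻¹ * b * x)⁻¹ by group]
    exact hAmul _ _ (hBnorm a b (hAC a ha).1 ha.2 hb) ⟨inv_mem hb.1, (show Commute _ v from hb.2).inv_left.eq⟩
  rcases hAB _ h1 h2 with e | e | e | e
  · exact Or.inl e
  · exact Or.inr (Or.inl e)
  · exact Or.inr (Or.inr e)
  · exfalso
    -- the product is an involution outside `Q`
    have hab : a * b = u * (b * a) := by rw [← e]; simp [kom, mul_assoc]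
    have haa := hQsq a ha.1
    have hbb : b * b = 1 ∨ b * b = v := by
      rcases hQsq _ hb.1 with e' | e'
      · left; calc b * b = x * (x⁻¹ * b * x * (x⁻¹ * b * x)) * x⁻¹ := by group
          _ = 1 := by rw [e', mul_one, mul_inv_cancel]
      · right; calc b * b = x * (x⁻¹ * b * x * (x⁻¹ * b * x)) * x⁻¹ := by group
          _ = v := by rw [e', hxz]
    have hac := hAC a ha
    rcases haa with haa | haa
    · have := (hVc a (hA2 a ha haa) b hbz hbv).symm
      rw [kom, show a * b = b * a from this.eq] at e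
      exact hu1 (by rw [← e]; group)
    rcases hbb with hbb | hbb
    · have h3 : x⁻¹ * b * x * (x⁻¹ * b * x) = 1 := by
        rw [show x⁻¹ * b * x * (x⁻¹ * b * x) = x⁻¹ * (b * b) * x by group, hbb, mul_one, inv_mul_cancel]
      have h4 : b = 1 ∨ b = z ∨ b = v ∨ b = u := by
        rcases hA2 _ hb h3 with e' | e' | e' | e' <;> have e'' := hback b <;> rw [e'] at e''
        · left; rw [← e'']; group
        · right; right; left; rw [← e'', hxz]
        · right; right; right; rw [← e'', hxv]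
        · right; left; rw [← e'', hxu]
      have := hVc b h4 a hac.1 hac.2
      rw [kom, show a * b = b * a from this.eq] at e
      exact hu1 (by rw [← e]; group)
    have hua : a * u = u * a := hcu' a hac.1 hac.2
    have habsq : a * b * (a * b) = 1 := by
      have hba : b * a = u * (a * b) := by rw [hab, ← mul_assoc, huu, one_mul]
      calc a * b * (a * b) = a * (b * a) * b := by group
        _ = (a * u) * (a * b) * b := by rw [hba]; group
        _ = u * (a * a) * (b * b) := by rw [hua]; group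
        _ = 1 := by rw [haa, hbb, mul_assoc, hzv', huu]
    have hQab := hin (a * b) habsq ((show Commute a z from hac.1).mul_left hbz).eq
    have hbQ : b ∈ P := by
      have := mul_mem (inv_mem ha.1) hQab
      rwa [inv_mul_cancel_left] at this
    have h5 := hAB b ⟨hbQ, hbv⟩ hb
    have := hVc b h5 a hac.1 hac.2
    rw [kom, show a * b = b * a from this.eq] at e
    exact hu1 (by rw [← e]; group)

theorem dec : ∀ e, InD P v x e → ∃ a b, InA P v a ∧ InB P v x b ∧ e = a * b := by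
  have hzz := T.hzz
  have hz1 := T.hz1
  have huu := T.huu
  have hu1 := T.hu1
  have huz := T.huz
  have huv := T.huv
  have hv0 := T.hv0
  have hvne := T.hvne
  have hzu := T.hzu
  have hvz := T.hvz
  have hzv' := T.hzv'
  have hv := T.hv
  have hxz := T.hxz
  have hxv := T.hxv
  have hxu := T.hxu
  have hin := T.hin
  have hQz := T.hQz
  have hQsq := T.hQsq
  have hQcomm := T.hQcomm
  have hQn := T.hQn
  have uP := T.uP
  have vP := T.vP
  have helem := T.helem
  have hA2 := T.hA2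
  have pair := T.pair
  have hker := T.hker
  have hxconj := T.xconj
  have hAmul := T.amul
  have hAC := T.aC
  have hback := T.back
  have hBC := T.bC
  have hDC := T.dC
  have hcu' := T.cu
  have hAnorm := T.anorm
  have hBnorm := T.bnorm
  have hAB := T.ab
  have hVc := T.vc

  intro e he
  obtain ⟨he1, he2⟩ := hDC e he
  obtain ⟨p1, hp1, p2, hp2, hp1v, hp2v, hKp⟩ := pair
  obtain ⟨b1, hb1⟩ : ∃ b, b = x * p1 * x⁻¹ := ⟨_, rfl⟩
  obtain ⟨b2, hb2⟩ : ∃ b, b = x * p2 * x⁻¹ := ⟨_, rfl⟩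
  have hKb : kom b1 b2 = v := by rw [hb1, hb2, ← kom_conj, hKp, hxz]
  have hB1 : InB P v x b1 := hb1 ▸ (show InA P v (x⁻¹ * (x * p1 * x⁻¹) * x) by
    rw [show x⁻¹ * (x * p1 * x⁻¹) * x = p1 by group]; exact ⟨hp1, hp1v⟩)
  have hB2 : InB P v x b2 := hb2 ▸ (show InA P v (x⁻¹ * (x * p2 * x⁻¹) * x) by
    rw [show x⁻¹ * (x * p2 * x⁻¹) * x = p2 by group]; exact ⟨hp2, hp2v⟩)
  let cz : ∀ c : G, c * z = z * c → centralizer ({z} : Set G) := fun c h => ⟨c, mem_centralizer_singleton_iff.2 h⟩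
  have hmemQ : ∀ (c : G) (h : c * z = z * c), π (cz c h) = 1 → c ∈ P := fun c h e =>
    (hker _).1 e
  have hQmem : ∀ (c : G) (h : c * z = z * c), c ∈ P → π (cz c h) = 1 := fun c h e =>
    (hker (cz c h)).2 e
  have hsqB : ∀ b, InB P v x b → b * b ∈ P ∧ (b * b) * v = v * (b * b) := by
    intro b hb
    have hb2 := ((show Commute b v from (hBC b hb).2).mul_left (show Commute b v from (hBC b hb).2)).eq
    refine ⟨?_, hb2⟩
    rcases hQsq _ hb.1 with e' | e'
    · rw [show b * b = x * (x⁻¹ * b * x * (x⁻¹ * b * x)) * x⁻¹ by group, e', mul_one, mul_inv_cancel]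
      exact one_mem _
    · rw [show b * b = x * (x⁻¹ * b * x * (x⁻¹ * b * x)) * x⁻¹ by group, e', hxz, hv]
      rw [← hv]; exact vP
  have hsqπ : ∀ b (hb : InB P v x b), π (cz b (hBC b hb).1) * π (cz b (hBC b hb).1) = 1 := fun b hb => by
    rw [← map_mul]
    exact hQmem (b * b) ((show Commute b z from (hBC b hb).1).mul_left (hBC b hb).1).eq (hsqB b hb).1
  have hVB : ∀ b, InB P v x b → b ∈ P → b = 1 ∨ b = z ∨ b = v ∨ b = u := fun b hb hbQ =>
    hAB b ⟨hbQ, (hBC b hb).2⟩ hb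
  have hne1 : ∀ b b', InB P v x b → InB P v x b' → kom b b' = v → b ∉ P := fun b b' hb hb' hk hbQ => by
    have := (hVc b (hVB b hb hbQ) b' (hBC b' hb').1 (hBC b' hb').2).symm
    rw [kom, this.eq] at hk
    exact hv0 (by rw [← hk]; group)
  have hBmul : ∀ b b', InB P v x b → InB P v x b' → InB P v x (b * b') := fun b b' hb hb' => by
    show InA P v (x⁻¹ * (b * b') * x)
    rw [show x⁻¹ * (b * b') * x = (x⁻¹ * b * x) * (x⁻¹ * b' * x) by group]
    exact hAmul _ _ hb hb'
  obtain ⟨hz1b, hv1b⟩ := hBC _ hB1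
  obtain ⟨hz2b, hv2b⟩ := hBC _ hB2
  have hB12 := hBmul _ _ hB1 hB2
  obtain ⟨P1, hP1⟩ : ∃ p, p = π (cz b1 hz1b) := ⟨_, rfl⟩
  obtain ⟨P2, hP2⟩ : ∃ p, p = π (cz b2 hz2b) := ⟨_, rfl⟩
  obtain ⟨R, hR⟩ : ∃ p, p = π (cz e he1) := ⟨_, rfl⟩
  have hP12 : π (cz (b1 * b2) (hBC _ hB12).1) = P1 * P2 := by rw [hP1, hP2, ← map_mul]; rfl
  have s1 : P1 * P1 = 1 := hP1 ▸ hsqπ b1 hB1
  have s2 : P2 * P2 = 1 := hP2 ▸ hsqπ b2 hB2
  have s12 : P1 * P2 * (P1 * P2) = 1 := hP12 ▸ hsqπ _ hB12
  have n1 : P1 ≠ 1 := fun e' => hne1 _ _ hB1 hB2 hKb (hmemQ _ hz1b (hP1 ▸ e'))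
  have n2 : P2 ≠ 1 := fun e' => by
    have := hmemQ _ hz2b (hP2 ▸ e')
    have h4 := (hVc b2 (hVB b2 hB2 this) b1 hz1b hv1b)
    rw [kom, h4.eq] at hKb
    exact hv0 (by rw [← hKb]; group)
  have n12 : P1 ≠ P2 := fun e' => by
    have h3 : b1 * b2 ∈ P := hmemQ _ (hBC _ hB12).1 (by rw [hP12, ← e', s1])
    have h4 := hVc _ (hVB _ hB12 h3) b1 hz1b hv1b
    have h5 : Commute b1 b2 := by
      have := h4
      have h6 : b1 * (b1 * b2) = b1 * b2 * b1 := this.eq
      rw [mul_assoc b1 b2 b1] at h6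
      exact mul_left_cancel h6
    rw [kom, h5.eq] at hKb
    exact hv0 (by rw [← hKb]; group)
  have c12 : P1 * P2 = P2 * P1 := by
    calc P1 * P2 = P1 * P2 * (P1 * P2) * (P2 * P1) := by
          rw [show P1 * P2 * (P1 * P2) * (P2 * P1) = P1 * P2 * (P1 * (P2 * P2) * P1) by group, s2, mul_one, s1, mul_one]
      _ = P2 * P1 := by rw [s12, one_mul]
  have sR : R * R = 1 := by
    rw [hR, ← map_mul]
    refine hQmem (e * e) ((show Commute e z from he1).mul_left he1).eq ?_
    rw [show e * e = x * (x⁻¹ * e * x * (x⁻¹ * e * x)) * x⁻¹ by group]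
    obtain ⟨h7, -⟩ := hsqB _ he
    rcases hQsq _ he.1 with e' | e'
    · have : x⁻¹ * e * x * (x⁻¹ * e * x) = 1 := by
        rw [show x⁻¹ * e * x * (x⁻¹ * e * x) = x * (x⁻¹ * (x⁻¹ * e * x) * x * (x⁻¹ * (x⁻¹ * e * x) * x)) * x⁻¹ by group,
          e', mul_one, mul_inv_cancel]
      rw [this, mul_one, mul_inv_cancel]; exact one_mem _
    · have : x⁻¹ * e * x * (x⁻¹ * e * x) = v := by
        rw [show x⁻¹ * e * x * (x⁻¹ * e * x) = x * (x⁻¹ * (x⁻¹ * e * x) * x * (x⁻¹ * (x⁻¹ * e * x) * x)) * x⁻¹ by group,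
          e', hxz]
      rw [this, hxv]; exact uP
  have hnorm : ∀ b (hb : InB P v x b), π (cz b (hBC b hb).1) ≠ 1 →
      R * π (cz b (hBC b hb).1) * R = π (cz (e * b * e⁻¹) (hBC _ (hBnorm e b he1 he2 hb)).1) := by
    intro b hb _
    have hRi : R = R⁻¹ := eq_inv_of_mul_eq_one_left sR
    nth_rewrite 2 [hRi]
    rw [hR, ← map_inv, ← map_mul, ← map_mul]
    rfl
  have hfour : ∀ b (hb : InB P v x b), π (cz b (hBC b hb).1) = 1 ∨ π (cz b (hBC b hb).1) = P1 ∨
      π (cz b (hBC b hb).1) = P2 ∨ π (cz b (hBC b hb).1) = P1 * P2 := by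
    intro b hb
    obtain ⟨S, hS⟩ : ∃ p, p = π (cz b (hBC b hb).1) := ⟨_, rfl⟩
    rw [← hS]
    have sS : S * S = 1 := hS ▸ hsqπ b hb
    have hcm : ∀ c (hc : InB P v x c), S * π (cz c (hBC c hc).1) = π (cz c (hBC c hc).1) * S := by
      intro c hc
      have h8 := hsqπ _ (hBmul _ _ hb hc)
      have h9 : π (cz (b * c) (hBC _ (hBmul _ _ hb hc)).1) = S * π (cz c (hBC c hc).1) := by
        rw [hS, ← map_mul]; rfl
      rw [h9] at h8
      calc S * π (cz c (hBC c hc).1) = (S * π (cz c (hBC c hc).1))⁻¹ := eq_inv_of_mul_eq_one_left h8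
        _ = _ := by rw [mul_inv_rev, ← eq_inv_of_mul_eq_one_left (hsqπ c hc), ← eq_inv_of_mul_eq_one_left sS]
    refine alt_normalize_four P1 ⟨s1, n1⟩ P2 ⟨s2, n2, n12, c12⟩ S ⟨sS, Or.inl ?_⟩ (Or.inr (Or.inl ?_))
    · rw [show S * P1 = P1 * S from hP1 ▸ hcm b1 hB1, mul_assoc, sS, mul_one]
    · rw [show S * P2 = P2 * S from hP2 ▸ hcm b2 hB2, mul_assoc, sS, mul_one]
  have hR4 : R = 1 ∨ R = P1 ∨ R = P2 ∨ R = P1 * P2 := by
    refine alt_normalize_four P1 ⟨s1, n1⟩ P2 ⟨s2, n2, n12, c12⟩ R ⟨sR, ?_⟩ ?_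
    · have h10 := hnorm b1 hB1 (hP1 ▸ n1)
      rw [← hP1] at h10
      rcases hfour _ (hBnorm e b1 he1 he2 hB1) with e' | e' | e' | e' <;> rw [← h10] at e'
      · exact absurd (by
          calc P1 = R * R * P1 * (R * R) := by rw [sR, one_mul, mul_one]
            _ = R * (R * P1 * R) * R := by group
            _ = 1 := by rw [e', mul_one, sR]) n1
      · exact Or.inl e'
      · exact Or.inr (Or.inl e')
      · exact Or.inr (Or.inr e')
    · have h10 := hnorm b2 hB2 (hP2 ▸ n2)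
      rw [← hP2] at h10
      rcases hfour _ (hBnorm e b2 he1 he2 hB2) with e' | e' | e' | e' <;> rw [← h10] at e'
      · exact absurd (by
          calc P2 = R * R * P2 * (R * R) := by rw [sR, one_mul, mul_one]
            _ = R * (R * P2 * R) * R := by group
            _ = 1 := by rw [e', mul_one, sR]) n2
      · exact Or.inl e'
      · exact Or.inr (Or.inl e')
      · exact Or.inr (Or.inr e')
  have hfin : ∀ b (hb : InB P v x b), R = π (cz b (hBC b hb).1) → ∃ a b, InA P v a ∧ InB P v x b ∧ e = a * b := by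
    intro b hb e'
    have hc : (e * b⁻¹) * z = z * (e * b⁻¹) :=
      ((show Commute e z from he1).mul_left (show Commute b z from (hBC b hb).1).inv_left).eq
    refine ⟨e * b⁻¹, b, ⟨hmemQ _ hc ?_,
      ((show Commute e v from he2).mul_left (show Commute b v from (hBC b hb).2).inv_left).eq⟩, hb, by group⟩
    rw [show cz (e * b⁻¹) hc = cz e he1 * (cz b (hBC b hb).1)⁻¹ from rfl, map_mul, map_inv, ← hR, e',
      mul_inv_cancel]
  rcases hR4 with e' | e' | e' | e'
  · exact ⟨e, 1, ⟨hmemQ e he1 (hR ▸ e'), he2⟩, by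
      show InA P v (x⁻¹ * 1 * x)
      rw [mul_one, inv_mul_cancel]; exact ⟨one_mem _, by simp⟩, (mul_one e).symm⟩
  · exact hfin b1 hB1 (by rw [e', hP1])
  · exact hfin b2 hB2 (by rw [e', hP2])
  · exact hfin _ hB12 (by rw [e', hP12])

theorem dich : (∀ a b, InA P v a → InB P v x b → kom a b = 1 ∨ kom a b = z) ∨
      ∀ a b, InA P v a → InB P v x b → kom a b = 1 ∨ kom a b = v := by
  have hzz := T.hzz
  have hz1 := T.hz1
  have huu := T.huu
  have hu1 := T.hu1
  have huz := T.huz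
  have huv := T.huv
  have hv0 := T.hv0
  have hvne := T.hvne
  have hzu := T.hzu
  have hvz := T.hvz
  have hzv' := T.hzv'
  have hv := T.hv
  have hxz := T.hxz
  have hxv := T.hxv
  have hxu := T.hxu
  have hin := T.hin
  have hQz := T.hQz
  have hQsq := T.hQsq
  have hQcomm := T.hQcomm
  have hQn := T.hQn
  have uP := T.uP
  have vP := T.vP
  have helem := T.helem
  have hA2 := T.hA2
  have pair := T.pair
  have hker := T.hker
  have hxconj := T.xconj
  have hAmul := T.amul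
  have hAC := T.aC
  have hback := T.back
  have hBC := T.bC
  have hDC := T.dC
  have hcu' := T.cu
  have hAnorm := T.anorm
  have hBnorm := T.bnorm
  have hAB := T.ab
  have hVc := T.vc
  have hKAB := T.kab
  have hCK : ∀ t, t = 1 ∨ t = z ∨ t = v → t = 1 ∨ t = z ∨ t = v ∨ t = u := fun t ht => by tauto
  have hmulAB : ∀ a a' b, InA P v a → InA P v a' → InB P v x b → kom (a * a') b = kom a' b * kom a b := fun a a' b ha ha' hb =>
    kom_mul_left (hVc _ (hCK _ (hKAB a' b ha' hb)) a (hAC a ha).1 ha.2)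
  have hmulBA : ∀ a b b', InA P v a → InB P v x b → InB P v x b' → kom a (b * b') = kom a b * kom a b' := fun a b b' ha hb hb' =>
    kom_mul_right (hVc _ (hCK _ (hKAB a b' ha hb')) b (hBC b hb).1 (hBC b hb).2)
  have hBmul' : ∀ b b', InB P v x b → InB P v x b' → InB P v x (b * b') := fun b b' hb hb' => by
    show InA P v (x⁻¹ * (b * b') * x)
    rw [show x⁻¹ * (b * b') * x = (x⁻¹ * b * x) * (x⁻¹ * b' * x) by group]
    exact hAmul _ _ hb hb'
  have hdich : (∀ a b, InA P v a → InB P v x b → kom a b = 1 ∨ kom a b = z) ∨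
      ∀ a b, InA P v a → InB P v x b → kom a b = 1 ∨ kom a b = v := by
    by_contra hh
    push Not at hh
    obtain ⟨⟨a, b, ha, hb, e1, e2⟩, a', b', ha', hb', e3, e4⟩ := hh
    have k1 : kom a b = v := ((hKAB a b ha hb).resolve_left e1).resolve_left e2
    have k2 : kom a' b' = z := ((hKAB a' b' ha' hb').resolve_left e3).resolve_right e4
    have hA := hAmul _ _ ha ha'
    have hB := hBmul' _ _ hb hb'
    have hu' : ¬ (u = 1 ∨ u = z ∨ u = v) := by
      rintro (e | e | e)
      exacts [hu1 e, huz e, huv e]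
    have hvz' : v * z = u := by rw [hvz, hzv']
    rcases hKAB a b' ha hb' with e5 | e5 | e5
    · rcases hKAB a' b ha' hb with e6 | e6 | e6
      · refine hu' ?_
        have := hKAB _ _ hA hB
        rwa [hmulBA _ _ _ hA hb hb', hmulAB _ _ _ ha ha' hb, hmulAB _ _ _ ha ha' hb', k1, k2, e5, e6, one_mul,
          mul_one, hvz'] at this
      · refine hu' ?_
        have := hKAB _ _ hA hb
        rwa [hmulAB _ _ _ ha ha' hb, k1, e6, hzv'] at this
      · refine hu' ?_
        have := hKAB _ _ ha' hB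
        rwa [hmulBA _ _ _ ha' hb hb', k2, e6, hvz'] at this
    · refine hu' ?_
      have := hKAB _ _ ha hB
      rwa [hmulBA _ _ _ ha hb hb', k1, e5, hvz'] at this
    · refine hu' ?_
      have := hKAB _ _ hA hb'
      rwa [hmulAB _ _ _ ha ha' hb', k2, e5, hzv'] at this
  exact hdich

theorem absurd_of : False := by
  have hzz := T.hzz
  have hz1 := T.hz1
  have huu := T.huu
  have hu1 := T.hu1
  have huz := T.huz
  have huv := T.huv
  have hv0 := T.hv0
  have hvne := T.hvne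
  have hzu := T.hzu
  have hvz := T.hvz
  have hzv' := T.hzv'
  have hv := T.hv
  have hxz := T.hxz
  have hxv := T.hxv
  have hxu := T.hxu
  have hin := T.hin
  have hQz := T.hQz
  have hQsq := T.hQsq
  have hQcomm := T.hQcomm
  have hQn := T.hQn
  have uP := T.uP
  have vP := T.vP
  have helem := T.helem
  have hA2 := T.hA2
  have pair := T.pair
  have hker := T.hker
  have hxconj := T.xconj
  have hAmul := T.amul
  have hAC := T.aC
  have hback := T.back
  have hBC := T.bC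
  have hDC := T.dC
  have hcu' := T.cu
  have hAnorm := T.anorm
  have hBnorm := T.bnorm
  have hAB := T.ab
  have hVc := T.vc
  have hKA : ∀ a b, InA P v a → InA P v b → kom a b = 1 ∨ kom a b = z := fun a b ha hb => hQcomm a ha.1 b hb.1
  have hKAB := T.kab
  have hdec := T.dec
  have hdich := T.dich
  have hCK : ∀ t, t = 1 ∨ t = z ∨ t = v → t = 1 ∨ t = z ∨ t = v ∨ t = u := fun t ht => by tauto
  obtain ⟨p1, hp1, p2, hp2, hp1v, hp2v, hKp⟩ := pair
  obtain ⟨d, hdd⟩ : ∃ d, d = x * (x * p1 * x⁻¹) * x⁻¹ := ⟨_, rfl⟩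
  obtain ⟨d', hdd'⟩ : ∃ d', d' = x * (x * p2 * x⁻¹) * x⁻¹ := ⟨_, rfl⟩
  have hup : ∀ p, p ∈ P → p * v = v * p → InD P v x (x * (x * p * x⁻¹) * x⁻¹) := fun p h1 h2 => by
    show InA P v (x⁻¹ * (x⁻¹ * (x * (x * p * x⁻¹) * x⁻¹) * x) * x)
    rw [show x⁻¹ * (x⁻¹ * (x * (x * p * x⁻¹) * x⁻¹) * x) * x = p by group]; exact ⟨h1, h2⟩
  have hD1 : InD P v x d := hdd ▸ hup p1 hp1 hp1v
  have hD2 : InD P v x d' := hdd' ▸ hup p2 hp2 hp2v
  have hKd : kom d d' = u := by
    rw [hdd, hdd', ← kom_conj, ← kom_conj, hKp, hxz, hxv]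
  obtain ⟨a1, b1, ha1, hb1, e1⟩ := hdec d hD1
  obtain ⟨a2, b2, ha2, hb2, e2⟩ := hdec d' hD2
  have hKBB : ∀ b b', InB P v x b → InB P v x b' → kom b b' = 1 ∨ kom b b' = v := fun b b' hb hb' => by
    rw [← hback b, ← hback b', ← kom_conj]
    rcases hKA _ _ hb hb' with e | e <;> rw [e]
    · left; group
    · right; exact hxz
  have hvv : v * v = 1 := by
    rw [hv, show u * z * (u * z) = u * (z * u) * z by group, ← hzu, ← mul_assoc, huu, one_mul, hzz]
  have hinv : ∀ a b : G, (kom a b = 1 ∨ kom a b = z ∨ kom a b = v) → kom b a = kom a b := fun a b h => by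
    have h1 : kom b a = (kom a b)⁻¹ := by simp [kom, mul_assoc]
    rw [h1]
    rcases h with e | e | e <;> rw [e]
    · simp
    · exact inv_eq_of_mul_eq_one_right hzz
    · exact inv_eq_of_mul_eq_one_right hvv
  have hK1 : ∀ a b : G, kom a b = 1 → Commute a b := fun a b h => by
    rw [kom, mul_inv_eq_one, mul_inv_eq_iff_eq_mul] at h
    exact h
  have hbd : ∀ b e a c, InB P v x b → InA P v a → InB P v x c → e = a * c → kom b e = kom a b * kom b c := fun b e a c hb ha hc he => by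
    rw [he, kom_mul_right (hVc _ (by rcases hKBB b c hb hc with e' | e' <;> tauto) a (hAC a ha).1 ha.2),
      hinv a b (hKAB a b ha hb)]
  have hBD : ∀ b e, InB P v x b → InD P v x e → ∃ a c, InA P v a ∧ InB P v x c ∧ kom b e = x * kom a c * x⁻¹ := fun b e hb he =>
    ⟨x⁻¹ * b * x, x⁻¹ * e * x, hb, he, by rw [kom_conj, hback, hback]⟩
  have hDA : ∃ a' c, InA P v a' ∧ InB P v x c ∧ kom d a2 = x * (x * kom a' c * x⁻¹) * x⁻¹ := by
    refine ⟨x⁻¹ * (x⁻¹ * d * x) * x, x⁻¹ * (x⁻¹ * a2 * x) * x, hD1, ?_,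
      by rw [kom_conj, kom_conj, hback, hback, hback, hback]⟩
    show InA P v (x⁻¹ * (x⁻¹ * (x⁻¹ * a2 * x) * x) * x)
    have h3 : x * x * x * z = z * (x * x * x) := by
      calc x * x * x * z = x * (x * (x * z * x⁻¹) * x⁻¹) * x⁻¹ * (x * x * x) := by group
        _ = _ := by rw [hxz, hxv, hxu]
    have h4 : x * x * x * v = v * (x * x * x) := by
      calc x * x * x * v = x * (x * (x * v * x⁻¹) * x⁻¹) * x⁻¹ * (x * x * x) := by group
        _ = _ := by rw [hxv, hxu, hxz]
    rw [show x⁻¹ * (x⁻¹ * (x⁻¹ * a2 * x) * x) * x = (x * x * x)⁻¹ * a2 * (x * x * x)⁻¹⁻¹ by simp only [inv_inv, mul_inv_rev, mul_assoc]]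
    exact hAnorm _ _ (show Commute (x * x * x) z from h3).inv_left.eq (show Commute (x * x * x) v from h4).inv_left.eq ha2
  have hu' : u ≠ 1 ∧ u ≠ z ∧ u ≠ v := ⟨hu1, huz, huv⟩
  have hv1 : v ≠ 1 := fun e => huz (by rw [← hzv', e, mul_one])
  have hdexp : kom d a2 = kom b1 a2 * kom a1 a2 := by
    rw [e1, kom_mul_left (hVc _ (by rcases hKAB a2 b1 ha2 hb1 with e | e | e <;> rw [hinv a2 b1 (hKAB a2 b1 ha2 hb1), e] <;> tauto)
      a1 (hAC a1 ha1).1 ha1.2)]
  rcases hdich with hz' | hv'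
  · have hc1 : ∀ a b e, InA P v a → InB P v x b → InD P v x e → ∀ c, InB P v x c → e = a * c → kom a b = 1 := by
      intro a b e ha hb he c hc hec
      obtain ⟨a', c', ha', hc', hval⟩ := hBD b e hb he
      rw [hbd b e a c hb ha hc hec] at hval
      rcases hz' a b ha hb with k | k
      · exact k
      exfalso
      rw [k] at hval
      rcases hz' a' c' ha' hc' with k' | k' <;> rw [k'] at hval <;> rcases hKBB b c hb hc with k'' | k'' <;> rw [k''] at hval
      · exact hz1 (by simpa using hval)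
      · exact hu1 (by rw [← hzv', hval]; group)
      · rw [mul_one, hxz] at hval; exact hvne hval.symm
      · rw [hzv', hxz] at hval; exact huv hval
    have k12 : Commute a1 b2 := hK1 _ _ (hc1 a1 b2 d ha1 hb2 hD1 b1 hb1 e1)
    have k21 : Commute a2 b1 := hK1 _ _ (hc1 a2 b1 d' ha2 hb1 hD2 b2 hb2 e2)
    have hexp : kom d d' = kom a1 a2 * kom b1 b2 := by
      have hcb : Commute (kom b1 b2) a1 :=
        (hVc _ (by rcases hKBB b1 b2 hb1 hb2 with e' | e' <;> tauto) a1 (hAC a1 ha1).1 ha1.2).symm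
      rw [e1, e2, kom_mul_left (hVc _ (by
          rw [kom_mul_right (hVc _ (by rcases hKBB b1 b2 hb1 hb2 with e' | e' <;> tauto) a2 (hAC a2 ha2).1 ha2.2),
            show kom b1 a2 = 1 by rw [kom, k21.symm.eq]; group, one_mul]
          rcases hKBB b1 b2 hb1 hb2 with e' | e' <;> tauto) a1 (hAC a1 ha1).1 ha1.2),
        kom_mul_right (hVc _ (by rcases hKBB b1 b2 hb1 hb2 with e' | e' <;> tauto) a2 (hAC a2 ha2).1 ha2.2),
        show kom b1 a2 = 1 by rw [kom, k21.symm.eq]; group, one_mul,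
        kom_mul_right (hVc _ (Or.inl (show kom a1 b2 = 1 by rw [kom, k12.eq]; group)) a2 (hAC a2 ha2).1 ha2.2),
        show kom a1 b2 = 1 by rw [kom, k12.eq]; group, mul_one]
      exact (hVc _ (by rcases hKA a1 a2 ha1 ha2 with e' | e' <;> tauto) _
        (by rcases hKBB b1 b2 hb1 hb2 with e' | e' <;> rw [e'] <;> simp [hvz])
        (by rcases hKBB b1 b2 hb1 hb2 with e' | e' <;> rw [e'] <;> simp)).eq
    rw [hKd] at hexp
    have hs : kom a1 a2 = z := by
      rcases hKA a1 a2 ha1 ha2 with e' | e'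
      · exfalso
        rw [e', one_mul] at hexp
        rcases hKBB b1 b2 hb1 hb2 with e'' | e'' <;> rw [e''] at hexp
        exacts [hu1 hexp, huv hexp]
      · exact e'
    obtain ⟨a', c', ha', hc', hval⟩ := hDA
    rw [hdexp, show kom b1 a2 = 1 by rw [kom, k21.symm.eq]; group, one_mul, hs] at hval
    rcases hz' a' c' ha' hc' with k' | k' <;> rw [k'] at hval
    · exact hz1 (by simpa using hval)
    · rw [hxz, hxv] at hval; exact huz hval.symm
  · have hc1 : ∀ a b e c, InA P v a → InB P v x b → InD P v x e → InB P v x c → e = a * c → kom a b = kom b c := by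
      intro a b e c ha hb he hc hec
      obtain ⟨a', c', ha', hc', hval⟩ := hBD b e hb he
      rw [hbd b e a c hb ha hc hec] at hval
      rcases hv' a' c' ha' hc' with k' | k' <;> rw [k'] at hval <;> rcases hv' a b ha hb with k | k <;>
        rcases hKBB b c hb hc with k'' | k'' <;> rw [k, k''] at hval <;> rw [k, k'']
      · exact absurd (by simpa using hval) hv1
      · exact absurd (by simpa using hval) hv1
      · rw [one_mul, hxv] at hval; exact absurd hval.symm huv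
      · rw [mul_one, hxv] at hval; exact absurd hval.symm huv
    have k12 := hc1 a1 b2 d b1 ha1 hb2 hD1 hb1 e1
    have k21 := hc1 a2 b1 d' b2 ha2 hb1 hD2 hb2 e2
    have ht : kom b1 b2 = v := by
      rcases hKBB b1 b2 hb1 hb2 with e' | e'
      · exfalso
        have c1 : Commute a1 b2 := hK1 _ _ (by
          rw [k12, show kom b2 b1 = (kom b1 b2)⁻¹ by simp [kom, mul_assoc], e', inv_one])
        have c2 : Commute a2 b1 := hK1 _ _ (k21.trans e')
        have c3 := hK1 _ _ e'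
        have key : kom d d' = kom a1 a2 := by
          rw [e1, e2, kom, kom]
          have r1 : b1 * (a2 * b2) = a2 * b2 * b1 := (c2.symm.mul_right c3).eq
          have r2 : b2 * a1⁻¹ = a1⁻¹ * b2 := c1.inv_left.symm.eq
          calc a1 * b1 * (a2 * b2) * (a1 * b1)⁻¹ * (a2 * b2)⁻¹
              = a1 * (b1 * (a2 * b2)) * b1⁻¹ * a1⁻¹ * b2⁻¹ * a2⁻¹ := by group
            _ = a1 * a2 * (b2 * a1⁻¹) * b2⁻¹ * a2⁻¹ := by rw [r1]; group
            _ = a1 * a2 * a1⁻¹ * a2⁻¹ := by rw [r2]; group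
        rw [hKd] at key
        rcases hKA a1 a2 ha1 ha2 with e'' | e'' <;> rw [e''] at key
        exacts [hu1 key, huz key]
      · exact e'
    obtain ⟨a', c', ha', hc', hval⟩ := hDA
    rw [hdexp, hinv a2 b1 (hKAB a2 b1 ha2 hb1), k21, ht] at hval
    rcases hv' a' c' ha' hc' with k' | k' <;> rcases hKA a1 a2 ha1 ha2 with k'' | k'' <;> rw [k', k''] at hval
    · exact hv1 (by simpa using hval)
    · exact hu1 (by rw [← hzv', ← hvz]; simpa using hval)
    · rw [mul_one, hxv, hxu] at hval; exact hvne hval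
    · rw [hvz, hzv', hxv, hxu] at hval; exact huz hval

end Tri

/-- An involution of the centralizer outside `Q`. -/
theorem exists_outside {G : Type v} [Group G] [Finite G] [IsSimpleGroup G] {z : G} (hz : orderOf z = 2)
    {Q : Subgroup (centralizer ({z} : Set G))} {π : centralizer ({z} : Set G) →* alternatingGroup (Fin 5)}
    (hP : JankoTwo.Pre Q (JankoTwo.zed z) π) (hone : ∀ x y : G, orderOf x = 2 → orderOf y = 2 → IsConj x y) :
    ∃ t : centralizer ({z} : Set G), t * t = 1 ∧ t ∉ Q := by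
  classical
  by_contra hno
  push Not at hno
  haveI := hP.normal
  have hE := ext_of_pre hP
  have hzz : z * z = 1 := congrArg Subtype.val hP.zz
  have hz1 : z ≠ 1 := fun e => hP.z1 (Subtype.ext e)
  -- involutions commuting with `z` lie in `Q`
  have hin : ∀ a : G, a * a = 1 → a * z = z * a → a ∈ QG Q := fun a ha hac =>
    mem_QG.2 ⟨mem_centralizer_singleton_iff.2 hac, hno ⟨a, mem_centralizer_singleton_iff.2 hac⟩ (Subtype.ext ha)⟩
  have hQz : ∀ a ∈ QG Q, a * z = z * a := fun a ha =>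
    mem_centralizer_singleton_iff.1 (mem_QG.1 ha).1
  have hQsq : ∀ a ∈ QG Q, a * a = 1 ∨ a * a = z := fun a ha => by
    obtain ⟨h1, h2⟩ := mem_QG.1 ha
    rcases hE.sq _ h2 with e | e
    · exact Or.inl (congrArg Subtype.val e)
    · exact Or.inr (congrArg Subtype.val e)
  have hQcomm : ∀ a ∈ QG Q, ∀ b ∈ QG Q, kom a b = 1 ∨ kom a b = z := fun a ha b hb => by
    obtain ⟨a1, a2⟩ := mem_QG.1 ha
    obtain ⟨b1, b2⟩ := mem_QG.1 hb
    rcases hE.comm _ a2 _ b2 with e | e
    · left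
      rw [kom, show a * b = b * a from congrArg Subtype.val e]; group
    · right
      rw [kom, show a * b = z * (b * a) from congrArg Subtype.val e]; group
  have hQn : ∀ c, c * z = z * c → ∀ a ∈ QG Q, c * a * c⁻¹ ∈ QG Q := fun c hc a ha => by
    obtain ⟨a1, a2⟩ := mem_QG.1 ha
    exact ⟨⟨c, mem_centralizer_singleton_iff.2 hc⟩ * ⟨a, a1⟩ * ⟨c, mem_centralizer_singleton_iff.2 hc⟩⁻¹,
      hP.normal.conj_mem _ a2 _, rfl⟩
  -- conjugates of `Q`
  let Qc : G → Subgroup G := fun g => (QG Q).map (MulAut.conj g).toMonoidHom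
  have hQc : ∀ g a, a ∈ Qc g ↔ g⁻¹ * a * g ∈ QG Q := fun g a => by
    constructor
    · rintro ⟨b, hb, rfl⟩
      show g⁻¹ * (g * b * g⁻¹) * g ∈ QG Q
      rwa [show g⁻¹ * (g * b * g⁻¹) * g = b by group]
    · intro h
      exact ⟨_, h, show g * (g⁻¹ * a * g) * g⁻¹ = a by group⟩
  have hcz : ∀ g a : G, g⁻¹ * a * g * z = z * (g⁻¹ * a * g) ↔ a * (g * z * g⁻¹) = g * z * g⁻¹ * a := fun g a => by
    constructor
    · intro h
      calc a * (g * z * g⁻¹) = g * (g⁻¹ * a * g * z) * g⁻¹ := by group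
        _ = _ := by rw [h]; group
    · intro h
      calc g⁻¹ * a * g * z = g⁻¹ * (a * (g * z * g⁻¹)) * g := by group
        _ = _ := by rw [h]; group
  have hsqc : ∀ g a : G, g⁻¹ * a * g * (g⁻¹ * a * g) = g⁻¹ * (a * a) * g := fun g a => by group
  -- `Q` meets a conjugate in an elementary abelian group
  have helem : ∀ g, g * z * g⁻¹ ≠ z → ∀ a ∈ QG Q, a ∈ Qc g → a * a = 1 ∧ ∀ b ∈ QG Q, b ∈ Qc g → kom a b = 1 := by
    intro g hg a ha ha'
    refine ⟨?_, fun b hb hb' => ?_⟩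
    · rcases hQsq a ha with e | e
      · exact e
      · rcases hQsq _ ((hQc g a).1 ha') with e' | e'
        · rw [hsqc] at e'
          calc a * a = g * (g⁻¹ * (a * a) * g) * g⁻¹ := by group
            _ = 1 := by rw [e', mul_one, mul_inv_cancel]
        · rw [hsqc, e] at e'
          exact absurd (show g * z * g⁻¹ = z by
            calc g * z * g⁻¹ = g * (g⁻¹ * z * g) * g⁻¹ := by rw [e']
              _ = z := by group) hg
    · rcases hQcomm a ha b hb with e | e
      · exact e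
      · rcases hQcomm _ ((hQc g a).1 ha') _ ((hQc g b).1 hb') with e' | e'
        · rw [show kom (g⁻¹ * a * g) (g⁻¹ * b * g) = g⁻¹ * kom a b * g by simp [kom, mul_assoc]] at e'
          calc kom a b = g * (g⁻¹ * kom a b * g) * g⁻¹ := by group
            _ = 1 := by rw [e', mul_one, mul_inv_cancel]
        · rw [show kom (g⁻¹ * a * g) (g⁻¹ * b * g) = g⁻¹ * kom a b * g by simp [kom, mul_assoc], e] at e'
          exact absurd (show g * z * g⁻¹ = z by
            calc g * z * g⁻¹ = g * (g⁻¹ * z * g) * g⁻¹ := by rw [e']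
              _ = z := by group) hg
  have hconj : ∀ a : G, a * a = 1 → a ≠ 1 → ∃ g, g * z * g⁻¹ = a := fun a ha ha1 =>
    isConj_iff.1 (hone z a hz (orderOf_eq_prime (by rw [sq, ha]) ha1))
  -- two commuting noncentral involutions of `Q` lie in one coset
  set ζ := JankoTwo.zed z with hζ
  have htrans : ∀ a b c : centralizer ({z} : Set G), Inv10 Q ζ a → Inv10 Q ζ b → Inv10 Q ζ c →
      a * b = b * a → a * c = c * a → b * c = c * b := by
    intro a b c ha hb hc hab hac
    obtain ⟨g, hg⟩ := hconj (a : G) (congrArg Subtype.val ha.2.1) (fun e => ha.2.2.1 (Subtype.ext e))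
    have hmem : ∀ x : centralizer ({z} : Set G), Inv10 Q ζ x → a * x = x * a → (x : G) ∈ QG Q ∧ (x : G) ∈ Qc g :=
      fun x hx hax => ⟨mem_QG.2 ⟨x.2, hx.1⟩, (hQc g _).2 (hin _ (by
        rw [hsqc, show (x : G) * x = 1 from congrArg Subtype.val hx.2.1, mul_one, inv_mul_cancel])
        ((hcz g _).2 (by rw [hg]; exact (congrArg Subtype.val hax).symm)))⟩
    obtain ⟨hb1, hb2⟩ := hmem b hb hab
    obtain ⟨hc1, hc2⟩ := hmem c hc hac
    have e := (helem g (fun e0 => ha.2.2.2 (Subtype.ext (hg.symm.trans e0))) _ hb1 hb2).2 _ hc1 hc2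
    rw [kom, mul_inv_eq_one, mul_inv_eq_iff_eq_mul] at e
    exact Subtype.ext e
  have hpair : ∀ a b : centralizer ({z} : Set G), Inv10 Q ζ a → Inv10 Q ζ b → a * b = b * a → b = a ∨ b = a * ζ := by
    intro a b ha hb hab
    obtain ⟨c, hc5, hc⟩ := ten_eq hP ha
    by_contra hne
    have hrep : ∀ n : ℕ, Inv10 Q ζ (c ^ n * a * (c ^ n)⁻¹) := fun n => by
      refine ⟨hP.normal.conj_mem a ha.1 _, ?_, fun e0 => ha.2.2.1 (conj_eq_one_iff.1 e0), fun e0 => ha.2.2.2 ?_⟩
      · rw [show c ^ n * a * (c ^ n)⁻¹ * (c ^ n * a * (c ^ n)⁻¹) = c ^ n * (a * a) * (c ^ n)⁻¹ by group, ha.2.1,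
          mul_one, mul_inv_cancel]
      · rw [show a = (c ^ n)⁻¹ * (c ^ n * a * (c ^ n)⁻¹) * c ^ n by group, e0, mul_assoc, hP.zc, inv_mul_cancel_left]
    have hcz' : ∀ x y : centralizer ({z} : Set G), x * y = y * x → x * (y * ζ) = y * ζ * x := fun x y h => by
      rw [← mul_assoc, h, mul_assoc, mul_assoc, hP.zc]
    obtain ⟨i, hi⟩ := hc b hb
    have hab' : a * (c ^ (i : ℕ) * a * (c ^ (i : ℕ))⁻¹) = c ^ (i : ℕ) * a * (c ^ (i : ℕ))⁻¹ * a := by
      rcases hi with e | e
      · rwa [← e]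
      · rw [show c ^ (i : ℕ) * a * (c ^ (i : ℕ))⁻¹ = b * ζ by rw [e, mul_assoc _ ζ ζ, hP.zz, mul_one]]
        exact hcz' _ _ hab
    have hi0 : (i : ℕ) ≠ 0 := fun e0 => hne (by
      rw [e0, pow_zero, one_mul, inv_one, mul_one] at hi
      exact hi)
    -- translate
    have hshift : ∀ n m : ℕ, a * (c ^ m * a * (c ^ m)⁻¹) = c ^ m * a * (c ^ m)⁻¹ * a →
        (c ^ n * a * (c ^ n)⁻¹) * (c ^ (n + m) * a * (c ^ (n + m))⁻¹) =
          c ^ (n + m) * a * (c ^ (n + m))⁻¹ * (c ^ n * a * (c ^ n)⁻¹) := by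
      intro n m h
      rw [pow_add]
      calc c ^ n * a * (c ^ n)⁻¹ * (c ^ n * c ^ m * a * (c ^ n * c ^ m)⁻¹)
          = c ^ n * (a * (c ^ m * a * (c ^ m)⁻¹)) * (c ^ n)⁻¹ := by group
        _ = _ := by rw [h]; group
    have hmult : ∀ k : ℕ, a * (c ^ (k * i) * a * (c ^ (k * i))⁻¹) = c ^ (k * i) * a * (c ^ (k * i))⁻¹ * a := by
      intro k
      induction k with
      | zero => simp
      | succ k ih =>
        have h1 := hshift (k * i) i hab'
        rw [show (k + 1) * (i : ℕ) = k * i + i by ring]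
        exact htrans _ a _ (hrep (k * i)) ha (hrep _) ih.symm h1
    have hall : ∀ w, Inv10 Q ζ w → a * w = w * a := by
      intro w hw
      obtain ⟨j, hj⟩ := hc w hw
      obtain ⟨k, hk⟩ : ∃ k : ℕ, (k * (i : ℕ)) % 5 = (j : ℕ) := by
        have : ∀ i j : Fin 5, (i : ℕ) ≠ 0 → ∃ k : Fin 5, ((k : ℕ) * (i : ℕ)) % 5 = (j : ℕ) := by decide
        obtain ⟨k, hk⟩ := this i j hi0
        exact ⟨k, hk⟩
      have := hmult k
      rw [pow_eq_pow_mod (k * (i : ℕ)) hc5, hk] at this
      rcases hj with e | e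
      · rwa [e]
      · rw [e]; exact hcz' _ _ this
    have hall2 : ∀ w w', Inv10 Q ζ w → Inv10 Q ζ w' → w * w' = w' * w := fun w w' hw hw' =>
      htrans a w w' ha hw hw' (hall w hw) (hall w' hw')
    -- the involutions would form too large an abelian group
    set S : Set (centralizer ({z} : Set G)) := {w | w ∈ Q ∧ w * w = 1} with hS
    have hSc : ∀ x ∈ S, ∀ y ∈ S, x * y = y * x := by
      intro x hx y hy
      by_cases h1 : x = 1 ∨ x = ζ
      · rcases h1 with rfl | rfl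
        · simp
        · exact hP.zc y
      by_cases h2 : y = 1 ∨ y = ζ
      · rcases h2 with rfl | rfl
        · simp
        · exact (hP.zc x).symm
      push Not at h1 h2
      exact hall2 x y ⟨hx.1, hx.2, h1.1, h1.2⟩ ⟨hy.1, hy.2, h2.1, h2.2⟩
    let A : Subgroup (centralizer ({z} : Set G)) :=
      { carrier := S
        one_mem' := ⟨one_mem Q, one_mul 1⟩
        mul_mem' := fun {x y} hx hy => ⟨mul_mem hx.1 hy.1, by
          rw [show x * y * (x * y) = x * (y * x) * y by group, ← hSc x hx y hy,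
            show x * (x * y) * y = x * x * (y * y) by group, hx.2, hy.2, mul_one]⟩
        inv_mem' := fun {x} hx => ⟨inv_mem hx.1, by rw [← mul_inv_rev, hx.2, inv_one]⟩ }
    have h10 : 10 + 2 ≤ Nat.card A := by
      haveI := Fintype.ofFinite (centralizer ({z} : Set G))
      let T : Finset (centralizer ({z} : Set G)) := (Finset.univ.filter fun w => Inv10 Q ζ w) ∪ {1, ζ}
      have hT : T.card = 12 := by
        rw [Finset.card_union_of_disjoint, Finset.card_pair (Ne.symm hP.z1), ← Fintype.card_subtype,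
          ← Nat.card_eq_fintype_card, hP.card_inv10]
        rw [Finset.disjoint_left]
        intro x hx hx'
        rw [Finset.mem_filter] at hx
        rw [Finset.mem_insert, Finset.mem_singleton] at hx'
        exact hx'.elim hx.2.2.2.1 hx.2.2.2.2
      have hsub : ∀ x ∈ T, x ∈ A := by
        intro x hx
        rw [Finset.mem_union, Finset.mem_filter, Finset.mem_insert, Finset.mem_singleton] at hx
        rcases hx with hx | rfl | rfl
        · exact ⟨hx.2.1, hx.2.2.1⟩
        · exact one_mem A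
        · exact ⟨hP.zQ, hP.zz⟩
      rw [show Nat.card A = (A : Set (centralizer ({z} : Set G))).ncard from Nat.card_coe_set_eq _]
      calc 10 + 2 = (T : Set (centralizer ({z} : Set G))).ncard := by rw [Set.ncard_coe_finset, hT]
        _ ≤ _ := Set.ncard_le_ncard (fun x hx => hsub x hx)
    let B : Subgroup (centralizer ({z} : Set G)) := Q ⊓ centralizer {a}
    have hAB : A ≤ B := fun x hx => ⟨hx.1, mem_centralizer_singleton_iff.2 (hSc x hx a ⟨ha.1, ha.2.1⟩)⟩
    have hBQ : B < Q := lt_of_le_of_ne inf_le_left fun e => by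
      rcases hE.center a ha.1 fun q hq => mem_centralizer_singleton_iff.1 (e.ge hq : q ∈ B).2 with e' | e'
      · exact ha.2.2.1 e'
      · exact ha.2.2.2 e'
    have hB : Nat.card B ≤ 16 := by
      have h1 := Subgroup.card_dvd_of_le hBQ.le
      rw [hP.card32] at h1
      have h2 : Nat.card B ≠ 32 := fun e => hBQ.ne (eq_of_le_of_card_ge hBQ.le (by rw [e, hP.card32]))
      obtain ⟨l, hl, hl'⟩ := (Nat.dvd_prime_pow (m := 5) Nat.prime_two).1 (by simpa using h1)
      rw [hl'] at h2 ⊢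
      have : l ≤ 4 := by
        by_contra
        exact h2 (by rw [show l = 5 by omega]; norm_num)
      exact (Nat.pow_le_pow_right (by norm_num) this).trans (by norm_num)
    have hA : Nat.card B ≤ Nat.card A := by
      have h1 := Subgroup.card_dvd_of_le (hAB.trans hBQ.le)
      rw [hP.card32] at h1
      obtain ⟨l, hl, hl'⟩ := (Nat.dvd_prime_pow (m := 5) Nat.prime_two).1 (by simpa using h1)
      rw [hl'] at h10 ⊢
      have : 4 ≤ l := by
        by_contra hlt
        have := Nat.pow_le_pow_right (n := 2) (by norm_num) (show l ≤ 3 by omega)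
        omega
      exact hB.trans ((show 16 ≤ 2 ^ 4 by norm_num).trans (Nat.pow_le_pow_right (by norm_num) this))
    have hAeq := eq_of_le_of_card_ge hAB hA
    obtain ⟨a1, ha1, a2, ha2, h1, h2, h12⟩ := hE.exists_noncomm ha.1
    exact h12 (hSc a1 (hAeq.ge ⟨ha1, mem_centralizer_singleton_iff.2 h1⟩ : a1 ∈ A)
      a2 (hAeq.ge ⟨ha2, mem_centralizer_singleton_iff.2 h2⟩ : a2 ∈ A))
  -- two noncentral involutions exchanged with `z`
  obtain ⟨⟨u, hu⟩⟩ : Nonempty {u : centralizer ({z} : Set G) // Inv10 Q ζ u} :=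
    (Nat.card_pos_iff.1 (by rw [hP.card_inv10]; norm_num)).1
  have huu : (u : G) * u = 1 := congrArg Subtype.val hu.2.1
  have hu1 : (u : G) ≠ 1 := fun e => hu.2.2.1 (Subtype.ext e)
  have huz : (u : G) ≠ z := fun e => hu.2.2.2 (Subtype.ext e)
  have hzu : (u : G) * z = z * u := mem_centralizer_singleton_iff.1 u.2
  obtain ⟨g, hg⟩ := hconj (u : G) huu hu1
  have hu0c : g⁻¹ * z * g ∈ centralizer ({z} : Set G) :=
    mem_centralizer_singleton_iff.2 ((hcz g z).2 (by rw [hg]; exact hzu.symm))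
  obtain ⟨u0, hu0def⟩ : ∃ u0 : centralizer ({z} : Set G), u0 = ⟨_, hu0c⟩ := ⟨_, rfl⟩
  have hu0 : Inv10 Q ζ u0 := by
    have h2 : u0 * u0 = 1 := Subtype.ext (by
      subst hu0def
      show g⁻¹ * z * g * (g⁻¹ * z * g) = 1
      rw [hsqc, hzz, mul_one, inv_mul_cancel])
    refine ⟨hno u0 h2, h2, fun e => hz1 ?_, fun e => huz ?_⟩
    · have e' : g⁻¹ * z * g = 1 := by rw [hu0def] at e; exact congrArg Subtype.val e
      calc z = g * (g⁻¹ * z * g) * g⁻¹ := by group
        _ = 1 := by rw [e', mul_one, mul_inv_cancel]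
    · have e' : g⁻¹ * z * g = z := by rw [hu0def] at e; exact congrArg Subtype.val e
      calc (u : G) = g * z * g⁻¹ := hg.symm
        _ = g * (g⁻¹ * z * g) * g⁻¹ := by rw [e']
        _ = z := by group
  -- an element sending `u0` to `u`
  obtain ⟨q0, hq0, hq0u⟩ : ∃ q ∈ Q, q * u ≠ u * q := by
    by_contra hh
    push Not at hh
    rcases hE.center u hu.1 hh with e | e
    · exact hu.2.2.1 e
    · exact hu.2.2.2 e
  have hq0c : q0 * u * q0⁻¹ = u * ζ := by
    rw [(hE.comm q0 hq0 u hu.1).resolve_left hq0u, mul_assoc ζ, mul_inv_cancel_right, hP.zc]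
  obtain ⟨c, hc⟩ : ∃ c : centralizer ({z} : Set G), c * u0 * c⁻¹ = u := by
    obtain ⟨d, -, hd⟩ := ten_eq hP hu
    obtain ⟨i, e | e⟩ := hd u0 hu0
    · exact ⟨(d ^ (i : ℕ))⁻¹, by rw [e]; group⟩
    · refine ⟨q0 * (d ^ (i : ℕ))⁻¹, ?_⟩
      rw [e, show q0 * (d ^ (i : ℕ))⁻¹ * (d ^ (i : ℕ) * u * (d ^ (i : ℕ))⁻¹ * ζ) * (q0 * (d ^ (i : ℕ))⁻¹)⁻¹ =
        q0 * u * ((d ^ (i : ℕ))⁻¹ * ζ) * (d ^ (i : ℕ)) * q0⁻¹ by group, ← hP.zc ((d ^ (i : ℕ))⁻¹),
        show q0 * u * (ζ * (d ^ (i : ℕ))⁻¹) * d ^ (i : ℕ) * q0⁻¹ = q0 * u * (ζ * q0⁻¹) by group,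
        hP.zc q0⁻¹, ← mul_assoc, hq0c, mul_assoc, hP.zz, mul_one]
  have hcu : (c : G) * (g⁻¹ * z * g) * (c : G)⁻¹ = u := by
    rw [hu0def] at hc; exact congrArg Subtype.val hc
  have hccz : (c : G) * z = z * c := mem_centralizer_singleton_iff.1 c.2
  obtain ⟨y, hy⟩ : ∃ y, y = (c : G) * g⁻¹ := ⟨_, rfl⟩
  have hyz : y * z * y⁻¹ = (u : G) := by
    rw [hy, show (c : G) * g⁻¹ * z * ((c : G) * g⁻¹)⁻¹ = (c : G) * (g⁻¹ * z * g) * (c : G)⁻¹ by group, hcu]
  have hyu : y * (u : G) * y⁻¹ = z := by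
    rw [hy, ← hg, show (c : G) * g⁻¹ * (g * z * g⁻¹) * ((c : G) * g⁻¹)⁻¹ = (c : G) * z * (c : G)⁻¹ by group, hccz,
      mul_inv_cancel_right]
  obtain ⟨x, hx⟩ : ∃ x, x = (q0 : G) * y := ⟨_, rfl⟩
  have hq0G : (q0 : G) * u * (q0 : G)⁻¹ = (u : G) * z := congrArg Subtype.val hq0c
  have hq0z : (q0 : G) * z * (q0 : G)⁻¹ = z := by
    rw [mem_centralizer_singleton_iff.1 q0.2, mul_inv_cancel_right]
  obtain ⟨v, hv⟩ : ∃ v, v = (u : G) * z := ⟨_, rfl⟩
  have hxz : x * z * x⁻¹ = v := by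
    rw [hx, show (q0 : G) * y * z * ((q0 : G) * y)⁻¹ = (q0 : G) * (y * z * y⁻¹) * (q0 : G)⁻¹ by group, hyz, hq0G, hv]
  have hxu : x * (u : G) * x⁻¹ = z := by
    rw [hx, show (q0 : G) * y * u * ((q0 : G) * y)⁻¹ = (q0 : G) * (y * u * y⁻¹) * (q0 : G)⁻¹ by group, hyu, hq0z]
  have hxv : x * v * x⁻¹ = (u : G) := by
    rw [hv, show x * ((u : G) * z) * x⁻¹ = (x * u * x⁻¹) * (x * z * x⁻¹) by group, hxu, hxz, hv, ← mul_assoc, ← hzu,
      mul_assoc, hzz, mul_one]
  have hvz : v * z = z * v := by rw [hv, ← mul_assoc z, ← hzu]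
  have hzv' : z * v = (u : G) := by rw [hv, ← mul_assoc, ← hzu, mul_assoc, hzz, mul_one]
  have hvne : v ≠ z := fun e => hu1 (by rw [hv] at e; exact mul_eq_right.1 e)
  have huv : (u : G) ≠ v := fun e => hz1 (by rw [hv] at e; exact mul_eq_left.1 e.symm)
  have hv0 : v ≠ 1 := fun e => huz (by rw [← hzv', e, mul_one])
  obtain ⟨p1, hp1, p2, hp2, hp1v, hp2v, hpne⟩ := hE.exists_noncomm (q0 := u * ζ) (mul_mem hu.1 hP.zQ)
  have hA2 : ∀ a, a ∈ QG Q → a * v = v * a → a * a = 1 → a = 1 ∨ a = z ∨ a = v ∨ a = (u : G) := by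
    intro a ha hav ha2
    obtain ⟨h1, h2⟩ := mem_QG.1 ha
    by_contra hne
    push Not at hne
    obtain ⟨e1, e2, e3, e4⟩ := hne
    have hvi : Inv10 Q ζ (u * ζ) := by
      refine ⟨mul_mem hu.1 hP.zQ, ?_, fun e => hu.2.2.2 ?_, fun e => hu.2.2.1 (mul_eq_right.1 e)⟩
      · rw [show u * ζ * (u * ζ) = u * (ζ * u) * ζ by group, hP.zc, ← mul_assoc, hu.2.1, one_mul, hP.zz]
      · exact (eq_inv_of_mul_eq_one_left e).trans (inv_eq_of_mul_eq_one_right hP.zz)
    rcases hpair (u * ζ) ⟨a, h1⟩ hvi ⟨h2, Subtype.ext ha2, fun e => e1 (congrArg Subtype.val e),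
        fun e => e2 (congrArg Subtype.val e)⟩ (Subtype.ext (show (u : G) * z * a = a * ((u : G) * z) by
          rw [← hv]; exact hav.symm)) with e | e
    · exact e3 (by rw [hv]; exact congrArg Subtype.val e)
    · apply e4
      have e' : a = (u : G) * z * z := congrArg Subtype.val e
      rw [e', mul_assoc, hzz, mul_one]
  refine (?_ : Tri z (u : G) v x (QG Q) π).absurd_of
  refine ⟨hzz, hz1, huu, hu1, huz, huv, hv0, hvne, hzu, hvz, hzv', hv, hxz, hxv, hxu, hin, hQz, hQsq, hQcomm, hQn,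
    mem_QG.2 ⟨u.2, hu.1⟩, ?_, fun a ha ha' => (helem x (fun e => hvne (hxz.symm.trans e)) a ha ((hQc x a).2 ha')).1, hA2,
    ⟨p1, mem_QG.2 ⟨p1.2, hp1⟩, p2, mem_QG.2 ⟨p2.2, hp2⟩, ?_, ?_, ?_⟩, fun c => ?_⟩
  · rw [hv]; exact mem_QG.2 ⟨(u * ζ).2, mul_mem hu.1 hP.zQ⟩
  · rw [hv]; exact congrArg Subtype.val hp1v
  · rw [hv]; exact congrArg Subtype.val hp2v
  · rcases hQcomm _ (mem_QG.2 ⟨p1.2, hp1⟩) _ (mem_QG.2 ⟨p2.2, hp2⟩) with e | e
    · exfalso
      rw [kom, mul_inv_eq_one, mul_inv_eq_iff_eq_mul] at e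
      exact hpne (Subtype.ext e)
    · exact e
  · refine ⟨fun e => mem_QG.2 ⟨c.2, hP.mem.2 e⟩, fun e => ?_⟩
    obtain ⟨h1, h2⟩ := mem_QG.1 e
    exact hP.mem.1 h2

end Cfsg.Agent.J3Glue
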