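import Mathlib
import Cfsg.Agent.Lib.J2Uniq.Frame
import Cfsg.Agent.Lib.J3Glue.StartChecks

/-!
Coordinates for a group with centralizer `2^{1+4}.A₅` and one class of involutions, together with an
element of order three permuting a four-group.
-/

set_option autoImplicit false
set_option linter.all false
set_option maxRecDepth 100000

namespace Cfsg.Agent.J3Glue

open Subgroup hiding inv
open InvChar.JankoTwoCount J2Uniq

universe v

variable {C : Type v} [Group C] [Finite C] {Q K : Subgroup C} {z : C}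

/-- An involution of the complement centralizing a given noncentral involution of `Q`. -/
theorem exists_fixer (h : Setting Q K z) {u : C} (hu : Inv10 Q z u) :
    ∃ k0 ∈ K, k0 * k0 = 1 ∧ k0 ≠ 1 ∧ k0 * u = u * k0 := by
  classical
  obtain ⟨-, hK60⟩ := sign_simp h.iso
  haveI := h.normal
  let S : Subgroup K := (centralizer ({u} : Set C)).subgroupOf K
  have hInv : ∀ k : K, Inv10 Q z ((k : C) * u * (k : C)⁻¹) := fun k => by
    obtain ⟨hQ, h2, h1, hz⟩ := hu
    refine ⟨h.normal.conj_mem u hQ _, ?_, fun e => h1 ?_, fun e => hz ?_⟩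
    · rw [show (k : C) * u * (k : C)⁻¹ * ((k : C) * u * (k : C)⁻¹) = (k : C) * (u * u) * (k : C)⁻¹ by group, h2,
        mul_one, mul_inv_cancel]
    · exact conj_eq_one_iff.1 e
    · calc u = (k : C)⁻¹ * ((k : C) * u * (k : C)⁻¹) * k := by group
        _ = z := by rw [e, mul_assoc, h.zc, inv_mul_cancel_left]
  have hS : ∀ k : K, k ∈ S ↔ (k : C) * u = u * k := fun k =>
    ⟨fun hk => mem_centralizer_singleton_iff.1 hk, fun hk => mem_centralizer_singleton_iff.2 hk⟩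
  let f : K ⧸ S → {w : C // Inv10 Q z w} := Quotient.lift (fun k => ⟨_, hInv k⟩) (fun a b hab => by
    have h1 := (hS _).1 (QuotientGroup.leftRel_apply.1 hab)
    refine Subtype.ext ?_
    show (a : C) * u * (a : C)⁻¹ = (b : C) * u * (b : C)⁻¹
    rw [Subgroup.coe_mul, Subgroup.coe_inv] at h1
    calc (a : C) * u * (a : C)⁻¹ = (a : C) * (u * ((a : C)⁻¹ * b)) * (b : C)⁻¹ := by group
      _ = (a : C) * ((a : C)⁻¹ * b * u) * (b : C)⁻¹ := by rw [← h1]
      _ = _ := by group)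
  have hf : Function.Injective f := by
    intro a b
    induction a using QuotientGroup.induction_on with
    | H a =>
      induction b using QuotientGroup.induction_on with
      | H b =>
        intro e
        have e1 : (a : C) * u * (a : C)⁻¹ = (b : C) * u * (b : C)⁻¹ := congrArg Subtype.val e
        refine QuotientGroup.eq.2 ((hS _).2 ?_)
        rw [Subgroup.coe_mul, Subgroup.coe_inv]
        calc (a : C)⁻¹ * b * u = (a : C)⁻¹ * ((b : C) * u * (b : C)⁻¹) * b := by group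
          _ = (a : C)⁻¹ * ((a : C) * u * (a : C)⁻¹) * b := by rw [← e1]
          _ = _ := by group
  have hidx : S.index ≤ 10 := by
    rw [index_eq_card, ← h.card_inv10]
    exact Nat.card_le_card_of_injective f hf
  have hmul := S.card_mul_index
  rw [hK60] at hmul
  have h5 : ¬ 5 ∣ Nat.card S := fun h5 => by
    haveI : Fact (Nat.Prime 5) := ⟨by norm_num⟩
    obtain ⟨g, hg⟩ := exists_prime_orderOf_dvd_card' (G := S) 5 h5
    have hg5 : ((g : K) : C) ^ 5 = 1 := by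
      rw [← hg, ← SubmonoidClass.coe_pow, ← SubmonoidClass.coe_pow, pow_orderOf_eq_one]; rfl
    have hg1 : ((g : K) : C) ≠ 1 := fun e => by
      rw [show g = 1 from Subtype.ext (Subtype.ext e), orderOf_one] at hg
      omega
    rcases h.fix_coset (g : K).2 hg5 hg1 hu.1 (Or.inl (mul_inv_eq_iff_eq_mul.2 ((hS g).1 g.2))) with e | e
    · exact hu.2.2.1 e
    · exact hu.2.2.2 e
  have h2 : 2 ∣ Nat.card S := by
    have hd : Nat.card S ∣ 60 := ⟨_, hmul.symm⟩
    have hge : 6 ≤ Nat.card S := by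
      by_contra hlt
      have := Nat.mul_le_mul (show Nat.card S ≤ 5 by omega) hidx
      omega
    have hle := Nat.le_of_dvd (by norm_num) hd
    interval_cases hS' : Nat.card S <;> omega
  haveI : Fact (Nat.Prime 2) := ⟨Nat.prime_two⟩
  obtain ⟨k, hk⟩ := exists_prime_orderOf_dvd_card' (G := S) 2 h2
  refine ⟨((k : K) : C), (k : K).2, ?_, fun e => ?_, (hS k).1 k.2⟩
  · rw [← Subgroup.coe_mul, ← Subgroup.coe_mul, ← pow_two, ← hk, pow_orderOf_eq_one]; rfl
  · rw [show k = 1 from Subtype.ext (Subtype.ext e), orderOf_one] at hk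
    omega

variable {G : Type v} [Group G] [Finite G] {z : G} {Q K : Subgroup (centralizer ({z} : Set G))}

/-- The centralizer by codes. -/
theorem exists_codes (h : Setting Q K (JankoTwo.zed z)) : ∃ ρ : ℕ → G, Codes z ρ := by
  classical
  obtain ⟨⟨u, hu⟩⟩ : Nonempty {u // Inv10 Q (JankoTwo.zed z) u} :=
    (Nat.card_pos_iff.1 (by rw [h.card_inv10]; norm_num)).1
  obtain ⟨k0, hk0K, hk02, hk01, hk0u⟩ := exists_fixer h hu
  obtain ⟨uu, kk, hC, -, -⟩ := exists_coord h hu hk0K hk02 hk01 hk0u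
  have hC1920 : Nat.card (centralizer ({z} : Set G)) = 1920 := by
    obtain ⟨-, hK60⟩ := sign_simp h.iso
    have hb : Function.Bijective fun p : Q × K => (p.1 : centralizer ({z} : Set G)) * p.2 := by
      refine ⟨fun p q e => ?_, fun c => ?_⟩
      · obtain ⟨e1, e2⟩ := h.eq_of_mul p.1.2 q.1.2 p.2.2 q.2.2 e
        exact Prod.ext (Subtype.ext e1) (Subtype.ext e2)
      · obtain ⟨q, hq, k, hk, e⟩ := h.prod c
        exact ⟨(⟨q, hq⟩, ⟨k, hk⟩), e.symm⟩
    rw [← Nat.card_eq_of_bijective _ hb, Nat.card_prod, h.card32, hK60]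
  refine ⟨fun a => ((val (JankoTwo.zed z) uu kk a : centralizer ({z} : Set G)) : G),
    ⟨fun a b => by simp only [hC.val_mul, Subgroup.coe_mul], congrArg Subtype.val hC.val_zero,
      fun a => congrArg Subtype.val (val_mod _ uu kk a), congrArg Subtype.val hC.val_zc,
      fun a ha e => hC.ker ha (Subtype.ext e), fun a => (val _ uu kk a).2, fun g hg => ?_⟩⟩
  let f : Fin 1920 → centralizer ({z} : Set G) := fun a => val (JankoTwo.zed z) uu kk a
  have hf : Function.Bijective f := by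
    refine (Nat.bijective_iff_injective_and_card f).2 ⟨fun a b e => ?_, by
      rw [hC1920, Nat.card_eq_fintype_card, Fintype.card_fin]⟩
    have e1 : val (JankoTwo.zed z) uu kk (mul a (J2Uniq.inv b)) = 1 := by
      rw [hC.val_mul, show val (JankoTwo.zed z) uu kk a = val (JankoTwo.zed z) uu kk b from e, ← hC.val_mul,
        inv_ok b b.2, hC.val_zero]
    exact Fin.ext (inv_unique a a.2 b b.2 (hC.ker (mul_lt _ _) e1))
  obtain ⟨a, ha⟩ := hf.2 ⟨g, hg⟩
  exact ⟨a, a.2, congrArg Subtype.val ha⟩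

namespace Codes

variable {ρ : ℕ → G} (F : Codes z ρ)

include F

theorem ez : zc < 1920 ∧ ρ 1 * ρ 1 = 1 ∧ z * z = 1 ∧ z * ρ 1 = ρ 17 ∧ ρ 17 * ρ 1 = z ∧ ρ 1 * z = z * ρ 1 ∧
    ρ ec * ρ 17 * (ρ ec)⁻¹ = ρ 1 ∧ ρ ec * ρ 1 * (ρ ec)⁻¹ = ρ 17 ∧ ρ 1 ≠ 1 ∧ ρ 1 ≠ z := by
  obtain ⟨e1, e2, e3, e4, e5, e6⟩ : mul 1 1 = 0 ∧ mul zc zc = 0 ∧ mul zc 1 = 17 ∧ mul 17 1 = zc ∧
      cj ec 17 = 1 ∧ cj ec 1 = 17 := by decide +kernel
  refine ⟨by norm_num [zc], by rw [← F.mul_eq, e1, F.zero], by rw [← F.zc_eq, ← F.mul_eq, e2, F.zero],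
    by rw [← F.zc_eq, ← F.mul_eq, e3], by rw [← F.mul_eq, e4, F.zc_eq], F.zcomm 1,
    by rw [← F.cj_eq, e5], by rw [← F.cj_eq, e6], fun e => absurd (F.inj 1 (by norm_num) e) (by norm_num),
    fun e => absurd (F.inj' (by norm_num) (by norm_num [zc]) (e.trans F.zc_eq.symm)) (by norm_num [zc])⟩

/-- An element commuting with `z` and `u` is a code of the subgroup of index ten. -/
theorem exists_elt {g : G} (hz : g * z = z * g) (hu : g * ρ 1 = ρ 1 * g) : ∃ r ∈ StartData.elts, ρ r = g := by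
  obtain ⟨r, hr, rfl⟩ := F.surj g (mem_centralizer_singleton_iff.2 hz)
  exact ⟨r, elts_ok r hr (F.inCU_iff.2 hu), rfl⟩

/-- An element inducing a three-cycle on `z`, `u`, `zu`. -/
theorem exists_cycle (hz : orderOf z = 2) (hone : ∀ x y : G, orderOf x = 2 → orderOf y = 2 → IsConj x y) :
    ∃ x : G, x * z * x⁻¹ = ρ 1 ∧ x * ρ 1 * x⁻¹ = ρ 17 := by
  classical
  obtain ⟨hzl, huu, hzz, hzu, h17u, huz, he17, he1, hu1, huz'⟩ := F.ez
  obtain ⟨g, hg⟩ := isConj_iff.1 (hone z (ρ 1) hz (orderOf_eq_prime (by rw [sq, huu]) hu1))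
  -- the preimage of `z` is noncentral in `C(z)` and lies in the class of `u`
  have hw : g⁻¹ * z * g ∈ centralizer ({z} : Set G) := by
    refine mem_centralizer_singleton_iff.2 ?_
    calc g⁻¹ * z * g * z = g⁻¹ * (z * (g * z * g⁻¹)) * g := by group
      _ = g⁻¹ * (g * z * g⁻¹ * z) * g := by rw [hg, huz]
      _ = _ := by group
  obtain ⟨a, ha, hae⟩ := F.surj _ hw
  have ha2 : mul a a = 0 := F.inj _ (mul_lt _ _) (by
    rw [F.mul_eq, hae, show g⁻¹ * z * g * (g⁻¹ * z * g) = g⁻¹ * (z * z) * g by group, hzz, mul_one, inv_mul_cancel])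
  rcases moves_ok a ha ha2 with rfl | rfl | ⟨p, -, hp, hp'⟩
  · rw [F.zero] at hae
    exact absurd (show z = 1 by
      calc z = g * (g⁻¹ * z * g) * g⁻¹ := by group
        _ = 1 := by rw [← hae, mul_one, mul_inv_cancel]) (fun e => by rw [e, orderOf_one] at hz; omega)
  · rw [F.zc_eq] at hae
    refine absurd (show ρ 1 = z from ?_) huz'
    rw [← hg]
    conv_lhs => rw [hae]
    group
  rcases hp' with e | e
  swap
  · exfalso
    -- the centralizer of the outer involution is too small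
    set q := p.2
    have key : ∀ c : {c : ℕ // c ∈ StartData.elts}, ∃ b ∈ ClassData.four,
        ρ b = (ρ q)⁻¹ * (g⁻¹ * ρ c.1 * g) * ρ q := by
      intro c
      obtain ⟨hc1, hc2, -⟩ := gWord_ok c.1 c.2
      have hcu := (F.inCU_iff).1 hc2
      have hcz := F.zcomm c.1
      have htc : ρ tc = (ρ q)⁻¹ * (g⁻¹ * z * g) * ρ q := by rw [← hae, ← e, F.cj_eq]; group
      have hqz := (show Commute (ρ q) z from F.zcomm q).inv_left.eq
      refine F.exists_four ?_ ?_
      · calc (ρ q)⁻¹ * (g⁻¹ * ρ c.1 * g) * ρ q * z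
            = (ρ q)⁻¹ * (g⁻¹ * ρ c.1 * g) * (z * ρ q) := by rw [mul_assoc, F.zcomm q]
          _ = (ρ q)⁻¹ * (g⁻¹ * (ρ c.1 * (g * z * g⁻¹)) * g) * ρ q := by group
          _ = (ρ q)⁻¹ * (g⁻¹ * ((g * z * g⁻¹) * ρ c.1) * g) * ρ q := by rw [hg, hcu]
          _ = (ρ q)⁻¹ * z * (g⁻¹ * ρ c.1 * g) * ρ q := by group
          _ = _ := by rw [hqz]; group
      · rw [htc]
        calc (ρ q)⁻¹ * (g⁻¹ * ρ c.1 * g) * ρ q * ((ρ q)⁻¹ * (g⁻¹ * z * g) * ρ q)
            = (ρ q)⁻¹ * (g⁻¹ * (ρ c.1 * z) * g) * ρ q := by group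
          _ = (ρ q)⁻¹ * (g⁻¹ * (z * ρ c.1) * g) * ρ q := by rw [hcz]
          _ = _ := by group
    choose f hf hf' using key
    have hinj : Function.Injective (fun c => (⟨f c, hf c⟩ : {b : ℕ // b ∈ ClassData.four})) := by
      intro c d e0
      have e1 : f c = f d := congrArg Subtype.val e0
      have e2 := congrArg ρ e1
      rw [hf', hf', mul_left_inj, mul_right_inj, mul_left_inj, mul_right_inj] at e2
      exact Subtype.ext (F.inj' (gWord_ok c.1 c.2).1 (gWord_ok d.1 d.2).1 e2)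
    haveI : Finite {b : ℕ // b ∈ ClassData.four} := Finite.of_fintype _
    have hle := Nat.card_le_card_of_injective _ hinj
    rw [Nat.card_eq_fintype_card, Nat.card_eq_fintype_card] at hle
    revert hle
    decide +kernel
  set g' := g * ρ p.2
  have hg' : g' * z * g'⁻¹ = ρ 1 := by
    rw [show g' * z * g'⁻¹ = g * (ρ p.2 * z * (ρ p.2)⁻¹) * g⁻¹ by simp only [g']; group, F.zcomm, mul_inv_cancel_right, hg]
  have hg'' : g' * ρ 1 * g'⁻¹ = z := by
    rw [show g' * ρ 1 * g'⁻¹ = g * (ρ p.2 * ρ 1 * (ρ p.2)⁻¹) * g⁻¹ by simp only [g']; group, ← F.cj_eq, e, hae]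
    group
  set w := g' * ρ ec * g'⁻¹
  have hwu : w * ρ 1 * w⁻¹ = ρ 1 := by
    conv_lhs => rw [← hg']
    rw [show w * (g' * z * g'⁻¹) * w⁻¹ = g' * (ρ ec * z * (ρ ec)⁻¹) * g'⁻¹ by simp only [w]; group, F.zcomm,
      mul_inv_cancel_right, hg']
  have hwz : w * z * w⁻¹ = ρ 17 := by
    conv_lhs => rw [← hg'']
    rw [show w * (g' * ρ 1 * g'⁻¹) * w⁻¹ = g' * (ρ ec * ρ 1 * (ρ ec)⁻¹) * g'⁻¹ by simp only [w]; group, he1, ← hzu,
      show g' * (z * ρ 1) * g'⁻¹ = g' * z * g'⁻¹ * (g' * ρ 1 * g'⁻¹) by group, hg', hg'', huz]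
  refine ⟨ρ ec * w, ?_, ?_⟩
  · rw [show ρ ec * w * z * (ρ ec * w)⁻¹ = ρ ec * (w * z * w⁻¹) * (ρ ec)⁻¹ by group, hwz, he17]
  · rw [show ρ ec * w * ρ 1 * (ρ ec * w)⁻¹ = ρ ec * (w * ρ 1 * w⁻¹) * (ρ ec)⁻¹ by group, hwu, he1]

/-- The element of order three. -/
theorem exists_base (hz : orderOf z = 2) (hone : ∀ x y : G, orderOf x = 2 → orderOf y = 2 → IsConj x y) :
    ∃ s : G, Base z ρ s := by
  classical
  obtain ⟨-, huu, hzz, hzu, h17u, huz, -, -, -, -⟩ := F.ez
  obtain ⟨x0, hx0z, hx0u⟩ := F.exists_cycle hz hone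
  have hcyc : ∀ x : G, x * z * x⁻¹ = ρ 1 → x * ρ 1 * x⁻¹ = ρ 17 →
      x * x * x * z * (x * x * x)⁻¹ = z ∧ x * x * x * ρ 1 * (x * x * x)⁻¹ = ρ 1 := by
    intro x h1 h2
    have h3 : x * ρ 17 * x⁻¹ = z := by
      rw [← hzu, show x * (z * ρ 1) * x⁻¹ = x * z * x⁻¹ * (x * ρ 1 * x⁻¹) by group, h1, h2, ← hzu, ← mul_assoc, huz,
        mul_assoc, huu, mul_one]
    constructor
    · rw [show x * x * x * z * (x * x * x)⁻¹ = x * (x * (x * z * x⁻¹) * x⁻¹) * x⁻¹ by group, h1, h2, h3]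
    · rw [show x * x * x * ρ 1 * (x * x * x)⁻¹ = x * (x * (x * ρ 1 * x⁻¹) * x⁻¹) * x⁻¹ by group, h2, h3, h1]
  -- the sixteenth power
  obtain ⟨hc0, hc1⟩ := hcyc x0 hx0z hx0u
  obtain ⟨r0, hr0, er0⟩ := F.exists_elt (mul_inv_eq_iff_eq_mul.1 hc0) (mul_inv_eq_iff_eq_mul.1 hc1)
  have hit : ∀ n : ℕ, ρ ((mul r0)^[n] 0) = (ρ r0) ^ n := by
    intro n
    induction n with
    | zero => simpa using F.zero
    | succ n ih => rw [Function.iterate_succ_apply', F.mul_eq, ih, pow_succ']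
  obtain ⟨x, hxd⟩ : ∃ x, x = x0 ^ 16 := ⟨_, rfl⟩
  have hrel : ∀ y : G, (x0 * x0 * x0) ^ 5 * (x0 * y * x0⁻¹) * ((x0 * x0 * x0) ^ 5)⁻¹ = x * y * x⁻¹ := fun y => by
    rw [show x = (x0 * x0 * x0) ^ 5 * x0 by
      rw [hxd]; simp only [pow_succ, pow_zero, one_mul, mul_assoc]]
    group
  have hr5 : ∀ y : G, x0 * x0 * x0 * y = y * (x0 * x0 * x0) → (x0 * x0 * x0) ^ 5 * y * ((x0 * x0 * x0) ^ 5)⁻¹ = y :=
    fun y hy => mul_inv_eq_iff_eq_mul.2 (Commute.pow_left hy 5).eq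
  have hcz := mul_inv_eq_iff_eq_mul.1 hc0
  have hcu := mul_inv_eq_iff_eq_mul.1 hc1
  have hxz : x * z * x⁻¹ = ρ 1 := by rw [← hrel, hx0z, hr5 _ hcu]
  have hxu : x * ρ 1 * x⁻¹ = ρ 17 := by
    rw [← hrel, hx0u, ← hzu, hr5]
    exact (Commute.mul_right hcz hcu).eq
  set r := pow16 r0
  have hr : r ∈ StartData.threes := threes_ok r0 hr0
  have her : ρ r = x * x * x := by
    show ρ ((mul r0)^[16] 0) = _
    rw [hit, er0, hxd]
    simp only [pow_succ, pow_zero, one_mul, mul_assoc]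
  -- the action on the generators
  have hd : ∀ k < 5, ∃ d ∈ StartData.elts, x * ρ (gen k) * x⁻¹ = ρ d := by
    intro k hk
    have hgz := F.zcomm (gen k)
    have hgu := F.inCU_iff.1 (gens_ok.1 k hk).2
    have c1 : x * ρ (gen k) * x⁻¹ * ρ 1 = ρ 1 * (x * ρ (gen k) * x⁻¹) := by
      rw [← hxz, show x * ρ (gen k) * x⁻¹ * (x * z * x⁻¹) = x * (ρ (gen k) * z) * x⁻¹ by group, hgz]; group
    have c2 : x * ρ (gen k) * x⁻¹ * ρ 17 = ρ 17 * (x * ρ (gen k) * x⁻¹) := by
      rw [← hxu, show x * ρ (gen k) * x⁻¹ * (x * ρ 1 * x⁻¹) = x * (ρ (gen k) * ρ 1) * x⁻¹ by group, hgu]; group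
    have c3 : x * ρ (gen k) * x⁻¹ * z = z * (x * ρ (gen k) * x⁻¹) := by
      rw [← h17u, ← mul_assoc, c2, mul_assoc, c1, ← mul_assoc]
    obtain ⟨d, hd, e⟩ := F.exists_elt c3 c1
    exact ⟨d, hd, e.symm⟩
  obtain ⟨d2, hd2, ed2⟩ := hd 2 (by norm_num)
  obtain ⟨d3, hd3, ed3⟩ := hd 3 (by norm_num)
  obtain ⟨d4, hd4, ed4⟩ := hd 4 (by norm_num)
  set im := imList [1, 17, d2, d3, d4]
  obtain ⟨g0, g1, g2⟩ := gens_ok.2
  have him : ∀ k < 5, x * ρ (gen k) * x⁻¹ = ρ (im k) := by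
    intro k hk
    interval_cases k
    · rw [g0, F.zc_eq, hxz]; rfl
    · rw [g1, hxu]; rfl
    · exact ed2
    · exact ed3
    · exact ed4
  have hev : ∀ w : List ℕ, (∀ k ∈ w, k < 5) → x * ρ (ev gen w) * x⁻¹ = ρ (ev im w) := by
    intro w
    induction w with
    | nil => intro _; simp [ev, F.zero]
    | cons k w ih =>
      intro hw
      rw [show ev gen (k :: w) = mul (gen k) (ev gen w) from rfl, show ev im (k :: w) = mul (im k) (ev im w) from rfl,
        F.mul_eq, F.mul_eq, ← him k (hw k List.mem_cons_self), ← ih fun j hj => hw j (List.mem_cons_of_mem _ hj)]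
      group
  have hevlt : ∀ (f : ℕ → ℕ) (w : List ℕ), ev f w < 1920 := fun f w => J2Uniq.ev_lt f w
  have hrels : ∀ (R : List (List ℕ × List ℕ)), relsOk R gen = true → (∀ p ∈ R, ∀ k ∈ p.1 ++ p.2, k < 5) →
      ∀ f : ℕ → ℕ, (∀ p ∈ R, ∀ k ∈ p.1 ++ p.2, f k = im k) → relsOk R f = true := by
    intro R hR hlt f hf
    rw [relsOk, List.all_eq_true] at hR ⊢
    intro p hp
    have hevf : ∀ w : List ℕ, (∀ k ∈ w, f k = im k) → ev f w = ev im w := by
      intro w
      induction w with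
      | nil => intro _; rfl
      | cons k w ih =>
        intro hw
        rw [ev, ev, hw k List.mem_cons_self, ih fun j hj => hw j (List.mem_cons_of_mem _ hj)]
    have e : ev im p.1 = ev im p.2 := F.inj' (hevlt _ _) (hevlt _ _) (by
      rw [← hev p.1 (fun k hk => hlt p hp k (List.mem_append_left _ hk)),
        ← hev p.2 (fun k hk => hlt p hp k (List.mem_append_right _ hk)), Nat.eq_of_beq_eq_true (hR p hp)])
    rw [hevf _ (fun k hk => hf p hp k (List.mem_append_left _ hk)),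
      hevf _ (fun k hk => hf p hp k (List.mem_append_right _ hk)), e]
    exact Nat.beq_refl _
  have hA : ∀ y ∈ StartData.elts, x * ρ y * x⁻¹ = ρ (autA im y) := fun y hy => by
    obtain ⟨-, -, hw, hw5⟩ := gWord_ok y hy
    have := hev _ hw5
    rwa [hw] at this
  have hAmem : ∀ y ∈ StartData.elts, autA im y ∈ StartData.elts := fun y hy => by
    obtain ⟨hy1, hy2, -, -⟩ := gWord_ok y hy
    have hyz := F.zcomm y
    have hyu := F.inCU_iff.1 hy2
    have e := hA y hy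
    refine elts_ok _ (hevlt _ _) (F.inCU_iff.2 ?_)
    rw [← e, ← hxz, show x * ρ y * x⁻¹ * (x * z * x⁻¹) = x * (ρ y * z) * x⁻¹ by group, hyz]
    group
  have hok := startOk_eq
  simp only [startOk, List.all_eq_true, Bool.or_eq_true, Bool.not_eq_true'] at hok
  have h2 : relsOk StartData.rel2 (imList [1, 17, d2]) = true :=
    hrels _ rel2_ok.1 (fun p hp k hk => (rel2_ok.2 p hp k hk).1) _ fun p hp k hk => by
      have := (rel2_ok.2 p hp k hk).2
      interval_cases k <;> rfl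
  have h3 : relsOk StartData.rel3 (imList [1, 17, d2, d3]) = true :=
    hrels _ rel3_ok.1 (fun p hp k hk => (rel3_ok.2 p hp k hk).1) _ fun p hp k hk => by
      have := (rel3_ok.2 p hp k hk).2
      interval_cases k <;> rfl
  have h4 : relsOk StartData.rel4 im = true := hrels _ rel4_ok.1 rel4_ok.2 _ fun p hp k hk => rfl
  have hcube := (((hok d2 hd2).resolve_left (by simp [h2]) d3 hd3).resolve_left (by simp [h3]) d4 hd4).resolve_left
    (by simp [im] at h4 ⊢; exact h4) r hr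
  have hrmem : r ∈ StartData.elts := by
    obtain ⟨q0, q1⟩ := hcyc x hxz hxu
    obtain ⟨r', hr', e'⟩ := F.exists_elt (mul_inv_eq_iff_eq_mul.1 q0) (mul_inv_eq_iff_eq_mul.1 q1)
    have : r = r' := F.inj' ((by decide +kernel : ∀ a ∈ StartData.threes, a < 1920) r hr) (gWord_ok r' hr').1
      (her.trans e'.symm)
    exact this ▸ hr'
  have hfix : autA im r = r := F.inj' (hevlt _ _) (gWord_ok r hrmem).1 (by
    rw [← hA r hrmem, her]; group)
  have hAc : ∀ k < 5, cj r (gen k) = autA im (autA im (autA im (gen k))) := fun k hk => by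
    have hm := elts_ok _ (gens_ok.1 k hk).1 (gens_ok.1 k hk).2
    refine F.inj' (mul_lt _ _) (hevlt _ _) ?_
    rw [F.cj_eq, her, ← hA _ (hAmem _ (hAmem _ hm)), ← hA _ (hAmem _ hm), ← hA _ hm]
    group
  simp only [cubeOk, Bool.or_eq_true, Bool.not_eq_true', Bool.and_eq_false_iff, List.any_eq_true, Bool.and_eq_true] at hcube
  rcases hcube with (hA1 | hA2) | ⟨c, hc, hct, hcm⟩
  · rw [show im = imList [1, 17, d2, d3, d4] from rfl] at hfix
    rw [hfix, Nat.beq_refl] at hA1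
    exact absurd hA1 (by simp)
  · rw [List.all_eq_false] at hA2
    obtain ⟨k, hk, hne⟩ := hA2
    refine absurd ?_ hne
    rw [hAc k (List.mem_range.1 hk)]
    exact Nat.beq_refl _
  obtain ⟨hc1', hc2', -, -⟩ := gWord_ok c hc
  have hcz' := F.zcomm c
  have hcu' := F.inCU_iff.1 hc2'
  refine ⟨x * ρ c, F.mul_eq, F.zero, F.mod_eq, F.zc_eq, F.inj, F.mem, F.surj, ?_, ?_, ?_, ?_⟩
  · have e := Nat.eq_of_beq_eq_true hcm
    have h' := congrArg ρ e
    rw [F.zero, F.mul_eq, F.mul_eq, F.mul_eq, ← hA _ hc, ← hA _ (hAmem _ hc), ← hA _ hc, her] at h'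
    rw [← h']; group
  · rw [show x * ρ c * z * (x * ρ c)⁻¹ = x * (ρ c * z) * (ρ c)⁻¹ * x⁻¹ by group, hcz']
    rw [← hxz]; group
  · rw [show x * ρ c * ρ 1 * (x * ρ c)⁻¹ = x * (ρ c * ρ 1) * (ρ c)⁻¹ * x⁻¹ by group, hcu']
    rw [← hxu]; group
  · have hm : cj c tc ∈ StartData.elts := by
      refine elts_ok _ (mul_lt _ _) (F.inCU_iff.2 ?_)
      have hu' : Commute (ρ c) (ρ 1) := hcu'
      have ht' : Commute (ρ tc) (ρ 1) := F.comm_of (by decide +kernel)
      rw [F.cj_eq]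
      exact ((hu'.mul_left ht').mul_left hu'.inv_left).eq
    rw [show x * ρ c * ρ tc * (x * ρ c)⁻¹ = x * (ρ c * ρ tc * (ρ c)⁻¹) * x⁻¹ by group, ← F.cj_eq, hA _ hm,
      Nat.eq_of_beq_eq_true hct]

end Codes

end Cfsg.Agent.J3Glue
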