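import Mathlib
import Cfsg.Agent.Lib.J3Glue.Branch
import Cfsg.Agent.Lib.J3Glue.Start
import Cfsg.Agent.Lib.J3Glue.SelfCentral
import Cfsg.Agent.Lib.J3Glue.Outside

/-!
A simple group with one class of involutions and centralizer `2^{1+4}.A₅` satisfies the closing system
of relations.
-/

set_option autoImplicit false
set_option linter.all false
set_option maxRecDepth 100000

namespace Cfsg.Agent.J3Glue

open Subgroup hiding inv
open InvChar.JankoTwoCount
open J2Uniq (mul inv cj ec cc)

universe v

theorem neOkW_sound {G : Type v} [Group G] {z : G} {ρ : ℕ → G} {s r : G} (X : Ext z ρ s r) {L : List Ltr}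
    (h : neOkW L = true) : wG ρ s r L = 1 := by
  have F := X.sys
  simp only [neOkW, Bool.and_eq_true, List.all_eq_true] at h
  obtain ⟨hlt, h⟩ := h
  have e := X.neOk_sound h
  rw [← L.reverse_reverse, wG_reverse, ← e]
  have key : ∀ M : List Ltr, (∀ l ∈ M, (match l with | .code g => Nat.blt g 1920 | _ => true) = true) →
      prodW ρ s r M = wval ρ s r (M.flatMap Ltr.toNums) := by
    intro M
    induction M with
    | nil => intro _; simp [prodW, wval]
    | cons l M ih =>
      intro hl
      rw [List.flatMap_cons]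
      have e1 := ih fun m hm => hl m (List.mem_cons_of_mem _ hm)
      simp only [prodW, List.map_cons, List.prod_cons, wval, List.map_append, List.prod_append] at e1 ⊢
      rw [e1]
      congr 1
      cases l with
      | code g =>
        have hg := hl (.code g) List.mem_cons_self
        simp only [Ltr.toNums, List.map_cons, List.map_nil, List.prod_cons, List.prod_nil, mul_one, ltrG]
        exact (lval_code hg).symm
      | s => simp [Ltr.toNums, ltrG, lval_S]
      | si =>
        simp only [Ltr.toNums, List.map_cons, List.map_nil, List.prod_cons, List.prod_nil, mul_one, ltrG, lval_S]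
        exact inv_eq_of_mul_eq_one_right (by rw [← mul_assoc, F.s3])
      | r => simp [Ltr.toNums, ltrG, lval_R]
  exact key _ fun l hl => hlt l (List.mem_reverse.1 hl)

/-- A group with its coordinates and the closing relations. -/
structure Full {G : Type v} [Group G] (z : G) (ρ : ℕ → G) (s r : G) : Prop where
  ext : Ext z ρ s r
  rels : ∀ L ∈ CertData.relsFor (CertData.candRels.getD 4 []), wG ρ s r L = 1

theorem relsFor_sound {G : Type v} [Group G] {z : G} {ρ : ℕ → G} {s r : G} (X : Ext z ρ s r) {w : List Ltr}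
    (hw : wG ρ s r w = 1) : ∀ L ∈ CertData.relsFor w, wG ρ s r L = 1 := by
  intro L hL
  have F := X.sys
  have hne := CertData.ne_ok
  rw [List.all_eq_true] at hne
  have h33 : ρ 2 * s * ρ 2 * s = ρ 33 := F.twist
  simp only [CertData.relsFor, List.mem_append, List.mem_cons, List.not_mem_nil, or_false] at hL
  rcases hL with ((hL | hL) | hL) | hL
  · rcases hL with rfl | rfl | rfl
    · simp only [wG, ltrG, one_mul]; exact F.s3
    · simp only [wG, ltrG, one_mul]
      rw [h33, ← F.mul_eq, show mul 33 65 = 0 by decide +kernel, F.zero]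
    · simp only [wG, ltrG, one_mul]; exact F.r2
  · exact neOkW_sound X (hne L hL)
  · exact hL ▸ hw
  · rcases hL with rfl | rfl | rfl | rfl
    · rfl
    · simp [wG, ltrG]
    · simp [wG, ltrG]
    · simp only [wG, ltrG, one_mul]; exact F.r2

/-- The closing relations hold. -/
theorem exists_full {G : Type v} [Group G] [Finite G] [IsSimpleGroup G] (z : G) (hz : orderOf z = 2)
    (Q : Subgroup (centralizer ({z} : Set G))) [Q.Normal] (hQ : Cfsg.IsExtraspecial 2 Q) (hcard : Nat.card Q = 32)
    (e : (centralizer ({z} : Set G)) ⧸ Q ≃* alternatingGroup (Fin 5))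
    (hone : ∀ x y : G, orderOf x = 2 → orderOf y = 2 → IsConj x y) :
    ∃ (ρ : ℕ → G) (s r : G), Full z ρ s r := by
  classical
  obtain ⟨h2c, hE, -⟩ := selfcentralizing hz Q hQ hcard e
  have hπs : Function.Surjective (e.toMonoidHom.comp (QuotientGroup.mk' Q)) :=
    e.surjective.comp (QuotientGroup.mk'_surjective Q)
  have hP : JankoTwo.Pre Q (JankoTwo.zed z) (e.toMonoidHom.comp (QuotientGroup.mk' Q)) :=
    ⟨inferInstance, hQ, hcard, hE.zQ, hE.zz, hE.z1, hE.zc, h2c, hπs, by
      ext x; simp [MonoidHom.mem_ker]⟩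
  obtain ⟨t, htt, htQ⟩ := exists_outside hz hP hone
  obtain ⟨K, hK⟩ := hP.exists_setting htt htQ
  obtain ⟨ρ₀, C₀⟩ := exists_codes hK
  obtain ⟨s₀, B⟩ := C₀.exists_base hz hone
  obtain ⟨ρ, s, F⟩ := B.exists_frame
  obtain ⟨r, X⟩ := exists_ext F hz hone
  obtain ⟨b, hb, hw⟩ := exists_branch X hz hone
  refine ⟨ρ, s, r, X, ?_⟩
  have hcol : ∀ (p : Proto) (ms : List Mv), p.collapse (CertData.relsFor (CertData.candRels.getD b [])) ms = true →
      False := by
    intro p ms hp
    obtain ⟨a, ha⟩ := X.sys.collapse_sound (relsFor_sound X hw) hp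
    have h1 : s * z * s⁻¹ = ρ 1 := by
      rw [← F.zc_eq, conj_s F (by decide +kernel), show J2Uniq.phi J2Uniq.zc = 1 by decide +kernel]
    rw [← ha, (Codes.of_frame F).zcomm a, mul_inv_cancel_right, ← F.zc_eq] at h1
    exact absurd ((Codes.of_frame F).inj' (by norm_num [J2Uniq.zc]) (by norm_num) h1) (by norm_num [J2Uniq.zc])
  interval_cases b
  · exact (hcol _ _ CertData.collapse0).elim
  · exact (hcol _ _ CertData.collapse1).elim
  · exact (hcol _ _ CertData.collapse2).elim
  · exact (hcol _ _ CertData.collapse3).elim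
  · exact relsFor_sound X hw
  · exact (hcol _ _ CertData.collapse5).elim
  · exact (hcol _ _ CertData.collapse6).elim
  · exact (hcol _ _ CertData.collapse7).elim

end Cfsg.Agent.J3Glue
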