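import Mathlib
import Cfsg.Agent.Lib.Involutions.StronglyEmbedded
import Cfsg.Agent.Lib.J3Glue.EGroup

/-!
Subgroups containing the centralizer of `z`, the element `s` and the involution `r`: they are the whole
group or strongly embedded; in a group of order 50232960 they are the whole group.
-/

set_option autoImplicit false
set_option linter.all false
set_option maxRecDepth 100000

namespace Cfsg.Agent.J3Glue

open Subgroup hiding inv
open J2Uniq (mul inv cj zc tc inCU phi)
open Involutions.Basic (orderOf_conj)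

universe v

theorem code_invols : ((List.range 1920).filter fun a => Nat.beq (mul a a) 0 && !Nat.beq a 0).length = 131 := by
  decide +kernel

theorem divisor_cases : ∀ k < 200, k ∣ 26163 → (k - 1) % 128 = 0 → k = 1 := by decide +kernel

variable {G : Type v} [Group G] [Finite G] {z : G} {ρ : ℕ → G} {s r : G} (X : Ext z ρ s r)
  {H : Subgroup G}

include X

theorem cent_le (hρ : ∀ a, ρ a ∈ H) : centralizer ({z} : Set G) ≤ H := fun g hg => by
  obtain ⟨a, -, rfl⟩ := X.frame.surj g hg
  exact hρ a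

theorem conj_of_comm (hz : orderOf z = 2) (hρ : ∀ a, ρ a ∈ H) (hs : s ∈ H) (hr : r ∈ H) {i : G}
    (hi : orderOf i = 2) (hc : i * z = z * i) : ∃ h ∈ H, h * z * h⁻¹ = i := by
  have C := Codes.of_frame X.frame
  obtain ⟨a, ha, rfl⟩ := X.frame.surj i (mem_centralizer_singleton_iff.2 hc)
  have hi2 : ρ a * ρ a = 1 := by rw [← pow_two, ← hi, pow_orderOf_eq_one]
  have ha2 : mul a a = 0 := X.frame.inj _ (J2Uniq.mul_lt _ _) (by rw [X.frame.mul_eq, hi2])
  rcases moves_ok a ha ha2 with rfl | rfl | ⟨p, -, hp, e⟩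
  · rw [X.frame.zero, orderOf_one] at hi
    omega
  · exact ⟨1, one_mem H, by rw [X.frame.zc_eq]; group⟩
  have h1 : s * z * s⁻¹ = ρ 1 := by
    rw [← X.frame.zc_eq, conj_s X.frame (by decide +kernel), show phi zc = 1 by decide +kernel]
  have h2 : r * z * r⁻¹ = ρ tc := by
    have := X.ract zc (by decide)
    rwa [X.frame.zc_eq, four_facts.2.2.2.2.1] at this
  rcases e with e | e <;> subst e
  · exact ⟨ρ p.2 * s, mul_mem (hρ _) hs, by rw [C.cj_eq, ← h1]; group⟩
  · exact ⟨ρ p.2 * r, mul_mem (hρ _) hr, by rw [C.cj_eq, ← h2]; group⟩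

/-- All involutions of such a subgroup are conjugate to `z` inside it. -/
theorem conj_in (hz : orderOf z = 2) (hρ : ∀ a, ρ a ∈ H) (hs : s ∈ H) (hr : r ∈ H) {i : G} (hiH : i ∈ H)
    (hi : orderOf i = 2) : ∃ h ∈ H, h * z * h⁻¹ = i := by
  have hzH : z ∈ H := X.frame.zc_eq ▸ hρ zc
  rcases Nat.even_or_odd (orderOf (z * i)) with he | ho
  · obtain ⟨hw, hwz, hwi⟩ := Involutions.Basic.middle_involution hz hi he
    set w := (z * i) ^ (orderOf (z * i) / 2)
    obtain ⟨h, hh, hhw⟩ := conj_of_comm X hz hρ hs hr hw hwz.eq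
    have hc : h⁻¹ * i * h * z = z * (h⁻¹ * i * h) := by
      calc h⁻¹ * i * h * z = h⁻¹ * (i * (h * z * h⁻¹)) * h := by group
        _ = h⁻¹ * ((h * z * h⁻¹) * i) * h := by rw [hhw, hwi.symm.eq]
        _ = _ := by group
    obtain ⟨k, hk, hkz⟩ := conj_of_comm X hz hρ hs hr (i := h⁻¹ * i * h)
      (by rw [show h⁻¹ * i * h = h⁻¹ * i * h⁻¹⁻¹ by group, orderOf_conj, hi]) hc
    refine ⟨h * k, mul_mem hh hk, ?_⟩
    rw [show h * k * z * (h * k)⁻¹ = h * (k * z * k⁻¹) * h⁻¹ by group, hkz]
    group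
  · obtain ⟨d, hd, hdi⟩ := Involutions.Basic.exists_conj_of_odd hz hi ho
    exact ⟨d, zpowers_le.2 (mul_mem hzH hiH) hd, hdi⟩

theorem strongly_embedded (hz : orderOf z = 2) (hρ : ∀ a, ρ a ∈ H) (hs : s ∈ H) (hr : r ∈ H) (hne : H ≠ ⊤) :
    Cfsg.IsStronglyEmbedded H := by
  have hzH : z ∈ H := X.frame.zc_eq ▸ hρ zc
  refine Involutions.StronglyEmbedded.of_conj hne (even_iff_two_dvd.2 (hz ▸ H.orderOf_dvd_natCard hzH))
    fun t htH ht g hg => ?_
  obtain ⟨h, hh, rfl⟩ := conj_in X hz hρ hs hr htH ht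
  obtain ⟨k, hk, hkz⟩ := conj_in X hz hρ hs hr hg (by rw [orderOf_conj, ht])
  have hc : k⁻¹ * g * h ∈ centralizer ({z} : Set G) := by
    refine mem_centralizer_singleton_iff.2 ?_
    calc k⁻¹ * g * h * z = k⁻¹ * (g * (h * z * h⁻¹) * g⁻¹) * (g * h) := by group
      _ = k⁻¹ * (k * z * k⁻¹) * (g * h) := by rw [hkz]
      _ = _ := by group
  have := cent_le X hρ hc
  rw [show g = k * (k⁻¹ * g * h) * h⁻¹ by group]
  exact mul_mem (mul_mem hk this) (inv_mem hh)

/-- In a group of order 50232960 such a subgroup is everything. -/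
theorem eq_top_of_card (hz : orderOf z = 2) (hG : Nat.card G = 50232960) (hρ : ∀ a, ρ a ∈ H) (hs : s ∈ H)
    (hr : r ∈ H) : H = ⊤ := by
  classical
  by_contra hne
  have hSE := strongly_embedded X hz hρ hs hr hne
  have C := Codes.of_frame X.frame
  have hCH := cent_le X hρ
  set Cz := (centralizer ({z} : Set G)).subgroupOf H with hCz
  have hC : Nat.card Cz = 1920 := by rw [Nat.card_congr (subgroupOfEquivOfLe hCH).toEquiv, C.card]
  -- at least 131 involutions
  have key : ∀ a : {a : Fin 1920 // (Nat.beq (mul a a) 0 && !Nat.beq a 0) = true}, ∃ h : H,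
      (h : G) * z * (h : G)⁻¹ = ρ a.1 := by
    intro a
    obtain ⟨h1, h2⟩ := Bool.and_eq_true_iff.1 a.2
    have hne' : ρ a.1 ≠ 1 := fun e => by
      rw [X.frame.inj _ a.1.2 e] at h2
      simp at h2
    have hord : orderOf (ρ a.1) = 2 :=
      orderOf_eq_prime (by rw [pow_two, ← X.frame.mul_eq, Nat.eq_of_beq_eq_true h1, X.frame.zero]) hne'
    obtain ⟨h, hh, e⟩ := conj_of_comm X hz hρ hs hr hord (C.zcomm _)
    exact ⟨⟨h, hh⟩, e⟩
  choose f hf using key
  have hinj : Function.Injective fun a => (f a : H ⧸ Cz) := by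
    intro a b e
    have e' : ((f a : G)⁻¹ * f b) * z = z * ((f a : G)⁻¹ * f b) :=
      mem_centralizer_singleton_iff.1 (QuotientGroup.eq.1 e : (f a)⁻¹ * f b ∈ Cz)
    have : ρ a.1 = ρ b.1 := by
      rw [← hf a, ← hf b]
      calc (f a : G) * z * (f a : G)⁻¹ = (f a : G) * (z * ((f a : G)⁻¹ * f b)) * (f b : G)⁻¹ := by group
        _ = (f a : G) * ((f a : G)⁻¹ * f b * z) * (f b : G)⁻¹ := by rw [e']
        _ = _ := by group
    exact Subtype.ext (Fin.ext (C.inj' a.1.2 b.1.2 this))
  have h131 := Nat.card_le_card_of_injective _ hinj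
  rw [show Nat.card {a : Fin 1920 // (Nat.beq (mul a a) 0 && !Nat.beq a 0) = true} = 131 by
    rw [Nat.card_eq_fintype_card, Fintype.card_subtype, ← code_invols,
      ← List.toFinset_card_of_nodup (List.nodup_range.filter _), ← Finset.card_map Fin.valEmbedding]
    congr 1, ← index_eq_card] at h131
  have hHm := Cz.card_mul_index
  rw [hC] at hHm
  have hk := H.card_mul_index
  rw [hG, ← hHm, mul_assoc, show (50232960 : ℕ) = 1920 * 26163 by norm_num] at hk
  have hmk : Cz.index * H.index = 26163 := Nat.eq_of_mul_eq_mul_left (by norm_num) hk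
  -- a subgroup of order 128 acts freely on the other cosets
  haveI : Fact (Nat.Prime 2) := ⟨Nat.prime_two⟩
  obtain ⟨P, hP⟩ := Sylow.exists_subgroup_card_pow_prime (G := H) 2 (n := 7)
    (dvd_trans (by norm_num) (Dvd.intro _ hHm))
  let P' := P.map H.subtype
  have hP' : Nat.card P' = 128 := by rw [card_map_of_injective H.subtype_injective, hP]; norm_num
  have hPH : P' ≤ H := by rintro _ ⟨p, -, rfl⟩; exact p.2
  let o : G ⧸ H := ((1 : G) : G ⧸ H)
  have hfix : ∀ p : P', (p : G) • o = o := fun p => by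
    show ((p * 1 : G) : G ⧸ H) = _
    rw [mul_one, QuotientGroup.eq, mul_one]
    exact inv_mem (hPH p.2)
  let A : SubMulAction P' (G ⧸ H) :=
    { carrier := {q | q ≠ o}
      smul_mem' := fun p q hq e => hq (by
        have h1 : (p : G) • q = (p : G) • o := e.trans (hfix p).symm
        exact MulAction.injective (p : G) h1) }
  have hfree : ∀ q : A, MulAction.stabilizer P' q = ⊥ := by
    intro q
    rw [eq_bot_iff]
    intro p hp
    by_contra hp1
    rw [mem_bot] at hp1
    have hpq : (p : G) • (q : G ⧸ H) = q := congrArg Subtype.val (MulAction.mem_stabilizer_iff.1 hp)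
    obtain ⟨g, hg⟩ := QuotientGroup.mk_surjective (q : G ⧸ H)
    have hgH : g ∉ H := fun hgH => q.2 (by
      rw [← hg]
      exact QuotientGroup.eq.2 (by simpa using inv_mem hgH))
    have hpg : g⁻¹ * (p : G) * g ∈ H := by
      rw [← hg] at hpq
      have e : (((p : G) * g : G) : G ⧸ H) = (g : G ⧸ H) := hpq
      have := QuotientGroup.eq.1 e.symm
      rwa [← mul_assoc] at this
    -- a power of `p` is an involution
    obtain ⟨j, hj, hjp⟩ := (Nat.dvd_prime_pow Nat.prime_two).1
      (show orderOf (p : G) ∣ 2 ^ 7 from (P'.orderOf_dvd_natCard p.2).trans (dvd_of_eq (hP'.trans (by norm_num))))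
    have hj0 : j ≠ 0 := fun e => hp1 (Subtype.ext (orderOf_eq_one_iff.1 (by rw [hjp, e, pow_zero])))
    obtain ⟨i, rfl⟩ := Nat.exists_eq_succ_of_ne_zero hj0
    have ho : orderOf ((p : G) ^ 2 ^ i) = 2 := by
      rw [orderOf_pow' _ (by positivity), hjp, pow_succ, Nat.gcd_mul_right_left,
        Nat.mul_div_cancel_left _ (by positivity)]
    have hmem : g⁻¹ * (p : G) ^ 2 ^ i * g⁻¹⁻¹ ∈ H := by
      rw [← conj_pow, inv_inv]
      exact pow_mem hpg _
    exact hgH (inv_mem_iff.1
      (Involutions.StronglyEmbedded.mem_of_conj hSE (pow_mem (hPH p.2) _) ho hmem))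
  have hdvd : 128 ∣ Nat.card A := by
    haveI : Finite A := Subtype.finite
    haveI := Fintype.ofFinite (MulAction.orbitRel.Quotient P' A)
    rw [Nat.card_congr (MulAction.selfEquivSigmaOrbitsQuotientStabilizer P' A), Nat.card_sigma]
    refine Finset.dvd_sum fun ω _ => ?_
    rw [hfree, ← hP']
    exact dvd_of_eq (Nat.card_congr QuotientGroup.quotientBot.toEquiv).symm
  have hA : Nat.card A = H.index - 1 := by
    rw [index_eq_card]
    have : Nat.card {q : G ⧸ H // q ≠ o} = Nat.card (G ⧸ H) - 1 := by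
      haveI := Fintype.ofFinite (G ⧸ H)
      rw [Nat.card_eq_fintype_card, Nat.card_eq_fintype_card, Fintype.card_subtype_compl, Fintype.card_subtype_eq]
    exact this
  have hk1 : H.index ≠ 0 := index_ne_zero_of_finite
  have hk200 : H.index < 200 := by
    by_contra hlt
    have := Nat.mul_le_mul h131 (Nat.le_of_not_lt hlt)
    omega
  have := divisor_cases H.index hk200 (Dvd.intro_left _ hmk) (by
    rw [← hA]; exact Nat.mod_eq_zero_of_dvd hdvd)
  exact hne (index_eq_one.1 this)

end Cfsg.Agent.J3Glue
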