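import Mathlib
import Cfsg.Agent.Lib.J3.Simple

/-!
No element of order 323 in the third Janko group, and groups of odd order containing commuting elements
of orders 17 and 19.
-/

set_option autoImplicit false
set_option linter.all false
set_option maxRecDepth 100000

namespace Cfsg.Agent.J3Glue

open Subgroup hiding inv

universe u v

theorem gl_card_coprime : ∀ e < 9, ¬ 19 ∣ ∏ i : Fin e, (4 ^ e - 4 ^ (i : ℕ)) := by decide +kernel

variable {F : Type u} [Field F] [Fintype F]

/-- An endomorphism of order nineteen of a space of dimension below nine over a field of four elements is trivial. -/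
theorem end_nineteen (hF : Fintype.card F = 4) {V : Type v} [AddCommGroup V] [Module F V] [FiniteDimensional F V]
    (h : Module.finrank F V < 9) {f : Module.End F V} (hf : f ^ 19 = 1) : f = 1 := by
  classical
  let b := Module.finBasis F V
  let e := (LinearMap.toMatrixAlgEquiv b)
  have hM : e f ^ 19 = 1 := by rw [← map_pow, hf, map_one]
  let u : GL (Fin (Module.finrank F V)) F := Units.ofPowEqOne (e f) 19 hM (by norm_num)
  have hu : u ^ 19 = 1 := Units.pow_ofPowEqOne hM (by norm_num)
  have hd : orderOf u ∣ 19 := orderOf_dvd_of_pow_eq_one hu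
  rcases (Nat.dvd_prime (by norm_num)).1 hd with h1 | h1
  · rw [orderOf_eq_one_iff] at h1
    exact e.injective (by rw [map_one]; exact congrArg Units.val h1)
  · exfalso
    refine gl_card_coprime _ h ?_
    have := orderOf_dvd_natCard u
    rwa [h1, Matrix.card_GL_field, hF] at this

/-- Over a field of four elements in dimension nine, nothing of order seventeen commutes with an element of order
nineteen. -/
theorem end_no_pair (hF : Fintype.card F = 4) {V : Type v} [AddCommGroup V] [Module F V] [FiniteDimensional F V]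
    (hV : Module.finrank F V = 9) {x w : Module.End F V} (hx : x ^ 19 = 1) (hx1 : x ≠ 1) (hc : Commute x w)
    (hw : w ^ 17 = 1) : w = 1 := by
  classical
  haveI : Finite V := Module.finite_of_finite F
  -- `x` is irreducible
  have irr : ∀ U : Submodule F V, (∀ v ∈ U, x v ∈ U) → U = ⊥ ∨ U = ⊤ := by
    intro U hU
    by_contra hne
    push Not at hne
    have hlt : Module.finrank F U < 9 := hV ▸ Submodule.finrank_lt hne.2
    have hlt' : Module.finrank F (V ⧸ U) < 9 := by
      have h1 := Submodule.finrank_quotient_add_finrank U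
      have h2 : 0 < Module.finrank F U := by
        rw [Nat.pos_iff_ne_zero]
        exact fun e => hne.1 (Submodule.finrank_eq_zero.1 e)
      omega
    have hn : ∀ (n : ℕ) (v : U), ((x.restrict hU) ^ n) v = (x ^ n) v.1 := by
      intro n
      induction n with
      | zero => intro v; rfl
      | succ n ih => intro v; rw [pow_succ, pow_succ, Module.End.mul_apply, Module.End.mul_apply, ih]; rfl
    have r1 : x.restrict hU = 1 := end_nineteen hF hlt (LinearMap.ext fun v => Subtype.ext (by rw [hn, hx]; rfl))
    have hfixU : ∀ v ∈ U, x v = v := fun v hv => congrArg Subtype.val (LinearMap.congr_fun r1 ⟨v, hv⟩)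
    let q : Module.End F (V ⧸ U) := U.mapQ U x hU
    have hq : ∀ (n : ℕ) (v : V), (q ^ n) (Submodule.Quotient.mk v) = Submodule.Quotient.mk ((x ^ n) v) := by
      intro n
      induction n with
      | zero => intro v; rfl
      | succ n ih => intro v; rw [pow_succ', pow_succ', Module.End.mul_apply, ih]; rfl
    have r2 : q = 1 := end_nineteen hF hlt' (LinearMap.ext fun v => by
      obtain ⟨v, rfl⟩ := Submodule.Quotient.mk_surjective U v
      rw [hq, hx]; rfl)
    have h2 : (2 : F) = 0 := by
      have h4 : ((4 : ℕ) : F) = 0 := hF ▸ Nat.cast_card_eq_zero F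
      push_cast at h4
      exact mul_self_eq_zero.1 (by linear_combination h4)
    have hsq : x * x = 1 := LinearMap.ext fun v => by
      have hd : x v - v ∈ U := (Submodule.Quotient.eq U).1 (LinearMap.congr_fun r2 (Submodule.Quotient.mk v))
      have e := hfixU _ hd
      rw [map_sub] at e
      rw [Module.End.mul_apply, Module.End.one_apply]
      have e1 : x (x v) = x v + (x v - v) := by rw [← e]; abel
      rw [e1, show x v + (x v - v) = (2 : F) • x v - v by rw [two_smul]; abel, h2, zero_smul, zero_sub]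
      have : (2 : F) • v = 0 := by rw [h2, zero_smul]
      rw [two_smul] at this
      exact neg_eq_of_add_eq_zero_left this
    refine hx1 ?_
    calc x = x * (x * x) ^ 9 := by rw [hsq, one_pow, mul_one]
      _ = x ^ 19 := by rw [← pow_two, ← pow_mul, ← pow_succ']
      _ = 1 := hx
  -- the algebra generated by `x`
  set A := Algebra.adjoin F ({x} : Set (Module.End F V))
  have hcomm : ∀ a ∈ A, Commute a x := fun a ha =>
    (Algebra.commute_of_mem_adjoin_singleton_of_commute ha (Commute.refl x)).symm
  have hcommw : ∀ a ∈ A, Commute a w := fun a ha =>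
    (Algebra.commute_of_mem_adjoin_singleton_of_commute ha hc.symm).symm
  have hinj : ∀ a ∈ A, a ≠ 0 → Function.Injective a := by
    intro a ha ha0
    rw [← LinearMap.ker_eq_bot]
    rcases irr (LinearMap.ker a) (fun v hv => by
      rw [LinearMap.mem_ker] at hv ⊢
      have e : a (x v) = x (a v) := LinearMap.congr_fun (hcomm a ha).eq v
      rw [e, hv, map_zero]) with h | h
    · exact h
    · exact absurd (LinearMap.ker_eq_top.1 h) ha0
  haveI : Nontrivial V := Module.nontrivial_of_finrank_pos (R := F) (by omega)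
  obtain ⟨v, hv⟩ := exists_ne (0 : V)
  let ev : A →ₗ[F] V := (LinearMap.applyₗ v).comp A.val.toLinearMap
  have hev : ∀ a : A, ev a = (a : Module.End F V) v := fun a => rfl
  have hevi : Function.Injective ev := by
    intro a b e
    by_contra hne
    have hne' : (a : Module.End F V) - b ≠ 0 := sub_ne_zero.2 fun e' => hne (Subtype.ext e')
    refine hv (hinj _ (sub_mem a.2 b.2) hne' ?_)
    rw [LinearMap.sub_apply, map_zero, ← hev, ← hev, e, sub_self]
  have hevs : Function.Surjective ev := by
    rw [← LinearMap.range_eq_top]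
    rcases irr (LinearMap.range ev) (by
      rintro _ ⟨a, rfl⟩
      exact ⟨⟨x, Algebra.self_mem_adjoin_singleton F x⟩ * a, rfl⟩) with h | h
    · exfalso
      have : ev 1 ∈ LinearMap.range ev := ⟨1, rfl⟩
      rw [h, Submodule.mem_bot, hev] at this
      exact hv this
    · exact h
  obtain ⟨a, ha⟩ := hevs (w v)
  have hwa : w = (a : Module.End F V) := LinearMap.ext fun u => by
    obtain ⟨b, rfl⟩ := hevs u
    rw [hev]
    calc w ((b : Module.End F V) v) = (b : Module.End F V) (w v) := (LinearMap.congr_fun (hcommw b b.2).eq v).symm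
      _ = (b : Module.End F V) ((a : Module.End F V) v) := by rw [← hev a, ha]
      _ = (a : Module.End F V) ((b : Module.End F V) v) :=
        LinearMap.congr_fun (Algebra.commute_of_mem_adjoin_singleton_of_commute b.2
          (Algebra.commute_of_mem_adjoin_singleton_of_commute a.2 (Commute.refl x)).symm).symm.eq v
  haveI : Finite A := Finite.of_injective ev hevi
  have hcardA : Nat.card A = 4 ^ 9 := by
    rw [Nat.card_congr (Equiv.ofBijective ev ⟨hevi, hevs⟩), Module.natCard_eq_pow_finrank (K := F), hV,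
      Nat.card_eq_fintype_card, hF]
  haveI : Nontrivial A := ⟨⟨1, 0, fun e => hv (by
    have := congrArg ev e
    rwa [map_zero, hev] at this)⟩⟩
  haveI : NoZeroDivisors A := ⟨fun {p q} hpq => by
    by_contra hh
    push Not at hh
    refine hh.2 (Subtype.ext (LinearMap.ext fun u => ?_))
    refine hinj _ p.2 (fun e => hh.1 (Subtype.ext e)) ?_
    rw [show ((0 : A) : Module.End F V) u = 0 from rfl, map_zero]
    exact LinearMap.congr_fun (congrArg Subtype.val hpq) u⟩
  haveI : IsDomain A := NoZeroDivisors.to_isDomain A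
  haveI := Fintype.ofFinite A
  letI : GroupWithZero A := Fintype.groupWithZeroOfCancel A
  have ha17 : a ^ 17 = 1 := Subtype.ext (by rw [SubmonoidClass.coe_pow, ← hwa, hw]; rfl)
  let ua : Aˣ := Units.ofPowEqOne a 17 ha17 (by norm_num)
  have hua : ua ^ 17 = 1 := Units.pow_ofPowEqOne ha17 (by norm_num)
  have hcu : Nat.card Aˣ = 4 ^ 9 - 1 := by rw [Nat.card_units, hcardA]
  have : ua = 1 := by
    have h1 : orderOf ua ∣ 17 := orderOf_dvd_of_pow_eq_one hua
    have h2 : orderOf ua ∣ 4 ^ 9 - 1 := hcu ▸ orderOf_dvd_natCard ua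
    exact orderOf_eq_one_iff.1 (Nat.eq_one_of_dvd_coprimes (by norm_num) h1 h2)
  rw [hwa, show a = (1 : A) from congrArg Units.val this]
  rfl

/-- Two commuting matrices of orders nineteen and seventeen. -/
theorem matrix_no_pair (hF : Fintype.card F = 4) {ι : Type v} [Fintype ι] [DecidableEq ι]
    (hι : Fintype.card ι = 9) {M N : Matrix ι ι F} (hM : M ^ 19 = 1) (hM1 : M ≠ 1) (hc : Commute M N)
    (hN : N ^ 17 = 1) : N = 1 := by
  let e := Matrix.toLinAlgEquiv' (R := F) (n := ι)
  refine e.injective ?_
  rw [map_one]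
  exact end_no_pair hF (V := ι → F) (by rw [Module.finrank_fintype_fun_eq_card, hι]) (x := e M)
    (by rw [← map_pow, hM, map_one]) (fun h => hM1 (e.injective (by rw [map_one, h]))) (hc.map e)
    (by rw [← map_pow, hN, map_one])

open Cfsg.Spor in
/-- The third Janko group has no element of order 323. -/
theorem no_323 (hF : Fintype.card F = 4) {ω : F} (hω : ω ^ 2 + ω + 1 = 0) (g : J3 F ω) : orderOf g ≠ 323 := by
  intro hg
  have h := Lib.J3.Fld.of_card hF hω
  obtain ⟨y0, rfl⟩ := QuotientGroup.mk'_surjective (Subgroup.center (threeJ3 F ω)) g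
  set π := QuotientGroup.mk' (Subgroup.center (threeJ3 F ω))
  have hc : y0 ^ 323 ∈ Subgroup.center (threeJ3 F ω) := (QuotientGroup.eq_one_iff _).1 (by
    show π (y0 ^ 323) = 1
    rw [map_pow, ← hg, pow_orderOf_eq_one])
  set y := y0 ^ 3
  have hy : y ^ 323 = 1 := by
    rw [← pow_mul, mul_comm, pow_mul]
    exact orderOf_dvd_iff_pow_eq_one.1 ((Subgroup.orderOf_dvd_natCard _ hc).trans (dvd_of_eq h.card_center))
  have hne : ∀ k, ¬ 323 ∣ 3 * k → y ^ k ≠ 1 := fun k hk e => hk (by
    rw [← hg]
    refine orderOf_dvd_of_pow_eq_one ?_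
    rw [← map_pow, pow_mul]
    exact (congrArg π e).trans (map_one π))
  let φ : threeJ3 F ω →* Matrix F9 F9 F := (Units.coeHom _).comp (threeJ3 F ω).subtype
  have hφ : Function.Injective φ := fun a b e => Subtype.ext (Units.ext e)
  have key : φ (y ^ 19) = 1 := matrix_no_pair hF (by decide) (M := φ (y ^ 17))
    (by rw [← map_pow, ← pow_mul, hy, map_one]) (fun e => hne 17 (by norm_num) (hφ (e.trans φ.map_one.symm)))
    (((Commute.refl y).pow_pow 17 19).map φ) (by rw [← map_pow, ← pow_mul, hy, map_one])
  exact hne 19 (by norm_num) (hφ (key.trans φ.map_one.symm))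

section odd

variable {D : Type u} [Group D] [Finite D]

/-- An element normalizing a group of prime order centralizes it if its order is prime to `p - 1`. -/
theorem commute_of_normalize {p : ℕ} [hp : Fact p.Prime] {x y : D} (hx : orderOf x = p)
    (hy : y * x * y⁻¹ ∈ zpowers x) (hq : (orderOf y).Coprime (p - 1)) : Commute y x := by
  obtain ⟨k, hk⟩ : y * x * y⁻¹ ∈ Submonoid.powers x :=
    (isOfFinOrder_of_finite x).mem_powers_iff_mem_zpowers.2 hy
  have hit : ∀ n : ℕ, y ^ n * x * (y ^ n)⁻¹ = x ^ (k ^ n) := by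
    intro n
    induction n with
    | zero => simp
    | succ n ih =>
      calc y ^ (n + 1) * x * (y ^ (n + 1))⁻¹ = y * (y ^ n * x * (y ^ n)⁻¹) * y⁻¹ := by rw [pow_succ']; group
        _ = (y * x * y⁻¹) ^ (k ^ n) := by rw [ih, conj_pow]
        _ = x ^ (k ^ (n + 1)) := by rw [← hk, ← pow_mul, pow_succ']
  have h1 := hit (orderOf y)
  rw [pow_orderOf_eq_one, one_mul, inv_one, mul_one] at h1
  have h2 : k ^ orderOf y ≡ 1 [MOD p] := by
    rw [← hx, ← pow_eq_pow_iff_modEq, pow_one]
    exact h1.symm
  have h3 : ((k : ZMod p)) ^ orderOf y = 1 := by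
    have := (ZMod.natCast_eq_natCast_iff _ _ _).2 h2
    push_cast at this
    exact this
  have hk0 : (k : ZMod p) ≠ 0 := fun e => by
    rw [e, zero_pow (orderOf_pos y).ne'] at h3
    exact zero_ne_one h3
  have h4 : orderOf (k : ZMod p) = 1 := Nat.eq_one_of_dvd_coprimes hq (orderOf_dvd_of_pow_eq_one h3)
    (orderOf_dvd_of_pow_eq_one (ZMod.pow_card_sub_one_eq_one hk0))
  have h5 : k ≡ 1 [MOD p] := (ZMod.natCast_eq_natCast_iff _ _ _).1 (by rw [orderOf_eq_one_iff.1 h4, Nat.cast_one])
  have : y * x * y⁻¹ = x := by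
    rw [← hk]
    conv_rhs => rw [← pow_one x]
    rw [pow_eq_pow_iff_modEq, hx]
    exact h5
  exact mul_inv_eq_iff_eq_mul.1 this

/-- A group of odd order divisible by 19 and exactly by 17 has an element of order 323. -/
theorem exists_323 (hodd : Odd (Nat.card D)) (h17 : 17 ∣ Nat.card D) (h17' : ¬ 17 ^ 2 ∣ Nat.card D)
    (h19 : 19 ∣ Nat.card D) (h19' : ¬ 19 ^ 2 ∣ Nat.card D) : ∃ g : D, orderOf g = 323 := by
  classical
  haveI : Fact (Nat.Prime 17) := ⟨by norm_num⟩
  haveI : Fact (Nat.Prime 19) := ⟨by norm_num⟩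
  obtain ⟨P⟩ : Nonempty (Sylow 17 D) := inferInstance
  have hP : Nat.card P = 17 := by
    rw [P.card_eq_multiplicity]
    have : (Nat.card D).factorization 17 = 1 := by
      refine le_antisymm ?_ (Nat.Prime.factorization_pos_of_dvd (by norm_num) Nat.card_pos.ne' h17)
      by_contra hlt
      exact h17' ((pow_dvd_pow 17 (by omega : 2 ≤ (Nat.card D).factorization 17)).trans (Nat.ordProj_dvd _ _))
    rw [this, pow_one]
  obtain ⟨⟨x, hxP⟩, hx⟩ := (isCyclic_of_prime_card hP).exists_generator
  have hxo : orderOf x = 17 := by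
    rw [← hP, ← Subgroup.orderOf_mk x hxP]
    exact orderOf_eq_card_of_forall_mem_zpowers hx
  have hPz : (P : Subgroup D) = zpowers x := (eq_of_le_of_card_ge (zpowers_le.2 hxP)
    (by rw [Nat.card_zpowers, hxo]; exact hP.le)).symm
  have hcen : Subgroup.normalizer ((P : Subgroup D) : Set D) ≤ centralizer ((P : Subgroup D) : Set D) := by
    intro y hy
    rw [hPz] at hy ⊢
    have hcop : (orderOf y).Coprime (17 - 1) := by
      have ho : Odd (orderOf y) := Odd.of_dvd_nat hodd (orderOf_dvd_natCard y)
      exact (Nat.Coprime.pow_right 4 (Nat.coprime_two_right.2 ho) : (orderOf y).Coprime (2 ^ 4))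
    have hc := commute_of_normalize hxo ((Subgroup.mem_normalizer_iff.1 hy x).1 (mem_zpowers x)) hcop
    refine mem_centralizer_iff.2 fun c hc' => ?_
    obtain ⟨n, rfl⟩ := hc'
    exact ((hc.zpow_right n).eq).symm
  have hM := MonoidHom.ker_transferSylow_isComplement' P hcen
  set M := (MonoidHom.transferSylow P hcen).ker
  have hMP := hM.card_mul
  rw [hP] at hMP
  have h19M : 19 ∣ Nat.card M := by
    rw [← hMP] at h19
    exact ((Nat.Coprime.dvd_of_dvd_mul_right (by norm_num) h19))
  have h17M : ¬ 17 ∣ Nat.card M := fun h => h17' (by rw [← hMP, pow_two]; exact Nat.mul_dvd_mul_right h 17)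
  obtain ⟨Q⟩ : Nonempty (Sylow 19 M) := inferInstance
  have hQ : Nat.card Q = 19 := by
    rw [Q.card_eq_multiplicity]
    have : (Nat.card M).factorization 19 = 1 := by
      refine le_antisymm ?_ (Nat.Prime.factorization_pos_of_dvd (by norm_num) Nat.card_pos.ne' h19M)
      by_contra hlt
      exact h19' (((pow_dvd_pow 19 (by omega : 2 ≤ (Nat.card M).factorization 19)).trans (Nat.ordProj_dvd _ _)).trans
        (card_subgroup_dvd_card M))
    rw [this, pow_one]
  have hfr := Sylow.normalizer_sup_eq_top Q
  set Q' := (Q : Subgroup M).map M.subtype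
  set N := Subgroup.normalizer (Q' : Set D)
  have h17N : 17 ∣ Nat.card N := by
    have hs : Function.Surjective ((QuotientGroup.mk' M).comp N.subtype) := by
      intro q
      obtain ⟨g, rfl⟩ := QuotientGroup.mk'_surjective M q
      obtain ⟨n, hn, m, hm, rfl⟩ := Subgroup.mem_sup_of_normal_right.1 (hfr ▸ mem_top g : g ∈ N ⊔ M)
      refine ⟨⟨n, hn⟩, ?_⟩
      show QuotientGroup.mk' M n = QuotientGroup.mk' M (n * m)
      rw [map_mul, show QuotientGroup.mk' M m = 1 from (QuotientGroup.eq_one_iff m).2 hm, mul_one]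
    have hd := Subgroup.card_dvd_of_surjective _ hs
    have hi : Nat.card (D ⧸ M) = 17 := by
      rw [← index_eq_card]
      have := M.card_mul_index
      rw [← hMP] at this
      exact Nat.eq_of_mul_eq_mul_left Nat.card_pos this
    rwa [hi] at hd
  obtain ⟨⟨y, hyN⟩, hy⟩ := exists_prime_orderOf_dvd_card' (G := N) 17 h17N
  rw [Subgroup.orderOf_mk] at hy
  have hQ' : Nat.card Q' = 19 := by rw [card_map_of_injective M.subtype_injective]; exact hQ
  obtain ⟨⟨w, hwQ⟩, hw⟩ := exists_prime_orderOf_dvd_card' (G := Q') 19 hQ'.symm.dvd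
  rw [Subgroup.orderOf_mk] at hw
  have hQz : Q' = zpowers w := (eq_of_le_of_card_ge (zpowers_le.2 hwQ)
    (by rw [Nat.card_zpowers, hw]; exact hQ'.le)).symm
  have hmem : y * w * y⁻¹ ∈ zpowers w := by
    rw [← hQz]; exact (Subgroup.mem_normalizer_iff.1 hyN w).1 hwQ
  have hc := commute_of_normalize hw hmem (by rw [hy]; norm_num)
  exact ⟨y * w, by rw [hc.orderOf_mul_eq_mul_orderOf_of_coprime (by rw [hy, hw]; norm_num), hy, hw]⟩

end odd

end Cfsg.Agent.J3Glue
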