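import Mathlib
import Cfsg.Agent.Lib.J3.CentComp
import Cfsg.Agent.Lib.J3Glue.Setup
import Cfsg.Agent.Lib.J3Glue.Global
import Cfsg.Agent.Lib.J3Glue.NoBig

/-!
A simple group with one class of involutions and centralizer `2^{1+4}.A₅` is the third Janko group.
-/

set_option autoImplicit false
set_option linter.all false
set_option maxRecDepth 100000

namespace Cfsg.Agent.J3Glue

open Subgroup hiding inv
open J2Uniq (mul inv cj)

universe u v

theorem wG_prod {A : Type u} {B : Type v} [Group A] [Group B] (ρ : ℕ → A) (s r : A) (ρ' : ℕ → B) (s' r' : B) :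
    ∀ L : List Ltr, wG (fun a => (ρ a, ρ' a)) (s, s') (r, r') L = (wG ρ s r L, wG ρ' s' r' L)
  | [] => rfl
  | l :: L => by
    rw [wG, wG_prod ρ s r ρ' s' r' L, wG, wG]
    cases l <;> rfl

theorem Sys.prod {A : Type u} {B : Type v} [Group A] [Group B] {ρ : ℕ → A} {s r : A} {ρ' : ℕ → B} {s' r' : B}
    (F : Sys ρ s r) (F' : Sys ρ' s' r') : Sys (fun a => (ρ a, ρ' a)) (s, s') (r, r') :=
  ⟨fun a b => Prod.ext (F.mul_eq a b) (F'.mul_eq a b), Prod.ext F.zero F'.zero,
    fun a => Prod.ext (F.mod_eq a) (F'.mod_eq a), Prod.ext F.s3 F'.s3, Prod.ext F.twist F'.twist,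
    Prod.ext F.r2 F'.r2, fun y hy => Prod.ext (F.sconj y hy) (F'.sconj y hy),
    fun e he => Prod.ext (F.rconj e he) (F'.rconj e he)⟩

open Cfsg.Spor in
/-- The isomorphism with a given model. -/
theorem exists_equiv_model {G : Type v} [Group G] [Finite G] [IsSimpleGroup G] (z : G) (hz : orderOf z = 2)
    (Q : Subgroup (centralizer ({z} : Set G))) [Q.Normal] (hQ : Cfsg.IsExtraspecial 2 Q) (hcard : Nat.card Q = 32)
    (e : (centralizer ({z} : Set G)) ⧸ Q ≃* alternatingGroup (Fin 5))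
    (hone : ∀ x y : G, orderOf x = 2 → orderOf y = 2 → IsConj x y)
    {F : Type} [Field F] [Fintype F] (hF : Fintype.card F = 4) {ω : F} (hω : ω ^ 2 + ω + 1 = 0) :
    Nonempty (G ≃* J3 F ω) := by
  classical
  have h := Lib.J3.Fld.of_card hF hω
  haveI := h.isSimple
  have hJone : ∀ x y : J3 F ω, orderOf x = 2 → orderOf y = 2 → IsConj x y := fun x y hx hy =>
    (Lib.J3.Cent.conj_zJ h x hx).symm.trans (Lib.J3.Cent.conj_zJ h y hy)
  have hJ32 : Nat.card (Lib.J3.Cent.QJ h) = 32 := by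
    rw [← Nat.card_congr (MulEquiv.ofBijective _ (Lib.J3.Cent.toQJ_bijective h)).toEquiv, Lib.J3.Cent.card_QT h]
  obtain ⟨ρ, s, r, hG⟩ := exists_full z hz Q hQ hcard e hone
  obtain ⟨ρ', s', r', hJ⟩ := exists_full (Lib.J3.Cent.zJ ω) (Lib.J3.Cent.orderOf_zJ h) (Lib.J3.Cent.QJ h)
    (Lib.J3.Cent.isExtraspecial_QJ h) hJ32 (Lib.J3.Cent.quotEquiv h) hJone
  have hJ' := h.card_J3
  set R : ℕ → G × J3 F ω := fun a => (ρ a, ρ' a)
  have FW : Sys R (s, s') (r, r') := hG.ext.sys.prod hJ.ext.sys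
  have hrels : ∀ L ∈ CertData.relsFor (CertData.candRels.getD 4 []), wG R (s, s') (r, r') L = 1 := fun L hL => by
    rw [wG_prod, hG.rels L hL, hJ.rels L hL]
    rfl
  have C := Codes.of_frame hG.ext.frame
  have hcancel : ∀ x a b, a < 1920 → b < 1920 → mul x a = mul x b → a = b := fun x a b ha hb hab =>
    C.inj' ha hb (mul_left_cancel (a := ρ x) (by rw [← C.mul_eq, ← C.mul_eq, hab]))
  have hD := FW.table_sound hrels hcancel CertData.reps_ok CertData.table4
  set D := Subgroup.closure (Set.range R ∪ {(s, s'), (r, r')})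
  have hR : ∀ a, R a ∈ D := fun a => subset_closure (Or.inl ⟨a, rfl⟩)
  have hS : (s, s') ∈ D := subset_closure (Or.inr (Or.inl rfl))
  have hRR : (r, r') ∈ D := subset_closure (Or.inr (Or.inr rfl))
  -- projection to the model
  set p := (MonoidHom.snd G (J3 F ω)).comp D.subtype
  have hps : Function.Surjective p := by
    rw [← MonoidHom.range_eq_top]
    exact eq_top_of_card hJ.ext (Lib.J3.Cent.orderOf_zJ h) hJ' (fun a => ⟨⟨_, hR a⟩, rfl⟩) ⟨⟨_, hS⟩, rfl⟩
      ⟨⟨_, hRR⟩, rfl⟩
  have hpb : Function.Bijective p := by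
    refine (Nat.bijective_iff_surjective_and_card p).2 ⟨hps, le_antisymm ?_ ?_⟩
    · rw [hJ']
      exact hD.trans (by norm_num)
    · exact Nat.card_le_card_of_surjective p hps
  let eD := MulEquiv.ofBijective p hpb
  -- the map to the group
  let φ : J3 F ω →* G := ((MonoidHom.fst G (J3 F ω)).comp D.subtype).comp eD.symm.toMonoidHom
  have hval : ∀ (d : D), φ (p d) = (d : G × J3 F ω).1 := fun d => by
    show ((eD.symm (eD d) : D) : G × J3 F ω).1 = _
    rw [MulEquiv.symm_apply_apply]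
  have hφρ : ∀ a, φ (ρ' a) = ρ a := fun a => hval ⟨_, hR a⟩
  have hφs : φ s' = s := hval ⟨_, hS⟩
  have hφr : φ r' = r := hval ⟨_, hRR⟩
  have hinj : Function.Injective φ := by
    rw [← MonoidHom.ker_eq_bot_iff]
    refine (IsSimpleGroup.eq_bot_or_eq_top_of_normal φ.ker inferInstance).resolve_right fun ht => ?_
    have : φ (ρ' 1) = 1 := MonoidHom.mem_ker.1 (ht ▸ mem_top _)
    rw [hφρ] at this
    exact absurd (C.inj 1 (by norm_num) this) (by norm_num)
  set H := φ.range with hHdef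
  have hHcard : Nat.card H = 50232960 := by
    rw [← Nat.card_congr (MonoidHom.ofInjective hinj).toEquiv, hJ']
  have hρH : ∀ a, ρ a ∈ H := fun a => ⟨ρ' a, hφρ a⟩
  have hsH : s ∈ H := ⟨s', hφs⟩
  have hrH : r ∈ H := ⟨r', hφr⟩
  suffices hH : H = ⊤ from ⟨(MulEquiv.ofBijective φ ⟨hinj, MonoidHom.range_eq_top.1 hH⟩).symm⟩
  by_contra hne
  have hSE := strongly_embedded hG.ext hz hρH hsH hrH hne
  obtain ⟨u, huH, hu⟩ := Involutions.StronglyEmbedded.exists_involution_notMem hSE
  set D0 := H ⊓ H.map (MulAut.conj u).toMonoidHom with hD0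
  have hodd : Odd (Nat.card D0) := hSE.2.2 u huH
  have hzH : z ∈ H := hG.ext.frame.zc_eq ▸ hρH J2Uniq.zc
  have hCH := cent_le hG.ext hρH
  set Cz := (centralizer ({z} : Set G)).subgroupOf H
  have hCz : Nat.card Cz = 1920 := by rw [Nat.card_congr (subgroupOfEquivOfLe hCH).toEquiv, C.card]
  have hidx : Cz.index = 26163 := by
    have := Cz.card_mul_index
    rw [hCz, hHcard] at this
    omega
  set S0 := (centralizer ({z} : Set G)).subgroupOf D0
  have hle : Cz.index ∣ Nat.card D0 := by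
    have hbij : Cz.index = S0.index := by
      rw [index_eq_card, index_eq_card]
      symm
      refine Nat.card_eq_of_bijective (Quotient.lift (fun d : D0 => ((⟨d, d.2.1⟩ : H) : H ⧸ Cz)) fun a b hab =>
        QuotientGroup.eq.2 (QuotientGroup.leftRel_apply.1 hab : a⁻¹ * b ∈ S0)) ⟨?_, ?_⟩
      · intro a b
        induction a using QuotientGroup.induction_on with
        | H a =>
          induction b using QuotientGroup.induction_on with
          | H b =>
            intro e
            exact QuotientGroup.eq.2 (QuotientGroup.eq.1 e : (⟨a, a.2.1⟩ : H)⁻¹ * ⟨b, b.2.1⟩ ∈ Cz)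
      · intro q
        induction q using QuotientGroup.induction_on with
        | H g =>
          obtain ⟨d, hd, hdz⟩ := Involutions.StronglyEmbedded.exists_conj_in_inter hSE hu huH hz hzH
            (t := (g : G) * z * (g : G)⁻¹) (by rw [Involutions.Basic.orderOf_conj, hz])
            (mul_mem (mul_mem g.2 hzH) (inv_mem g.2))
          refine ⟨QuotientGroup.mk (⟨d, hd⟩ : D0), QuotientGroup.eq.2 ?_⟩
          refine mem_centralizer_singleton_iff.2 ?_
          show (d⁻¹ * (g : G)) * z = z * (d⁻¹ * (g : G))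
          calc d⁻¹ * (g : G) * z = d⁻¹ * ((g : G) * z * (g : G)⁻¹) * g := by group
            _ = d⁻¹ * (d * z * d⁻¹) * g := by rw [hdz]
            _ = _ := by group
    rw [hbij]
    exact ⟨_, (mul_comm _ _).trans S0.card_mul_index |>.symm⟩
  rw [hidx] at hle
  have hdvd : Nat.card D0 ∣ 50232960 := hHcard ▸ Subgroup.card_dvd_of_le inf_le_left
  obtain ⟨g, hg⟩ := exists_323 hodd ((show 17 ∣ 26163 by norm_num).trans hle)
    (fun hh => absurd (hh.trans hdvd) (by norm_num)) ((show 19 ∣ 26163 by norm_num).trans hle)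
    (fun hh => absurd (hh.trans hdvd) (by norm_num))
  obtain ⟨j, hj⟩ := (g.2.1 : (g : G) ∈ H)
  refine no_323 hF hω j ?_
  rw [← orderOf_injective φ hinj, hj, Subgroup.orderOf_coe, hg]

theorem exists_field : ∃ (F : Type) (_ : Field F) (_ : Fintype F) (ω : F),
    Fintype.card F = 4 ∧ ω ^ 2 + ω + 1 = 0 := by
  classical
  letI : Fintype (GaloisField 2 2) := Fintype.ofFinite _
  have hF : Fintype.card (GaloisField 2 2) = 4 := by
    rw [← Nat.card_eq_fintype_card, GaloisField.card 2 2 two_ne_zero]; norm_num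
  obtain ⟨ω, h0, h1⟩ : ∃ ω : GaloisField 2 2, ω ≠ 0 ∧ ω ≠ 1 := by
    by_contra hh
    push Not at hh
    have hsub : (Finset.univ : Finset (GaloisField 2 2)) ⊆ {0, 1} := fun x _ => by
      by_cases hx : x = 0
      · simp [hx]
      · simp [hh x hx]
    have := (Finset.card_le_card hsub).trans Finset.card_le_two
    rw [Finset.card_univ, hF] at this
    omega
  refine ⟨GaloisField 2 2, inferInstance, inferInstance, ω, hF, ?_⟩
  have h3 : ω ^ 3 = 1 := by
    have := FiniteField.pow_card_sub_one_eq_one ω h0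
    rwa [hF] at this
  have : (ω - 1) * (ω ^ 2 + ω + 1) = 0 := by linear_combination h3
  exact (mul_eq_zero.1 this).resolve_left (sub_ne_zero.2 h1)

/-- The third Janko group from the centralizer of an involution. -/
theorem main {G : Type v} [Group G] [Finite G] [IsSimpleGroup G] (z : G) (hz : orderOf z = 2)
    (Q : Subgroup (centralizer ({z} : Set G))) [Q.Normal] (hQ : Cfsg.IsExtraspecial 2 Q) (hcard : Nat.card Q = 32)
    (e : (centralizer ({z} : Set G)) ⧸ Q ≃* alternatingGroup (Fin 5))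
    (hone : ∀ x y : G, orderOf x = 2 → orderOf y = 2 → IsConj x y) : Cfsg.Spor.IsoJ3 G := by
  obtain ⟨F, iF, iT, ω, hF, hω⟩ := exists_field
  exact ⟨F, iF, iT, ω, hF, hω, exists_equiv_model z hz Q hQ hcard e hone hF hω⟩

theorem main_isJ3 {G : Type v} [Group G] [Finite G] [IsSimpleGroup G] (z : G) (hz : orderOf z = 2)
    (Q : Subgroup (centralizer ({z} : Set G))) [Q.Normal] (hQ : Cfsg.IsExtraspecial 2 Q) (hcard : Nat.card Q = 32)
    (e : (centralizer ({z} : Set G)) ⧸ Q ≃* alternatingGroup (Fin 5))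
    (hone : ∀ x y : G, orderOf x = 2 → orderOf y = 2 → IsConj x y) : Cfsg.IsJ3 G := by
  obtain ⟨F, iF, iT, ω, hF, hω, ⟨f⟩⟩ := main z hz Q hQ hcard e hone
  exact ⟨inferInstance, by rw [Nat.card_congr f.toEquiv, (Lib.J3.Fld.of_card hF hω).card_J3]⟩

end Cfsg.Agent.J3Glue
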